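import Groth.Agent.Reductive.Points
import Groth.Prelude.Def_SGA3x
import Mathlib.RingTheory.RingHom.Flat

/-!
A diagonalisable group has no nonzero additive functions.
-/

set_option autoImplicit false
universe u

open CategoryTheory MonoidalCategory CartesianMonoidalCategory MonObj GrpObj AlgebraicGeometry

noncomputable section

namespace Groth.Reductive

attribute [local instance] algΓ'

variable {S : Scheme.{u}}

/-- Points of a base change correspond multiplicatively to points over the new base. -/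
def bcPointEquiv {S' : Scheme.{u}} (f : S' ⟶ S) (G : Over S) [GrpObj G] (X : Over S') :
    (X ⟶ Red.bc f G) ≃* ((Over.map f).obj X ⟶ G) :=
  { toEquiv := ((Over.mapPullbackAdj f).homEquiv X G).symm
    map_mul' := fun a b ↦ by
      apply ((Over.mapPullbackAdj f).homEquiv X G).injective
      simp only [Equiv.toFun_as_coe, Equiv.apply_symm_apply]
      rw [Adjunction.homEquiv_unit, Functor.map_mul, MonObj.comp_mul, ← Adjunction.homEquiv_unit,
        ← Adjunction.homEquiv_unit, Equiv.apply_symm_apply, Equiv.apply_symm_apply] }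

lemma bcPointEquiv_comp {S' : Scheme.{u}} (f : S' ⟶ S) (G : Over S) [GrpObj G] {X Y : Over S'}
    (g : Y ⟶ X) (x : X ⟶ Red.bc f G) :
    bcPointEquiv f G Y (g ≫ x) = (Over.map f).map g ≫ bcPointEquiv f G X x :=
  Adjunction.homEquiv_naturality_left_symm _ _ _

lemma ptVal_comp {A : Type u} [CommRing A] [HopfAlgebra (ULift.{u} ℤ) A] {X Y : Over S} (g : Y ⟶ X)
    (x : X ⟶ Red.bc (toZ S) (affZ A)) (a : A) :
    ptVal A (g ≫ x) a = g.left.appTop (ptVal A x a) := by
  simp only [ptVal, ptFst, Over.comp_left, Category.assoc, Scheme.Hom.comp_appTop]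
  rfl

/-- The values of a point of `D(M)` on the characters. -/
def dsVal {M : Type} [AddCommGroup M] {X : Over S} (x : X ⟶ Red.DS S M) (m : Multiplicative M) :
    Γ(X.left, ⊤) :=
  ptVal (MonoidAlgebra (ULift.{u} ℤ) (Multiplicative M)) x (MonoidAlgebra.single m 1)

lemma dsVal_mul {M : Type} [AddCommGroup M] {X : Over S} (x y : X ⟶ Red.DS S M)
    (m : Multiplicative M) : dsVal (x * y) m = dsVal x m * dsVal y m := by
  rw [dsVal, ptVal_mul, AlgHom.convMul_def]
  simp [dsVal]

lemma dsVal_ext {M : Type} [AddCommGroup M] {X : Over S} {x y : X ⟶ Red.DS S M}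
    (h : ∀ m, dsVal x m = dsVal y m) : x = y := by
  apply ptVal_injective
  apply MonoidAlgebra.algHom_ext'
  all_goals first
    | exact MonoidHom.ext h
    | exact AlgHom.coe_ringHom_injective (ringHom_uliftInt_ext _ _)

lemma dsVal_comp {M : Type} [AddCommGroup M] {X Y : Over S} (g : Y ⟶ X) (x : X ⟶ Red.DS S M)
    (m : Multiplicative M) : dsVal (g ≫ x) m = g.left.appTop (dsVal x m) :=
  ptVal_comp g x _

/-- The character values of the identity as a monoid hom. -/
def dsValHom {M : Type} [AddCommGroup M] {X : Over S} (x : X ⟶ Red.DS S M) :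
    Multiplicative M →* Γ(X.left, ⊤) :=
  (ptVal (MonoidAlgebra (ULift.{u} ℤ) (Multiplicative M)) x).toMonoidHom.comp (MonoidAlgebra.of _ _)

/-- A point with given character values. -/
def dsMk {M : Type} [AddCommGroup M] (X : Over S) (χ : Multiplicative M →* Γ(X.left, ⊤)) :
    X ⟶ Red.DS S M :=
  ptMk X (WithConv.toConv (MonoidAlgebra.lift (ULift.{u} ℤ) _ (Multiplicative M) χ))

lemma dsVal_dsMk {M : Type} [AddCommGroup M] (X : Over S) (χ : Multiplicative M →* Γ(X.left, ⊤))
    (m : Multiplicative M) : dsVal (dsMk X χ) m = χ m := by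
  rw [dsVal, dsMk, ptVal_ptMk]
  simp

section Additive

variable {M : Type} [AddCommGroup M]

/-- The affine test object `Spec B` over an affine open. -/
def testObj {V : S.Opens} (hV : IsAffineOpen V) (B : Type u) [CommRing B] [Algebra Γ(S, V) B] :
    Over S :=
  Over.mk (Spec.map (CommRingCat.ofHom (algebraMap Γ(S, V) B)) ≫ hV.fromSpec)

/-- Functoriality of the test objects. -/
def testMap {V : S.Opens} (hV : IsAffineOpen V) {B C : Type u} [CommRing B] [Algebra Γ(S, V) B]
    [CommRing C] [Algebra Γ(S, V) C] (φ : B →ₐ[Γ(S, V)] C) : testObj hV C ⟶ testObj hV B :=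
  Over.homMk (Spec.map (CommRingCat.ofHom φ.toRingHom)) (by
    show Spec.map _ ≫ Spec.map _ ≫ hV.fromSpec = Spec.map _ ≫ hV.fromSpec
    rw [← Spec.map_comp_assoc, ← CommRingCat.ofHom_comp, AlgHom.toRingHom_eq_coe,
      AlgHom.comp_algebraMap])

/-- Global functions of a test object. -/
def testΓ {V : S.Opens} (hV : IsAffineOpen V) (B : Type u) [CommRing B] [Algebra Γ(S, V) B] :
    Γ((testObj hV B).left, ⊤) ≃+* B :=
  (Scheme.ΓSpecIso (CommRingCat.of B)).commRingCatIsoToRingEquiv

lemma testΓ_map {V : S.Opens} (hV : IsAffineOpen V) {B C : Type u} [CommRing B] [Algebra Γ(S, V) B]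
    [CommRing C] [Algebra Γ(S, V) C] (φ : B →ₐ[Γ(S, V)] C) (b : Γ((testObj hV B).left, ⊤)) :
    testΓ hV C ((testMap hV φ).left.appTop b) = φ (testΓ hV B b) :=
  ConcreteCategory.congr_hom (Scheme.ΓSpecIso_naturality (CommRingCat.ofHom φ.toRingHom)) b

theorem eq_zero_of_additive
    (F : ∀ X : Over S, (X ⟶ Red.DS S M) → Γ(X.left, ⊤))
    (hnat : ∀ {X Y : Over S} (g : Y ⟶ X) (x : X ⟶ Red.DS S M),
      F Y (g ≫ x) = g.left.appTop (F X x))
    (hadd : ∀ (X : Over S) (x y : X ⟶ Red.DS S M), F X (x * y) = F X x + F X y)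
    (X : Over S) (x : X ⟶ Red.DS S M) : F X x = 0 := by
  classical
  -- the universal point over an affine open
  have huniv : ∀ (V : S.Opens) (hV : IsAffineOpen V),
      F (testObj hV (MonoidAlgebra Γ(S, V) (Multiplicative M)))
        (dsMk _ ((testΓ hV _).symm.toRingHom.toMonoidHom.comp (MonoidAlgebra.of _ _))) = 0 := by
    intro V hV
    let R := Γ(S, V)
    let univ {N : Type} [AddCommGroup N] : testObj hV (MonoidAlgebra R (Multiplicative N)) ⟶ Red.DS S N :=
      dsMk _ ((testΓ hV _).symm.toRingHom.toMonoidHom.comp (MonoidAlgebra.of _ _))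
    let x₀ := univ (N := M)
    let j : (M →+ M × M) → (testObj hV (MonoidAlgebra R (Multiplicative (M × M))) ⟶
        testObj hV (MonoidAlgebra R (Multiplicative M))) := fun φ ↦
      testMap hV (MonoidAlgebra.mapDomainAlgHom R R (AddMonoidHom.toMultiplicative φ))
    have hval : ∀ (φ : M →+ M × M) (m : Multiplicative M),
        testΓ hV _ (dsVal (j φ ≫ x₀) m) =
          MonoidAlgebra.single (AddMonoidHom.toMultiplicative φ m) (1 : R) := by
      intro φ m
      rw [dsVal_comp, testΓ_map, dsVal_dsMk]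
      simp
    have hprod : j (AddMonoidHom.inl M M) ≫ x₀ * (j (AddMonoidHom.inr M M) ≫ x₀) =
        j ((AddMonoidHom.id M).prod (AddMonoidHom.id M)) ≫ x₀ := by
      refine dsVal_ext fun m ↦ (testΓ hV _).injective ?_
      rw [dsVal_mul, map_mul, hval, hval, hval, MonoidAlgebra.single_mul_single, _root_.mul_one]
      congr 1
      apply Multiplicative.toAdd.injective
      simp
    have h := congrArg (testΓ hV _) (hadd _ (j (AddMonoidHom.inl M M) ≫ x₀)
      (j (AddMonoidHom.inr M M) ≫ x₀))
    rw [hprod, hnat, hnat, hnat, map_add, testΓ_map, testΓ_map, testΓ_map] at h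
    set c := testΓ hV _ (F _ x₀)
    have hc : ∀ m : Multiplicative M, c.coeff m = 0 := by
      intro m
      have key : ∀ (φ : M →+ M × M) (n : Multiplicative (M × M)),
          ((MonoidAlgebra.mapDomainAlgHom R R (AddMonoidHom.toMultiplicative φ)) c).coeff n =
            Finsupp.mapDomain (AddMonoidHom.toMultiplicative φ) c.coeff n := fun _ _ ↦ rfl
      have happ : ∀ (φ : M →+ M × M), Function.Injective φ → ∀ a : Multiplicative M,
          Finsupp.mapDomain (AddMonoidHom.toMultiplicative φ) c.coeff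
            (AddMonoidHom.toMultiplicative φ a) = c.coeff a := fun φ hφ a ↦
        Finsupp.mapDomain_apply (fun x y e ↦ hφ e) _ _
      have hd : Function.Injective ((AddMonoidHom.id M).prod (AddMonoidHom.id M)) :=
        fun a b e ↦ congrArg Prod.fst e
      have hl : Function.Injective (AddMonoidHom.inl M M) := fun a b e ↦ congrArg Prod.fst e
      have hr : Function.Injective (AddMonoidHom.inr M M) := fun a b e ↦ congrArg Prod.snd e
      have h' := congrArg (fun z ↦ z.coeff (Multiplicative.ofAdd (m.toAdd, m.toAdd))) h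
      simp only [MonoidAlgebra.coeff_add, Finsupp.add_apply, key] at h'
      have h1 := happ _ hd m
      rw [show AddMonoidHom.toMultiplicative ((AddMonoidHom.id M).prod (AddMonoidHom.id M)) m =
        Multiplicative.ofAdd (m.toAdd, m.toAdd) from rfl] at h1
      by_cases hm : m = 1
      · subst hm
        have h2 := happ _ hl 1
        have h3 := happ _ hr 1
        rw [map_one] at h2 h3
        rw [toAdd_one, show Multiplicative.ofAdd ((0 : M), (0 : M)) = 1 from rfl] at h1 h'
        rw [h1, h2, h3] at h'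
        simpa using h'
      · have hm' : m.toAdd ≠ 0 := fun e ↦ hm (toAdd_eq_zero.mp e)
        rw [h1, Finsupp.mapDomain_of_notMem_range, Finsupp.mapDomain_of_notMem_range, add_zero] at h'
        · exact h'
        · rintro ⟨a, ha⟩
          exact hm' (congrArg (fun z ↦ (Multiplicative.toAdd z).1) ha).symm
        · rintro ⟨a, ha⟩
          exact hm' (congrArg (fun z ↦ (Multiplicative.toAdd z).2) ha).symm
    have hc0 : c = 0 := MonoidAlgebra.ext (Finsupp.ext hc)
    exact (testΓ hV _).map_eq_zero_iff.mp hc0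
  -- every point is locally pulled back from a universal one
  apply TopCat.Sheaf.eq_of_locally_eq' X.left.sheaf (fun V : S.affineOpens ↦ X.hom ⁻¹ᵁ (V : S.Opens)) ⊤
    (fun V ↦ homOfLE le_top)
  · intro p _
    obtain ⟨V, hV, hp, -⟩ := exists_isAffineOpen_mem_and_subset (x := X.hom.base p) (U := ⊤) trivial
    exact TopologicalSpace.Opens.mem_iSup.mpr ⟨⟨V, hV⟩, hp⟩
  rintro ⟨V, hV⟩
  refine Eq.trans ?_ (map_zero _).symm
  set W := X.hom ⁻¹ᵁ V
  let XW : Over S := Over.mk (W.ι ≫ X.hom)
  let ιW : XW ⟶ X := Over.homMk W.ι rfl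
  let ρ : Γ(S, V) →+* Γ(XW.left, ⊤) := (W.topIso.inv.hom).comp (X.hom.app V).hom
  letI : Algebra Γ(S, V) Γ(XW.left, ⊤) := ρ.toAlgebra
  let φ : MonoidAlgebra Γ(S, V) (Multiplicative M) →ₐ[Γ(S, V)] Γ(XW.left, ⊤) :=
    MonoidAlgebra.lift _ _ _ (dsValHom (ιW ≫ x))
  have hlift : ∀ z : MonoidAlgebra Γ(S, V) (Multiplicative M),
      (XW.left.toSpecΓ ≫ Spec.map (CommRingCat.ofHom φ.toRingHom)).appTop
        ((Scheme.ΓSpecIso _).inv z) = φ z := by
    intro z
    rw [Scheme.Hom.comp_appTop, CommRingCat.comp_apply]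
    have e := ConcreteCategory.congr_hom (Scheme.ΓSpecIso_inv_naturality (CommRingCat.ofHom φ.toRingHom)) z
    refine (congrArg (XW.left.toSpecΓ.appTop) e.symm).trans ?_
    rw [Scheme.toSpecΓ_appTop]
    exact ConcreteCategory.congr_hom (Scheme.ΓSpecIso _).inv_hom_id (φ z)
  let g : XW ⟶ testObj hV (MonoidAlgebra Γ(S, V) (Multiplicative M)) :=
    Over.homMk (XW.left.toSpecΓ ≫ Spec.map (CommRingCat.ofHom φ.toRingHom)) (by
      show (_ ≫ _) ≫ Spec.map _ ≫ hV.fromSpec = W.ι ≫ X.hom
      have hφ : CommRingCat.ofHom (algebraMap Γ(S, V) (MonoidAlgebra Γ(S, V) (Multiplicative M))) ≫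
          CommRingCat.ofHom φ.toRingHom = X.hom.app V ≫ W.topIso.inv := by
        ext r
        exact φ.commutes r
      rw [Category.assoc, ← Spec.map_comp_assoc]
      erw [hφ]
      show W.toScheme.toSpecΓ ≫ Spec.map (X.hom.app V ≫ W.topIso.inv) ≫ hV.fromSpec = _
      rw [Spec.map_comp_assoc]
      show W.toSpecΓ ≫ Spec.map (X.hom.app V) ≫ hV.fromSpec = _
      rw [← Category.assoc, Scheme.Opens.toSpecΓ_naturality, Category.assoc,
        hV.toSpecΓ_fromSpec, morphismRestrict_ι])
  have hg : g ≫ dsMk _ ((testΓ hV _).symm.toRingHom.toMonoidHom.comp (MonoidAlgebra.of _ _)) =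
      ιW ≫ x := by
    refine dsVal_ext fun m ↦ ?_
    rw [dsVal_comp, dsVal_dsMk]
    exact (hlift (MonoidAlgebra.single m 1)).trans (by simp [φ, dsValHom, dsVal])
  have h := hnat g (dsMk _ ((testΓ hV _).symm.toRingHom.toMonoidHom.comp (MonoidAlgebra.of _ _)))
  rw [hg, huniv V hV, map_zero, hnat] at h
  have h2 := congrArg W.topIso.hom h
  rw [map_zero] at h2
  refine Eq.trans ?_ h2
  change _ = (W.ι.appTop ≫ W.topIso.hom) _
  rw [show W.ι.appTop ≫ W.topIso.hom = X.left.presheaf.map (homOfLE le_top).op by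
    simp [Scheme.Opens.topIso]
    exact (X.left.presheaf.map_comp _ _).symm.trans (congrArg _ (Subsingleton.elim _ _))]
  rfl

end Additive

end Groth.Reductive
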