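import Mathlib.CategoryTheory.Monoidal.Cartesian.Grp

/-!
A monomorphism closed under the operations is a subgroup object.
-/

set_option autoImplicit false
universe v u

open CategoryTheory MonoidalCategory CartesianMonoidalCategory MonObj GrpObj

namespace Groth.Reductive

variable {C : Type u} [Category.{v} C] [CartesianMonoidalCategory C]

theorem exists_grpObj_of_mono {G Z : C} [GrpObj G] (j : Z ⟶ G) [Mono j]
    (h1 : ∃ e : 𝟙_ C ⟶ Z, e ≫ j = 1)
    (hmul : ∃ m : Z ⊗ Z ⟶ Z, m ≫ j = (fst Z Z ≫ j) * (snd Z Z ≫ j))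
    (hinv : ∃ i : Z ⟶ Z, i ≫ j = j⁻¹) : ∃ _ : GrpObj Z, IsMonHom j := by
  obtain ⟨e, he⟩ := h1
  obtain ⟨m, hm⟩ := hmul
  obtain ⟨i, hi⟩ := hinv
  have hpt : ∀ (X : C) (a b : X ⟶ Z), lift a b ≫ m ≫ j = (a ≫ j) * (b ≫ j) := fun X a b ↦ by
    rw [hm, MonObj.comp_mul, lift_fst_assoc, lift_snd_assoc]
  let M : MonObj Z :=
    { one := e
      mul := m
      one_mul := by
        rw [← cancel_mono j, Category.assoc,
          show e ▷ Z = lift (fst (𝟙_ C) Z ≫ e) (snd _ _) by ext <;> simp, hpt, Category.assoc, he,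
          MonObj.comp_one, _root_.one_mul, leftUnitor_hom]
      mul_one := by
        rw [← cancel_mono j, Category.assoc,
          show Z ◁ e = lift (fst Z (𝟙_ C)) (snd Z (𝟙_ C) ≫ e) by ext <;> simp, hpt, Category.assoc, he,
          MonObj.comp_one, _root_.mul_one, rightUnitor_hom]
      mul_assoc := by
        rw [← cancel_mono j, Category.assoc, Category.assoc, Category.assoc,
          show m ▷ Z = lift (fst (Z ⊗ Z) Z ≫ m) (snd _ _) by ext <;> simp,
          show Z ◁ m = lift (fst Z (Z ⊗ Z)) (snd Z (Z ⊗ Z) ≫ m) by ext <;> simp, hpt, hpt,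
          MonObj.comp_mul, Category.assoc, Category.assoc, hm, MonObj.comp_mul, MonObj.comp_mul,
          MonObj.comp_mul, _root_.mul_assoc]
        simp }
  let Gr : GrpObj Z :=
    { M with
      inv := i
      left_inv := by
        rw [← cancel_mono j, Category.assoc, Category.assoc]
        show lift i (𝟙 Z) ≫ m ≫ j = toUnit Z ≫ e ≫ j
        rw [hpt, hi, Category.id_comp, inv_mul_cancel, he, MonObj.comp_one]
      right_inv := by
        rw [← cancel_mono j, Category.assoc, Category.assoc]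
        show lift (𝟙 Z) i ≫ m ≫ j = toUnit Z ≫ e ≫ j
        rw [hpt, hi, Category.id_comp, mul_inv_cancel, he, MonObj.comp_one] }
  refine ⟨Gr, ?_⟩
  constructor
  · show e ≫ j = _
    rw [he, MonObj.one_eq_one]
  · show m ≫ j = _
    rw [hm, MonObj.mul_eq_mul, MonObj.comp_mul, tensorHom_fst, tensorHom_snd]

end Groth.Reductive
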