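import Groth.Agent.Reductive.FreeDiagDescent
import Groth.Prelude.Def_SGA3x
import Mathlib.AlgebraicGeometry.Sites.Fpqc

/-!
Base change of groups of multiplicative type; fpqc covers given by one morphism.
-/

set_option autoImplicit false
universe u

open CategoryTheory MonoidalCategory CartesianMonoidalCategory MonObj GrpObj AlgebraicGeometry

noncomputable section

namespace Groth.Reductive.FreeDiag

/-- A quasi-compact cover by one morphism. -/
lemma qcCover_singleton_iff {X Y : Scheme.{u}} (f : X ⟶ Y) :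
    QuasiCompactCover (PreZeroHypercover.singleton.{u} f) ↔
      ∀ V : Y.Opens, IsAffineOpen V → ∃ W : X.Opens, IsCompact (W : Set X) ∧
        f.base '' (W : Set X) = (V : Set Y) := by
  constructor
  · intro h V hV
    have h1 := h.isCompactOpenCovered_of_isAffineOpen hV
    rw [IsCompactOpenCovered.iff_of_unique] at h1
    obtain ⟨W, hW, hWV⟩ := h1
    exact ⟨W, hW, hWV⟩
  · refine fun h ↦ ⟨fun {V} hV ↦ ?_⟩
    rw [IsCompactOpenCovered.iff_of_unique]
    obtain ⟨W, hW, hWV⟩ := h V hV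
    exact ⟨W, hW, hWV⟩

/-- Fpqc covers given by one morphism are stable under base change. -/
lemma qcCover_pullback_fst {X Y T : Scheme.{u}} (f : X ⟶ Y)
    (hcov : ∀ V : Y.Opens, IsAffineOpen V → ∃ W : X.Opens, IsCompact (W : Set X) ∧
      f.base '' (W : Set X) = (V : Set Y)) (g : T ⟶ Y) :
    ∀ V : T.Opens, IsAffineOpen V → ∃ W : (Limits.pullback g f).Opens,
      IsCompact (W : Set (Limits.pullback g f : Scheme.{u})) ∧
        (Limits.pullback.fst g f).base '' (W : Set (Limits.pullback g f : Scheme.{u})) = (V : Set T) := by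
  haveI := (qcCover_singleton_iff f).mpr hcov
  exact (qcCover_singleton_iff _).mp
    (inferInstanceAs (QuasiCompactCover ((PreZeroHypercover.singleton.{u} f).pullback₁ g)))

/-- A flat surjective morphism which is an fpqc covering is an effective epimorphism. -/
theorem effectiveEpi_of_qcCover {X Y : Scheme.{u}} (f : X ⟶ Y) [Flat f] [Surjective f]
    (hcov : ∀ V : Y.Opens, IsAffineOpen V → ∃ W : X.Opens, IsCompact (W : Set X) ∧
      f.base '' (W : Set X) = (V : Set Y)) : EffectiveEpi f := by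
  haveI := (qcCover_singleton_iff f).mpr hcov
  have hmem : Presieve.singleton f ∈ Scheme.fpqcPrecoverage Y := by
    refine ⟨?_, by grind [Scheme.singleton_mem_precoverage_iff]⟩
    rw [← PreZeroHypercover.presieve₀_singleton.{u} f, Scheme.presieve₀_mem_qcPrecoverage_iff]
    infer_instance
  rw [← Sieve.effectiveEpimorphic_singleton,
    Presieve.EffectiveEpimorphic.iff_forall_isSheafFor_yoneda]
  intro Z
  exact (GrothendieckTopology.Subcanonical.isSheaf_of_isRepresentable _).isSheafFor _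
    (Precoverage.generate_mem_toGrothendieck hmem)

variable {S T U : Scheme.{u}}

/-- Base change in two steps. -/
lemma exists_bc_comp_iso (G : Over S) [GrpObj G] (h : U ⟶ T) (g : T ⟶ S) :
    ∃ i : Red.bc h (Red.bc g G) ≅ Red.bc (h ≫ g) G, IsMonHom i.hom := by
  let c : ∀ Z : Over U, (Over.map (h ≫ g)).obj Z ≅ (Over.map g).obj ((Over.map h).obj Z) :=
    fun Z ↦ Over.isoMk (Iso.refl Z.left) (by simp)
  let E2 : ∀ Z : Over U, ((Over.map g).obj ((Over.map h).obj Z) ⟶ G) ≃*
      ((Over.map (h ≫ g)).obj Z ⟶ G) := fun Z ↦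
    { toFun := fun x ↦ (c Z).hom ≫ x
      invFun := fun x ↦ (c Z).inv ≫ x
      left_inv := fun x ↦ by simp
      right_inv := fun x ↦ by simp
      map_mul' := fun a b ↦ MonObj.comp_mul _ a b }
  let E : ∀ Z : Over U, (Z ⟶ Red.bc h (Red.bc g G)) ≃* (Z ⟶ Red.bc (h ≫ g) G) := fun Z ↦
    (bcPointEquiv h (Red.bc g G) Z).trans ((bcPointEquiv g G _).trans
      ((E2 Z).trans (bcPointEquiv (h ≫ g) G Z).symm))
  refine exists_grpIso_of_points E fun {Z W} z x ↦ ?_
  apply (bcPointEquiv (h ≫ g) G W).injective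
  rw [bcPointEquiv_comp]
  simp only [E, E2, MulEquiv.trans_apply, MulEquiv.apply_symm_apply, MulEquiv.coe_mk,
    Equiv.coe_fn_mk, bcPointEquiv_comp]
  rw [← Category.assoc, ← Category.assoc]
  have hc : (c W).hom ≫ (Over.map g).map ((Over.map h).map z) =
      (Over.map (h ≫ g)).map z ≫ (c Z).hom := Over.OverMorphism.ext (by simp [c])
  rw [hc]

/-- Groups of multiplicative type and of finite type are stable under base change. -/
theorem isMultTypeFT_bc {H : Over S} [GrpObj H] (hH : SGA3x.IsMultTypeFT H) (g : T ⟶ S) :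
    SGA3x.IsMultTypeFT (Red.bc g H) := by
  obtain ⟨S', f, hflat, hsurj, hqc, hloc⟩ := hH
  let p := Limits.pullback.fst g f
  let q := Limits.pullback.snd g f
  refine ⟨Limits.pullback g f, p, MorphismProperty.pullback_fst _ _ hflat,
    MorphismProperty.pullback_fst _ _ hsurj, qcCover_pullback_fst f hqc g, fun x ↦ ?_⟩
  obtain ⟨V, hV, M, hM, hMfg, ⟨e⟩⟩ := hloc (q.base x)
  refine ⟨q ⁻¹ᵁ V, hV, M, hM, hMfg, ?_⟩
  let e' : Red.DS (V : Scheme.{u}) M ≅ Red.bc (V.ι ≫ f) H :=
    ⟨e.inv.hom.hom, e.hom.hom.hom, congrArg (fun z ↦ z.hom.hom) e.inv_hom_id,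
      congrArg (fun z ↦ z.hom.hom) e.hom_inv_id⟩
  haveI : IsMonHom e'.hom := inferInstanceAs (IsMonHom e.inv.hom.hom)
  obtain ⟨i, hi⟩ := exists_trivialisation_comp H (q ∣_ V) (V.ι ≫ f) e'
  obtain ⟨j, hj⟩ := exists_bc_comp_iso H ((q ⁻¹ᵁ V).ι ≫ p) g
  have heq : (q ∣_ V) ≫ V.ι ≫ f = ((q ⁻¹ᵁ V).ι ≫ p) ≫ g := by
    rw [morphismRestrict_ι_assoc, Category.assoc, Limits.pullback.condition]
  revert i hi
  rw [heq]
  intro i hi
  haveI := hi
  haveI := hj
  haveI : IsMonHom (i ≪≫ j.symm).hom := by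
    rw [Iso.trans_hom, Iso.symm_hom]
    infer_instance
  exact ⟨(Grp.mkIso' (i ≪≫ j.symm)).symm⟩

end Groth.Reductive.FreeDiag
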