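import Groth.Agent.Reductive.FreeDiagScheme
import Groth.Agent.DescentBase.Descends
import Groth.Agent.AlgGrp1.Basic
import Groth.Prelude.Def_AlgGrp

/-!
Free actions of groups which are fpqc-locally diagonalisable: the graph is a closed immersion.
-/

set_option autoImplicit false
universe u

open CategoryTheory MonoidalCategory CartesianMonoidalCategory MonObj AlgebraicGeometry

noncomputable section

namespace Groth.Reductive.FreeDiag

attribute [local instance] algΓ'

variable {S T : Scheme.{u}}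

/-! ### Points of base changes -/

/-- Points of a pullback. -/
abbrev qPt (g : T ⟶ S) {Z : Over T} {A : Over S} (x : Z ⟶ (Over.pullback g).obj A) :
    (Over.map g).obj Z ⟶ A :=
  ((Over.mapPullbackAdj g).homEquiv Z A).symm x

lemma qPt_map (g : T ⟶ S) {Z : Over T} {A B : Over S} (x : Z ⟶ (Over.pullback g).obj A)
    (f : A ⟶ B) : qPt g (x ≫ (Over.pullback g).map f) = qPt g x ≫ f :=
  Adjunction.homEquiv_naturality_right_symm _ _ _

lemma qPt_injective (g : T ⟶ S) {Z : Over T} {A : Over S} :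
    Function.Injective (qPt g (Z := Z) (A := A)) :=
  ((Over.mapPullbackAdj g).homEquiv Z A).symm.injective

/-- A point of the pullback of a product. -/
def pLift (g : T ⟶ S) {Z : Over T} {A B : Over S} (x : Z ⟶ (Over.pullback g).obj A)
    (y : Z ⟶ (Over.pullback g).obj B) : Z ⟶ (Over.pullback g).obj (A ⊗ B) :=
  (Over.mapPullbackAdj g).homEquiv Z (A ⊗ B) (lift (qPt g x) (qPt g y))

lemma qPt_pLift (g : T ⟶ S) {Z : Over T} {A B : Over S} (x : Z ⟶ (Over.pullback g).obj A)
    (y : Z ⟶ (Over.pullback g).obj B) : qPt g (pLift g x y) = lift (qPt g x) (qPt g y) :=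
  Equiv.symm_apply_apply _ _

@[reassoc]
lemma pLift_fst (g : T ⟶ S) {Z : Over T} {A B : Over S} (x : Z ⟶ (Over.pullback g).obj A)
    (y : Z ⟶ (Over.pullback g).obj B) : pLift g x y ≫ (Over.pullback g).map (fst A B) = x :=
  qPt_injective g (by rw [qPt_map, qPt_pLift, lift_fst])

@[reassoc]
lemma pLift_snd (g : T ⟶ S) {Z : Over T} {A B : Over S} (x : Z ⟶ (Over.pullback g).obj A)
    (y : Z ⟶ (Over.pullback g).obj B) : pLift g x y ≫ (Over.pullback g).map (snd A B) = y :=
  qPt_injective g (by rw [qPt_map, qPt_pLift, lift_snd])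

lemma pullback_hom_ext (g : T ⟶ S) {Z : Over T} {A B : Over S}
    {x y : Z ⟶ (Over.pullback g).obj (A ⊗ B)}
    (h₁ : x ≫ (Over.pullback g).map (fst A B) = y ≫ (Over.pullback g).map (fst A B))
    (h₂ : x ≫ (Over.pullback g).map (snd A B) = y ≫ (Over.pullback g).map (snd A B)) : x = y := by
  apply qPt_injective g
  apply CartesianMonoidalCategory.hom_ext
  · rw [← qPt_map, ← qPt_map, h₁]
  · rw [← qPt_map, ← qPt_map, h₂]

/-! ### Isomorphisms of groups from points -/

lemma exists_grpIso_of_points {A B : Over T} [GrpObj A] [GrpObj B]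
    (E : ∀ Z : Over T, (Z ⟶ A) ≃* (Z ⟶ B))
    (hE : ∀ {Z W : Over T} (z : W ⟶ Z) (x : Z ⟶ A), E W (z ≫ x) = z ≫ E Z x) :
    ∃ i : A ≅ B, IsMonHom i.hom := by
  have h1 : ∀ Z (x : Z ⟶ A), x ≫ E A (𝟙 A) = E Z x := fun Z x ↦ by
    rw [← hE, Category.comp_id]
  refine ⟨⟨E A (𝟙 A), (E B).symm (𝟙 B), ?_, ?_⟩, ?_⟩
  · apply (E A).injective
    rw [hE, MulEquiv.apply_symm_apply, Category.comp_id]
  · rw [h1, MulEquiv.apply_symm_apply]
  · exact Groth.AlgGrp1.isMonHom_of_points _ fun Z a b ↦ by rw [h1, h1, h1, map_mul]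

/-! ### The diagonalisable group after base change -/

/-- Points of `D(M)` do not see the base. -/
def dsPtEquiv {U : Scheme.{u}} (j : T ⟶ U) (M : Type) [AddCommGroup M] (Z : Over T) :
    (Z ⟶ Red.DS T M) ≃* ((Over.map j).obj Z ⟶ Red.DS U M) where
  toFun h := dsMk (S := U) ((Over.map j).obj Z)
    (dsValHom (S := T) (X := Z) h : Multiplicative M →* Γ(Z.left, ⊤))
  invFun h := dsMk (S := T) Z
    (dsValHom (S := U) (X := (Over.map j).obj Z) h : Multiplicative M →* Γ(Z.left, ⊤))
  left_inv h := dsVal_ext fun m ↦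
    (dsVal_dsMk (S := T) Z _ m).trans (dsVal_dsMk (S := U) ((Over.map j).obj Z) _ m)
  right_inv h := dsVal_ext fun m ↦
    (dsVal_dsMk (S := U) ((Over.map j).obj Z) _ m).trans (dsVal_dsMk (S := T) Z _ m)
  map_mul' a b := dsVal_ext fun m ↦ by
    refine (dsVal_dsMk (S := U) ((Over.map j).obj Z) _ m).trans ?_
    rw [dsVal_mul]
    show dsVal (S := T) (X := Z) (a * b) m = _
    rw [dsVal_mul, dsVal_dsMk, dsVal_dsMk]
    rfl

lemma dsPtEquiv_comp {U : Scheme.{u}} (j : T ⟶ U) (M : Type) [AddCommGroup M] {Z W : Over T}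
    (z : W ⟶ Z) (x : Z ⟶ Red.DS T M) :
    dsPtEquiv j M W (z ≫ x) = (Over.map j).map z ≫ dsPtEquiv j M Z x :=
  dsVal_ext fun m ↦ by
    refine ((dsVal_dsMk (S := U) ((Over.map j).obj W) _ m).trans (dsVal_comp z x m)).trans ?_
    refine Eq.symm ((dsVal_comp ((Over.map j).map z) (dsPtEquiv j M Z x) m).trans ?_)
    exact congrArg z.left.appTop (dsVal_dsMk (S := U) ((Over.map j).obj Z) _ m)

/-- A trivialisation can be restricted along any morphism. -/
lemma exists_trivialisation_comp {U : Scheme.{u}} {M : Type} [AddCommGroup M] (G : Over S)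
    [GrpObj G] (j : T ⟶ U) (g : U ⟶ S) (e : Red.DS U M ≅ Red.bc g G) [IsMonHom e.hom] :
    ∃ i : Red.DS T M ≅ Red.bc (j ≫ g) G, IsMonHom i.hom := by
  let c : ∀ Z : Over T, (Over.map (j ≫ g)).obj Z ≅ (Over.map g).obj ((Over.map j).obj Z) :=
    fun Z ↦ Over.isoMk (Iso.refl Z.left) (by simp)
  let E1 : ∀ Z : Over U, (Z ⟶ Red.DS U M) ≃* (Z ⟶ Red.bc g G) := fun Z ↦
    { toFun := fun x ↦ x ≫ e.hom
      invFun := fun x ↦ x ≫ e.inv
      left_inv := fun x ↦ by simp
      right_inv := fun x ↦ by simp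
      map_mul' := fun a b ↦ MonObj.mul_comp a b e.hom }
  let E2 : ∀ Z : Over T, ((Over.map g).obj ((Over.map j).obj Z) ⟶ G) ≃*
      ((Over.map (j ≫ g)).obj Z ⟶ G) := fun Z ↦
    { toFun := fun x ↦ (c Z).hom ≫ x
      invFun := fun x ↦ (c Z).inv ≫ x
      left_inv := fun x ↦ by simp
      right_inv := fun x ↦ by simp
      map_mul' := fun a b ↦ MonObj.comp_mul _ a b }
  let E : ∀ Z : Over T, (Z ⟶ Red.DS T M) ≃* (Z ⟶ Red.bc (j ≫ g) G) := fun Z ↦
    (dsPtEquiv j M Z).trans ((E1 _).trans ((bcPointEquiv g G _).trans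
      ((E2 Z).trans (bcPointEquiv (j ≫ g) G Z).symm)))
  refine exists_grpIso_of_points E fun {Z W} z x ↦ ?_
  apply (bcPointEquiv (j ≫ g) G W).injective
  rw [bcPointEquiv_comp]
  simp only [E, E1, E2, MulEquiv.trans_apply, MulEquiv.apply_symm_apply, MulEquiv.coe_mk,
    Equiv.coe_fn_mk, dsPtEquiv_comp, Category.assoc, bcPointEquiv_comp]
  rw [← Category.assoc, ← Category.assoc]
  have hc : (c W).hom ≫ (Over.map g).map ((Over.map j).map z) =
      (Over.map (j ≫ g)).map z ≫ (c Z).hom := Over.OverMorphism.ext (by simp [c])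
  rw [hc]
  simp only [Category.assoc]

/-! ### The graph over an affine chart -/

variable {G X : Over S} [GrpObj G]

lemma act_assoc (a : AlgGrp.Action G X) {Z : Over S} (g h : Z ⟶ G) (x : Z ⟶ X) :
    lift g (lift h x ≫ a.act) ≫ a.act = lift (g * h) x ≫ a.act := by
  have h1 := lift (lift g h) x ≫= a.mul_act
  rw [lift_whiskerRight_assoc, lift_lift_associator_hom_assoc, lift_whiskerLeft_assoc,
    ← Hom.mul_def] at h1
  exact h1.symm

theorem isClosedImmersion_pullback_graph [IsAffine T] (g : T ⟶ S) (hX : IsAffineHom X.hom)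
    (a : AlgGrp.Action G X)
    (hfree : ∀ (Z : Over S) (x : Z ⟶ G) (y : Z ⟶ X), lift x y ≫ a.act = y → x = 1)
    {M : Type} [AddCommGroup M] (i : Red.DS T M ≅ Red.bc g G) [IsMonHom i.hom] :
    IsClosedImmersion ((Over.pullback g).map (lift a.act (snd G X))).left := by
  let F := Over.pullback g
  have : IsAffine (F.obj X).left := by
    have : IsAffineHom (F.obj X).hom := by
      show IsAffineHom (Limits.pullback.snd X.hom g)
      exact MorphismProperty.pullback_snd _ _ hX
    exact isAffine_of_isAffineHom (F.obj X).hom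
  let act' : Red.DS T M ⊗ F.obj X ⟶ F.obj X :=
    pLift g (fst (Red.DS T M) (F.obj X) ≫ i.hom) (snd (Red.DS T M) (F.obj X)) ≫ F.map a.act
  have hact : ∀ (Z : Over T) (h : Z ⟶ Red.DS T M) (y : Z ⟶ F.obj X),
      lift h y ≫ act' = pLift g (h ≫ i.hom) y ≫ F.map a.act := fun Z h y ↦ by
    rw [← Category.assoc]
    congr 1
    refine pullback_hom_ext g ?_ ?_
    · rw [Category.assoc, pLift_fst, pLift_fst, lift_fst_assoc]
    · rw [Category.assoc, pLift_snd, pLift_snd, lift_snd]
  have hq : ∀ (Z : Over T) (h : Z ⟶ Red.DS T M) (y : Z ⟶ F.obj X),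
      qPt g (lift h y ≫ act') = lift (bcPointEquiv g G Z (h ≫ i.hom)) (qPt g y) ≫ a.act :=
    fun Z h y ↦ by rw [hact, qPt_map, qPt_pLift]; rfl
  have hP := isClosedImmersion_graph act'
    (fun Z h h' y ↦ qPt_injective g (by
      rw [hq, hq, hq, act_assoc, MonObj.mul_comp, map_mul]))
    (fun Z h y e ↦ by
      have h1 := hfree _ _ _ ((hq Z h y).symm.trans (congrArg (qPt g) e))
      have h2 : h ≫ i.hom = 1 := (bcPointEquiv g G Z).injective (h1.trans (map_one _).symm)
      rw [← cancel_mono i.hom, h2, MonObj.one_comp])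
  let c₁ : F.obj (G ⊗ X) ≅ Red.DS T M ⊗ F.obj X :=
    { hom := lift (F.map (fst G X) ≫ i.inv) (F.map (snd G X))
      inv := pLift g (fst _ _ ≫ i.hom) (snd _ _)
      hom_inv_id := pullback_hom_ext g (by simp [F, pLift_fst]) (by simp [F, pLift_snd])
      inv_hom_id := by
        apply CartesianMonoidalCategory.hom_ext
        · simp [F, pLift_fst_assoc]
        · simp [F, pLift_snd] }
  let c₂ : F.obj (X ⊗ X) ≅ F.obj X ⊗ F.obj X :=
    { hom := lift (F.map (fst X X)) (F.map (snd X X))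
      inv := pLift g (fst _ _) (snd _ _)
      hom_inv_id := pullback_hom_ext g (by simp [F, pLift_fst]) (by simp [F, pLift_snd])
      inv_hom_id := by
        apply CartesianMonoidalCategory.hom_ext
        · simp [F, pLift_fst]
        · simp [F, pLift_snd] }
  have hsq : F.map (lift a.act (snd G X)) = c₁.hom ≫ lift act' (snd _ _) ≫ c₂.inv := by
    refine pullback_hom_ext g ?_ ?_
    · simp only [c₁, c₂, Category.assoc, pLift_fst, lift_fst, F, ← Functor.map_comp]
      rw [hact, ← Category.comp_id ((Over.pullback g).map a.act)]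
      rw [show pLift g ((((Over.pullback g).map (fst G X)) ≫ i.inv) ≫ i.hom)
          ((Over.pullback g).map (snd G X)) = 𝟙 _ from
        pullback_hom_ext g (by simp [pLift_fst]) (by simp [pLift_snd])]
      simp
    · simp only [c₁, c₂, Category.assoc, pLift_snd, lift_snd, F, ← Functor.map_comp]
  rw [hsq, Over.comp_left, Over.comp_left]
  haveI := hP
  haveI : IsIso c₁.hom.left := ((Over.forget T).mapIso c₁).isIso_hom
  haveI : IsIso c₂.inv.left := ((Over.forget T).mapIso c₂).isIso_inv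
  infer_instance

end Groth.Reductive.FreeDiag
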