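import Groth.Agent.DescentBase.Descends
import Groth.Prelude.Def_SGA3x

/-!
Properties of morphisms which are local for the fpqc coverings of the prelude.
-/

set_option autoImplicit false
universe u

open CategoryTheory CategoryTheory.Limits AlgebraicGeometry MorphismProperty

namespace Groth.Reductive

theorem snd_of_eq (P : MorphismProperty Scheme.{u}) {X Y W : Scheme.{u}} (h : X ⟶ Y) {g g' : W ⟶ Y}
    (e : g = g') (hg : P (pullback.snd h g)) : P (pullback.snd h g') := by
  subst e; exact hg

/-- A property local on the target which descends along surjective flat quasi-compact morphisms can be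
checked on an fpqc cover in the sense of the prelude. -/
theorem of_fpqc_locally (P : MorphismProperty Scheme.{u}) [IsZariskiLocalAtTarget P]
    (hP : P.DescendsAlong Groth.DescentBase.SFQ) {X S S' : Scheme.{u}} (h : X ⟶ S) (f : S' ⟶ S)
    (hflat : Flat f)
    (hqc : ∀ V : S.Opens, IsAffineOpen V → ∃ W : S'.Opens, IsCompact (W : Set S') ∧
      f.base '' (W : Set S') = (V : Set S))
    (hloc : ∀ s' : S', ∃ U : S'.Opens, s' ∈ U ∧ P (pullback.snd h (U.ι ≫ f))) : P h := by
  choose U hU hPU using hloc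
  haveI := hflat
  rw [IsZariskiLocalAtTarget.iff_of_openCover (P := P) S.affineCover]
  intro j
  obtain ⟨W, hWc, hW⟩ := hqc (S.affineCover.f j).opensRange (isAffineOpen_opensRange _)
  have hle : Set.range (W.ι ≫ f) ⊆ Set.range (S.affineCover.f j) := by
    rintro _ ⟨w, rfl⟩
    exact hW.subset ⟨w.1, w.2, rfl⟩
  let g := IsOpenImmersion.lift (S.affineCover.f j) (W.ι ≫ f) hle
  have hg : g ≫ S.affineCover.f j = W.ι ≫ f := IsOpenImmersion.lift_fac _ _ _
  have : Surjective g := by
    refine ⟨fun v ↦ ?_⟩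
    obtain ⟨w, hw, e⟩ := hW.superset ⟨v, rfl⟩
    refine ⟨⟨w, hw⟩, (S.affineCover.f j).isOpenEmbedding.injective ?_⟩
    rw [← Scheme.Hom.comp_apply, hg]
    exact e
  have : Flat g := by
    haveI : Flat (g ≫ S.affineCover.f j) := by rw [hg]; infer_instance
    exact MorphismProperty.of_postcomp (W := @Flat) (W' := @IsOpenImmersion) g
      (S.affineCover.f j) inferInstance inferInstance
  have : CompactSpace (W : Scheme.{u}) := isCompact_iff_compactSpace.mp hWc
  have : IsAffine (S.affineCover.X j) := inferInstanceAs (IsAffine (Spec _))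
  have : QuasiCompact g := quasiCompact_iff_compactSpace g |>.mpr inferInstance
  refine hP.of_isPullback (IsPullback.of_hasPullback (pullback.snd h (S.affineCover.f j)) g).flip
    (Groth.DescentBase.sfq g) ?_
  rw [← P.cancel_left_of_respectsIso (pullbackLeftPullbackSndIso h _ g).inv,
    pullbackLeftPullbackSndIso_inv_snd_snd]
  refine snd_of_eq P h hg.symm ?_
  -- Zariski locally on the quasi-compact open
  let 𝒲 : (W : Scheme.{u}).OpenCover :=
    Scheme.openCoverOfIsOpenCover _ (fun w : (W : Scheme.{u}) ↦ W.ι ⁻¹ᵁ U w.1)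
      (.mk (top_unique fun w _ ↦ TopologicalSpace.Opens.mem_iSup.mpr ⟨w, hU w.1⟩))
  rw [IsZariskiLocalAtTarget.iff_of_openCover (P := P) 𝒲]
  intro w
  let t := W.ι ∣_ U w.1
  change P (pullback.snd (pullback.snd h (W.ι ≫ f)) (W.ι ⁻¹ᵁ U w.1).ι)
  rw [← P.cancel_left_of_respectsIso (pullbackLeftPullbackSndIso h _ _).inv,
    pullbackLeftPullbackSndIso_inv_snd_snd]
  have e : (W.ι ⁻¹ᵁ U w.1).ι ≫ W.ι ≫ f = t ≫ (U w.1).ι ≫ f := by
    rw [← morphismRestrict_ι_assoc]
  refine snd_of_eq P h e.symm ?_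
  rw [← P.cancel_left_of_respectsIso (pullbackLeftPullbackSndIso h ((U w.1).ι ≫ f) t).hom,
    pullbackLeftPullbackSndIso_hom_snd]
  exact IsZariskiLocalAtTarget.of_isPullback (iY := t)
    (iX := pullback.fst (pullback.snd h ((U w.1).ι ≫ f)) t) (IsPullback.of_hasPullback _ _) (hPU _)

lemma ds_flat_lfp (U : Scheme.{u}) (M : Type) [AddCommGroup M] (hM : AddGroup.FG M) :
    Flat (Red.DS U M).hom ∧ LocallyOfFinitePresentation (Red.DS U M).hom := by
  haveI : AddMonoid.FG M := AddGroup.fg_iff_addMonoid_fg.mp hM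
  haveI : Monoid.FG (Multiplicative M) := AddMonoid.fg_iff_mul_fg.mp inferInstance
  haveI : IsNoetherianRing (ULift.{u} ℤ) :=
    isNoetherianRing_of_ringEquiv ℤ ULift.ringEquiv.symm
  have hfp : Algebra.FinitePresentation (ULift.{u} ℤ)
      (MonoidAlgebra (ULift.{u} ℤ) (Multiplicative M)) :=
    Algebra.FinitePresentation.of_finiteType.mp inferInstance
  have h1 : Flat (Red.diag (ULift.{u} ℤ) M).hom := by
    show Flat (Spec.map _)
    rw [HasRingHomProperty.Spec_iff (P := @Flat)]
    exact RingHom.flat_algebraMap_iff.mpr inferInstance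
  have h2 : LocallyOfFinitePresentation (Red.diag (ULift.{u} ℤ) M).hom := by
    show LocallyOfFinitePresentation (Spec.map _)
    rw [HasRingHomProperty.Spec_iff (P := @LocallyOfFinitePresentation)]
    exact RingHom.finitePresentation_algebraMap.mpr hfp
  exact ⟨MorphismProperty.pullback_snd _ _ h1, MorphismProperty.pullback_snd _ _ h2⟩

/-- Groups of multiplicative type and of finite type are flat and locally of finite presentation. -/
theorem flat_lfp_of_multTypeFT {S : Scheme.{u}} (H : Over S) [GrpObj H] (hH : SGA3x.IsMultTypeFT H)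
    (dF : MorphismProperty.DescendsAlong @Flat Groth.DescentBase.SFQ.{u})
    (dP : MorphismProperty.DescendsAlong @LocallyOfFinitePresentation Groth.DescentBase.SFQ.{u}) :
    Flat H.hom ∧ LocallyOfFinitePresentation H.hom := by
  obtain ⟨S', f, hflat, -, hqc, hloc⟩ := hH
  have key : ∀ s' : S', ∃ U : S'.Opens, s' ∈ U ∧ Flat (pullback.snd H.hom (U.ι ≫ f)) ∧
      LocallyOfFinitePresentation (pullback.snd H.hom (U.ι ≫ f)) := fun s' ↦ by
    obtain ⟨U, hU, M, _, hM, ⟨e⟩⟩ := hloc s'
    obtain ⟨h1, h2⟩ := ds_flat_lfp (U : Scheme.{u}) M hM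
    let e' := (CategoryTheory.Over.forget _).mapIso ((Grp.forget _).mapIso e)
    have hw : pullback.snd H.hom (U.ι ≫ f) = e'.hom ≫ (Red.DS (U : Scheme.{u}) M).hom :=
      (Over.w e.hom.hom.hom).symm
    exact ⟨U, hU, by
      rw [hw]
      exact ⟨(MorphismProperty.cancel_left_of_respectsIso @Flat e'.hom _).mpr h1,
        (MorphismProperty.cancel_left_of_respectsIso @LocallyOfFinitePresentation e'.hom _).mpr h2⟩⟩
  exact ⟨of_fpqc_locally @Flat dF H.hom f hflat hqc fun s ↦
      let ⟨U, hU, h, _⟩ := key s; ⟨U, hU, h⟩,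
    of_fpqc_locally @LocallyOfFinitePresentation dP H.hom f hflat hqc fun s ↦
      let ⟨U, hU, _, h⟩ := key s; ⟨U, hU, h⟩⟩

end Groth.Reductive
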