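import Groth.Agent.Reductive.MTLocus
import Groth.Agent.Reductive.SubgroupObj
import Groth.Agent.FlatmorThree.SmoothLift
import Groth.Agent.FlatmorThree.ProjLocal

/-!
Transporters of homomorphisms from groups of multiplicative type into smooth affine groups.
-/

set_option autoImplicit false
universe u

open CategoryTheory MonoidalCategory CartesianMonoidalCategory MonObj AlgebraicGeometry Limits

noncomputable section

namespace Groth.Reductive.MTInt

/-- A formally smooth morphism locally of finite presentation is smooth. -/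
theorem smooth_of_isFormallySmoothHom {X Y : Scheme.{u}} (f : X ⟶ Y)
    [LocallyOfFinitePresentation f] (hf : MoreMor.IsFormallySmoothHom f) : Smooth f := by
  refine ⟨fun {U} hU {V} hV e ↦ ?_⟩
  have h1 := f.finitePresentation_appLE hU hV e
  have h2 := Groth.FlatmorThree.FormalLift.formallySmooth_appLE hf hV hU e
  letI := (f.appLE U V e).hom.toAlgebra
  exact ⟨h2, h1⟩

/-- A smooth morphism is formally smooth. -/
theorem isFormallySmoothHom_of_smooth' {X Y : Scheme.{u}} (f : X ⟶ Y) [Smooth f] :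
    MoreMor.IsFormallySmoothHom f := by
  intro A _ I hI a b w
  refine Groth.FlatmorThree.SmoothLift.exists_lift f a b w hI (fun x ↦ ?_)
    fun d s hs _ hP ↦ Groth.FlatmorThree.projective_of_localized_span d.T.Coker s hs hP
  obtain ⟨V, hV, hfx, -⟩ := exists_isAffineOpen_mem_and_subset
    (U := (⊤ : Y.Opens)) (show f x ∈ (⊤ : Y.Opens) from trivial)
  obtain ⟨U, hU, hx, e⟩ := exists_isAffineOpen_mem_and_subset
    (U := f ⁻¹ᵁ V) (show x ∈ f ⁻¹ᵁ V from hfx)
  exact ⟨U, V, hU, hV, e, hx, (f.smooth_appLE hV hU e).1⟩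

variable {S : Scheme.{u}} {G H : Over S} [GrpObj H] [GrpObj G]

/-- The family `h ↦ g u(h) g⁻¹` over `G`. -/
abbrev conjFam (u : H ⟶ G) : H ⊗ G ⟶ G := snd H G * (fst H G ≫ u) * (snd H G)⁻¹

lemma whisker_conjFam (u : H ⟶ G) {Y : Over S} (g : Y ⟶ G) :
    (H ◁ g) ≫ conjFam u = (snd H Y ≫ g) * (fst H Y ≫ u) * (snd H Y ≫ g)⁻¹ := by
  simp [conjFam, MonObj.comp_mul, GrpObj.comp_inv]

lemma agree_transporter_iff (u₁ u₂ : H ⟶ G) {X : Over S} (g : X ⟶ G) :
    Agree (conjFam u₁) (fst H G ≫ u₂) g ↔ ∀ (X' : Over S) (x : X' ⟶ X) (h : X' ⟶ H),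
      (x ≫ g) * (h ≫ u₁) * (x ≫ g)⁻¹ = h ≫ u₂ := by
  unfold Agree
  rw [whisker_conjFam, whiskerLeft_fst_assoc]
  constructor
  · intro e X' x h
    have := congrArg (fun z ↦ lift h x ≫ z) e
    simpa [MonObj.comp_mul, GrpObj.comp_inv] using this
  · intro e
    exact e _ (snd H X) (fst H X)

set_option maxHeartbeats 1000000 in
/-- The transporter of two homomorphisms from a group of multiplicative type to a smooth affine
group is closed and smooth. -/
theorem exists_transporter (hH : LocTriv H) (hG : Smooth G.hom) (hGa : IsAffineHom G.hom)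
    (u₁ u₂ : H ⟶ G) [IsMonHom u₁] [IsMonHom u₂] :
    ∃ (T : Over S) (j : T ⟶ G), IsClosedImmersion j.left ∧ Smooth T.hom ∧
      ∀ (X : Over S) (g : X ⟶ G), (∃ t : X ⟶ T, t ≫ j = g) ↔
        ∀ (X' : Over S) (x : X' ⟶ X) (h : X' ⟶ H),
          (x ≫ g) * (h ≫ u₁) * (x ≫ g)⁻¹ = h ≫ u₂ := by
  obtain ⟨T, j, hj, hjfp, hT⟩ := exists_agreeLocus hH (conjFam u₁) (fst H G ≫ u₂) hGa
  refine ⟨T, j, hj, ?_, fun X g ↦ (hT X g).trans (agree_transporter_iff u₁ u₂ g)⟩
  haveI := hj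
  haveI := hjfp inferInstance
  haveI : LocallyOfFinitePresentation T.hom := by rw [← Over.w j]; infer_instance
  refine smooth_of_isFormallySmoothHom _ fun A _ I hI a b w ↦ ?_
  let mk := Ideal.Quotient.mk I
  let q : Spec (CommRingCat.of (A ⧸ I)) ⟶ Spec (CommRingCat.of A) :=
    Spec.map (CommRingCat.ofHom mk)
  obtain ⟨l, hl1, hl2⟩ := isFormallySmoothHom_of_smooth' G.hom A I hI (a ≫ j.left) b
    (by rw [w, Category.assoc, Over.w])
  let Y : Over S := Over.mk b
  let Y₀ : Over S := Over.mk (q ≫ b)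
  let i₀ : Y₀ ⟶ Y := Over.homMk q rfl
  let g : Y ⟶ G := Over.homMk l hl2
  let a₀ : Y₀ ⟶ T := Over.homMk a w.symm
  have hg₀ : i₀ ≫ g = a₀ ≫ j := Over.OverMorphism.ext hl1
  haveI : IsAffine Y.left := inferInstanceAs (IsAffine (Spec _))
  haveI : IsAffine Y₀.left := inferInstanceAs (IsAffine (Spec _))
  have happ : ∀ x, i₀.left.appTop ((Scheme.ΓSpecIso (CommRingCat.of A)).inv x) =
      (Scheme.ΓSpecIso (CommRingCat.of (A ⧸ I))).inv (mk x) := fun x ↦
    (ConcreteCategory.congr_hom (Scheme.ΓSpecIso_inv_naturality (CommRingCat.ofHom mk)) x).symm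
  have hA := ConcreteCategory.bijective_of_isIso (Scheme.ΓSpecIso (CommRingCat.of A)).inv
  have hAI := ConcreteCategory.bijective_of_isIso (Scheme.ΓSpecIso (CommRingCat.of (A ⧸ I))).inv
  have hsurj : Function.Surjective i₀.left.appTop := fun z ↦ by
    obtain ⟨z', rfl⟩ := hAI.2 z
    obtain ⟨x, rfl⟩ := Ideal.Quotient.mk_surjective z'
    exact ⟨_, happ x⟩
  have hker : RingHom.ker i₀.left.appTop.hom * RingHom.ker i₀.left.appTop.hom = ⊥ := by
    refine le_bot_iff.mp (Ideal.mul_le.mpr fun r hr r' hr' ↦ ?_)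
    obtain ⟨x, rfl⟩ := hA.2 r
    obtain ⟨x', rfl⟩ := hA.2 r'
    have hmem : ∀ y, i₀.left.appTop ((Scheme.ΓSpecIso (CommRingCat.of A)).inv y) = 0 → y ∈ I := by
      intro y hy
      rw [happ, ← map_zero ((Scheme.ΓSpecIso (CommRingCat.of (A ⧸ I))).inv).hom] at hy
      exact Ideal.Quotient.eq_zero_iff_mem.mp (hAI.1 hy)
    have : x * x' = 0 := Ideal.mem_bot.mp (hI ▸ pow_two I ▸ Ideal.mul_mem_mul (hmem x hr) (hmem x' hr'))
    rw [← map_mul, this, map_zero]
    exact Ideal.zero_mem _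
  -- the conjugated homomorphism
  let v : H ⊗ Y ⟶ G := (H ◁ g) ≫ conjFam u₁
  let v' : H ⊗ Y ⟶ G := fst H Y ≫ u₂
  have hv : IsHomFam v := fun Z h h' y ↦ by
    simp only [v, conjFam, MonObj.comp_mul, GrpObj.comp_inv, whiskerLeft_fst_assoc,
      whiskerLeft_snd, lift_snd_assoc, lift_fst_assoc, MonObj.mul_comp]
    group
  have hv' : IsHomFam v' := fun Z h h' y ↦ by
    simp only [v', lift_fst_assoc, MonObj.mul_comp]
  have h0 : (H ◁ i₀) ≫ v = (H ◁ i₀) ≫ v' := by
    have : Agree (conjFam u₁) (fst H G ≫ u₂) (a₀ ≫ j) := (hT _ _).mp ⟨a₀, rfl⟩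
    rw [← hg₀] at this
    unfold Agree at this
    rw [whiskerLeft_comp, Category.assoc, Category.assoc, whiskerLeft_fst_assoc] at this
    exact this
  obtain ⟨k, hk0, hk⟩ := exists_conj hH hGa i₀ hsurj hker v v' hv hv' h0
  obtain ⟨z, hz⟩ := (hT Y (k * g)).mpr (by
    unfold Agree
    rw [whisker_conjFam, whiskerLeft_fst_assoc, MonObj.comp_mul]
    change _ = v'
    rw [hk]
    simp only [v, whisker_conjFam]
    group)
  haveI : Mono j := (Over.forget S).mono_of_mono_map (inferInstanceAs (Mono j.left))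
  refine ⟨z.left, ?_, Over.w z⟩
  have e : i₀ ≫ z = a₀ := by
    rw [← cancel_mono j, Category.assoc, hz, MonObj.comp_mul, hk0, _root_.one_mul, hg₀]
  exact congrArg (fun z ↦ z.left) e

/-- The centralizer of a homomorphism from a group of multiplicative type to a smooth affine
group is closed and smooth. -/
theorem exists_centralizer (hH : LocTriv H) (hG : Smooth G.hom) (hGa : IsAffineHom G.hom)
    (u : H ⟶ G) [IsMonHom u] :
    ∃ (Z : Over S) (_ : GrpObj Z) (j : Z ⟶ G), IsMonHom j ∧ Mono j ∧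
      (∀ (X : Over S) (g : X ⟶ G), (∃ z : X ⟶ Z, z ≫ j = g) ↔
        ∀ (X' : Over S) (x : X' ⟶ X) (h : X' ⟶ H), (x ≫ g) * (h ≫ u) = (h ≫ u) * (x ≫ g)) ∧
      IsClosedImmersion j.left ∧ Smooth Z.hom := by
  obtain ⟨Z, j, hj, hZ, hiff⟩ := exists_transporter hH hG hGa u u
  have hiff' : ∀ (X : Over S) (g : X ⟶ G), (∃ z : X ⟶ Z, z ≫ j = g) ↔
      ∀ (X' : Over S) (x : X' ⟶ X) (h : X' ⟶ H), (x ≫ g) * (h ≫ u) = (h ≫ u) * (x ≫ g) :=
    fun X g ↦ (hiff X g).trans (forall_congr' fun X' ↦ forall_congr' fun x ↦ forall_congr' fun h ↦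
      mul_inv_eq_iff_eq_mul)
  haveI := hj
  haveI : Mono j := (Over.forget S).mono_of_mono_map (inferInstanceAs (Mono j.left))
  have hmem := fun (X : Over S) (z : X ⟶ Z) ↦ (hiff' X (z ≫ j)).mp ⟨z, rfl⟩
  obtain ⟨inst, hmon⟩ := exists_grpObj_of_mono j ((hiff' _ 1).mpr fun X' x h ↦ by
      rw [MonObj.comp_one, _root_.one_mul, _root_.mul_one])
    ((hiff' _ _).mpr fun X' x h ↦ by
      rw [MonObj.comp_mul]
      have a := hmem _ (fst Z Z) X' x h
      have b := hmem _ (snd Z Z) X' x h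
      rw [_root_.mul_assoc, b, ← _root_.mul_assoc, a, _root_.mul_assoc])
    ((hiff' _ _).mpr fun X' x h ↦ by
      rw [GrpObj.comp_inv]
      have a := hmem _ (𝟙 Z) X' x h
      rw [Category.id_comp] at a
      rw [inv_mul_eq_iff_eq_mul, ← _root_.mul_assoc, a, mul_inv_cancel_right])
  exact ⟨Z, inst, j, hmon, inferInstance, hiff', hj, hZ⟩

end Groth.Reductive.MTInt
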