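import Groth.Prelude.Def_Red2

/-!
Points of `Ga S` and `Gm S`: the coordinate functions identify `X ⟶ Ga S` with `Γ(X, ⊤)` (additively)
and `X ⟶ Gm S` with its units (multiplicatively).
-/

set_option autoImplicit false
universe u

open CategoryTheory MonoidalCategory CartesianMonoidalCategory MonObj GrpObj AlgebraicGeometry
open scoped TensorProduct

noncomputable section

namespace Groth.Reductive

/-- Global sections as an algebra over `ULift ℤ`. -/
@[instance_reducible]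
def algΓ' (X : Scheme.{u}) : Algebra (ULift.{u} ℤ) Γ(X, ⊤) :=
  ULift.algebra' ℤ Γ(X, ⊤)

attribute [local instance] algΓ'


/-- `ULift ℤ` maps uniquely to every commutative ring. -/
lemma ringHom_uliftInt_ext {R : Type u} [CommRing R] (f g : (ULift.{u} ℤ) →+* R) : f = g := by
  ext ⟨n⟩
  exact RingHom.congr_fun (RingHom.ext_int (f.comp (ULift.ringEquiv.symm : ℤ ≃+* (ULift.{u} ℤ)).toRingHom)
    (g.comp (ULift.ringEquiv.symm : ℤ ≃+* (ULift.{u} ℤ)).toRingHom)) n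

variable (S : Scheme.{u})

/-- The structure map of `S` over `Spec ℤ`. -/
abbrev toZ : S ⟶ Spec (CommRingCat.of (ULift.{u} ℤ)) := Limits.IsTerminal.from specULiftZIsTerminal S

variable {S} (A : Type u) [CommRing A] [HopfAlgebra (ULift.{u} ℤ) A]

/-- The affine group `Spec A` over `ℤ`. -/
abbrev affZ : Over (Spec (CommRingCat.of (ULift.{u} ℤ))) :=
  (Spec (CommRingCat.of A)).asOver (Spec (CommRingCat.of (ULift.{u} ℤ)))

/-- The scheme morphism to `Spec A` of a point. -/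
abbrev ptFst {X : Over S} (x : X ⟶ Red.bc (toZ S) (affZ A)) : X.left ⟶ Spec (CommRingCat.of A) :=
  x.left ≫ Limits.pullback.fst (affZ A).hom (toZ S)

/-- The comorphism of a point of `Spec A` pulled back to `S`. -/
def ptVal {X : Over S} (x : X ⟶ Red.bc (toZ S) (affZ A)) : A →ₐ[(ULift.{u} ℤ)] Γ(X.left, ⊤) where
  toRingHom := (ptFst A x).appTop.hom.comp
    (Scheme.ΓSpecIso (CommRingCat.of A)).inv.hom
  commutes' r := RingHom.congr_fun (ringHom_uliftInt_ext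
    (((ptFst A x).appTop.hom.comp
      (Scheme.ΓSpecIso (CommRingCat.of A)).inv.hom).comp (algebraMap (ULift.{u} ℤ) A))
    (algebraMap (ULift.{u} ℤ) Γ(X.left, ⊤))) r

variable {A}

/-- `Spec` of the global sections, over `ℤ`. -/
abbrev affZΓ (T : Over (Spec (CommRingCat.of (ULift.{u} ℤ)))) :
    Over (Spec (CommRingCat.of (ULift.{u} ℤ))) :=
  (Spec (CommRingCat.of Γ(T.left, ⊤))).asOver (Spec (CommRingCat.of (ULift.{u} ℤ)))

/-- The canonical map to `Spec` of global sections, over `ℤ`. -/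
def toΓZ (T : Over (Spec (CommRingCat.of (ULift.{u} ℤ)))) : T ⟶ affZΓ T :=
  Over.homMk T.left.toSpecΓ (specULiftZIsTerminal.hom_ext _ _)

/-- The point with a given comorphism. -/
def ptMk (X : Over S) (a : WithConv (A →ₐ[(ULift.{u} ℤ)] Γ(X.left, ⊤))) : X ⟶ Red.bc (toZ S) (affZ A) :=
  (Over.mapPullbackAdj (toZ S)).homEquiv X (affZ A)
    (toΓZ ((Over.map (toZ S)).obj X) ≫ Spec.mapMulEquiv a)

lemma ptMk_mul (X : Over S) (a b : WithConv (A →ₐ[(ULift.{u} ℤ)] Γ(X.left, ⊤))) :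
    ptMk X (a * b) = ptMk X a * ptMk X b := by
  simp only [ptMk, map_mul, MonObj.comp_mul, Adjunction.homEquiv_unit]
  rw [Functor.map_mul, MonObj.comp_mul]

lemma ptFst_eq {X : Over S} (x : X ⟶ Red.bc (toZ S) (affZ A)) :
    ptFst A x = (((Over.mapPullbackAdj (toZ S)).homEquiv X (affZ A)).symm x).left := by
  simp [ptFst, Adjunction.homEquiv_counit]
  rfl

lemma ptMk_left (X : Over S) (a : WithConv (A →ₐ[(ULift.{u} ℤ)] Γ(X.left, ⊤))) :
    ptFst A (ptMk X a) =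
      X.left.toSpecΓ ≫ Spec.map (CommRingCat.ofHom a.ofConv.toRingHom) := by
  rw [ptFst_eq, ptMk, Equiv.symm_apply_apply]
  rfl

lemma ptVal_ptMk (X : Over S) (a : WithConv (A →ₐ[(ULift.{u} ℤ)] Γ(X.left, ⊤))) :
    ptVal A (ptMk X a) = a.ofConv := by
  apply AlgHom.coe_ringHom_injective
  show (ptFst A (ptMk X a)).appTop.hom.comp _ = _
  rw [ptMk_left, Scheme.Hom.comp_appTop, ← CommRingCat.hom_comp, Scheme.toSpecΓ_appTop,
    ← Category.assoc, ← Scheme.ΓSpecIso_inv_naturality, Category.assoc, Iso.inv_hom_id,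
    Category.comp_id]
  rfl

lemma ptMk_ptVal {X : Over S} (x : X ⟶ Red.bc (toZ S) (affZ A)) :
    ptMk X (WithConv.toConv (ptVal A x)) = x := by
  apply Over.OverMorphism.ext
  apply Limits.pullback.hom_ext
  · show ptFst A _ = ptFst A _
    rw [ptMk_left]
    show X.left.toSpecΓ ≫ Spec.map (_ ≫ _) = _
    rw [Spec.map_comp, ← Scheme.toSpecΓ_naturality_assoc, ← SpecMap_ΓSpecIso_hom,
      ← Spec.map_comp, Iso.inv_hom_id, Spec.map_id, Category.comp_id]
  · exact (Over.w (ptMk X _)).trans (Over.w x).symm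

lemma ptVal_injective {X : Over S} {x y : X ⟶ Red.bc (toZ S) (affZ A)}
    (h : ptVal A x = ptVal A y) : x = y := by
  rw [← ptMk_ptVal x, h, ptMk_ptVal]

lemma ptVal_mul {X : Over S} (x y : X ⟶ Red.bc (toZ S) (affZ A)) :
    ptVal A (x * y) =
      (WithConv.toConv (ptVal A x) * WithConv.toConv (ptVal A y)).ofConv := by
  conv_lhs => rw [← ptMk_ptVal x, ← ptMk_ptVal y, ← ptMk_mul, ptVal_ptMk]

section GaGm

variable {X : Over S}

/-- Comorphism of a point of `Ga`. -/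
abbrev gaVal (x : X ⟶ Red.Ga S) : SymmetricAlgebra (ULift.{u} ℤ) (ULift.{u} ℤ) →ₐ[(ULift.{u} ℤ)] Γ(X.left, ⊤) :=
  ptVal (SymmetricAlgebra (ULift.{u} ℤ) (ULift.{u} ℤ)) x

/-- Comorphism of a point of `Gm`. -/
abbrev gmVal (x : X ⟶ Red.Gm S) : MonoidAlgebra (ULift.{u} ℤ) (Multiplicative ℤ) →ₐ[(ULift.{u} ℤ)] Γ(X.left, ⊤) :=
  ptVal (MonoidAlgebra (ULift.{u} ℤ) (Multiplicative ℤ)) x

lemma gaFn_eq (x : X ⟶ Red.Ga S) :
    Red.gaFn x = gaVal x (SymmetricAlgebra.ι (ULift.{u} ℤ) (ULift.{u} ℤ) (ULift.up 1)) := rfl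

lemma gmFn_eq (x : X ⟶ Red.Gm S) :
    Red.gmFn x = gmVal x (MonoidAlgebra.single (Multiplicative.ofAdd (1 : ℤ)) 1) := rfl

lemma gaFn_mul (x y : X ⟶ Red.Ga S) : Red.gaFn (x * y) = Red.gaFn x + Red.gaFn y := by
  rw [gaFn_eq, gaFn_eq, gaFn_eq, gaVal, ptVal_mul, AlgHom.convMul_def]
  simp [SymmetricAlgebra.comul_ι]

lemma gmFn_mul (x y : X ⟶ Red.Gm S) : Red.gmFn (x * y) = Red.gmFn x * Red.gmFn y := by
  rw [gmFn_eq, gmFn_eq, gmFn_eq, gmVal, ptVal_mul, AlgHom.convMul_def]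
  simp

lemma gaFn_one : Red.gaFn (1 : X ⟶ Red.Ga S) = 0 := by
  have h := gaFn_mul (1 : X ⟶ Red.Ga S) 1
  rw [show (1 : X ⟶ Red.Ga S) * 1 = 1 from (_root_.mul_one (M := (X ⟶ Red.Ga S)) 1)] at h
  simpa using h

lemma gaFn_injective : Function.Injective (Red.gaFn : (X ⟶ Red.Ga S) → _) := by
  intro x y h
  apply ptVal_injective
  apply SymmetricAlgebra.algHom_ext
  refine LinearMap.ext fun r ↦ ?_
  rw [show r = r • (ULift.up 1) by ext; simp]
  simp only [LinearMap.comp_apply, map_smul]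
  exact congrArg (r • ·) h

@[ext] lemma gaPt_ext {x y : X ⟶ Red.Ga S} (h : Red.gaFn x = Red.gaFn y) : x = y :=
  gaFn_injective h

/-- The point of `Ga` with prescribed coordinate. -/
def gaMk (X : Over S) (r : Γ(X.left, ⊤)) : X ⟶ Red.Ga S :=
  ptMk X (WithConv.toConv (SymmetricAlgebra.lift (LinearMap.toSpanSingleton (ULift.{u} ℤ) _ r)))

@[simp] lemma gaFn_gaMk (r : Γ(X.left, ⊤)) : Red.gaFn (gaMk X r) = r := by
  rw [gaFn_eq, gaVal, gaMk, ptVal_ptMk]
  simp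

lemma gaFn_inv (x : X ⟶ Red.Ga S) : Red.gaFn x⁻¹ = - Red.gaFn x := by
  rw [eq_neg_iff_add_eq_zero, ← gaFn_mul, inv_mul_cancel, gaFn_one]

lemma isUnit_gmFn (x : X ⟶ Red.Gm S) : IsUnit (Red.gmFn x) := by
  rw [gmFn_eq]
  exact (Group.isUnit (Multiplicative.ofAdd (1 : ℤ))).map
    ((gmVal x).toMonoidHom.comp (MonoidAlgebra.of (ULift.{u} ℤ) (Multiplicative ℤ)))

lemma gmFn_one : Red.gmFn (1 : X ⟶ Red.Gm S) = 1 := by
  have h := gmFn_mul (1 : X ⟶ Red.Gm S) 1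
  rw [show (1 : X ⟶ Red.Gm S) * 1 = 1 from (_root_.mul_one (M := (X ⟶ Red.Gm S)) 1)] at h
  exact ((isUnit_gmFn (1 : X ⟶ Red.Gm S)).mul_eq_left).mp h.symm

lemma gmFn_injective : Function.Injective (Red.gmFn : (X ⟶ Red.Gm S) → _) := by
  intro x y h
  apply ptVal_injective
  apply MonoidAlgebra.algHom_ext'
  all_goals first
    | (apply MonoidHom.ext_mint; exact h)
    | exact AlgHom.coe_ringHom_injective (ringHom_uliftInt_ext _ _)

@[ext] lemma gmPt_ext {x y : X ⟶ Red.Gm S} (h : Red.gmFn x = Red.gmFn y) : x = y :=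
  gmFn_injective h

/-- The point of `Gm` with prescribed coordinate. -/
def gmMk (X : Over S) (r : Γ(X.left, ⊤)ˣ) : X ⟶ Red.Gm S :=
  ptMk X (WithConv.toConv (MonoidAlgebra.lift (ULift.{u} ℤ) _ (Multiplicative ℤ)
    ((Units.coeHom _).comp (zpowersHom _ r))))

@[simp] lemma gmFn_gmMk (r : Γ(X.left, ⊤)ˣ) : Red.gmFn (gmMk X r) = r := by
  rw [gmFn_eq, gmVal, gmMk, ptVal_ptMk]
  simp

lemma gmFn_inv_mul (x : X ⟶ Red.Gm S) : Red.gmFn x⁻¹ * Red.gmFn x = 1 := by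
  rw [← gmFn_mul, inv_mul_cancel, gmFn_one]

lemma gmFn_pow (x : X ⟶ Red.Gm S) (n : ℕ) : Red.gmFn (x ^ n) = Red.gmFn x ^ n := by
  induction n with
  | zero => simp [gmFn_one]
  | succ n ih => rw [pow_succ, pow_succ, gmFn_mul, ih]

lemma gaFn_comp {Y : Over S} (g : Y ⟶ X) (x : X ⟶ Red.Ga S) :
    Red.gaFn (g ≫ x) = g.left.appTop (Red.gaFn x) := by
  simp only [Red.gaFn, Over.comp_left, Category.assoc, Scheme.Hom.comp_appTop]
  rfl

lemma gmFn_comp {Y : Over S} (g : Y ⟶ X) (x : X ⟶ Red.Gm S) :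
    Red.gmFn (g ≫ x) = g.left.appTop (Red.gmFn x) := by
  simp only [Red.gmFn, Over.comp_left, Category.assoc, Scheme.Hom.comp_appTop]
  rfl

end GaGm

end Groth.Reductive
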