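import Groth.Agent.Reductive.MTRigidSub
import Groth.Agent.S4599

/-!
Closed loci defined by a closed subscheme of `H × X`, for `H` of multiplicative type, and the
resulting centralizers, transporters and fixed point schemes for separated smooth targets.
-/

set_option autoImplicit false
universe u

open CategoryTheory MonoidalCategory CartesianMonoidalCategory MonObj AlgebraicGeometry Limits

noncomputable section

namespace Groth.Reductive.MTInt

variable {S : Scheme.{u}} {H X G : Over S} [GrpObj H]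

/-- The pullback of a family factors through a subscheme. -/
def Through {E : Over S} (e : E ⟶ H ⊗ X) {Y : Over S} (y : Y ⟶ X) : Prop :=
  ∃ m : H ⊗ Y ⟶ E, m ≫ e = H ◁ y

attribute [local irreducible] coeffIdeal

lemma coeffIdeal_span (hH : LocTriv H) {Y : Over S} [IsAffine Y.left] (F : Finset (AY H Y)) :
    coeffIdeal hH (Ideal.span (F : Set (AY H Y)) : Set (AY H Y)) =
      coeffIdeal hH (F : Set (AY H Y)) := by
  refine ideal_eq_of_test fun Y' _ g ↦ ?_
  rw [← forall_gA_eq_zero_iff, ← forall_gA_eq_zero_iff]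
  refine ⟨fun h z hz ↦ h z (Ideal.subset_span hz), fun h z hz ↦ ?_⟩
  exact (Ideal.span_le.mpr fun w hw ↦ RingHom.mem_ker.mpr (h w hw)) hz

set_option maxHeartbeats 1000000 in
/-- The points whose family factors through a closed subscheme form a closed subscheme. -/
theorem exists_throughLocus (hH : LocTriv H) {E : Over S} (e : E ⟶ H ⊗ X)
    [IsClosedImmersion e.left] :
    ∃ (C : Over S) (j : C ⟶ X), IsClosedImmersion j.left ∧
      (LocallyOfFinitePresentation e.left → LocallyOfFinitePresentation j.left) ∧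
      ∀ (Z : Over S) (g : Z ⟶ X), (∃ z : Z ⟶ C, z ≫ j = g) ↔ Through e g := by
  let K : ∀ (Y : Over S) [IsAffine Y.left], (Y ⟶ X) → Ideal Γ(Y.left, ⊤) := fun Y _ y ↦
    coeffIdeal hH (RingHom.ker (pullback.fst (H ◁ y).left e.left).appTop.hom : Set (AY H Y))
  obtain ⟨C, j, hj, hjfp, hC⟩ := exists_closed_of_local (X := X) (fun y ↦ Through e y)
    (fun g a ⟨m, hm⟩ ↦ ⟨(H ◁ a) ≫ m, by rw [Category.assoc, hm, whiskerLeft_comp]⟩)
    (fun {Z} g h ↦ by
      choose W hxW hW using h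
      let 𝒲 : Z.left.OpenCover :=
        Scheme.openCoverOfIsOpenCover _ W (.mk (top_unique fun x _ ↦
          TopologicalSpace.Opens.mem_iSup.mpr ⟨x, hxW x⟩))
      obtain ⟨l, hl⟩ := exists_glue_of_mono (𝒲.pullback₁ (snd H Z).left) e.left (H ◁ g).left
        fun x ↦ by
          obtain ⟨m, hm⟩ := hW x
          have sq := Groth.AlgGrp1.isPullback_whiskerLeft H (openIncl Z (W x))
          let q := sq.flip.lift (pullback.fst (snd H Z).left (W x).ι)
            (pullback.snd (snd H Z).left (W x).ι) pullback.condition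
          refine ⟨q ≫ m.left, ?_⟩
          rw [Category.assoc, ← Over.comp_left, hm, whiskerLeft_comp, Over.comp_left,
            ← Category.assoc]
          exact congrArg (fun z ↦ z ≫ (H ◁ g).left) (sq.flip.lift_fst _ _ _)
      exact ⟨Over.homMk l (by rw [← Over.w e, ← Category.assoc, hl, Over.w]),
        Over.OverMorphism.ext hl⟩)
    K
    (fun Y Y' _ _ y g ↦ by
      haveI := isAffine_prod hH.1 Y
      haveI := isAffine_prod hH.1 Y'
      let ey := pullback.fst (H ◁ y).left e.left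
      haveI : IsClosedImmersion ey := inferInstanceAs (IsClosedImmersion (pullback.fst _ _))
      haveI : IsAffine (pullback (H ◁ y).left e.left) :=
        (IsClosedImmersion.isAffine_surjective_of_isAffine ey).1
      have hsurj := (IsClosedImmersion.isAffine_surjective_of_isAffine ey).2
      refine Iff.trans ?_ (forall_gA_eq_zero_iff hH _ g)
      constructor
      · rintro ⟨m, hm⟩ z hz
        let l := pullback.lift (f := (H ◁ y).left) (g := e.left) (H ◁ g).left m.left (by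
          rw [← Over.comp_left, ← Over.comp_left, hm, whiskerLeft_comp])
        show (H ◁ g).left.appTop z = 0
        rw [show (H ◁ g).left = l ≫ ey from (pullback.lift_fst _ _ _).symm, Scheme.Hom.comp_appTop,
          CommRingCat.comp_apply, show ey.appTop z = 0 from hz, map_zero]
      · intro h
        let ψ := ey.appTop.hom.liftOfSurjective hsurj ⟨(gA H g), fun z hz ↦ h z hz⟩
        obtain ⟨q, hq⟩ := exists_specHom (A := (H ⊗ Y').left)
          (B := pullback (H ◁ y).left e.left) ψ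
        have he : q ≫ ey = (H ◁ g).left := by
          refine ext_of_isAffine (CommRingCat.hom_ext (RingHom.ext fun r ↦ ?_))
          show q.appTop (ey.appTop r) = _
          rw [hq]
          exact RingHom.liftOfSurjective_comp_apply ey.appTop.hom hsurj ⟨gA H g, _⟩ r
        refine ⟨Over.homMk (q ≫ pullback.snd (H ◁ y).left e.left) ?_,
          Over.OverMorphism.ext ?_⟩
        · rw [Category.assoc, ← Over.w e, ← pullback.condition_assoc, Over.w (H ◁ y),
            ← Category.assoc, he, Over.w]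
        · show (q ≫ pullback.snd _ _) ≫ e.left = _
          rw [Category.assoc, ← pullback.condition, ← Category.assoc, he, whiskerLeft_comp,
            Over.comp_left])
  refine ⟨C, j, hj, fun hfp ↦ hjfp fun Y _ y ↦ ?_, hC⟩
  haveI := hfp
  haveI := isAffine_prod hH.1 Y
  let ey := pullback.fst (H ◁ y).left e.left
  haveI : IsClosedImmersion ey := inferInstanceAs (IsClosedImmersion (pullback.fst _ _))
  haveI : LocallyOfFinitePresentation ey := MorphismProperty.pullback_fst _ _ hfp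
  have hfg := Groth.Flatmor4.ker_fg_of_lfp ey ⟨⊤, isAffineOpen_top (H ⊗ Y).left⟩
  rw [Scheme.Hom.ker_apply] at hfg
  obtain ⟨F, hF⟩ := hfg
  show (coeffIdeal hH (RingHom.ker ey.appTop.hom : Set (AY H Y))).FG
  rw [show RingHom.ker ey.appTop.hom = Ideal.span (F : Set (AY H Y)) from hF.symm,
    coeffIdeal_span hH F]
  exact coeffIdeal_fg hH F

/-- The agreement locus for a separated target. -/
theorem exists_agreeLocusSep (hH : LocTriv H) (a b : H ⊗ X ⟶ G) [IsSeparated G.hom] :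
    ∃ (C : Over S) (j : C ⟶ X), IsClosedImmersion j.left ∧
      (LocallyOfFiniteType G.hom → LocallyOfFinitePresentation j.left) ∧
      ∀ (Z : Over S) (g : Z ⟶ X), (∃ z : Z ⟶ C, z ≫ j = g) ↔
        (H ◁ g) ≫ a = (H ◁ g) ≫ b := by
  let p : (H ⊗ X).left ⟶ pullback G.hom G.hom :=
    pullback.lift a.left b.left (by rw [Over.w, Over.w])
  let E : Over S := Over.mk (pullback.fst p (pullback.diagonal G.hom) ≫ (H ⊗ X).hom)
  let e : E ⟶ H ⊗ X := Over.homMk (pullback.fst p (pullback.diagonal G.hom)) rfl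
  haveI : IsClosedImmersion e.left :=
    inferInstanceAs (IsClosedImmersion (pullback.fst p (pullback.diagonal G.hom)))
  obtain ⟨C, j, hj, hjfp, hC⟩ := exists_throughLocus hH e
  refine ⟨C, j, hj, fun hft ↦ hjfp ?_, fun Z g ↦ (hC Z g).trans ?_⟩
  · haveI := hft
    exact MorphismProperty.pullback_fst (P := @LocallyOfFinitePresentation) _ _
      (Groth.Agent.S4599.result G.hom)
  constructor
  · rintro ⟨m, hm⟩
    rw [← hm, Category.assoc, Category.assoc]
    congr 1
    refine Over.OverMorphism.ext ?_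
    have h1 := congrArg (fun z ↦ z ≫ pullback.fst G.hom G.hom)
      (pullback.condition (f := p) (g := pullback.diagonal G.hom))
    have h2 := congrArg (fun z ↦ z ≫ pullback.snd G.hom G.hom)
      (pullback.condition (f := p) (g := pullback.diagonal G.hom))
    simp only [p, Category.assoc, pullback.lift_fst, pullback.lift_snd, pullback.diagonal_fst,
      pullback.diagonal_snd, Category.comp_id] at h1 h2
    exact h1.trans h2.symm
  · intro h
    let l := pullback.lift (f := p) (g := pullback.diagonal G.hom) (H ◁ g).left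
      ((H ◁ g) ≫ a).left (by
        apply pullback.hom_ext
        · simp only [p, Category.assoc, pullback.lift_fst, pullback.diagonal_fst, Category.comp_id,
            Over.comp_left]
        · simp only [p, Category.assoc, pullback.lift_snd, pullback.diagonal_snd, Category.comp_id]
          rw [← Over.comp_left, h])
    exact ⟨Over.homMk l (by
      show l ≫ pullback.fst _ _ ≫ _ = _
      rw [pullback.lift_fst_assoc, Over.w]), Over.OverMorphism.ext (pullback.lift_fst _ _ _)⟩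

variable [GrpObj G] {H₁ H₂ : Over S} [GrpObj H₁] [GrpObj H₂]

/-- The factorisation locus for a closed subscheme. -/
theorem exists_factorLocusG (hH : LocTriv H) (i₂ : H₂ ⟶ G) [IsClosedImmersion i₂.left]
    (c : H ⊗ X ⟶ G) :
    ∃ (C : Over S) (j : C ⟶ X), IsClosedImmersion j.left ∧
      (LocallyOfFinitePresentation i₂.left → LocallyOfFinitePresentation j.left) ∧
      ∀ (Z : Over S) (g : Z ⟶ X), (∃ z : Z ⟶ C, z ≫ j = g) ↔ Factors i₂ c g := by
  let E : Over S := Over.mk (pullback.fst c.left i₂.left ≫ (H ⊗ X).hom)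
  let e : E ⟶ H ⊗ X := Over.homMk (pullback.fst c.left i₂.left) rfl
  let q : E ⟶ H₂ := Over.homMk (pullback.snd c.left i₂.left) (by
    show _ = pullback.fst c.left i₂.left ≫ (H ⊗ X).hom
    rw [← Over.w c, pullback.condition_assoc, Over.w i₂])
  haveI : IsClosedImmersion e.left :=
    inferInstanceAs (IsClosedImmersion (pullback.fst c.left i₂.left))
  obtain ⟨C, j, hj, hjfp, hC⟩ := exists_throughLocus hH e
  refine ⟨C, j, hj, fun hfp ↦ hjfp (MorphismProperty.pullback_fst _ _ hfp),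
    fun Z g ↦ (hC Z g).trans ?_⟩
  constructor
  · rintro ⟨m, hm⟩
    refine ⟨m ≫ q, ?_⟩
    rw [Category.assoc, ← hm, Category.assoc]
    congr 1
    exact Over.OverMorphism.ext pullback.condition.symm
  · rintro ⟨w, hw⟩
    exact ⟨Over.homMk (pullback.lift (H ◁ g).left w.left (congrArg (fun z ↦ z.left) hw).symm) (by
      show _ ≫ pullback.fst _ _ ≫ _ = _
      rw [pullback.lift_fst_assoc, Over.w]), Over.OverMorphism.ext (pullback.lift_fst _ _ _)⟩

/-- A group scheme whose unit is a closed immersion is separated. -/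
theorem isSeparated_of_unit (h : IsClosedImmersion (1 : 𝟙_ (Over S) ⟶ G).left) :
    IsSeparated G.hom := by
  let D : G ⊗ G ⟶ G := (snd G G)⁻¹ * fst G G
  have hD : ∀ {T : Over S} (a b : T ⟶ G), lift a b ≫ D = b⁻¹ * a := by
    intro T a b
    simp [D, MonObj.comp_mul, GrpObj.comp_inv]
  have w : (lift (𝟙 G) (𝟙 G)) ≫ D = toUnit G ≫ (1 : 𝟙_ (Over S) ⟶ G) := by
    rw [hD, inv_mul_cancel, MonObj.comp_one]
  have hp : IsPullback (lift (𝟙 G) (𝟙 G)) (toUnit G) D (1 : 𝟙_ (Over S) ⟶ G) := by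
    refine ⟨⟨w⟩, ⟨PullbackCone.IsLimit.mk _ (fun s => s.fst ≫ fst G G) ?_ ?_ ?_⟩⟩
    · intro s
      have hs := s.condition
      rw [← lift_comp_fst_snd s.fst, hD, MonObj.comp_one] at hs
      have : s.fst ≫ fst G G = s.fst ≫ snd G G := (eq_of_inv_mul_eq_one hs).symm
      apply CartesianMonoidalCategory.hom_ext <;> simp [this]
    · intro s; exact toUnit_unique _ _
    · intro s m hm _
      simp [← hm]
  have hl := hp.map (Over.forget _)
  have : IsClosedImmersion ((Over.forget S).map (1 : 𝟙_ (Over S) ⟶ G)) := h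
  have : IsClosedImmersion (lift (𝟙 G) (𝟙 G)).left := MorphismProperty.of_isPullback hl.flip this
  exact ⟨this⟩

/-- Transporter of homomorphisms into a separated smooth group. -/
theorem exists_transporterSep (hH : LocTriv H) (hG : Smooth G.hom) [IsSeparated G.hom]
    (u₁ u₂ : H ⟶ G) [IsMonHom u₁] [IsMonHom u₂] :
    ∃ (T : Over S) (j : T ⟶ G), IsClosedImmersion j.left ∧ Smooth T.hom ∧
      ∀ (X : Over S) (g : X ⟶ G), (∃ t : X ⟶ T, t ≫ j = g) ↔
        ∀ (X' : Over S) (x : X' ⟶ X) (h : X' ⟶ H),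
          (x ≫ g) * (h ≫ u₁) * (x ≫ g)⁻¹ = h ≫ u₂ := by
  obtain ⟨T, j, hj, hjfp, hT⟩ := exists_agreeLocusSep hH (conjFam u₁) (fst H G ≫ u₂)
  haveI := hj
  haveI := hjfp inferInstance
  refine ⟨T, j, hj, smooth_of_lift hG j (fun g ↦ Agree (conjFam u₁) (fst H G ≫ u₂) g) hT
    (fun Y₀ Y _ _ i₀ hsq g h0 ↦ exists_lift_conjG hH hG u₁ u₂ hsq _ h0),
    fun X g ↦ (hT X g).trans (agree_transporter_iff u₁ u₂ g)⟩

/-- Centralizer in a separated smooth group. -/
theorem exists_centralizerSep (hH : LocTriv H) (hG : Smooth G.hom) [IsSeparated G.hom]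
    (u : H ⟶ G) [IsMonHom u] :
    ∃ (Z : Over S) (_ : GrpObj Z) (j : Z ⟶ G), IsMonHom j ∧ Mono j ∧
      (∀ (X : Over S) (g : X ⟶ G), (∃ z : X ⟶ Z, z ≫ j = g) ↔
        ∀ (X' : Over S) (x : X' ⟶ X) (h : X' ⟶ H), (x ≫ g) * (h ≫ u) = (h ≫ u) * (x ≫ g)) ∧
      IsClosedImmersion j.left ∧ Smooth Z.hom := by
  obtain ⟨Z, j, hj, hZ, hiff⟩ := exists_transporterSep hH hG u u
  have hiff' : ∀ (X : Over S) (g : X ⟶ G), (∃ z : X ⟶ Z, z ≫ j = g) ↔
      ∀ (X' : Over S) (x : X' ⟶ X) (h : X' ⟶ H), (x ≫ g) * (h ≫ u) = (h ≫ u) * (x ≫ g) :=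
    fun X g ↦ (hiff X g).trans (forall_congr' fun X' ↦ forall_congr' fun x ↦ forall_congr' fun h ↦
      mul_inv_eq_iff_eq_mul)
  haveI := hj
  haveI : Mono j := (Over.forget S).mono_of_mono_map (inferInstanceAs (Mono j.left))
  have hmem := fun (X : Over S) (z : X ⟶ Z) ↦ (hiff' X (z ≫ j)).mp ⟨z, rfl⟩
  obtain ⟨inst, hmon⟩ := exists_grpObj_of_mono j ((hiff' _ 1).mpr fun X' x h ↦ by
      rw [MonObj.comp_one, _root_.one_mul, _root_.mul_one])
    ((hiff' _ _).mpr fun X' x h ↦ by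
      rw [MonObj.comp_mul]
      have a := hmem _ (fst Z Z) X' x h
      have b := hmem _ (snd Z Z) X' x h
      rw [_root_.mul_assoc, b, ← _root_.mul_assoc, a, _root_.mul_assoc])
    ((hiff' _ _).mpr fun X' x h ↦ by
      rw [GrpObj.comp_inv]
      have a := hmem _ (𝟙 Z) X' x h
      rw [Category.id_comp] at a
      rw [inv_mul_eq_iff_eq_mul, ← _root_.mul_assoc, a, mul_inv_cancel_right])
  exact ⟨Z, inst, j, hmon, inferInstance, hiff', hj, hZ⟩

/-- Transporter of subgroups of multiplicative type which are closed in a smooth group. -/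
theorem exists_subTransporterSep (hH₁ : LocTriv H₁) (hH₂ : LocTriv H₂) (hG : Smooth G.hom)
    (i₁ : H₁ ⟶ G) [IsMonHom i₁] [IsClosedImmersion i₁.left] [LocallyOfFinitePresentation i₁.left]
    (i₂ : H₂ ⟶ G) [IsMonHom i₂] [IsClosedImmersion i₂.left]
    [LocallyOfFinitePresentation i₂.left] :
    ∃ (T : Over S) (j : T ⟶ G), IsClosedImmersion j.left ∧ Smooth T.hom ∧
      ∀ (X : Over S) (g : X ⟶ G), (∃ t : X ⟶ T, t ≫ j = g) ↔ ∀ (X' : Over S) (x : X' ⟶ X),
        (∀ h₁ : X' ⟶ H₁, ∃ h₂ : X' ⟶ H₂, (x ≫ g) * (h₁ ≫ i₁) * (x ≫ g)⁻¹ = h₂ ≫ i₂) ∧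
        (∀ h₂ : X' ⟶ H₂, ∃ h₁ : X' ⟶ H₁, (x ≫ g)⁻¹ * (h₂ ≫ i₂) * (x ≫ g) = h₁ ≫ i₁) := by
  haveI : Mono i₁ := (Over.forget S).mono_of_mono_map (inferInstanceAs (Mono i₁.left))
  haveI : Mono i₂ := (Over.forget S).mono_of_mono_map (inferInstanceAs (Mono i₂.left))
  obtain ⟨A, a, ha, hafp, hA⟩ := exists_factorLocusG hH₁ i₂ (conjFam i₁)
  obtain ⟨B, b, hb, hbfp, hB⟩ := exists_factorLocusG hH₂ i₁ (conjFamInv i₂)
  haveI := ha
  haveI := hb
  haveI := hafp inferInstance
  haveI := hbfp inferInstance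
  let T : Over S := Over.mk (pullback.fst a.left b.left ≫ A.hom)
  let pA : T ⟶ A := Over.homMk (pullback.fst a.left b.left) rfl
  let pB : T ⟶ B := Over.homMk (pullback.snd a.left b.left) (by
    show _ = pullback.fst a.left b.left ≫ A.hom
    rw [← Over.w a, pullback.condition_assoc, Over.w b])
  let j : T ⟶ G := pA ≫ a
  haveI hj : IsClosedImmersion j.left :=
    inferInstanceAs (IsClosedImmersion (pullback.fst a.left b.left ≫ a.left))
  haveI : LocallyOfFinitePresentation j.left :=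
    inferInstanceAs (LocallyOfFinitePresentation (pullback.fst a.left b.left ≫ a.left))
  have hT : ∀ (X : Over S) (g : X ⟶ G), (∃ t : X ⟶ T, t ≫ j = g) ↔
      Factors i₂ (conjFam i₁) g ∧ Factors i₁ (conjFamInv i₂) g := fun X g ↦ by
    constructor
    · rintro ⟨t, rfl⟩
      refine ⟨(hA X _).mp ⟨t ≫ pA, Category.assoc _ _ _⟩, (hB X _).mp ⟨t ≫ pB, ?_⟩⟩
      rw [Category.assoc]
      congr 1
      exact Over.OverMorphism.ext pullback.condition.symm
    · rintro ⟨h1, h2⟩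
      obtain ⟨x, hx⟩ := (hA X g).mpr h1
      obtain ⟨y, hy⟩ := (hB X g).mpr h2
      exact ⟨Over.homMk (pullback.lift x.left y.left
          (congrArg (fun z ↦ z.left) (hx.trans hy.symm))) (by
          show _ ≫ pullback.fst a.left b.left ≫ A.hom = _
          rw [pullback.lift_fst_assoc, Over.w x]),
        Over.OverMorphism.ext (by
          show pullback.lift _ _ _ ≫ pullback.fst a.left b.left ≫ a.left = g.left
          rw [pullback.lift_fst_assoc, ← Over.comp_left, hx])⟩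
  refine ⟨T, j, hj, smooth_of_lift hG j
    (fun g ↦ Factors i₂ (conjFam i₁) g ∧ Factors i₁ (conjFamInv i₂) g) hT
    (fun Y₀ Y _ _ i₀ hsq g h0 ↦
      exists_lift_subTransporterG hH₁ hH₂ i₁ i₂ hsq g h0.1 h0.2), fun X g ↦ (hT X g).trans ?_⟩
  rw [factors_conj_iff, factors_conjInv_iff]
  exact ⟨fun h X' x ↦ ⟨h.1 X' x, h.2 X' x⟩, fun h ↦ ⟨fun X' x ↦ (h X' x).1, fun X' x ↦ (h X' x).2⟩⟩

/-- Normalizer of a closed subgroup of multiplicative type. -/
theorem exists_normalizerSep (hH₁ : LocTriv H₁) (hG : Smooth G.hom)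
    (i : H₁ ⟶ G) [IsMonHom i] [IsClosedImmersion i.left] [LocallyOfFinitePresentation i.left] :
    ∃ (N : Over S) (_ : GrpObj N) (j : N ⟶ G), Red.IsNormalizerOf i j ∧
      IsClosedImmersion j.left ∧ Smooth N.hom := by
  obtain ⟨N, j, hj, hN, hiff⟩ := exists_subTransporterSep hH₁ hH₁ hG i i
  have hiff' : ∀ (X : Over S) (g : X ⟶ G), (∃ z : X ⟶ N, z ≫ j = g) ↔
      ∀ (X' : Over S) (x : X' ⟶ X) (h : X' ⟶ H₁),
        (∃ h' : X' ⟶ H₁, (x ≫ g) * (h ≫ i) * (x ≫ g)⁻¹ = h' ≫ i) ∧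
        (∃ h' : X' ⟶ H₁, (x ≫ g)⁻¹ * (h ≫ i) * (x ≫ g) = h' ≫ i) := fun X g ↦
    (hiff X g).trans (forall_congr' fun X' ↦ forall_congr' fun x ↦ forall_and.symm)
  haveI := hj
  haveI : Mono j := (Over.forget S).mono_of_mono_map (inferInstanceAs (Mono j.left))
  have hmem := fun (X : Over S) (z : X ⟶ N) ↦ (hiff' X (z ≫ j)).mp ⟨z, rfl⟩
  obtain ⟨inst, hmon⟩ := exists_grpObj_of_mono j ((hiff' _ 1).mpr fun X' x h ↦ by
      simp only [MonObj.comp_one, _root_.one_mul, inv_one, _root_.mul_one]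
      exact ⟨⟨h, rfl⟩, ⟨h, rfl⟩⟩)
    ((hiff' _ _).mpr fun X' x h ↦ by
      rw [MonObj.comp_mul]
      obtain ⟨p1, hp1⟩ := (hmem _ (snd N N) X' x h).1
      obtain ⟨p2, hp2⟩ := (hmem _ (fst N N) X' x p1).1
      obtain ⟨q1, hq1⟩ := (hmem _ (fst N N) X' x h).2
      obtain ⟨q2, hq2⟩ := (hmem _ (snd N N) X' x q1).2
      refine ⟨⟨p2, ?_⟩, ⟨q2, ?_⟩⟩
      · rw [← hp2, ← hp1]; group
      · rw [← hq2, ← hq1]; group)
    ((hiff' _ _).mpr fun X' x h ↦ by
      rw [GrpObj.comp_inv, inv_inv]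
      have := hmem _ (𝟙 N) X' x h
      rw [Category.id_comp] at this
      exact ⟨this.2, this.1⟩)
  exact ⟨N, inst, j, ⟨hmon, inferInstance, hiff'⟩, hj, hN⟩

omit [GrpObj G] in
/-- A closed subscheme of a smooth scheme with the infinitesimal lifting property is smooth. -/
theorem smooth_of_liftX (hX : Smooth X.hom) {T : Over S} (j : T ⟶ X) [IsClosedImmersion j.left]
    [LocallyOfFinitePresentation j.left] (P : ∀ {Y : Over S}, (Y ⟶ X) → Prop)
    (hP : ∀ (Y : Over S) (g : Y ⟶ X), (∃ t : Y ⟶ T, t ≫ j = g) ↔ P g)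
    (hlift : ∀ (Y₀ Y : Over S) [IsAffine Y₀.left] [IsAffine Y.left] (i₀ : Y₀ ⟶ Y), SqZero i₀ →
      ∀ g₀ : Y₀ ⟶ X, P g₀ → ∃ g : Y ⟶ X, i₀ ≫ g = g₀ ∧ P g) :
    Smooth T.hom := by
  haveI := hX
  haveI : LocallyOfFinitePresentation T.hom := by rw [← Over.w j]; infer_instance
  refine smooth_of_isFormallySmoothHom _ fun A _ I hI a b w ↦ ?_
  obtain ⟨i₀, hi₀, hsq⟩ := exists_sqZero A I hI b
  let a₀ : (Over.mk (Spec.map (CommRingCat.ofHom (Ideal.Quotient.mk I)) ≫ b) : Over S) ⟶ T :=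
    Over.homMk a w.symm
  haveI : IsAffine (Over.mk b : Over S).left := inferInstanceAs (IsAffine (Spec _))
  haveI : IsAffine (Over.mk (Spec.map (CommRingCat.ofHom (Ideal.Quotient.mk I)) ≫ b) : Over S).left :=
    inferInstanceAs (IsAffine (Spec _))
  obtain ⟨g', hg', hPg'⟩ := hlift _ _ i₀ hsq (a₀ ≫ j) ((hP _ _).mp ⟨a₀, rfl⟩)
  obtain ⟨z, hz⟩ := (hP _ g').mpr hPg'
  haveI : Mono j := (Over.forget S).mono_of_mono_map (inferInstanceAs (Mono j.left))
  refine ⟨z.left, ?_, Over.w z⟩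
  have e : i₀ ≫ z = a₀ := by rw [← cancel_mono j, Category.assoc, hz, hg']
  exact (congrArg (· ≫ z.left) hi₀.symm).trans (congrArg (fun z ↦ z.left) e)

omit [GrpObj G] in
/-- Fixed points lift along ideals of square zero. -/
theorem exists_lift_fixed (hH : LocTriv H) (hX : Smooth X.hom) (a : AlgGrp.Action H X)
    {Y Y₀ : Over S} [IsAffine Y.left] [IsAffine Y₀.left] {i₀ : Y₀ ⟶ Y} (hs : SqZero i₀)
    (x₀ : Y₀ ⟶ X) (h0 : (H ◁ x₀) ≫ a.act = snd H Y₀ ≫ x₀) :
    ∃ x : Y ⟶ X, i₀ ≫ x = x₀ ∧ (H ◁ x) ≫ a.act = snd H Y ≫ x := by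
  obtain ⟨x, hx⟩ := exists_lift_smooth hX hs x₀
  subst hx
  let d : H ⊗ Y ⟶ X := (H ◁ x) ≫ a.act
  have hd0 : (H ◁ i₀) ≫ d = snd H Y₀ ≫ i₀ ≫ x := by
    rw [← h0, whiskerLeft_comp, Category.assoc]
  have hd : Congr i₀ d := by
    unfold Congr
    rw [hd0]
    congr 1
    rw [← ev1_whisker, ev1, hd0, lift_snd_assoc, Category.id_comp]
  obtain ⟨k, hk⟩ := exists_isAvgG hH hs hd
  refine ⟨k, ?_, ?_⟩
  · have hid : SqZero (𝟙 Y₀) := ⟨fun z ↦ ⟨z, by simp⟩,
      le_bot_iff.mp (Ideal.mul_le.mpr fun r hr s _ ↦ by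
        have : r = 0 := by simpa using hr
        simp [this])⟩
    have h1 := hk.restrict i₀
    rw [hd0] at h1
    exact h1.unique hid (Congr.const _) (isAvgG_const _)
  haveI := isAffine_prod hH.1 Y
  obtain ⟨P₀, _, i₁, t, hs₁, -, hc⟩ := exists_restrict_congr (H := H) hs (snd H Y)
  have h1 := hk.restrict (snd H Y)
  have hc2 : Congr i₁ (snd H (H ⊗ Y) ≫ fst H Y) := Congr.const _
  have h2 : IsAvgG hH (snd H (H ⊗ Y) ≫ fst H Y) (fst H Y) := isAvgG_const _
  have hΦ := hc2.lift (hc d hd)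
  have h3 := (h2.lift hs₁ hc2 (hc d hd) h1).comp hs₁ hΦ a.act
  have e : lift (snd H (H ⊗ Y) ≫ fst H Y) ((H ◁ snd H Y) ≫ d) ≫ a.act =
      Triv.th (fst H Y) ≫ (H ◁ snd H Y) ≫ d := by
    have hval : ∀ {Z : Over S} (h : Z ⟶ H) (y : Z ⟶ Y), lift h y ≫ d = lift h (y ≫ x) ≫ a.act :=
      fun h y ↦ by simp only [d, lift_whiskerLeft_assoc]
    have e1 : (H ◁ snd H Y : H ⊗ (H ⊗ Y) ⟶ H ⊗ Y) =
        lift (fst H (H ⊗ Y)) (snd H (H ⊗ Y) ≫ snd H Y) := by
      ext1 <;> simp
    have e2 : Triv.th (fst H Y) ≫ (H ◁ snd H Y) =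
        lift ((snd H (H ⊗ Y) ≫ fst H Y) * fst H (H ⊗ Y)) (snd H (H ⊗ Y) ≫ snd H Y) := by
      rw [Triv.th, lift_whiskerLeft]
    rw [← Category.assoc (Triv.th _), e2, e1, hval, hval]
    exact Groth.Reductive.FreeDiag.act_assoc a _ _ _
  rw [e] at h3
  have h4 := h3.unique hs₁ (e ▸ hΦ.comp a.act) (h1.th (fst H Y))
  rw [show H ◁ k = lift (fst H Y) (snd H Y ≫ k) by ext1 <;> simp]
  exact h4

omit [GrpObj G] in
lemma fixed_iff (a : AlgGrp.Action H X) {T : Over S} (x : T ⟶ X) :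
    (H ◁ x) ≫ a.act = snd H T ≫ x ↔
      ∀ (T' : Over S) (t : T' ⟶ T) (g : T' ⟶ H), lift g (t ≫ x) ≫ a.act = t ≫ x := by
  constructor
  · intro h T' t g
    have e := congrArg (fun z ↦ lift g t ≫ z) h
    simp only [lift_whiskerLeft_assoc, lift_snd_assoc] at e
    exact e
  · intro h
    rw [show H ◁ x = lift (fst H T) (snd H T ≫ x) by ext1 <;> simp]
    exact h _ (snd H T) (fst H T)

omit [GrpObj G] in
/-- The scheme of fixed points in a smooth separated scheme is closed and smooth. -/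
theorem exists_fixedLocus (hH : LocTriv H) (hX : Smooth X.hom) [IsSeparated X.hom]
    (a : AlgGrp.Action H X) :
    ∃ (C : Over S) (j : C ⟶ X), IsClosedImmersion j.left ∧ Smooth C.hom ∧
      ∀ (T : Over S) (x : T ⟶ X), (∃ z : T ⟶ C, z ≫ j = x) ↔
        ∀ (T' : Over S) (t : T' ⟶ T) (g : T' ⟶ H), lift g (t ≫ x) ≫ a.act = t ≫ x := by
  haveI := hX
  obtain ⟨C, j, hj, hjfp, hC⟩ := exists_agreeLocusSep hH a.act (snd H X)
  have hC' : ∀ (T : Over S) (x : T ⟶ X), (∃ z : T ⟶ C, z ≫ j = x) ↔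
      (H ◁ x) ≫ a.act = snd H T ≫ x := fun T x ↦ by rw [hC, whiskerLeft_snd]
  haveI := hj
  haveI := hjfp inferInstance
  exact ⟨C, j, hj, smooth_of_liftX hX j (fun x ↦ (H ◁ x) ≫ a.act = snd H _ ≫ x) hC'
    (fun _ _ _ _ _ hs x₀ h0 ↦ exists_lift_fixed hH hX a hs x₀ h0),
    fun T x ↦ (hC' T x).trans (fixed_iff a x)⟩

end Groth.Reductive.MTInt
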