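import Groth.Agent.Reductive.MultTypeHom

/-!
Tori are groups of multiplicative type; isomorphisms of groups of multiplicative type are detected
on geometric fibres.
-/

set_option autoImplicit false
universe u

open CategoryTheory MonoidalCategory CartesianMonoidalCategory MonObj GrpObj AlgebraicGeometry

noncomputable section

namespace Groth.Reductive.FreeDiag

/-- A torus is of multiplicative type and of finite type. -/
theorem isMultTypeFT_of_isTorus {S : Scheme.{u}} {T : Over S} [GrpObj T] (h : Red.IsTorus T) :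
    SGA3x.IsMultTypeFT T := by
  obtain ⟨S', f, hflat, hsurj, hqc, hloc⟩ := h
  refine ⟨S', f, hflat, hsurj, hqc, fun x ↦ ?_⟩
  obtain ⟨U, hx, r, he⟩ := hloc x
  exact ⟨U, hx, Fin r → ℤ, inferInstance, Module.Finite.iff_addGroup_fg.mp inferInstance, he⟩

section Field

variable {K : Type u} [Field K] {M N : Type} [AddCommGroup M] [AddCommGroup N]

/-- Over a field every homomorphism of diagonalisable groups is given by a map of characters. -/
theorem exists_dsHom_eq (φ : Red.DS (Spec (CommRingCat.of K)) M ⟶ Red.DS _ N) [IsMonHom φ] :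
    ∃ a : N →+ M, φ = dsHom a := by
  let B := Spec (CommRingCat.of K)
  let Y : Over B := 𝟙_ (Over B)
  haveI : IsAffine Y.left := inferInstanceAs (IsAffine B)
  obtain ⟨a, ha⟩ := exists_constFam_of_field (Y := Y)
    ((Scheme.ΓSpecIso (CommRingCat.of K)).commRingCatIsoToRingEquiv.toMulEquiv.isField
      (Field.toIsField _)) (fst _ Y ≫ φ) (fun Z h h' y ↦ by
        simp only [lift_fst_assoc]
        exact MonObj.mul_comp h h' φ)
  refine ⟨a, ?_⟩
  have e := lift (𝟙 (Red.DS B M)) (toUnit _) ≫= ha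
  rw [lift_fst_assoc, Category.id_comp] at e
  rw [e]
  exact dsVal_ext fun n ↦ by
    rw [lift_constFam, ← Category.id_comp (dsHom a), dsVal_dsHom]

/-- A monomorphism of split tori of the same rank over a field is an isomorphism. -/
theorem isIso_of_mono_of_split {T T' : Over (Spec (CommRingCat.of K))} [GrpObj T] [GrpObj T']
    {r : ℕ} (e : Grp.mk T ≅ Grp.mk (Red.DS _ (Fin r → ℤ)))
    (e' : Grp.mk T' ≅ Grp.mk (Red.DS _ (Fin r → ℤ))) (f : T ⟶ T') [IsMonHom f] [Mono f] :
    IsIso f.left := by
  let i : T ≅ Red.DS _ (Fin r → ℤ) := ⟨e.hom.hom.hom, e.inv.hom.hom,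
    congrArg (fun z ↦ z.hom.hom) e.hom_inv_id, congrArg (fun z ↦ z.hom.hom) e.inv_hom_id⟩
  let i' : T' ≅ Red.DS _ (Fin r → ℤ) := ⟨e'.hom.hom.hom, e'.inv.hom.hom,
    congrArg (fun z ↦ z.hom.hom) e'.hom_inv_id, congrArg (fun z ↦ z.hom.hom) e'.inv_hom_id⟩
  haveI : IsMonHom i.inv := inferInstanceAs (IsMonHom e.inv.hom.hom)
  haveI : IsMonHom i'.hom := inferInstanceAs (IsMonHom e'.hom.hom.hom)
  obtain ⟨a, ha⟩ := exists_dsHom_eq (i.inv ≫ f ≫ i'.hom)
  haveI : Mono (dsHom (T := Spec (CommRingCat.of K)) a).left := by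
    rw [← ha]
    haveI : Mono (i.inv ≫ f ≫ i'.hom) := inferInstance
    exact (Over.forget (Spec (CommRingCat.of K))).map_mono (i.inv ≫ f ≫ i'.hom)
  have hs := surjective_of_mono_dsHom (K := K) a
  haveI := isIso_dsHom (T := Spec (CommRingCat.of K)) a
    ⟨OrzechProperty.injective_of_surjective_endomorphism a.toIntLinearMap hs, hs⟩
  haveI : IsIso ((Over.forget _).map (dsHom (T := Spec (CommRingCat.of K)) a)) :=
    inferInstanceAs (IsIso (dsHom (T := Spec (CommRingCat.of K)) a).left)
  haveI : IsIso (dsHom (T := Spec (CommRingCat.of K)) a) := isIso_of_reflects_iso _ (Over.forget _)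
  have hf : f = i.hom ≫ dsHom a ≫ i'.inv := by
    rw [← ha]; simp
  rw [hf]
  exact (Over.forget _).map_isIso (i.hom ≫ dsHom a ≫ i'.inv)

end Field

/-- A homomorphism of groups of multiplicative type is an isomorphism if it is one on every
geometric fibre. -/
theorem isIso_of_fibres {S : Scheme.{u}} {G H : Over S} [GrpObj G] [GrpObj H]
    (hG : SGA3x.IsMultTypeFT G) (hH : SGA3x.IsMultTypeFT H) (w : G ⟶ H) [IsMonHom w]
    (h : ∀ s : S, IsIso ((Over.pullback (Red.geomPt s)).map w).left) : IsIso w := by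
  obtain ⟨U, -, hU, hUiso⟩ := exists_clopen_prop (MorphismProperty.isomorphisms Scheme.{u})
    (fun f ↦ Function.Bijective f) (fun f hf ↦ isIso_dsHom f hf)
    (fun {K} _ {M N} _ _ f (hf : IsIso _) ↦
      ⟨injective_of_epi_dsHom (K := K) f, surjective_of_mono_dsHom (K := K) f⟩) hG hH w
  have htop : U = ⊤ := top_unique fun s _ ↦ (hU s).mpr (by
    have e := prop_map_fieldPoint_iff w (MorphismProperty.isomorphisms Scheme.{u})
      (AlgebraicClosure (S.residueField s)) (Red.geomPt s)
    have e' : (Red.geomPt s).base (IsLocalRing.closedPoint _) = s := by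
      rw [Scheme.Hom.comp_apply, Scheme.fromSpecResidueField_apply]
    rw [e'] at e
    exact e.mp (h s))
  subst htop
  haveI : IsIso ((Over.pullback (⊤ : S.Opens).ι).map w).left := hUiso
  haveI : IsIso (⊤ : S.Opens).ι := by rw [← Scheme.topIso_hom]; infer_instance
  have sq := isPullback_map_left w (⊤ : S.Opens).ι
  haveI : IsIso (Limits.pullback.fst G.hom (⊤ : S.Opens).ι ≫ w.left) := by
    rw [sq.w]; infer_instance
  haveI : IsIso ((Over.forget S).map w) :=
    IsIso.of_isIso_comp_left (Limits.pullback.fst G.hom (⊤ : S.Opens).ι) w.left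
  exact isIso_of_reflects_iso w (Over.forget S)

end Groth.Reductive.FreeDiag
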