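import Groth.Agent.Reductive.TrivialLocus
import Groth.Agent.DescentBase.Descends

/-!
Groups of multiplicative type are commutative, separated and of finite presentation.
-/

set_option autoImplicit false
universe u

open CategoryTheory MonoidalCategory CartesianMonoidalCategory MonObj GrpObj AlgebraicGeometry

noncomputable section

namespace Groth.Reductive.FreeDiag

attribute [local instance] algΓ'

variable {S : Scheme.{u}}

/-- Groups of multiplicative type are commutative. -/
theorem comm_of_multTypeFT {H : Over S} [GrpObj H] (hH : SGA3x.IsMultTypeFT H) (X : Over S)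
    (a b : X ⟶ H) : a * b = b * a := by
  obtain ⟨S', f, hflat, hsurj, -, hloc⟩ := hH
  haveI := hflat
  haveI := hsurj
  refine Over.OverMorphism.ext ?_
  let k := Limits.pullback.fst X.hom f
  haveI : Flat k := MorphismProperty.pullback_fst _ _ ‹_›
  haveI : Surjective k := MorphismProperty.pullback_fst _ _ ‹_›
  haveI : Epi k := Flat.epi_of_flat_of_surjective k
  refine (cancel_epi k).mp ?_
  choose U hxU M hM hMfg e using hloc
  let 𝒰 : S'.OpenCover := Scheme.openCoverOfIsOpenCover _ U
    (.mk (top_unique fun x _ ↦ TopologicalSpace.Opens.mem_iSup.mpr ⟨x, hxU x⟩))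
  refine Scheme.Cover.hom_ext (𝒰.pullback₁ (Limits.pullback.snd X.hom f)) _ _ ?_
  show ∀ x : S', _
  intro x
  show Limits.pullback.fst (Limits.pullback.snd X.hom f) (U x).ι ≫ _ =
    Limits.pullback.fst (Limits.pullback.snd X.hom f) (U x).ι ≫ _
  obtain ⟨e⟩ := e x
  let g := (U x).ι ≫ f
  let c := Limits.pullback.fst (Limits.pullback.snd X.hom f) (U x).ι
  let Y : Over (U x : Scheme.{u}) :=
    Over.mk (Limits.pullback.snd (Limits.pullback.snd X.hom f) (U x).ι)
  let w : (Over.map g).obj Y ⟶ X := Over.homMk (c ≫ k) (by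
    show (c ≫ k) ≫ X.hom = _ ≫ (U x).ι ≫ f
    rw [Category.assoc, Limits.pullback.condition]
    exact Limits.pullback.condition_assoc _)
  let E := bcPointEquiv g H Y
  have key : ∀ p q : Y ⟶ Red.bc g H, p * q = q * p := fun p q ↦ by
    have inj : Function.Injective fun z : Y ⟶ Red.bc g H ↦ z ≫ e.hom.hom.hom := fun z z' h ↦ by
      have := congrArg (fun t ↦ t ≫ e.inv.hom.hom) h
      simp only [Category.assoc] at this
      rwa [show e.hom.hom.hom ≫ e.inv.hom.hom = 𝟙 (Red.bc g H) from
        congrArg (fun z ↦ z.hom.hom) e.hom_inv_id, Category.comp_id, Category.comp_id] at this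
    haveI : IsMonHom e.hom.hom.hom := e.hom.hom.isMonHom_hom
    apply inj
    show (p * q) ≫ _ = (q * p) ≫ _
    refine (MonObj.mul_comp p q e.hom.hom.hom).trans (Eq.trans ?_ (MonObj.mul_comp q p e.hom.hom.hom).symm)
    exact dsVal_ext fun m ↦ by rw [dsVal_mul, dsVal_mul, mul_comm]
  have h1 := key (E.symm (w ≫ a)) (E.symm (w ≫ b))
  rw [← map_mul, ← map_mul, E.symm.injective.eq_iff, ← MonObj.comp_mul, ← MonObj.comp_mul] at h1
  have h2 := congrArg (fun z ↦ z.left) h1
  simp only [Over.comp_left, w, Over.homMk_left, Category.assoc] at h2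
  exact h2

end Groth.Reductive.FreeDiag
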