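import Groth.Agent.Reductive.TrivialAction
import Groth.Prelude.Def_SGA3x
import Groth.Prelude.Def_TwC
import Groth.Agent.DescentBase.Descends
import Mathlib.AlgebraicGeometry.Morphisms.ClosedImmersion

/-!
An action of a group of multiplicative type which is trivial modulo a locally nilpotent ideal is
trivial.
-/

set_option autoImplicit false
universe u

open CategoryTheory MonoidalCategory CartesianMonoidalCategory MonObj GrpObj AlgebraicGeometry

noncomputable section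

namespace Groth.Reductive.FreeDiag

attribute [local instance] algΓ'

variable {S : Scheme.{u}}

/-- Killing the ideal of a closed immersion between affine schemes, one factors through it. -/
lemma exists_lift_of_appTop_ker {Z U₀ U : Scheme.{u}} (i : U₀ ⟶ U) [IsClosedImmersion i] [IsAffine U]
    (g : Z ⟶ U) (h : ∀ r, i.appTop r = 0 → g.appTop r = 0) : ∃ l : Z ⟶ U₀, l ≫ i = g := by
  haveI : IsAffine U₀ := isAffine_of_isAffineHom i
  let φ : Γ(U₀, ⊤) →+* Γ(Z, ⊤) :=
    i.appTop.hom.liftOfSurjective (i.app_surjective ⊤ (isAffineOpen_top U))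
      ⟨g.appTop.hom, fun r hr ↦ h r hr⟩
  refine ⟨Z.toSpecΓ ≫ Spec.map (CommRingCat.ofHom φ) ≫ U₀.isoSpec.inv, ?_⟩
  have hφ : i.appTop ≫ CommRingCat.ofHom φ = g.appTop :=
    CommRingCat.hom_ext (RingHom.liftOfSurjective_comp _ _ _)
  rw [Category.assoc, Category.assoc, ← Scheme.isoSpec_inv_naturality, ← Spec.map_comp_assoc, hφ,
    ← Scheme.toSpecΓ_naturality_assoc]
  simp [← Scheme.isoSpec_hom]

variable {G X : Over S} [GrpObj G]

lemma act_one' (a : AlgGrp.Action G X) {Z : Over S} (x : Z ⟶ X) : lift 1 x ≫ a.act = x := by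
  have h := lift (toUnit Z) x ≫= a.one_act
  rw [lift_whiskerRight_assoc, lift_leftUnitor_hom] at h
  rwa [← Hom.one_def] at h

/-- Over an affine chart on which the group is diagonalisable, the action is trivial. -/
theorem pullback_act_eq {T : Scheme.{u}} [IsAffine T] (g : T ⟶ S) (a : AlgGrp.Action G X)
    {M : Type} [AddCommGroup M] (i : Red.DS T M ≅ Red.bc g G) [IsMonHom i.hom]
    (I : Ideal Γ(T, ⊤)) (hI : IsNilpotent I)
    (h0 : ∀ Z : Over T, (∀ r ∈ I, Z.hom.appTop r = 0) →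
      ∀ (x : (Over.map g).obj Z ⟶ G) (y : (Over.map g).obj Z ⟶ X), lift x y ≫ a.act = y) :
    (Over.pullback g).map a.act = (Over.pullback g).map (snd G X) := by
  let F := Over.pullback g
  let act' : Red.DS T M ⊗ F.obj X ⟶ F.obj X :=
    pLift g (fst (Red.DS T M) (F.obj X) ≫ i.hom) (snd (Red.DS T M) (F.obj X)) ≫ F.map a.act
  have hact : ∀ (Z : Over T) (h : Z ⟶ Red.DS T M) (y : Z ⟶ F.obj X),
      lift h y ≫ act' = pLift g (h ≫ i.hom) y ≫ F.map a.act := fun Z h y ↦ by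
    rw [← Category.assoc]
    congr 1
    refine pullback_hom_ext g ?_ ?_
    · rw [Category.assoc, pLift_fst, pLift_fst, lift_fst_assoc]
    · rw [Category.assoc, pLift_snd, pLift_snd, lift_snd]
  have hq : ∀ (Z : Over T) (h : Z ⟶ Red.DS T M) (y : Z ⟶ F.obj X),
      qPt g (lift h y ≫ act') = lift (bcPointEquiv g G Z (h ≫ i.hom)) (qPt g y) ≫ a.act :=
    fun Z h y ↦ by rw [hact, qPt_map, qPt_pLift]; rfl
  have hsnd : act' = snd (Red.DS T M) (F.obj X) := by
    refine eq_snd_of_diag act' ?_ ?_ I hI ?_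
    · intro Z h h' y
      apply qPt_injective g
      rw [hq, hq, hq, act_assoc, ← map_mul, MonObj.mul_comp]
    · intro Z y
      apply qPt_injective g
      rw [hq, MonObj.one_comp, map_one, act_one']
    · intro Z hZ h y
      apply qPt_injective g
      rw [hq, h0 Z hZ]
  let P := F.obj (G ⊗ X)
  have key : pLift g ((F.map (fst G X) ≫ i.inv) ≫ i.hom) (F.map (snd G X)) = 𝟙 P := by
    refine pullback_hom_ext g ?_ ?_
    · rw [pLift_fst, Category.assoc, Iso.inv_hom_id, Category.comp_id]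
      exact (Category.id_comp _).symm
    · rw [pLift_snd]
      exact (Category.id_comp _).symm
  have h := hact P (F.map (fst G X) ≫ i.inv) (F.map (snd G X))
  rw [hsnd, lift_snd, key, Category.id_comp] at h
  exact h.symm

open Limits in
/-- An action of a group of multiplicative type which is trivial modulo a locally nilpotent ideal is
trivial. -/
theorem action_eq_snd {S₀ : Scheme.{u}} (i₀ : S₀ ⟶ S) [IsClosedImmersion i₀]
    (hnil : ∀ x : S, ∃ U : S.affineOpens, x ∈ (U : S.Opens) ∧ IsNilpotent (i₀.ker.ideal U))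
    (hG : TwC.Locally S TwC.Topology.fpqc (fun S' f => ∃ (M : Type) (_ : AddCommGroup M),
      Nonempty (Grp.mk (Red.bc f G) ≅ Grp.mk (Red.DS S' M))))
    (a : AlgGrp.Action G X)
    (h0 : ∀ (Y : Over S) (_ : Y ⟶ Over.mk i₀) (g : Y ⟶ G) (x : Y ⟶ X), lift g x ≫ a.act = x) :
    a.act = snd G X := by
  obtain ⟨S', f, hflat, -, hqc, hloc⟩ := hG
  choose U hxU hUnil using hnil
  let 𝒰 : S.OpenCover := Scheme.openCoverOfIsOpenCover _ (fun x ↦ ((U x : S.affineOpens) : S.Opens))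
    (.mk (top_unique fun x _ ↦ TopologicalSpace.Opens.mem_iSup.mpr ⟨x, hxU x⟩))
  refine Over.OverMorphism.ext (Scheme.Cover.hom_ext (𝒰.pullback₁ (G ⊗ X).hom) _ _ fun x ↦ ?_)
  let V := ((U x : S.affineOpens) : S.Opens)
  haveI : IsAffine (V : Scheme.{u}) := (U x).2
  show pullback.fst (G ⊗ X).hom V.ι ≫ _ = pullback.fst (G ⊗ X).hom V.ι ≫ _
  obtain ⟨W, hWc, hW⟩ := hqc V (U x).2
  have hle : Set.range (W.ι ≫ f) ⊆ Set.range V.ι := by
    rintro _ ⟨w, rfl⟩
    rw [Scheme.Opens.range_ι]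
    exact hW.subset ⟨w.1, w.2, rfl⟩
  let g := IsOpenImmersion.lift V.ι (W.ι ≫ f) hle
  have hg : g ≫ V.ι = W.ι ≫ f := IsOpenImmersion.lift_fac _ _ _
  have : Surjective g := by
    refine ⟨fun v ↦ ?_⟩
    obtain ⟨w, hw, e⟩ := hW.superset v.2
    refine ⟨⟨w, hw⟩, V.ι.isOpenEmbedding.injective ?_⟩
    rw [← Scheme.Hom.comp_apply, hg]
    exact e
  have : Flat g := by
    haveI := hflat
    haveI : Flat (g ≫ V.ι) := by rw [hg]; infer_instance
    exact MorphismProperty.of_postcomp (W := @Flat) (W' := @IsOpenImmersion) g V.ι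
      inferInstance inferInstance
  let k := pullback.fst (pullback.snd (G ⊗ X).hom V.ι) g
  haveI : Surjective k := MorphismProperty.pullback_fst _ _ ‹_›
  haveI : Flat k := MorphismProperty.pullback_fst _ _ ‹_›
  haveI : Epi k := Flat.epi_of_flat_of_surjective k
  rw [← cancel_epi k]
  -- locally on the cover
  have hA : ∀ w : (W : Scheme.{u}), ∃ (T : Scheme.{u}) (t : T ⟶ W), IsOpenImmersion t ∧ IsAffine T ∧
      w ∈ Set.range t ∧ ∃ (M : Type) (_ : AddCommGroup M)
        (i : Red.DS T M ≅ Red.bc (t ≫ W.ι ≫ f) G), IsMonHom i.hom := by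
    intro w
    obtain ⟨U', hwU, M, _, ⟨e⟩⟩ := hloc w.1
    obtain ⟨V', hV, hwV, hVU⟩ := exists_isAffineOpen_mem_and_subset (x := (w.1 : S')) (U := W ⊓ U')
      ⟨w.2, hwU⟩
    refine ⟨V', S'.homOfLE (hVU.trans inf_le_left), inferInstance, hV, ⟨⟨w.1, hwV⟩, ?_⟩, M, ‹_›, ?_⟩
    · exact Subtype.ext (by simp)
    · let e' : Red.DS (U' : Scheme.{u}) M ≅ Red.bc (U'.ι ≫ f) G :=
        ⟨e.inv.hom.hom, e.hom.hom.hom, congrArg (fun z ↦ z.hom.hom) e.inv_hom_id,
          congrArg (fun z ↦ z.hom.hom) e.hom_inv_id⟩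
      haveI : IsMonHom e'.hom := inferInstanceAs (IsMonHom e.inv.hom.hom)
      obtain ⟨i, hi⟩ := exists_trivialisation_comp G (S'.homOfLE (hVU.trans inf_le_right)) (U'.ι ≫ f)
        e'
      revert i hi
      rw [Scheme.homOfLE_ι_assoc, Scheme.homOfLE_ι_assoc]
      intro i hi
      exact ⟨i, hi⟩
  choose T t ht hTaff hwt M hM i hi using hA
  let 𝒲 : (W : Scheme.{u}).OpenCover := Scheme.Cover.mkOfCovers (W : Scheme.{u}) T t
    (fun w ↦ ⟨w, hwt w⟩) ht
  refine Scheme.Cover.hom_ext (𝒲.pullback₁ (pullback.snd (pullback.snd (G ⊗ X).hom V.ι) g)) _ _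
    fun w ↦ ?_
  show pullback.fst _ (t w) ≫ _ = pullback.fst _ (t w) ≫ _
  haveI := hTaff w
  haveI := hi w
  let J := RingHom.ker (i₀ ∣_ V).appTop.hom
  have hJ : IsNilpotent J := by
    obtain ⟨n, hn⟩ := hUnil x
    refine ⟨n, ?_⟩
    have h1 : J ≤ (i₀.ker.ideal (U x)).comap V.topIso.hom.hom := fun r hr ↦ by
      rw [Ideal.mem_comap, Scheme.Hom.ker_apply, RingHom.mem_ker]
      have hr' : (i₀ ∣_ V).appTop r = 0 := hr
      rw [morphismRestrict_appTop] at hr'
      change (S₀.presheaf.map _) (i₀.app (V.ι ''ᵁ ⊤) r) = 0 at hr'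
      have h2 : i₀.app (V.ι ''ᵁ ⊤) r = 0 :=
        (ConcreteCategory.bijective_of_isIso
          (S₀.presheaf.map (eqToHom (image_morphismRestrict_preimage i₀ V ⊤)).op)).1
          (hr'.trans (map_zero _).symm)
      show (V.topIso.hom ≫ i₀.app V) r = 0
      refine (ConcreteCategory.congr_hom (i₀.naturality _) r).trans ?_
      show (S₀.presheaf.map _) (i₀.app (V.ι ''ᵁ ⊤) r) = 0
      rw [h2, map_zero]
    refine le_bot_iff.mp (le_trans (Ideal.pow_right_mono h1 n) ?_)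
    refine le_trans (Ideal.le_comap_pow _ n) ?_
    rw [hn, Ideal.zero_eq_bot]
    exact (RingHom.injective_iff_ker_eq_bot V.topIso.hom.hom).mp
      (ConcreteCategory.bijective_of_isIso V.topIso.hom).1 |>.le
  let I : Ideal Γ(T w, ⊤) := J.map (t w ≫ g).appTop.hom
  have hI : IsNilpotent I := by
    obtain ⟨n, hn⟩ := hJ
    exact ⟨n, by rw [← Ideal.map_pow, hn, Ideal.zero_eq_bot, Ideal.map_bot, Ideal.zero_eq_bot]⟩
  have hbc := pullback_act_eq (t w ≫ W.ι ≫ f) a (i w) I hI (fun Z hZ p y ↦ by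
    obtain ⟨l, hl⟩ := exists_lift_of_appTop_ker (i₀ ∣_ V) (Z.hom ≫ t w ≫ g) (fun r hr ↦ by
      rw [Scheme.Hom.comp_appTop, CommRingCat.comp_apply]
      exact hZ _ (Ideal.mem_map_of_mem _ hr))
    refine h0 _ (Over.homMk (l ≫ (i₀ ⁻¹ᵁ V).ι) ?_) p y
    show (l ≫ (i₀ ⁻¹ᵁ V).ι) ≫ i₀ = Z.hom ≫ t w ≫ W.ι ≫ f
    rw [Category.assoc, ← morphismRestrict_ι, reassoc_of% hl, hg])
  let b : _ ⟶ (G ⊗ X).left :=
    pullback.fst (pullback.snd (pullback.snd (G ⊗ X).hom V.ι) g) (t w) ≫ k ≫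
      pullback.fst (G ⊗ X).hom V.ι
  let c := pullback.snd (pullback.snd (pullback.snd (G ⊗ X).hom V.ι) g) (t w)
  have hbc' : b ≫ (G ⊗ X).hom = c ≫ t w ≫ W.ι ≫ f := by
    simp only [b, c, k, Category.assoc]
    rw [pullback.condition, pullback.condition_assoc, hg, ← pullback.condition_assoc]
  let d := pullback.lift b c hbc'
  have hw : ∀ φ : G ⊗ X ⟶ X, ((Over.pullback (t w ≫ W.ι ≫ f)).map φ).left ≫
      pullback.fst X.hom (t w ≫ W.ι ≫ f) = pullback.fst (G ⊗ X).hom (t w ≫ W.ι ≫ f) ≫ φ.left :=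
    fun φ ↦ pullback.lift_fst _ _ _
  have h := congrArg (fun φ ↦ d ≫ φ.left ≫ pullback.fst X.hom (t w ≫ W.ι ≫ f)) hbc
  simp only [hw] at h
  simp only [d, pullback.lift_fst_assoc] at h
  simpa only [b, Category.assoc] using h

end Groth.Reductive.FreeDiag
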