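import Groth.Agent.Reductive.SubgroupEq
import Groth.Agent.Reductive.TorusMT
import Groth.Agent.Reductive.FpqcLocal
import Groth.Agent.Reductive.MTClosedLocus
import Groth.Agent.Reductive2.TransporterConj
import Groth.Agent.AlgGrp1.AffineQuot
import Groth.Agent.AlgGrp1.ImageHom
import Groth.Agent.AlgGrp1.MaxTorus
import Groth.Agent.AlgGrp1.MaxTorusSolv
import Groth.Agent.AlgGrp1.TorusField
import Groth.Agent.GrpschAbsch.TorusToAbelianSheaf
import Groth.Agent.Pi1AbVar.Cover
import Groth.Agent.Reductive2.MaxTorusAlgClosed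
import Groth.Prelude.Def_SGA3x

/-!
# Centralizers of maximal tori in separated groups: base change and uniqueness of the maximal torus
-/

set_option autoImplicit false

universe u

open CategoryTheory Limits MonoidalCategory CartesianMonoidalCategory MonObj AlgebraicGeometry

noncomputable section

namespace Groth.Reductive.CentTorusMax

open Groth.AlgGrp2 in
/-- Centralizers commute with base change. -/
theorem isCentralizerOf_bc {S S' : Scheme.{u}} (φ : S' ⟶ S) {G H Z : Over S} [GrpObj G] [GrpObj H]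
    [GrpObj Z] {i : H ⟶ G} {j : Z ⟶ G} (h : Red.IsCentralizerOf i j) :
    Red.IsCentralizerOf ((Over.pullback φ).map i) ((Over.pullback φ).map j) := by
  obtain ⟨hm, hmono, hp⟩ := h
  refine ⟨Groth.Abvar.isMonHom_map (f := φ) j, inferInstance, fun X g => ?_⟩
  constructor
  · rintro ⟨z, rfl⟩ X' x y
    refine bcPt_injective φ ?_
    have h1 := (hp ((Over.map φ).obj X) (bcPt φ z ≫ j)).1 ⟨_, rfl⟩ _ ((Over.map φ).map x) (bcPt φ y)
    rw [bcPt_mul, bcPt_mul, bcPt_comp φ x (z ≫ _), bcPt_comp_map, bcPt_comp_map]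
    exact h1
  · intro hg
    obtain ⟨z, hz⟩ := (hp ((Over.map φ).obj X) (bcPt φ g)).2 fun W x y => by
      let W' : Over S' := Over.mk (x.left ≫ X.hom)
      let x' : W' ⟶ X := Over.homMk x.left rfl
      let e : W ⟶ (Over.map φ).obj W' := Over.homMk (𝟙 _) (by
        show 𝟙 _ ≫ (x.left ≫ X.hom) ≫ φ = W.hom
        rw [Category.id_comp, Category.assoc]
        exact Over.w x)
      let e' : (Over.map φ).obj W' ⟶ W := Over.homMk (𝟙 _) (by
        show 𝟙 _ ≫ W.hom = (x.left ≫ X.hom) ≫ φ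
        rw [Category.id_comp, Category.assoc]
        exact (Over.w x).symm)
      have h1 := congrArg (fun t => e ≫ bcPt φ t) (hg W' x' (bcPtInv φ (e' ≫ y)))
      simp only [bcPt_mul] at h1
      rw [bcPt_comp φ x' g, bcPt_comp_map, bcPt_bcPtInv, MonObj.comp_mul, MonObj.comp_mul] at h1
      have hx : e ≫ (Over.map φ).map x' = x := Over.OverMorphism.ext (Category.id_comp _)
      have he : e ≫ e' = 𝟙 W := Over.OverMorphism.ext (Category.id_comp _)
      simp only [← Category.assoc, hx, he, Category.id_comp] at h1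
      exact h1
    exact ⟨bcPtInv φ z, bcPt_injective φ (by rw [bcPt_comp_map, bcPt_bcPtInv, hz])⟩

section Field

variable {K : Type u} [Field K] [IsAlgClosed K]

/-- Two commuting subtori of an algebraic group lie in a common subtorus. -/
theorem exists_common_torus {H A B : Over (Spec (CommRingCat.of K))} [GrpObj H] [GrpObj A] [GrpObj B]
    [LocallyOfFiniteType H.hom] [QuasiCompact H.hom] (hA : Red.IsTorus A) (hB : Red.IsTorus B)
    (a : A ⟶ H) [IsMonHom a] (b : B ⟶ H) [IsMonHom b]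
    (hcomm : ∀ (X : Over (Spec (CommRingCat.of K))) (x : X ⟶ A) (y : X ⟶ B),
      (x ≫ a) * (y ≫ b) = (y ≫ b) * (x ≫ a)) :
    ∃ (U : Over (Spec (CommRingCat.of K))) (_ : GrpObj U) (e : U ⟶ H) (a' : A ⟶ U) (b' : B ⟶ U),
      IsMonHom e ∧ Mono e ∧ Red.IsTorus U ∧ a' ≫ e = a ∧ b' ≫ e = b := by
  obtain ⟨hAa, hAs, hAc⟩ := Groth.AlgGrp1.isAffine_smooth_connected_of_isTorus hA
  obtain ⟨hBa, hBs, hBc⟩ := Groth.AlgGrp1.isAffine_smooth_connected_of_isTorus hB
  haveI := hAa; haveI := hBa; haveI := hAs; haveI := hBs; haveI := hAc; haveI := hBc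
  haveI hca : ∀ (X : Over (Spec (CommRingCat.of K))) (x y : X ⟶ A), x * y = y * x :=
    fun X x y => Groth.Reductive.MTInt.comm_of_locTriv
      (Groth.Reductive.MTInt.locTriv_of_multTypeFT
        (Groth.Reductive.FreeDiag.isMultTypeFT_of_isTorus hA)) X x y
  haveI hcb : ∀ (X : Over (Spec (CommRingCat.of K))) (x y : X ⟶ B), x * y = y * x :=
    fun X x y => Groth.Reductive.MTInt.comm_of_locTriv
      (Groth.Reductive.MTInt.locTriv_of_multTypeFT
        (Groth.Reductive.FreeDiag.isMultTypeFT_of_isTorus hB)) X x y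
  haveI : IsAffine (A ⊗ B).left := inferInstanceAs (IsAffine (pullback A.hom B.hom))
  haveI : Smooth (A ⊗ B).hom := inferInstanceAs (Smooth (pullback.fst A.hom B.hom ≫ A.hom))
  haveI : ConnectedSpace ↥(A ⊗ B).left := Groth.Pi1AbVar.connectedSpace_tensor η[A]
  haveI : QuasiCompact (A ⊗ B).hom := inferInstance
  let f : A ⊗ B ⟶ H := (fst A B ≫ a) * (snd A B ≫ b)
  haveI : IsMonHom f := Groth.AlgGrp1.isMonHom_of_points f fun X u v => by
    simp only [f, MonObj.comp_mul, ← Category.assoc, MonObj.mul_comp]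
    rw [_root_.mul_assoc, ← _root_.mul_assoc ((v ≫ fst A B) ≫ a), hcomm X (v ≫ fst A B) (u ≫ snd A B)]
    simp only [_root_.mul_assoc]
  obtain ⟨U, _, c, g, hc, hcl, hg, hlft, hqc, hgfl, hgs, hgc⟩ := Groth.AlgGrp1.exists_image_hom f
  haveI := hc; haveI := hcl; haveI := hg; haveI := hlft; haveI := hqc; haveI := hgfl; haveI := hgs
  haveI : IsAffine U.left := Groth.AlgGrp1.isAffine_of_quotient g
  haveI : Smooth U.hom := Groth.AlgGrp1.smooth_of_flat_surjective_hom g
  haveI : ConnectedSpace U.left := Groth.AlgGrp1.connectedSpace_of_surjective g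
  haveI : Mono c := Over.mono_of_mono_left c
  have hpc : ∀ (X : Over (Spec (CommRingCat.of K))) (u v : X ⟶ A ⊗ B), u * v = v * u := fun X u v => by
    apply CartesianMonoidalCategory.hom_ext
    · rw [MonObj.mul_comp, MonObj.mul_comp, hca]
    · rw [MonObj.mul_comp, MonObj.mul_comp, hcb]
  have hUc : ∀ (X : Over (Spec (CommRingCat.of K))) (u v : X ⟶ U), u * v = v * u := fun X u v => by
    obtain ⟨X', e, w, w', he, hw, hw'⟩ := (Groth.AlgGrp1.isCover g).exists_lift₂ u v
    refine he.cancel ?_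
    rw [MonObj.comp_mul, MonObj.comp_mul, ← hw, ← hw', ← MonObj.mul_comp, ← MonObj.mul_comp, hpc]
  have hsol : Red.IsSolvableGrp U := ⟨1, fun X => by
    letI : CommGroup (X ⟶ U) := { (inferInstance : Group (X ⟶ U)) with mul_comm := hUc X }
    rw [eq_bot_iff, derivedSeries_succ, derivedSeries_zero]
    refine Subgroup.commutator_le.mpr fun p _ q _ => ?_
    rw [Subgroup.mem_bot, commutatorElement_eq_one_iff_mul_comm]
    exact hUc X p q⟩
  obtain ⟨W, _, iW, hiW, hiWcl, hW, habs⟩ := Groth.AlgGrp1.exists_torus_absorbing U hsol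
  haveI := hiW; haveI := hiWcl
  haveI : Mono iW := Over.mono_of_mono_left iW
  let la : A ⟶ A ⊗ B := lift (𝟙 A) 1
  let lb : B ⟶ A ⊗ B := lift 1 (𝟙 B)
  haveI : IsMonHom la := Groth.AlgGrp1.isMonHom_of_points la fun X u v => by
    apply CartesianMonoidalCategory.hom_ext <;> simp [la, MonObj.mul_comp, MonObj.comp_one]
  haveI : IsMonHom lb := Groth.AlgGrp1.isMonHom_of_points lb fun X u v => by
    apply CartesianMonoidalCategory.hom_ext <;> simp [lb, MonObj.mul_comp, MonObj.comp_one]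
  have conj : ∀ {T : Over (Spec (CommRingCat.of K))} (x : 𝟙_ _ ⟶ U) (j : T ⟶ U),
      AGF.conjBy x j = j := fun x j => by
    unfold AGF.conjBy
    rw [hUc, ← _root_.mul_assoc, inv_mul_cancel, _root_.one_mul]
  haveI : IsMonHom (la ≫ g) := Groth.Abvar.isMonHom_comp inferInstance inferInstance
  haveI : IsMonHom (lb ≫ g) := Groth.Abvar.isMonHom_comp inferInstance inferInstance
  obtain ⟨xa, fa, hfa⟩ := habs A (la ≫ g) hA
  obtain ⟨xb, fb, hfb⟩ := habs B (lb ≫ g) hB
  rw [conj] at hfa hfb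
  refine ⟨W, inferInstance, iW ≫ c, fa, fb, Groth.Abvar.isMonHom_comp hiW hc, inferInstance, hW, ?_, ?_⟩
  · rw [← Category.assoc, hfa, Category.assoc, hgc]
    simp only [la, f, MonObj.comp_mul, lift_fst_assoc, lift_snd_assoc, Category.id_comp,
      MonObj.one_comp, _root_.mul_one]
  · rw [← Category.assoc, hfb, Category.assoc, hgc]
    simp only [lb, f, MonObj.comp_mul, lift_fst_assoc, lift_snd_assoc, Category.id_comp,
      MonObj.one_comp, _root_.one_mul]

end Field

variable {S : Scheme.{u}} {C T T' : Over S} [GrpObj C] [GrpObj T] [GrpObj T']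

/-- A maximal torus which is central is the only maximal torus. -/
theorem exists_iso_of_central [Smooth C.hom] [IsSeparated C.hom] [QuasiCompact C.hom]
    (i : T ⟶ C) (j : T' ⟶ C) (hi : Red.IsMaximalTorus i) (hj : Red.IsMaximalTorus j)
    (hc : ∀ (X : Over S) (x : X ⟶ T) (g : X ⟶ C), (x ≫ i) * g = g * (x ≫ i)) :
    ∃ φ : T' ≅ T, φ.hom ≫ i = j := by
  obtain ⟨him, himono, hT, himax⟩ := hi
  obtain ⟨hjm, hjmono, hT', hjmax⟩ := hj
  haveI := him; haveI := hjm; haveI := himono; haveI := hjmono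
  have h₁ := Groth.Reductive.FreeDiag.isMultTypeFT_of_isTorus hT
  have h₂ := Groth.Reductive.FreeDiag.isMultTypeFT_of_isTorus hT'
  obtain ⟨-, hTfp⟩ := Groth.Reductive.flat_lfp_of_multTypeFT T h₁ Groth.AlgSp2.flat_descendsAlong inferInstance
  obtain ⟨-, hT'fp⟩ := Groth.Reductive.flat_lfp_of_multTypeFT T' h₂ Groth.AlgSp2.flat_descendsAlong inferInstance
  haveI := hTfp; haveI := hT'fp
  haveI : IsAffineHom T.hom := (Groth.Reductive.MTInt.locTriv_of_multTypeFT h₁).1
  haveI : IsAffineHom T'.hom := (Groth.Reductive.MTInt.locTriv_of_multTypeFT h₂).1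
  haveI := Groth.Reductive.FreeDiag.fieldClosed_of_mono i
  haveI := Groth.Reductive.FreeDiag.fieldClosed_of_mono j
  haveI : Mono i.left := inferInstance
  haveI : Mono j.left := inferInstance
  haveI := Groth.Reductive.FreeDiag.lfp_pullback_fst_eta h₁ h₂ (Or.inr inferInstance)
    ((fst T T' ≫ i) * (snd T T' ≫ j)⁻¹)
  haveI := Groth.Reductive.FreeDiag.lfp_pullback_fst_eta h₂ h₁ (Or.inr inferInstance)
    ((fst T' T ≫ j) * (snd T' T ≫ i)⁻¹)
  obtain ⟨U, -, hU, hUiff⟩ := Groth.Reductive.FreeDiag.exists_clopen_facOn i j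
    (fun X x y => hc X x (y ≫ j)) h₁ h₂
  obtain ⟨V, -, hV, hViff⟩ := Groth.Reductive.FreeDiag.exists_clopen_facOn j i
    (fun X y x => (hc X x (y ≫ j)).symm) h₂ h₁
  have key : ∀ s : S, Groth.Reductive.FreeDiag.FacOn i j (Over.mk (Red.geomPt s)) ∧
      Groth.Reductive.FreeDiag.FacOn j i (Over.mk (Red.geomPt s)) := fun s => by
    let q := Red.geomPt s
    let CK := Red.bc q C
    haveI : LocallyOfFiniteType CK.hom :=
      inferInstanceAs (LocallyOfFiniteType (pullback.snd C.hom q))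
    haveI : QuasiCompact CK.hom := inferInstanceAs (QuasiCompact (pullback.snd C.hom q))
    haveI := Groth.Abvar.isMonHom_map (f := q) i
    haveI := Groth.Abvar.isMonHom_map (f := q) j
    have hcK : ∀ (X : Over _) (x : X ⟶ Red.bc q T) (y : X ⟶ Red.bc q T'),
        (x ≫ (Over.pullback q).map i) * (y ≫ (Over.pullback q).map j) =
          (y ≫ (Over.pullback q).map j) * (x ≫ (Over.pullback q).map i) := fun X x y => by
      apply (Groth.Reductive.bcPointEquiv q C X).injective
      rw [map_mul, map_mul, Groth.Reductive2.TransConj.E_map, Groth.Reductive2.TransConj.E_map]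
      exact hc _ _ _
    obtain ⟨W, _, e, a', b', he, hem, hW, ha, hb⟩ := exists_common_torus
      (Groth.GrpschAbsch.TorusToAbelian.isTorus_bc hT q) (Groth.GrpschAbsch.TorusToAbelian.isTorus_bc hT' q)
      ((Over.pullback q).map i) ((Over.pullback q).map j) hcK
    haveI := he; haveI := hem
    haveI := himax s W e a' hW ha
    haveI := hjmax s W e b' hW hb
    refine ⟨Groth.Reductive.FreeDiag.facOn_of_iso q (asIso a' ≪≫ (asIso b').symm) ?_,
      Groth.Reductive.FreeDiag.facOn_of_iso q (asIso b' ≪≫ (asIso a').symm) ?_⟩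
    · simp [← ha, ← hb]
    · simp [← ha, ← hb]
  have hpt : ∀ s : S, (Red.geomPt s).base (IsLocalRing.closedPoint _) = s := fun s => by
    rw [Scheme.Hom.comp_apply, Scheme.fromSpecResidueField_apply]
  have hUt : U = ⊤ := top_unique fun s _ => (hUiff s).mpr (by
    have h := ((Groth.Reductive.FreeDiag.facOn_fieldPoint_iff _ (Red.geomPt s)).mp (key s).1)
    rw [hpt s] at h; exact h)
  have hVt : V = ⊤ := top_unique fun s _ => (hViff s).mpr (by
    have h := ((Groth.Reductive.FreeDiag.facOn_fieldPoint_iff _ (Red.geomPt s)).mp (key s).2)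
    rw [hpt s] at h; exact h)
  subst hUt hVt
  let toTop : ∀ Z : Over S, Z ⟶ Over.mk (⊤ : S.Opens).ι := fun Z =>
    Over.homMk (IsOpenImmersion.lift (⊤ : S.Opens).ι Z.hom (by simp)) (IsOpenImmersion.lift_fac _ _ _)
  obtain ⟨y, hy⟩ := hU T (toTop T) (𝟙 T)
  obtain ⟨y', hy'⟩ := hV T' (toTop T') (𝟙 T')
  rw [Category.id_comp] at hy hy'
  exact ⟨⟨y', y, by rw [← cancel_mono j, Category.assoc, hy, hy', Category.id_comp],
    by rw [← cancel_mono i, Category.assoc, hy', hy, Category.id_comp]⟩, hy'⟩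

end Groth.Reductive.CentTorusMax

end
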