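import Groth.Agent.Reductive.RedRankTorus
import Groth.Agent.Reductive.CentTorusMax

/-!
# Maximal tori are stable under base change; central maximal tori contain all tori
-/

set_option autoImplicit false

universe u

open CategoryTheory Limits MonoidalCategory CartesianMonoidalCategory MonObj GrpObj AlgebraicGeometry

noncomputable section

namespace Groth.Reductive.RedRank

/-- Maximal tori keep their rank under extensions of algebraically closed fields. -/
theorem HasMax.bc' {K L : Type u} [Field K] [IsAlgClosed K] [Field L] [IsAlgClosed L]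
    {X : Over (Spec (CommRingCat.of K))} [GrpObj X] [IsAffine X.left] [Smooth X.hom] {r : ℕ} (h : HasMax r X)
    (ψ : Spec (CommRingCat.of L) ⟶ Spec (CommRingCat.of K)) : HasMax r (Red.bc ψ X) := by
  obtain ⟨T, _, i, hi, hr⟩ := h
  haveI := hi.1; haveI := hi.2.1
  haveI : IsAffineHom X.hom := inferInstance
  haveI : IsAffineHom (Red.bc ψ X).hom := MorphismProperty.pullback_snd (P := @IsAffineHom) _ _ inferInstance
  haveI : IsAffine (Red.bc ψ X).left := isAffine_of_isAffineHom (Red.bc ψ X).hom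
  haveI : Smooth (Red.bc ψ X).hom := MorphismProperty.pullback_snd (P := @Smooth) _ _ inferInstance
  obtain ⟨r', T', _, i', hi', hr'⟩ := exists_hasMax (Red.bc ψ X)
  haveI := hi'.1; haveI := hi'.2.1
  obtain ⟨T₁, _, i₁, hm₁, hmono₁, hr₁⟩ := exists_subtorus_of_extension ψ hr' i'
  haveI := hm₁; haveI := hmono₁
  haveI := Groth.Abvar.isMonHom_map (f := ψ) i
  exact ⟨Red.bc ψ T, inferInstance, (Over.pullback ψ).map i,
    isMaxTorus_of_rank hi' hr' _ (hr.bc ψ) (le_of_maxTorus hi hr i₁ hr₁), hr.bc ψ⟩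

variable {S : Scheme.{u}}

/-- Maximal tori are stable under every base change. -/
theorem isMaximalTorus_bc {G T : Over S} [GrpObj G] [GrpObj T] [IsAffineHom G.hom] [Smooth G.hom] {i : T ⟶ G}
    (hi : Red.IsMaximalTorus i) {W : Scheme.{u}} (f : W ⟶ S) :
    Red.IsMaximalTorus ((Over.pullback f).map i) := by
  haveI := hi.1; haveI := hi.2.1
  haveI := Groth.Abvar.isMonHom_map (f := f) i
  have hT : Red.IsTorus (Red.bc f T) := Groth.GrpschAbsch.TorusToAbelian.isTorus_bc hi.2.2.1 f
  refine ⟨inferInstance, inferInstance, hT, fun w => ?_⟩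
  obtain ⟨ψ, hψ, -⟩ := exists_geomPt_hom f w
  obtain ⟨r, hr⟩ := exists_rank hi.2.2.1 (f.base w)
  have hG := hasMax_of_isMaximalTorus hi (f.base w) hr
  haveI : IsAffineHom (Red.geomFibre (f.base w) G).hom :=
    MorphismProperty.pullback_snd (P := @IsAffineHom) _ _ inferInstance
  haveI : IsAffine (Red.geomFibre (f.base w) G).left :=
    isAffine_of_isAffineHom (Red.geomFibre (f.base w) G).hom
  haveI : Smooth (Red.geomFibre (f.base w) G).hom := MorphismProperty.pullback_snd (P := @Smooth) _ _ inferInstance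
  have hG' : HasMax r (Red.geomFibre w (Red.bc f G)) := (hG.bc' ψ).congr
    (bcTwo ψ (Red.geomPt (f.base w)) _ hψ G ≪≫ (bcTwo (Red.geomPt w) f _ rfl G).symm)
  obtain ⟨T₀, _, i₀, hi₀, hr₀⟩ := hG'
  haveI : IsAffineHom (Red.bc f G).hom := MorphismProperty.pullback_snd (P := @IsAffineHom) _ _ inferInstance
  haveI : IsAffineHom (Red.geomFibre w (Red.bc f G)).hom :=
    MorphismProperty.pullback_snd (P := @IsAffineHom) (Red.bc f G).hom _ inferInstance
  haveI : IsAffine (Red.geomFibre w (Red.bc f G)).left :=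
    isAffine_of_isAffineHom (Red.geomFibre w (Red.bc f G)).hom
  haveI : Smooth (Red.geomFibre w (Red.bc f G)).hom :=
    MorphismProperty.pullback_snd _ _ (MorphismProperty.pullback_snd (P := @Smooth) _ _ inferInstance)
  haveI := Groth.Abvar.isMonHom_map (f := Red.geomPt w) ((Over.pullback f).map i)
  have hr' : SplitRank r (Red.geomFibre w (Red.bc f T)) := (hr.bc ψ).congr
    (bcTwo (Red.geomPt w) f _ rfl T ≪≫ (bcTwo ψ (Red.geomPt (f.base w)) _ hψ T).symm)
  exact (isMaxTorus_of_rank hi₀ hr₀ ((Over.pullback (Red.geomPt w)).map ((Over.pullback f).map i))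
    hr' le_rfl).2.2.2

theorem bcPointEquiv_map' {W : Scheme.{u}} (q : W ⟶ S) {A B : Over S} [GrpObj A] [GrpObj B] (m : A ⟶ B)
    {X : Over W} (x : X ⟶ Red.bc q A) :
    Groth.Reductive.bcPointEquiv q B X (x ≫ (Over.pullback q).map m) =
      Groth.Reductive.bcPointEquiv q A X x ≫ m :=
  Adjunction.homEquiv_naturality_right_symm _ _ _

/-- A maximal torus contains the tori commuting with it. -/
theorem exists_factor_of_commute {C T R : Over S} [GrpObj C] [GrpObj T] [GrpObj R] [IsAffineHom C.hom]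
    [Smooth C.hom] (i : T ⟶ C) (hi : Red.IsMaximalTorus i) (j : R ⟶ C) [IsMonHom j] (hR : Red.IsTorus R)
    (hc : ∀ (X : Over S) (x : X ⟶ R) (y : X ⟶ T), (x ≫ j) * (y ≫ i) = (y ≫ i) * (x ≫ j)) :
    ∃ y : R ⟶ T, y ≫ i = j := by
  obtain ⟨him, himono, hT, himax⟩ := hi
  haveI := him; haveI := himono
  have h₁ := Groth.Reductive.FreeDiag.isMultTypeFT_of_isTorus hR
  have h₂ := Groth.Reductive.FreeDiag.isMultTypeFT_of_isTorus hT
  obtain ⟨-, hTfp⟩ := Groth.Reductive.flat_lfp_of_multTypeFT T h₂ Groth.AlgSp2.flat_descendsAlong inferInstance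
  obtain ⟨-, hRfp⟩ := Groth.Reductive.flat_lfp_of_multTypeFT R h₁ Groth.AlgSp2.flat_descendsAlong inferInstance
  haveI := hTfp; haveI := hRfp
  haveI : IsAffineHom T.hom := (Groth.Reductive.MTInt.locTriv_of_multTypeFT h₂).1
  haveI : IsAffineHom R.hom := (Groth.Reductive.MTInt.locTriv_of_multTypeFT h₁).1
  haveI := Groth.Reductive.FreeDiag.fieldClosed_of_mono i
  haveI : Mono i.left := inferInstance
  haveI := Groth.Reductive.FreeDiag.lfp_pullback_fst_eta h₁ h₂ (Or.inr inferInstance)
    ((fst R T ≫ j) * (snd R T ≫ i)⁻¹)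
  obtain ⟨U, -, hU, hUiff⟩ := Groth.Reductive.FreeDiag.exists_clopen_facOn j i
    hc h₁ h₂
  have hUt : U = ⊤ := top_unique fun s _ => (hUiff s).mpr (by
    let q := Red.geomPt s
    haveI : LocallyOfFiniteType (Red.bc q C).hom :=
      inferInstanceAs (LocallyOfFiniteType (pullback.snd C.hom q))
    haveI : QuasiCompact (Red.bc q C).hom := inferInstanceAs (QuasiCompact (pullback.snd C.hom q))
    haveI := Groth.Abvar.isMonHom_map (f := q) i
    haveI := Groth.Abvar.isMonHom_map (f := q) j
    obtain ⟨W, _, e, a', b', he, hem, hW, ha, hb⟩ := Groth.Reductive.CentTorusMax.exists_common_torus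
      (Groth.GrpschAbsch.TorusToAbelian.isTorus_bc hT q) (Groth.GrpschAbsch.TorusToAbelian.isTorus_bc hR q)
      ((Over.pullback q).map i) ((Over.pullback q).map j) (fun X x y => by
        apply (Groth.Reductive.bcPointEquiv q C X).injective
        rw [map_mul, map_mul, Groth.Reductive2.TransConj.E_map, Groth.Reductive2.TransConj.E_map]
        exact (hc _ _ _).symm)
    haveI := he; haveI := hem
    haveI := himax s W e a' hW ha
    have hfac : Groth.Reductive.FreeDiag.FacOn j i (Over.mk q) := fun Z w x => by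
      let Z₁ : Over (Spec (CommRingCat.of (AlgebraicClosure (S.residueField s)))) := Over.mk w.left
      let c : Z ⟶ (Over.map q).obj Z₁ := Over.homMk (𝟙 _) ((Category.id_comp _).trans (Over.w w))
      let c' : (Over.map q).obj Z₁ ⟶ Z := Over.homMk (𝟙 _) ((Category.id_comp _).trans (Over.w w).symm)
      let E := Groth.Reductive.bcPointEquiv q R Z₁
      refine ⟨c ≫ Groth.Reductive.bcPointEquiv q T Z₁ (E.symm (c' ≫ x) ≫ b' ≫ inv a'), ?_⟩
      rw [Category.assoc, ← bcPointEquiv_map', Category.assoc, Category.assoc, ← ha,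
        IsIso.inv_hom_id_assoc, hb, bcPointEquiv_map', MulEquiv.apply_symm_apply,
        ← Category.assoc, ← Category.assoc,
        show c ≫ c' = 𝟙 Z from Over.OverMorphism.ext (Category.id_comp _), Category.id_comp]
    have h := (Groth.Reductive.FreeDiag.facOn_fieldPoint_iff _ q).mp hfac
    rwa [show q.base (IsLocalRing.closedPoint _) = s by
      rw [Scheme.Hom.comp_apply, Scheme.fromSpecResidueField_apply]] at h)
  subst hUt
  obtain ⟨y, hy⟩ := hU R (Over.homMk (IsOpenImmersion.lift (⊤ : S.Opens).ι R.hom (by simp))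
    (IsOpenImmersion.lift_fac _ _ _)) (𝟙 R)
  exact ⟨y, hy.trans (Category.id_comp _)⟩

/-- A central maximal torus contains every torus. -/
theorem exists_factor_of_central {C T R : Over S} [GrpObj C] [GrpObj T] [GrpObj R] [IsAffineHom C.hom]
    [Smooth C.hom] (i : T ⟶ C) (hi : Red.IsMaximalTorus i) (j : R ⟶ C) [IsMonHom j] (hR : Red.IsTorus R)
    (hc : ∀ (X : Over S) (x y : X ⟶ C), x * y = y * x) :
    ∃ y : R ⟶ T, y ≫ i = j :=
  exists_factor_of_commute i hi j hR fun X x y => hc X (x ≫ j) (y ≫ i)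

end Groth.Reductive.RedRank

end
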