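import Mathlib
import Groth.Agent.Agf.SubobjGrp
import Groth.Prelude.Def_Red

/-!
# Subgroups over a disjoint union of schemes
-/

set_option autoImplicit false

universe u

open CategoryTheory Limits MonoidalCategory CartesianMonoidalCategory MonObj GrpObj AlgebraicGeometry

noncomputable section

namespace Groth.Reductive.SigmaTorus

/-- Factorization through a monomorphism is local. -/
theorem exists_factor_cover {X Y Z : Scheme.{u}} (𝒰 : X.OpenCover) (t : Y ⟶ Z) [Mono t] (g : X ⟶ Z)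
    (l : ∀ j, 𝒰.X j ⟶ Y) (hl : ∀ j, l j ≫ t = 𝒰.f j ≫ g) : ∃ m : X ⟶ Y, m ≫ t = g := by
  refine ⟨𝒰.glueMorphisms l fun j k => ?_, Scheme.Cover.hom_ext 𝒰 _ _ fun j => ?_⟩
  · rw [← cancel_mono t, Category.assoc, hl, Category.assoc, hl, pullback.condition_assoc]
  · rw [← Category.assoc, Scheme.Cover.ι_glueMorphisms, hl]

/-- A family of subgroups over the pieces of a disjoint union glues. -/
theorem exists_glue {J : Type u} {W : J → Scheme.{u}} (G : Over (∐ W)) [GrpObj G] (T : ∀ j, Over (W j))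
    [∀ j, GrpObj (T j)] (i : ∀ j, T j ⟶ Red.bc (Sigma.ι W j) G) [∀ j, IsMonHom (i j)] [∀ j, Mono (i j)] :
    ∃ (U : Over (∐ W)) (_ : GrpObj U) (t : U ⟶ G), IsMonHom t ∧ Mono t ∧
      ∀ j, ∃ e : T j ≅ Red.bc (Sigma.ι W j) U, IsMonHom e.hom ∧
        e.hom ≫ (Over.pullback (Sigma.ι W j)).map t = i j := by
  let Tl : J → Scheme.{u} := fun j => (T j).left
  let U : Over (∐ W) := Over.mk (Sigma.desc fun j => (T j).hom ≫ Sigma.ι W j : ∐ Tl ⟶ ∐ W)
  let t : U ⟶ G := Over.homMk (Sigma.desc fun j => (i j).left ≫ pullback.fst G.hom (Sigma.ι W j)) (by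
    refine Sigma.hom_ext _ _ fun j => ?_
    show Sigma.ι Tl j ≫ (Sigma.desc fun j => _) ≫ G.hom = Sigma.ι Tl j ≫ Sigma.desc fun j => _
    erw [colimit.ι_desc_assoc, colimit.ι_desc]
    show ((i j).left ≫ pullback.fst G.hom (Sigma.ι W j)) ≫ G.hom = (T j).hom ≫ Sigma.ι W j
    rw [Category.assoc, pullback.condition, ← Category.assoc]
    congr 1
    exact Over.w (i j))
  have htι : ∀ j, Sigma.ι Tl j ≫ t.left = (i j).left ≫ pullback.fst G.hom (Sigma.ι W j) := fun j =>
    colimit.ι_desc _ _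
  have hUι : ∀ j, Sigma.ι Tl j ≫ U.hom = (T j).hom ≫ Sigma.ι W j := fun j => colimit.ι_desc _ _
  have hrange : ∀ j, Set.range (pullback.fst U.hom (Sigma.ι W j)) ⊆ Set.range (Sigma.ι Tl j) := by
    rintro j _ ⟨z, rfl⟩
    obtain ⟨⟨k, y⟩, hy⟩ := (sigmaMk Tl).surjective (pullback.fst U.hom (Sigma.ι W j) z)
    rw [sigmaMk_mk] at hy
    have h1 : sigmaMk W ⟨k, (T k).hom y⟩ = sigmaMk W ⟨j, pullback.snd U.hom (Sigma.ι W j) z⟩ := by
      rw [sigmaMk_mk, sigmaMk_mk]
      show ((T k).hom ≫ Sigma.ι W k) y = (pullback.snd U.hom (Sigma.ι W j) ≫ Sigma.ι W j) z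
      rw [← hUι, ← pullback.condition, Scheme.Hom.comp_apply, Scheme.Hom.comp_apply, hy]
    obtain rfl : k = j := congrArg Sigma.fst ((sigmaMk W).injective h1)
    exact ⟨y, hy⟩
  let e : ∀ j, T j ≅ Red.bc (Sigma.ι W j) U := fun j => by
    have hl : IsOpenImmersion.lift (Sigma.ι Tl j) (pullback.fst U.hom (Sigma.ι W j)) (hrange j) ≫ (T j).hom =
        pullback.snd U.hom (Sigma.ι W j) := by
      rw [← cancel_mono (Sigma.ι W j), Category.assoc, ← hUι, IsOpenImmersion.lift_fac_assoc, pullback.condition]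
    refine Over.isoMk
      ⟨pullback.lift (Sigma.ι Tl j) (T j).hom (hUι j),
        IsOpenImmersion.lift (Sigma.ι Tl j) (pullback.fst U.hom (Sigma.ι W j)) (hrange j), ?_, ?_⟩
      (pullback.lift_snd _ _ _)
    · rw [← cancel_mono (Sigma.ι Tl j), Category.assoc, IsOpenImmersion.lift_fac, pullback.lift_fst,
        Category.id_comp]
    · refine pullback.hom_ext ?_ ?_
      · rw [Category.assoc, pullback.lift_fst, IsOpenImmersion.lift_fac, Category.id_comp]
      · rw [Category.assoc, pullback.lift_snd, hl, Category.id_comp]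
  have he : ∀ j, (e j).hom ≫ (Over.pullback (Sigma.ι W j)).map t = i j := fun j => by
    refine Over.OverMorphism.ext (pullback.hom_ext ?_ ((Over.w _).trans (Over.w (i j)).symm))
    show (pullback.lift (Sigma.ι Tl j) (T j).hom _ ≫ pullback.lift _ _ _) ≫ pullback.fst _ _ = _
    rw [Category.assoc, pullback.lift_fst, pullback.lift_fst_assoc, htι]
  haveI hmap : ∀ j, Mono ((Over.pullback (Sigma.ι W j)).map t) := fun j => by
    rw [show (Over.pullback (Sigma.ι W j)).map t = (e j).inv ≫ i j by rw [← he]; simp]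
    infer_instance
  have hcov : ∀ {X : Over (∐ W)} {Y : Scheme.{u}} (a b : X.left ⟶ Y),
      (∀ j, pullback.fst X.hom (Sigma.ι W j) ≫ a = pullback.fst X.hom (Sigma.ι W j) ≫ b) → a = b :=
    fun {X} Y a b h => Scheme.Cover.hom_ext ((sigmaOpenCover W).pullback₁ X.hom) a b h
  haveI : Mono t := ⟨fun {X} a b hab => Over.OverMorphism.ext (hcov _ _ fun j => by
    have h : (Over.pullback (Sigma.ι W j)).map a = (Over.pullback (Sigma.ι W j)).map b := by
      rw [← cancel_mono ((Over.pullback (Sigma.ι W j)).map t), ← Functor.map_comp, hab, Functor.map_comp]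
    have h' := congrArg (fun m => m.left ≫ pullback.fst U.hom (Sigma.ι W j)) h
    simp at h'
    erw [pullback.lift_fst, pullback.lift_fst] at h'
    exact h')⟩
  haveI : Mono t.left := inferInstance
  let P : ∀ ⦃X : Over (∐ W)⦄, (X ⟶ G) → Prop := fun X g =>
    ∀ j, ∃ z : Red.bc (Sigma.ι W j) X ⟶ T j, z ≫ i j = (Over.pullback (Sigma.ι W j)).map g
  obtain ⟨inst, hm⟩ := Groth.Agf.exists_grpObj_of_subgroup t P
    (fun X g => by
      constructor
      · rintro ⟨z, rfl⟩ j
        exact ⟨(Over.pullback (Sigma.ι W j)).map z ≫ (e j).inv, by rw [← he]; simp⟩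
      · intro hg
        choose z hz using hg
        let 𝒰 := (sigmaOpenCover W).pullback₁ X.hom
        let l : ∀ j, 𝒰.X j ⟶ U.left := fun j => (z j).left ≫ Sigma.ι Tl j
        have hl : ∀ j, l j ≫ t.left = 𝒰.f j ≫ g.left := fun j => by
          show ((z j).left ≫ Sigma.ι Tl j) ≫ t.left = _
          rw [Category.assoc, htι, ← Category.assoc, ← Over.comp_left, hz]
          exact pullback.lift_fst _ _ _
        obtain ⟨m, hm⟩ := exists_factor_cover 𝒰 t.left g.left l hl
        exact ⟨Over.homMk m (by rw [← Over.w t, ← Category.assoc, hm, Over.w g]), Over.OverMorphism.ext hm⟩)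
    (fun X j => ⟨1, by rw [MonObj.one_comp, Functor.map_one]⟩)
    (fun X a b ha hb j => by
      obtain ⟨z, hz⟩ := ha j
      obtain ⟨z', hz'⟩ := hb j
      exact ⟨z * z', by rw [MonObj.mul_comp, hz, hz', Functor.map_mul]⟩)
    (fun X a ha j => by
      obtain ⟨z, hz⟩ := ha j
      exact ⟨z⁻¹, by rw [GrpObj.inv_comp, hz]; exact
        (map_inv (Functor.homMonoidHom (F := Over.pullback (Sigma.ι W j))) a).symm⟩)
  haveI := hm
  refine ⟨U, inst, t, hm, inferInstance, fun j => ⟨e j, ?_, he j⟩⟩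
  haveI : IsMonHom ((Over.pullback (Sigma.ι W j)).map t) := inferInstance
  refine ⟨?_, ?_⟩
  · rw [← cancel_mono ((Over.pullback (Sigma.ι W j)).map t), Category.assoc, he, IsMonHom.one_hom,
      IsMonHom.one_hom]
  · rw [← cancel_mono ((Over.pullback (Sigma.ι W j)).map t), Category.assoc, he, Category.assoc,
      IsMonHom.mul_hom, IsMonHom.mul_hom, ← Category.assoc, MonoidalCategory.tensorHom_comp_tensorHom, he]

end Groth.Reductive.SigmaTorus

end
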