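import Groth.Agent.Reductive.RedRankTorus
import Groth.Agent.Reductive.SigmaTorus

/-!
# Locally constant reductive rank gives maximal tori etale locally
-/

set_option autoImplicit false

universe u

open CategoryTheory Limits MonoidalCategory CartesianMonoidalCategory MonObj GrpObj AlgebraicGeometry

noncomputable section

namespace Groth.Reductive.RedRank

variable {S : Scheme.{u}}

/-- The rank of a torus at the image of a trivialising chart. -/
theorem splitRank_of_chart {T : Over S} [GrpObj T] (hT : Red.IsTorus T) {V : Scheme.{u}} (q : V ⟶ S) {r : ℕ}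
    (h : Red.IsSplitTorusWith (Fin r → ℤ) (Red.bc q T)) (y : V) :
    SplitRank r (Red.geomFibre (q.base y) T) := by
  obtain ⟨e⟩ := h
  obtain ⟨ψ, hψ, -⟩ := exists_geomPt_hom q y
  obtain ⟨d⟩ := isSplit_DS_bc (Red.geomPt y) (Fin r → ℤ)
  have h1 : SplitRank r (Red.bc ψ (Red.geomFibre (q.base y) T)) :=
    ⟨bcTwo ψ (Red.geomPt (q.base y)) _ hψ T ≪≫ (bcTwo (Red.geomPt y) q _ rfl T).symm ≪≫
      bcIso (Red.geomPt y) e ≪≫ d⟩
  obtain ⟨r₁, hr₁⟩ := exists_rank hT (q.base y)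
  rwa [← (hr₁.bc ψ).unique h1]

/-- A group over a disjoint union which is a split torus on each piece is a torus. -/
theorem isTorus_of_pieces {J : Type u} {W : J → Scheme.{u}} (r : J → ℕ) (U : Over (∐ W)) [GrpObj U]
    (h : ∀ j, Red.IsSplitTorusWith (Fin (r j) → ℤ) (Red.bc (Sigma.ι W j) U)) : Red.IsTorus U := by
  refine ⟨∐ W, 𝟙 _, inferInstance, inferInstance, fun V hV => ⟨V, hV.isCompact, by simp⟩, fun x => ?_⟩
  obtain ⟨⟨j, y⟩, hy⟩ := (sigmaMk W).surjective x
  rw [sigmaMk_mk] at hy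
  obtain ⟨e⟩ := h j
  let O := (Sigma.ι W j).opensRange
  let φ : (O : Scheme.{u}) ⟶ W j := IsOpenImmersion.lift (Sigma.ι W j) O.ι (by
    rw [Scheme.Opens.range_ι]
    exact subset_refl _)
  obtain ⟨d⟩ := isSplit_DS_bc φ (Fin (r j) → ℤ)
  exact ⟨O, ⟨y, hy⟩, r j, ⟨(bcTwo φ (Sigma.ι W j) _
    (by rw [IsOpenImmersion.lift_fac, Category.comp_id]) U).symm ≪≫ bcIso φ e ≪≫ d⟩⟩

/-- A group with a maximal torus etale locally has locally constant reductive rank. -/
theorem redRankLocallyConstant_of_etaleLocally {G : Over S} [GrpObj G] (h : SGA3x.HasMaxTorusEtaleLocally G) :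
    SGA3x.RedRankLocallyConstant G := by
  obtain ⟨S', f, hf, hsurj, T, _, i, hi⟩ := h
  haveI := hf; haveI := hsurj
  haveI : LocallyQuasiFinite f := Groth.SmoothSlice.locallyQuasiFinite_of_formallyUnramified' f
  intro s
  obtain ⟨x, rfl⟩ := f.surjective s
  obtain ⟨r, hr⟩ := exists_rank hi.2.2.1 x
  let A : Set S' := {y | SplitRank r (Red.geomFibre y T)}
  refine ⟨⟨f '' A, f.isOpenMap _ (isOpen_rankLocus hi.2.2.1 r)⟩, ⟨x, hr, rfl⟩, r, ?_⟩
  rintro _ ⟨y, hy, rfl⟩
  exact (hasRedRank_iff G _ _).mpr ⟨r, rfl, (hasMax_bc_iff f y r).mp (hasMax_of_isMaximalTorus hi y hy)⟩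

/-- Locally constant reductive rank gives a maximal torus after an etale cover. -/
theorem hasMaxTorusEtaleLocally_of_redRank {G : Over S} [GrpObj G] [IsAffineHom G.hom] [Smooth G.hom]
    (h : SGA3x.RedRankLocallyConstant G) : SGA3x.HasMaxTorusEtaleLocally G := by
  have hloc : ∀ s : S, ∃ (W : Scheme.{u}) (p : W ⟶ S) (r : ℕ) (T : Over W) (_ : GrpObj T)
      (i : T ⟶ Red.bc p G), Etale p ∧ s ∈ Set.range p ∧ IsMonHom i ∧ Mono i ∧
        Red.IsSplitTorusWith (Fin r → ℤ) T ∧ ∀ x : W, HasMax r (Red.geomFibre (p.base x) G) := by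
    intro s
    obtain ⟨U, hsU, d, hd⟩ := h s
    obtain ⟨r, hdr, hr⟩ := (hasRedRank_iff G s d).mp (hd s hsU)
    obtain ⟨W, p, w, T, _, i, hp, hw, hi, hmono, -, ⟨e⟩⟩ := exists_torus_nbhd s hr
    haveI := hp; haveI := hi; haveI := hmono
    let O : W.Opens := p ⁻¹ᵁ U
    have hwO : w ∈ O := show p w ∈ U by rw [hw]; exact hsU
    haveI := Groth.Abvar.isMonHom_map (f := O.ι) i
    obtain ⟨d'⟩ := isSplit_DS_bc O.ι (Fin r → ℤ)
    let c := isoS (bcTwo O.ι p (O.ι ≫ p) rfl G)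
    refine ⟨O, O.ι ≫ p, r, Red.bc O.ι T, inferInstance, (Over.pullback O.ι).map i ≫ c.hom, inferInstance,
      ⟨⟨w, hwO⟩, hw⟩, Groth.Abvar.isMonHom_comp inferInstance inferInstance, inferInstance,
      ⟨bcIso O.ι e ≪≫ d'⟩, fun x => ?_⟩
    obtain ⟨r', hr', hr''⟩ := (hasRedRank_iff G _ d).mp (hd ((O.ι ≫ p).base x) x.2)
    obtain rfl : r' = r := by
      have := hr'.symm.trans hdr
      exact_mod_cast this
    exact hr''
  choose W p r T instT i hp hs hi hmono hT hrk using hloc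
  let f : (∐ W) ⟶ S := Sigma.desc p
  haveI := hp
  haveI : Etale f := IsZariskiLocalAtSource.sigmaDesc hp
  haveI : Surjective f := ⟨fun s => by
    obtain ⟨x, hx⟩ := hs s
    exact ⟨Sigma.ι W s x, by rw [← Scheme.Hom.comp_apply, colimit.ι_desc]; exact hx⟩⟩
  have hι : ∀ s, Sigma.ι W s ≫ f = p s := fun s => colimit.ι_desc _ _
  let i' : ∀ s, T s ⟶ Red.bc (Sigma.ι W s) (Red.bc f G) :=
    fun s => i s ≫ (isoS (bcTwo (Sigma.ι W s) f (p s) (hι s) G)).inv
  haveI := hi; haveI := hmono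
  haveI : ∀ s, IsMonHom (i' s) := fun s => Groth.Abvar.isMonHom_comp (hi s) inferInstance
  haveI : ∀ s, Mono (i' s) := fun s => inferInstance
  obtain ⟨U, _, t, htm, htmono, hU⟩ := Groth.Reductive.SigmaTorus.exists_glue (Red.bc f G) T i'
  have hUs : ∀ s, Red.IsSplitTorusWith (Fin (r s) → ℤ) (Red.bc (Sigma.ι W s) U) := fun s => by
    obtain ⟨e, he, -⟩ := hU s
    haveI := he
    obtain ⟨v⟩ := hT s
    exact ⟨(Grp.mkIso' e).symm ≪≫ v⟩
  have hUT : Red.IsTorus U := isTorus_of_pieces r U hUs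
  refine ⟨∐ W, f, inferInstance, inferInstance, U, inferInstance, t, htm, htmono, hUT, fun x => ?_⟩
  obtain ⟨⟨s, y⟩, rfl⟩ := (sigmaMk W).surjective x
  rw [sigmaMk_mk]
  haveI : LocallyQuasiFinite f := Groth.SmoothSlice.locallyQuasiFinite_of_formallyUnramified' f
  have hG : HasMax (r s) (Red.geomFibre ((Sigma.ι W s).base y) (Red.bc f G)) := by
    rw [hasMax_bc_iff, ← Scheme.Hom.comp_apply, hι]
    exact hrk s y
  obtain ⟨T₀, _, i₀, hi₀, hr₀⟩ := hG
  haveI : IsAffineHom (Red.bc f G).hom :=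
    MorphismProperty.pullback_snd (P := @IsAffineHom) G.hom f inferInstance
  haveI : IsAffineHom (Red.geomFibre ((Sigma.ι W s).base y) (Red.bc f G)).hom :=
    MorphismProperty.pullback_snd (P := @IsAffineHom) (Red.bc f G).hom _ inferInstance
  haveI : IsAffine (Red.geomFibre ((Sigma.ι W s).base y) (Red.bc f G)).left :=
    isAffine_of_isAffineHom (Red.geomFibre ((Sigma.ι W s).base y) (Red.bc f G)).hom
  haveI : Smooth (Red.geomFibre ((Sigma.ι W s).base y) (Red.bc f G)).hom :=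
    MorphismProperty.pullback_snd _ _ (MorphismProperty.pullback_snd (P := @Smooth) _ _ inferInstance)
  haveI := htm; haveI := htmono
  haveI := Groth.Abvar.isMonHom_map (f := Red.geomPt ((Sigma.ι W s).base y)) t
  exact (isMaxTorus_of_rank hi₀ hr₀ ((Over.pullback (Red.geomPt _)).map t)
    (splitRank_of_chart hUT (Sigma.ι W s) (hUs s) y) le_rfl).2.2.2

end Groth.Reductive.RedRank

end
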