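import Groth.Agent.Reductive.BaseChangeMT
import Mathlib.AlgebraicGeometry.Morphisms.Flat

/-!
Descent of clopen sets along fpqc coverings; composition of coverings given by one morphism.
-/

set_option autoImplicit false
universe u

open CategoryTheory AlgebraicGeometry

noncomputable section

namespace Groth.Reductive.FreeDiag

/-- A quasi-compact surjection is an fpqc covering. -/
lemma qcCover_of_quasiCompact {X Y : Scheme.{u}} (f : X ⟶ Y) [QuasiCompact f] [Surjective f] :
    ∀ V : Y.Opens, IsAffineOpen V → ∃ W : X.Opens, IsCompact (W : Set X) ∧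
      f.base '' (W : Set X) = (V : Set Y) := fun V hV ↦
  ⟨f ⁻¹ᵁ V, QuasiCompact.isCompact_preimage (f := f) _ V.isOpen hV.isCompact,
    Set.image_preimage_eq _ f.surjective⟩

/-- Composition of coverings given by one morphism. -/
lemma qcCover_comp {P X Y : Scheme.{u}} (k : P ⟶ X) (f : X ⟶ Y)
    (hk : ∀ V : X.Opens, IsAffineOpen V → ∃ W : P.Opens, IsCompact (W : Set P) ∧
      k.base '' (W : Set P) = (V : Set X))
    (hf : ∀ V : Y.Opens, IsAffineOpen V → ∃ W : X.Opens, IsCompact (W : Set X) ∧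
      f.base '' (W : Set X) = (V : Set Y)) :
    ∀ V : Y.Opens, IsAffineOpen V → ∃ W : P.Opens, IsCompact (W : Set P) ∧
      (k ≫ f).base '' (W : Set P) = (V : Set Y) := by
  intro V hV
  obtain ⟨W, hWc, hW⟩ := hf V hV
  haveI := (qcCover_singleton_iff k).mpr hk
  have h := QuasiCompactCover.isCompactOpenCovered_of_isCompact (PreZeroHypercover.singleton.{u} k) hWc
  rw [IsCompactOpenCovered.iff_of_unique] at h
  obtain ⟨W', hW'c, hW'⟩ := h
  refine ⟨W', hW'c, ?_⟩
  rw [← hW, ← hW']
  rw [Set.image_image]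
  rfl

/-- A set is clopen if its preimage by an fpqc covering is. -/
theorem isClopen_of_preimage {X Y : Scheme.{u}} (f : X ⟶ Y) [Flat f]
    (hqc : ∀ V : Y.Opens, IsAffineOpen V → ∃ W : X.Opens, IsCompact (W : Set X) ∧
      f.base '' (W : Set X) = (V : Set Y))
    {A : Set Y} (hA : IsClopen (f.base ⁻¹' A)) : IsClopen A := by
  have hres : ∀ U : Y.affineOpens,
      IsClopen ((Subtype.val : {y // y ∈ (U : Y.Opens)} → Y) ⁻¹' A) := by
    intro U
    obtain ⟨W, hWc, hW⟩ := hqc U U.2
    haveI : IsAffine ((U : Y.Opens) : Scheme.{u}) := U.2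
    have hle : Set.range (W.ι ≫ f) ⊆ Set.range (U : Y.Opens).ι := by
      rintro _ ⟨w, rfl⟩
      rw [Scheme.Opens.range_ι]
      exact hW.subset ⟨w.1, w.2, rfl⟩
    let g := IsOpenImmersion.lift (U : Y.Opens).ι (W.ι ≫ f) hle
    have hg : g ≫ (U : Y.Opens).ι = W.ι ≫ f := IsOpenImmersion.lift_fac _ _ _
    have : Surjective g := by
      refine ⟨fun v ↦ ?_⟩
      obtain ⟨w, hw, e⟩ := hW.superset v.2
      refine ⟨⟨w, hw⟩, (U : Y.Opens).ι.isOpenEmbedding.injective ?_⟩
      rw [← Scheme.Hom.comp_apply, hg]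
      exact e
    have : Flat g := by
      haveI : Flat (g ≫ (U : Y.Opens).ι) := by rw [hg]; infer_instance
      exact MorphismProperty.of_postcomp (W := @Flat) (W' := @IsOpenImmersion) g (U : Y.Opens).ι
        inferInstance inferInstance
    haveI : CompactSpace (W : Scheme.{u}) := isCompact_iff_compactSpace.mp hWc
    haveI : QuasiCompact g := inferInstance
    have hq := Flat.isQuotientMap_of_surjective g
    have hpre : g.base ⁻¹' ((Subtype.val : {y // y ∈ (U : Y.Opens)} → Y) ⁻¹' A) =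
        (Subtype.val : {y // y ∈ W} → X) ⁻¹' (f.base ⁻¹' A) := by
      ext w
      show ((U : Y.Opens).ι (g w)) ∈ A ↔ f (W.ι w) ∈ A
      rw [← Scheme.Hom.comp_apply, hg, Scheme.Hom.comp_apply]
    constructor
    · refine hq.isClosed_preimage.mp ?_
      exact (congrArg IsClosed hpre).mpr (hA.1.preimage continuous_subtype_val)
    · refine hq.isOpen_preimage.mp ?_
      exact (congrArg IsOpen hpre).mpr (hA.2.preimage continuous_subtype_val)
  have hcov : TopologicalSpace.IsOpenCover fun U : Y.affineOpens ↦ (U : Y.Opens) :=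
    .mk (iSup_affineOpens_eq_top Y)
  exact ⟨hcov.isClosed_iff_coe_preimage.mpr fun U ↦ (hres U).1,
    hcov.isOpen_iff_coe_preimage.mpr fun U ↦ (hres U).2⟩

/-- A set is open if its preimage by an fpqc covering is. -/
theorem isOpen_of_preimage {X Y : Scheme.{u}} (f : X ⟶ Y) [Flat f]
    (hqc : ∀ V : Y.Opens, IsAffineOpen V → ∃ W : X.Opens, IsCompact (W : Set X) ∧
      f.base '' (W : Set X) = (V : Set Y))
    {A : Set Y} (hA : IsOpen (f.base ⁻¹' A)) : IsOpen A := by
  have hres : ∀ U : Y.affineOpens,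
      IsOpen ((Subtype.val : {y // y ∈ (U : Y.Opens)} → Y) ⁻¹' A) := by
    intro U
    obtain ⟨W, hWc, hW⟩ := hqc U U.2
    haveI : IsAffine ((U : Y.Opens) : Scheme.{u}) := U.2
    have hle : Set.range (W.ι ≫ f) ⊆ Set.range (U : Y.Opens).ι := by
      rintro _ ⟨w, rfl⟩
      rw [Scheme.Opens.range_ι]
      exact hW.subset ⟨w.1, w.2, rfl⟩
    let g := IsOpenImmersion.lift (U : Y.Opens).ι (W.ι ≫ f) hle
    have hg : g ≫ (U : Y.Opens).ι = W.ι ≫ f := IsOpenImmersion.lift_fac _ _ _
    have : Surjective g := by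
      refine ⟨fun v ↦ ?_⟩
      obtain ⟨w, hw, e⟩ := hW.superset v.2
      refine ⟨⟨w, hw⟩, (U : Y.Opens).ι.isOpenEmbedding.injective ?_⟩
      rw [← Scheme.Hom.comp_apply, hg]
      exact e
    have : Flat g := by
      haveI : Flat (g ≫ (U : Y.Opens).ι) := by rw [hg]; infer_instance
      exact MorphismProperty.of_postcomp (W := @Flat) (W' := @IsOpenImmersion) g (U : Y.Opens).ι
        inferInstance inferInstance
    haveI : CompactSpace (W : Scheme.{u}) := isCompact_iff_compactSpace.mp hWc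
    haveI : QuasiCompact g := inferInstance
    have hq := Flat.isQuotientMap_of_surjective g
    have hpre : g.base ⁻¹' ((Subtype.val : {y // y ∈ (U : Y.Opens)} → Y) ⁻¹' A) =
        (Subtype.val : {y // y ∈ W} → X) ⁻¹' (f.base ⁻¹' A) := by
      ext w
      show ((U : Y.Opens).ι (g w)) ∈ A ↔ f (W.ι w) ∈ A
      rw [← Scheme.Hom.comp_apply, hg, Scheme.Hom.comp_apply]
    refine hq.isOpen_preimage.mp ?_
    exact (congrArg IsOpen hpre).mpr (hA.preimage continuous_subtype_val)
  have hcov : TopologicalSpace.IsOpenCover fun U : Y.affineOpens ↦ (U : Y.Opens) :=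
    .mk (iSup_affineOpens_eq_top Y)
  exact hcov.isOpen_iff_coe_preimage.mpr hres

end Groth.Reductive.FreeDiag
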