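import Groth.Agent.Reductive.MTIntegral
import Groth.Agent.Reductive.FpqcLocal
import Groth.Agent.EtaleBase.FpqcDescent
import Groth.Prelude.Def_TwC

/-!
Groups of multiplicative type (of any type) are locally trivialised in the sense of `LocTriv`.
-/

set_option autoImplicit false
universe u

open CategoryTheory MonoidalCategory CartesianMonoidalCategory MonObj AlgebraicGeometry Limits

noncomputable section

namespace Groth.Reductive.MTInt

open Groth.Reductive.FreeDiag (dsValHom_mul_hT qcCover_pullback_fst)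

variable {S : Scheme.{u}} {H : Over S} [GrpObj H]

/-- Character values as an equivalence. -/
def dsValEquiv {U : Scheme.{u}} (M : Type) [AddCommGroup M] (Z : Over U) :
    (Z ⟶ Red.DS U M) ≃* (Multiplicative M →* Γ(Z.left, ⊤)) :=
  { toFun := fun h ↦ dsValHom h
    invFun := fun ψ ↦ dsMk Z ψ
    left_inv := fun h ↦ dsVal_ext fun m ↦ dsVal_dsMk Z (dsValHom h) m
    right_inv := fun ψ ↦ MonoidHom.ext fun m ↦ dsVal_dsMk Z ψ m
    map_mul' := fun a b ↦ MonoidHom.ext fun m ↦ dsVal_mul a b m }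

/-- A trivialisation from an isomorphism with a diagonalisable group. -/
def trivOfIso {U : Scheme.{u}} {g : U ⟶ S} {M : Type} [AddCommGroup M]
    (e : Grp.mk (Red.bc g H) ≅ Grp.mk (Red.DS U M)) {Y : Over S} (t : Y.left ⟶ U)
    (ht : t ≫ g = Y.hom) : Triv H Y :=
  let e' : ∀ Z : Over U, (Z ⟶ Red.bc g H) ≃* (Z ⟶ Red.DS U M) := fun Z ↦
    { toFun := fun x ↦ x ≫ e.hom.hom.hom
      invFun := fun x ↦ x ≫ e.inv.hom.hom
      left_inv := fun x ↦ by
        simp only [Category.assoc]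
        rw [show e.hom.hom.hom ≫ e.inv.hom.hom = 𝟙 _ from congrArg (fun z ↦ z.hom.hom) e.hom_inv_id,
          Category.comp_id]
      right_inv := fun x ↦ by
        simp only [Category.assoc]
        rw [show e.inv.hom.hom ≫ e.hom.hom.hom = 𝟙 _ from congrArg (fun z ↦ z.hom.hom) e.inv_hom_id,
          Category.comp_id]
      map_mul' := fun x y ↦ by
        haveI : IsMonHom e.hom.hom.hom := inferInstance
        exact MonObj.mul_comp x y e.hom.hom.hom }
  let c : ∀ {Z : Over S} (z : Z ⟶ Y), (Over.map g).obj (Over.mk (z.left ≫ t)) ≅ Z := fun {Z} z ↦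
    Over.isoMk (Iso.refl Z.left) (by
      show 𝟙 _ ≫ Z.hom = (z.left ≫ t) ≫ g
      rw [Category.id_comp, Category.assoc, ht, Over.w])
  let E2 : ∀ {Z : Over S} (z : Z ⟶ Y),
      (Z ⟶ H) ≃* ((Over.map g).obj (Over.mk (z.left ≫ t)) ⟶ H) := fun {Z} z ↦
    { toFun := fun x ↦ (c z).hom ≫ x
      invFun := fun x ↦ (c z).inv ≫ x
      left_inv := fun x ↦ by simp
      right_inv := fun x ↦ by simp
      map_mul' := fun a b ↦ MonObj.comp_mul _ a b }
  { M := M
    val := fun {Z} z ↦ (E2 z).trans (((bcPointEquiv g H (Over.mk (z.left ≫ t))).symm).trans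
      ((e' _).trans (dsValEquiv M _)))
    nat := fun {Z W} w z h ↦ by
      let w' : (Over.mk ((w ≫ z).left ≫ t) : Over U) ⟶ Over.mk (z.left ≫ t) :=
        Over.homMk w.left (Category.assoc _ _ _).symm
      refine MonoidHom.ext fun m ↦ ?_
      have h1 : (bcPointEquiv g H (Over.mk ((w ≫ z).left ≫ t))).symm ((E2 (w ≫ z)) (w ≫ h)) =
          w' ≫ (bcPointEquiv g H (Over.mk (z.left ≫ t))).symm ((E2 z) h) := by
        apply (bcPointEquiv g H _).injective
        rw [bcPointEquiv_comp, MulEquiv.apply_symm_apply, MulEquiv.apply_symm_apply]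
        show (c (w ≫ z)).hom ≫ w ≫ h = (Over.map g).map w' ≫ (c z).hom ≫ h
        rw [← Category.assoc, ← Category.assoc]
        congr 1
      show dsVal (((bcPointEquiv g H _).symm ((E2 (w ≫ z)) (w ≫ h))) ≫ e.hom.hom.hom) m = _
      rw [h1, Category.assoc, dsVal_comp]
      rfl }

/-- Groups of multiplicative type are locally trivialised. -/
theorem locTriv_of_locally (hH : TwC.Locally S TwC.Topology.fpqc (fun S' f =>
    ∃ (M : Type) (_ : AddCommGroup M), Nonempty (Grp.mk (Red.bc f H) ≅ Grp.mk (Red.DS S' M)))) :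
    LocTriv H := by
  obtain ⟨S', f, hflat, hsurj, hqc, hloc⟩ := hH
  refine ⟨?_, fun Y hY ↦ ?_⟩
  · refine Groth.Reductive.of_fpqc_locally @IsAffineHom inferInstance H.hom f hflat hqc fun s' ↦ ?_
    obtain ⟨U, hU, M, _, ⟨e⟩⟩ := hloc s'
    refine ⟨U, hU, ?_⟩
    let e' := (CategoryTheory.Over.forget _).mapIso ((Grp.forget _).mapIso e)
    have hw : pullback.snd H.hom (U.ι ≫ f) = e'.hom ≫ (Red.DS (U : Scheme.{u}) M).hom :=
      (Over.w e.hom.hom.hom).symm
    rw [hw]
    refine (MorphismProperty.cancel_left_of_respectsIso @IsAffineHom e'.hom _).mpr ?_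
    exact MorphismProperty.pullback_snd _ _ (inferInstanceAs (IsAffineHom (Spec.map _)))
  · classical
    haveI := hflat
    haveI := hsurj
    let p := pullback.fst Y.hom f
    let q := pullback.snd Y.hom f
    obtain ⟨W, hWc, hW⟩ := qcCover_pullback_fst f hqc Y.hom ⊤ (isAffineOpen_top _)
    choose U hU M hM he using hloc
    have hV : ∀ w : (pullback Y.hom f : Scheme.{u}), ∃ V : (pullback Y.hom f).Opens,
        IsAffineOpen V ∧ w ∈ V ∧ V ≤ q ⁻¹ᵁ U (q.base w) := fun w ↦ by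
      obtain ⟨V, h1, h2, h3⟩ := exists_isAffineOpen_mem_and_subset
        (U := q ⁻¹ᵁ U (q.base w)) (show w ∈ q ⁻¹ᵁ U (q.base w) from hU _)
      exact ⟨V, h1, h2, h3⟩
    choose V hVa hVmem hVle using hV
    obtain ⟨T, hT⟩ := hWc.elim_finite_subcover (fun w ↦ (V w : Set (pullback Y.hom f : Scheme.{u})))
      (fun w ↦ (V w).isOpen) fun w _ ↦ Set.mem_iUnion.mpr ⟨w, hVmem w⟩
    let Z : T → Over S := fun w ↦ Over.mk (((V w.1).ι ≫ p) ≫ Y.hom)
    let g : ∀ w : T, Z w ⟶ Y := fun w ↦ Over.homMk ((V w.1).ι ≫ p) rfl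
    haveI : ∀ w : T, IsAffine (Z w).left := fun w ↦ hVa w.1
    haveI : Flat p := MorphismProperty.pullback_fst _ _ hflat
    refine ⟨@Cover.mk S Y T inferInstance Z g inferInstance
      (fun w ↦ inferInstanceAs (Flat ((V w.1).ι ≫ p))) (fun y ↦ ?_), fun w ↦ ⟨?_⟩⟩
    · obtain ⟨x, hx, e⟩ := hW.superset (show y ∈ ((⊤ : Y.left.Opens) : Set Y.left) from trivial)
      obtain ⟨w, hw⟩ := Set.mem_iUnion.mp (hT hx)
      obtain ⟨hwT, hxw⟩ := Set.mem_iUnion.mp hw
      exact ⟨⟨w, hwT⟩, ⟨x, hxw⟩, e⟩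
    · letI := hM (q.base w.1)
      refine trivOfIso (he (q.base w.1)).some
        ((pullback Y.hom f).homOfLE (hVle w.1) ≫ (q ∣_ U (q.base w.1))) ?_
      show _ = ((V w.1).ι ≫ p) ≫ Y.hom
      rw [Category.assoc, morphismRestrict_ι_assoc, Scheme.homOfLE_ι_assoc, Category.assoc,
        pullback.condition]

/-- Groups of multiplicative type and of finite type are locally trivialised. -/
theorem locTriv_of_multTypeFT (hH : SGA3x.IsMultTypeFT H) : LocTriv H := by
  obtain ⟨S', f, h1, h2, h3, h4⟩ := hH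
  refine locTriv_of_locally ⟨S', f, h1, h2, h3, fun s' ↦ ?_⟩
  obtain ⟨U, hU, M, hM, -, e⟩ := h4 s'
  exact ⟨U, hU, M, hM, e⟩

end Groth.Reductive.MTInt
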