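import Groth.Agent.Reductive.RedRankLocal
import Groth.Agent.RedX.SmoothTorus
import Groth.Agent.SmoothSlice.Sections
import Groth.Agent.S2992
import Groth.Agent.AlgGrp1.Antiaffine

/-!
# Maximal tori of geometric fibres and their extension to etale neighbourhoods
-/

set_option autoImplicit false

universe u

open CategoryTheory Limits MonoidalCategory CartesianMonoidalCategory MonObj GrpObj AlgebraicGeometry

noncomputable section

namespace Groth.Reductive.RedRank

/-- An affine smooth group over an algebraically closed field has a maximal torus. -/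
theorem exists_hasMax {K : Type u} [Field K] [IsAlgClosed K] (G : Over (Spec (CommRingCat.of K))) [GrpObj G]
    [IsAffine G.left] [Smooth G.hom] : ∃ r, HasMax r G := by
  obtain ⟨H, _, i, hi, hopen, hr, hc⟩ := Groth.GrpschAbsch.NeutralSet.exists_neutral_openSubgroup G
  haveI := hi; haveI := hopen; haveI := hc
  haveI hcl : IsClosedImmersion i.left :=
    IsClosedImmersion.of_isPreimmersion i.left (by rw [hr]; exact isClosed_connectedComponent)
  haveI : IsAffine H.left := isAffine_of_isAffineHom i.left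
  haveI : Smooth H.hom := by rw [← Over.w i]; infer_instance
  haveI : Mono i := Over.mono_of_mono_left i
  obtain ⟨B, _, iB, _, X, a, o, hB, -, -⟩ := Groth.AlgGrp1.exists_borel_proper (G := H)
  obtain ⟨T, _, t, hm, hmono, hT, hmax⟩ := Groth.AlgGrp1.exists_maxTorus_of_borel hB
  haveI := hm; haveI := hmono
  obtain ⟨r, hr'⟩ := exists_splitRank hT
  refine ⟨r, T, inferInstance, (t ≫ iB) ≫ i, ⟨Groth.Abvar.isMonHom_comp hm hi, inferInstance, hT,
    fun T' _ j _ _ f hT' hf => ?_⟩, hr'⟩
  obtain ⟨-, -, hconn⟩ := Groth.AlgGrp1.isAffine_smooth_connected_of_isTorus hT'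
  have hsub : Set.range j.left ⊆ Set.range i.left := by
    rw [hr]
    refine (isPreconnected_range j.left.continuous).subset_connectedComponent
      ⟨η[T'].left (IsLocalRing.closedPoint K), ?_⟩
    exact congr(($(IsMonHom.one_hom j)).left.base (IsLocalRing.closedPoint K))
  let j₀ : T' ⟶ H := Over.homMk (IsOpenImmersion.lift i.left j.left hsub) (by
    rw [← Over.w i, IsOpenImmersion.lift_fac_assoc, Over.w j])
  have hj₀ : j₀ ≫ i = j := Over.OverMorphism.ext (IsOpenImmersion.lift_fac _ _ _)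
  haveI : IsMonHom j₀ := Groth.AlgGrp1.isMonHom_of_points _ fun X a b => by
    rw [← cancel_mono i, Category.assoc, hj₀, MonObj.mul_comp, MonObj.mul_comp, Category.assoc, hj₀,
      Category.assoc, hj₀]
  haveI : Mono j₀ := mono_of_mono_fac hj₀
  exact hmax T' j₀ f hT' (by rw [← cancel_mono i, Category.assoc, hj₀, hf])

variable {S : Scheme.{u}} {G : Over S} [GrpObj G]

/-- The isomorphism underlying an isomorphism of groups. -/
def isoS {A B : Over S} [GrpObj A] [GrpObj B] (w : Grp.mk A ≅ Grp.mk B) : A ≅ B :=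
  ⟨w.hom.hom.hom, w.inv.hom.hom, congrArg (fun z ↦ z.hom.hom) w.hom_inv_id,
    congrArg (fun z ↦ z.hom.hom) w.inv_hom_id⟩

instance isMonHom_isoS_hom {A B : Over S} [GrpObj A] [GrpObj B]
    (w : Grp.mk A ≅ Grp.mk B) : IsMonHom (isoS w).hom := inferInstanceAs (IsMonHom w.hom.hom.hom)

instance isMonHom_isoS_inv {A B : Over S} [GrpObj A] [GrpObj B]
    (w : Grp.mk A ≅ Grp.mk B) : IsMonHom (isoS w).inv := inferInstanceAs (IsMonHom w.inv.hom.hom)

/-- The comparison of iterated base changes on the first projection. -/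
theorem bcTwo_fst {S₁ S₂ : Scheme.{u}} (f : S₁ ⟶ S₂) (g : S₂ ⟶ S) (h : S₁ ⟶ S) (w : f ≫ g = h)
    (A : Over S) [GrpObj A] :
    (isoS (bcTwo f g h w A)).hom.left ≫ pullback.fst A.hom h =
      pullback.fst (Red.bc g A).hom f ≫ pullback.fst A.hom g := by
  subst w
  show ((Over.pullbackComp f g).inv.app A).left ≫ pullback.fst A.hom (f ≫ g) = _
  simp [Over.pullbackComp, Over.mapPullbackAdj, conjugateIsoEquiv, conjugateEquiv, mateEquiv]
  repeat' (first | simp only [Category.assoc] | erw [pullback.lift_fst_assoc] | erw [pullback.lift_fst] | erw [Category.id_comp])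

/-- A split subtorus over a field-valued point extends to an etale neighbourhood. -/
theorem exists_torus_nbhd' [Smooth G.hom] [IsAffineHom G.hom] {K : Type u} [Field K] [IsAlgClosed K]
    (g : Spec (CommRingCat.of K) ⟶ S) {r : ℕ} {T₀ : Over (Spec (CommRingCat.of K))} [GrpObj T₀]
    (hr : SplitRank r T₀) (i₀ : T₀ ⟶ Red.bc g G) [IsMonHom i₀] [Mono i₀] :
    ∃ (W : Scheme.{u}) (p : W ⟶ S) (w : W) (T : Over W) (_ : GrpObj T) (i : T ⟶ Red.bc p G),
      Etale p ∧ p w = g.base (IsLocalRing.closedPoint K) ∧ IsMonHom i ∧ Mono i ∧ Red.IsTorus T ∧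
        Red.IsSplitTorusWith (Fin r → ℤ) T := by
  have hm₀ : IsMonHom i₀ := inferInstance
  obtain ⟨w₀⟩ := hr
  let M := Fin r → ℤ
  let D : Over S := Red.DS S M
  obtain ⟨d⟩ := isSplit_DS_bc g M
  let e₀ := isoS (d ≪≫ w₀.symm)
  let u₀ : Red.bc g D ⟶ Red.bc g G := e₀.hom ≫ i₀
  haveI : IsMonHom u₀ := Groth.Abvar.isMonHom_comp (inferInstance) hm₀
  haveI : Mono u₀ := inferInstance
  obtain ⟨φ₀, hφ₀, hφl⟩ := exists_family g u₀
  obtain ⟨A, υ, ⟨hυ, hrep⟩, hsmA, -⟩ := Groth.Agent.S2992.result D G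
    (Groth.RedX.isTorus_DS S M) inferInstance inferInstance
  haveI := hsmA
  obtain ⟨a, ha, -⟩ := hrep (Over.mk g) φ₀ hφ₀
  obtain ⟨u, hum, hu⟩ := exists_hom_of_family (W := A.left) A.hom υ hυ
  haveI := hum
  haveI : IsSeparated G.hom := inferInstance
  haveI : IsSeparated (Red.bc A.hom G).hom := inferInstanceAs (IsSeparated (pullback.snd G.hom A.hom))
  have hD : Red.IsTorus (Red.bc A.hom D) :=
    Groth.GrpschAbsch.TorusToAbelian.isTorus_bc (Groth.RedX.isTorus_DS S M) _
  obtain ⟨V, hV, hVmono⟩ := Groth.Reductive.FreeDiag.exists_open_monoLocus (u := u)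
    (Groth.Reductive.FreeDiag.isMultTypeFT_of_isTorus hD)
  have hag : a.left ≫ A.hom = g := Over.w a
  let a₀ := a.left (IsLocalRing.closedPoint _)
  have ha₀ : a₀ ∈ V := by
    rw [hV]
    refine (Groth.Reductive.FreeDiag.prop_map_fieldPoint_iff u (MorphismProperty.monomorphisms _) _
      a.left).mp ?_
    let cD : Red.bc g D ≅ Red.bc a.left (Red.bc A.hom D) := (isoS (bcTwo a.left A.hom g hag D)).symm
    let cG := isoS (bcTwo a.left A.hom g hag G)
    have key : cD.hom ≫ (Over.pullback a.left).map u ≫ cG.hom = u₀ := by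
      refine Over.OverMorphism.ext (pullback.hom_ext ?_ ?_)
      · have h1 : cD.hom.left ≫ pullback.fst (Red.bc A.hom D).hom a.left ≫ pullback.fst D.hom A.hom =
            pullback.fst D.hom g := by
          rw [← bcTwo_fst a.left A.hom g hag D, ← Category.assoc, ← Over.comp_left,
            show cD.hom ≫ (isoS (bcTwo a.left A.hom g hag D)).hom = 𝟙 _ from cD.hom_inv_id]
          exact Category.id_comp _
        have h2 : ((Over.pullback a.left).map u).left ≫ pullback.fst (Red.bc A.hom G).hom a.left =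
            pullback.fst (Red.bc A.hom D).hom a.left ≫ u.left := pullback.lift_fst _ _ _
        simp only [Over.comp_left, Category.assoc, cG, bcTwo_fst]
        rw [reassoc_of% h2, hu, ← hφl, ← ha]
        rw [Over.comp_left, ← Category.assoc]
        congr 1
        refine pullback.hom_ext ?_ ?_
        · rw [Category.assoc]
          refine h1.trans ?_
          simp
        · rw [Category.assoc]
          erw [pullback.condition]
          rw [← Category.assoc]
          erw [Over.w cD.hom]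
          simp
      · exact (Over.w _).trans (Over.w u₀).symm
    haveI : Mono ((Over.pullback a.left).map u) := by
      have : (Over.pullback a.left).map u = cD.inv ≫ u₀ ≫ cG.inv := by
        rw [← key]; simp
      rw [this]; infer_instance
    exact (Over.forget _).map_mono ((Over.pullback a.left).map u)
  obtain ⟨W, hW, w, het, hw⟩ := Groth.SmoothSlice.exists_etale_section (V.ι ≫ A.hom) ⟨a₀, ha₀⟩
  let q := hW ≫ V.ι
  let p := q ≫ A.hom
  haveI : Mono ((Over.pullback V.ι).map u) := Over.mono_of_mono_left _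
  let cV := isoS (bcTwo hW V.ι q rfl (Red.bc A.hom G))
  let cV' := isoS (bcTwo hW V.ι q rfl (Red.bc A.hom D))
  let cG := isoS (bcTwo q A.hom p rfl G)
  let cD := isoS (bcTwo q A.hom p rfl D)
  haveI : IsMonHom ((Over.pullback V.ι).map u) := Groth.Abvar.isMonHom_map (f := V.ι) u
  haveI : IsMonHom ((Over.pullback hW).map ((Over.pullback V.ι).map u)) := Groth.Abvar.isMonHom_map (f := hW) _
  haveI : Mono ((Over.pullback hW).map ((Over.pullback V.ι).map u)) := inferInstance
  obtain ⟨dp⟩ := isSplit_DS_bc p M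
  refine ⟨W, p, w, Red.bc p D, inferInstance, cD.inv ≫ cV'.inv ≫
    (Over.pullback hW).map ((Over.pullback V.ι).map u) ≫ cV.hom ≫ cG.hom, by simpa [p, q] using het, ?_,
    inferInstance, inferInstance,
    Groth.GrpschAbsch.TorusToAbelian.isTorus_bc (Groth.RedX.isTorus_DS S M) _, ⟨dp⟩⟩
  refine hw.trans ?_
  show A.hom a₀ = _
  rw [show A.hom a₀ = (a.left ≫ A.hom) (IsLocalRing.closedPoint _) from rfl, hag]

/-- A subtorus of rank `r` of a geometric fibre extends to an etale neighbourhood. -/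
theorem exists_torus_nbhd [Smooth G.hom] [IsAffineHom G.hom] (s : S) {r : ℕ}
    (h : HasMax r (Red.geomFibre s G)) :
    ∃ (W : Scheme.{u}) (p : W ⟶ S) (w : W) (T : Over W) (_ : GrpObj T) (i : T ⟶ Red.bc p G),
      Etale p ∧ p w = s ∧ IsMonHom i ∧ Mono i ∧ Red.IsTorus T ∧
        Red.IsSplitTorusWith (Fin r → ℤ) T := by
  obtain ⟨T₀, _, i₀, ⟨hm₀, hmono₀, -, -⟩, hr⟩ := h
  haveI := hm₀; haveI := hmono₀
  obtain ⟨W, p, w, T, iT, i, hp, hw, rest⟩ := exists_torus_nbhd' (Red.geomPt s) hr i₀
  refine ⟨W, p, w, T, iT, i, hp, hw.trans ?_, rest⟩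
  rw [Scheme.Hom.comp_apply, Scheme.fromSpecResidueField_apply]

/-- A split subtorus over an algebraically closed extension bounds the rank of the maximal tori. -/
theorem exists_subtorus_of_extension {K L : Type u} [Field K] [IsAlgClosed K] [Field L] [IsAlgClosed L]
    (ψ : Spec (CommRingCat.of L) ⟶ Spec (CommRingCat.of K)) {X : Over (Spec (CommRingCat.of K))} [GrpObj X]
    [IsAffine X.left] [Smooth X.hom] {r : ℕ} {T₀ : Over (Spec (CommRingCat.of L))} [GrpObj T₀]
    (hr : SplitRank r T₀) (i₀ : T₀ ⟶ Red.bc ψ X) [IsMonHom i₀] [Mono i₀] :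
    ∃ (T : Over (Spec (CommRingCat.of K))) (_ : GrpObj T) (i : T ⟶ X), IsMonHom i ∧ Mono i ∧ SplitRank r T := by
  obtain ⟨W, p, w, T, _, i, hp, -, hi, hmono, -, ⟨e⟩⟩ := exists_torus_nbhd' ψ hr i₀
  haveI := hp; haveI := hi; haveI := hmono
  haveI : Nonempty (Over.mk p).left := ⟨w⟩
  haveI : LocallyOfFiniteType (Over.mk p).hom := inferInstanceAs (LocallyOfFiniteType p)
  obtain ⟨σ⟩ := Groth.AlgGrp1.exists_point (Over.mk p)
  have hσ : σ.left ≫ p = 𝟙 _ := Over.w σ
  haveI := Groth.Abvar.isMonHom_map (f := σ.left) i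
  let v := Groth.Reductive2.MaxTorus.unBc p σ.left hσ X
  haveI : IsMonHom v := Groth.Reductive2.MaxTorus.isMonHom_unBc p σ.left hσ X
  haveI : IsIso v := by
    haveI : IsIso v.left := by
      show IsIso (pullback.fst (Red.bc p X).hom σ.left ≫ pullback.fst X.hom p)
      rw [← bcTwo_fst σ.left p (𝟙 _) hσ X]
      infer_instance
    haveI : IsIso ((Over.forget _).map v) := this
    exact isIso_of_reflects_iso v (Over.forget _)
  obtain ⟨d⟩ := isSplit_DS_bc σ.left (Fin r → ℤ)
  exact ⟨Red.bc σ.left T, inferInstance, (Over.pullback σ.left).map i ≫ v,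
    Groth.Abvar.isMonHom_comp inferInstance inferInstance,
    inferInstance, ⟨bcIso σ.left e ≪≫ d⟩⟩

/-- A split subtorus bounds the rank below, and is maximal where it has the largest rank. -/
theorem le_and_maximal [Smooth G.hom] [IsAffineHom G.hom] {W : Scheme.{u}} (p : W ⟶ S)
    [LocallyOfFiniteType p] [LocallyQuasiFinite p] {T : Over W} [GrpObj T] (i : T ⟶ Red.bc p G) [IsMonHom i]
    [Mono i] {r : ℕ} (hT : Red.IsSplitTorusWith (Fin r → ℤ) T) (x : W) {r' : ℕ}
    (h : HasMax r' (Red.geomFibre (p.base x) G)) :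
    r ≤ r' ∧ (r' ≤ r → AGF.IsMaxTorus ((Over.pullback (Red.geomPt x)).map i)) := by
  obtain ⟨T₀, _, i₀, hi₀, hr₀⟩ := (hasMax_bc_iff p x r').mpr h
  haveI : IsAffine (Red.geomFibre x (Red.bc p G)).left :=
    haveI : IsAffineHom (pullback.snd (pullback.snd G.hom p) (Red.geomPt x)) :=
      MorphismProperty.pullback_snd _ _ (MorphismProperty.pullback_snd (P := @IsAffineHom) _ _ inferInstance)
    isAffine_of_isAffineHom (pullback.snd (pullback.snd G.hom p) (Red.geomPt x))
  haveI : Smooth (Red.geomFibre x (Red.bc p G)).hom :=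
    MorphismProperty.pullback_snd _ _ (MorphismProperty.pullback_snd (P := @Smooth) _ _ inferInstance)
  haveI := Groth.Abvar.isMonHom_map (f := Red.geomPt x) i
  obtain ⟨w⟩ := hT
  obtain ⟨d⟩ := isSplit_DS_bc (Red.geomPt x) (Fin r → ℤ)
  have hr : SplitRank r (Red.geomFibre x T) := ⟨bcIso (Red.geomPt x) w ≪≫ d⟩
  exact ⟨le_of_maxTorus hi₀ hr₀ ((Over.pullback (Red.geomPt x)).map i) hr,
    fun hle => isMaxTorus_of_rank hi₀ hr₀ _ hr hle⟩

/-- The geometric fibres have maximal tori. -/
theorem exists_hasMax_fibre [Smooth G.hom] [IsAffineHom G.hom] (s : S) :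
    ∃ r, HasMax r (Red.geomFibre s G) := by
  haveI : IsAffine (Red.geomFibre s G).left :=
    haveI : IsAffineHom (pullback.snd G.hom (Red.geomPt s)) :=
      MorphismProperty.pullback_snd _ _ inferInstance
    isAffine_of_isAffineHom (pullback.snd G.hom (Red.geomPt s))
  haveI : Smooth (Red.geomFibre s G).hom := inferInstanceAs (Smooth (pullback.snd G.hom (Red.geomPt s)))
  exact exists_hasMax _

end Groth.Reductive.RedRank

end
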