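import Mathlib

/-!
A closed subgroup of a diagonalisable group which is trivial at a prime is trivial near it.
-/

set_option autoImplicit false
universe u

open MonoidAlgebra

noncomputable section

namespace Groth.Reductive.KernelTrivial

variable {R A : Type u} [CommRing R] [CommRing A] {G : Type} [CommGroup G]

/-- If the elements `u g - 1` are nilpotent after multiplication by `r₀` and vanish modulo `p` after
multiplication by elements outside `p`, they vanish after multiplication by one element outside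
`p`. -/
theorem exists_kill (p : Ideal R) [p.IsPrime] (j : R →+* A) (w : G →* A) (ε : A →+* R)
    (hεj : ∀ r, ε (j r) = r)
    (hgen : ∀ a, ∃ c : G →₀ R, a = c.sum fun g x ↦ j x * w g)
    (hεw : ∀ g, ε (w g) = 1) (S : Finset G) (hS : Subgroup.closure (S : Set G) = ⊤)
    (r₀ : R) (hr₀ : r₀ ∉ p) (hnil : ∀ g ∈ S, IsNilpotent (j r₀ * (w g - 1)))
    (hp : ∀ g, ∃ r, r ∉ p ∧ ∃ c : G →₀ R, (∀ d, c d ∈ p) ∧
      j r * (w g - 1) = c.sum fun d x ↦ j x * (w d - 1)) :
    ∃ r, r ∉ p ∧ ∀ g, j r * (w g - 1) = 0 := by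
  classical
  let J : Ideal A := Ideal.span ((fun g ↦ j r₀ * (w g - 1)) '' (S : Set G))
  have hJfg : J.FG := ⟨S.image fun g ↦ j r₀ * (w g - 1), by rw [Finset.coe_image]⟩
  haveI : Module.Finite A J := Module.Finite.iff_fg.mpr hJfg
  -- all `r₀ (w g - 1)` lie in `J`
  have hall : ∀ g, j r₀ * (w g - 1) ∈ J := by
    let K : Subgroup G :=
      { carrier := {g | j r₀ * (w g - 1) ∈ J}
        one_mem' := by simp
        mul_mem' := fun {a b} ha hb ↦ by
          show j r₀ * (w (a * b) - 1) ∈ J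
          have e : j r₀ * (w (a * b) - 1) = w b * (j r₀ * (w a - 1)) + j r₀ * (w b - 1) := by
            rw [map_mul]; ring
          rw [e]
          exact add_mem (J.mul_mem_left _ ha) hb
        inv_mem' := fun {a} ha ↦ by
          show j r₀ * (w a⁻¹ - 1) ∈ J
          have e : j r₀ * (w a⁻¹ - 1) = -(w a⁻¹) * (j r₀ * (w a - 1)) := by
            have h1 : w a⁻¹ * w a = 1 := by rw [← map_mul, inv_mul_cancel, map_one]
            linear_combination (j r₀) * h1
          rw [e]
          exact J.mul_mem_left _ ha }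
    have : K = ⊤ := top_unique (hS ▸ (Subgroup.closure_le K).mpr fun g hg ↦
      Ideal.subset_span ⟨g, hg, rfl⟩)
    exact fun g ↦ (this ▸ Subgroup.mem_top g : g ∈ K)
  have haug : ∀ a, j r₀ * (a - j (ε a)) ∈ J := by
    intro a
    obtain ⟨c, rfl⟩ := hgen a
    simp only [Finsupp.sum, map_sum, map_mul, hεj, hεw, mul_one, ← Finset.sum_sub_distrib,
      Finset.mul_sum]
    refine J.sum_mem fun g _ ↦ ?_
    rw [show j r₀ * (j (c g) * w g - j (c g)) = j (c g) * (j r₀ * (w g - 1)) by ring]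
    exact J.mul_mem_left _ (hall g)
  -- `J` is nilpotent
  obtain ⟨N, hN⟩ : IsNilpotent J := hJfg.isNilpotent_iff_le_nilradical.mpr
    (Ideal.span_le.mpr (by rintro _ ⟨g, hg, rfl⟩; exact hnil g hg))
  -- one element outside `p` for all generators
  choose r hr c hc hrc using hp
  let ρ := ∏ g ∈ S, r g
  have hρ : ρ ∉ p := fun h ↦ by
    obtain ⟨g, _, hg⟩ := Ideal.IsPrime.prod_mem_iff.mp h
    exact hr g hg
  let P : Ideal A := p.map j
  have hρJ : ∀ y ∈ J, j ρ * y ∈ P * J := by
    intro y hy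
    induction hy using Submodule.span_induction with
    | mem x hx =>
      obtain ⟨g, hg, rfl⟩ := hx
      obtain ⟨q, hq⟩ : r g ∣ ρ := Finset.dvd_prod_of_mem _ hg
      have e : j ρ * (j r₀ * (w g - 1)) =
          j q * (j r₀ * ((c g).sum fun d x ↦ j x * (w d - 1))) := by
        rw [← hrc g, hq, map_mul]; ring
      show j ρ * (j r₀ * (w g - 1)) ∈ P * J
      rw [e, Finsupp.sum, Finset.mul_sum]
      refine (P * J).mul_mem_left _ ((P * J).sum_mem fun d _ ↦ ?_)
      rw [mul_left_comm]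
      exact Ideal.mul_mem_mul (Ideal.mem_map_of_mem j (hc g d)) (hall d)
    | zero => simp
    | add x y _ _ hx hy => rw [mul_add]; exact add_mem hx hy
    | smul a x _ hx =>
      rw [smul_eq_mul, mul_left_comm]
      exact (P * J).mul_mem_left _ hx
  let f : Module.End A J := algebraMap A (Module.End A J) (j ρ)
  have hf : LinearMap.range f ≤ P • (⊤ : Submodule A J) := by
    rintro _ ⟨x, rfl⟩
    have h1 : ((f x : J) : A) ∈ (P • (⊤ : Submodule A J)).map J.subtype := by
      rw [Submodule.map_smul'', Submodule.map_top, Submodule.range_subtype, smul_eq_mul]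
      exact hρJ x x.2
    obtain ⟨z, hz, hze⟩ := h1
    rwa [← Subtype.ext hze]
  obtain ⟨φ, hφm, -, hφc, hφ⟩ := LinearMap.exists_monic_and_coeff_mem_pow_and_aeval_eq_zero_of_range_le_smul
    A f P hf
  let δ := φ.eval (j ρ)
  have hδJ : ∀ y ∈ J, δ * y = 0 := fun y hy ↦ by
    have e := congrArg (fun t : Module.End A J ↦ ((t ⟨y, hy⟩ : J) : A)) hφ
    rw [Polynomial.aeval_algebraMap_apply] at e
    simpa [δ] using e
  let δ₀ := ε δ
  have hδ₀ : δ₀ ∉ p := by
    have hP : ∀ a ∈ P, ε a ∈ p := fun a ha ↦ by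
      refine (Ideal.map_le_iff_le_comap (K := p.comap ε)).mpr (fun x hx ↦ ?_) ha
      show ε (j x) ∈ p
      rwa [hεj]
    have e : δ - j ρ ^ φ.natDegree ∈ P := by
      show φ.eval (j ρ) - _ ∈ P
      rw [Polynomial.eval_eq_sum_range, Finset.sum_range_succ, hφm.coeff_natDegree, one_mul,
        add_sub_cancel_right]
      refine P.sum_mem fun k hk ↦ P.mul_mem_right _ ?_
      exact Ideal.pow_le_self (Nat.sub_ne_zero_of_lt (Finset.mem_range.mp hk)) (hφc k)
    have e' := hP _ e
    rw [map_sub, map_pow, hεj] at e'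
    intro h
    exact hρ (Ideal.IsPrime.mem_of_pow_mem inferInstance φ.natDegree
      ((Submodule.sub_mem_iff_right p h).mp e'))
  -- hence `δ₀ r₀` shifts the filtration by powers of `J`
  let t := j δ₀ * j r₀
  have hstep : ∀ k y, y ∈ J ^ (k + 1) → t * y ∈ J ^ (k + 2) := by
    intro k y hy
    have h1 : j r₀ * (δ - j δ₀) ∈ J := haug δ
    have h2 : δ * y = 0 := hδJ y (Ideal.pow_le_self (Nat.succ_ne_zero k) hy)
    have e : t * y = -((j r₀ * (δ - j δ₀)) * y) := by
      show j δ₀ * j r₀ * y = _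
      linear_combination (j r₀) * h2
    rw [e, show k + 2 = 1 + (k + 1) by omega, pow_add, pow_one]
    exact neg_mem (Ideal.mul_mem_mul h1 hy)
  have hiter : ∀ k, ∀ y ∈ J, t ^ k * y ∈ J ^ (k + 1) := fun k ↦ by
    induction k with
    | zero => intro y hy; simpa using hy
    | succ k ih =>
      intro y hy
      rw [pow_succ' t, mul_assoc]
      exact hstep k _ (ih y hy)
  refine ⟨(δ₀ * r₀) ^ N * r₀, fun h ↦ ?_, fun g ↦ ?_⟩
  · rcases (inferInstance : p.IsPrime).mem_or_mem h with h | h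
    · rcases (inferInstance : p.IsPrime).mem_or_mem
        (Ideal.IsPrime.mem_of_pow_mem inferInstance N h) with h | h
      · exact hδ₀ h
      · exact hr₀ h
    · exact hr₀ h
  · have h := hiter N _ (hall g)
    rw [pow_succ, hN, Ideal.zero_eq_bot, Ideal.bot_mul, Ideal.mem_bot] at h
    rw [map_mul, map_pow, map_mul, mul_assoc]
    exact h

/-- A closed subgroup of a diagonalisable group which is trivial at a prime is trivial near it. -/
theorem exists_span_le [Group.FG G] (𝔎 : Ideal (MonoidAlgebra R G)) (p : Ideal R) [p.IsPrime]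
    (haug : ∀ f ∈ 𝔎, f.coeff.sum (fun _ x ↦ x) = 0)
    (hpow : ∀ (L : Type u) [Field L] (j : R →+* L) (χ : G →* L),
      (∀ f ∈ 𝔎, f.coeff.sum (fun g x ↦ j x * χ g) = 0) →
      ∀ k : ℕ, ∀ f ∈ 𝔎, f.coeff.sum (fun g x ↦ j x * χ g ^ k) = 0)
    (hp : ∀ g, ∃ r, r ∉ p ∧ ∃ f ∈ 𝔎, ∀ d,
      f.coeff d - ((single g r : MonoidAlgebra R G).coeff d - (single 1 r : MonoidAlgebra R G).coeff d) ∈ p) :
    ∃ r, r ∉ p ∧ ∀ g, single g r - single 1 r ∈ 𝔎 := by
  classical
  obtain ⟨S, hS⟩ := Group.fg_def.mp ‹Group.FG G›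
  let A := MonoidAlgebra R G ⧸ 𝔎
  let mk := Ideal.Quotient.mk 𝔎
  let j : R →+* A := mk.comp singleOneRingHom
  let w : G →* A := (mk : MonoidAlgebra R G →* A).comp (of R G)
  let e₀ : MonoidAlgebra R G →+* R := liftNCRingHom (RingHom.id R) 1 fun _ _ ↦ Commute.all _ _
  have hsum : ∀ {C : Type u} [CommRing C] (φ : MonoidAlgebra R G →+* C) (f : MonoidAlgebra R G),
      φ f = f.coeff.sum fun g x ↦ φ (single g x) := fun φ f ↦ by
    conv_lhs => rw [← MonoidAlgebra.sum_coeff_single f]
    rw [map_finsuppSum]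
  have he₀ : ∀ f, e₀ f = f.coeff.sum fun _ x ↦ x := fun f ↦ by
    rw [hsum e₀ f]
    exact Finsupp.sum_congr fun g _ ↦ by simp [e₀]
  let ε : A →+* R := Ideal.Quotient.lift 𝔎 e₀ fun f hf ↦ (he₀ f).trans (haug f hf)
  have hjw : ∀ x g, j x * w g = mk (single g x) := fun x g ↦ by
    show mk (single 1 x) * mk (single g 1) = _
    rw [← map_mul, single_mul_single, one_mul, mul_one]
  -- `r₀`: the partial sums
  choose r hr f hf hfc using hp
  let Φ : G → Finset (Finset G) := fun g ↦
    ((f g).coeff.support ∪ {g, 1}).powerset.filter fun I ↦ g ∈ I ∧ 1 ∉ I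
  let r₀ := ∏ g ∈ S, ∏ I ∈ Φ g, ∑ d ∈ I, (f g).coeff d
  have hr₀ : r₀ ∉ p := by
    intro h
    obtain ⟨g, _, h⟩ := Ideal.IsPrime.prod_mem_iff.mp h
    obtain ⟨I, hI, h⟩ := Ideal.IsPrime.prod_mem_iff.mp h
    obtain ⟨hgI, h1I⟩ := (Finset.mem_filter.mp hI).2
    have h2 : ∑ d ∈ I, ((single g (r g) : MonoidAlgebra R G).coeff d -
        (single 1 (r g) : MonoidAlgebra R G).coeff d) = r g := by
      simp [coeff_single, Finsupp.single_apply, Finset.sum_sub_distrib, hgI, h1I]
    have h3 := p.sub_mem h (p.sum_mem (t := I) fun d _ ↦ hfc g d)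
    rw [← Finset.sum_sub_distrib] at h3
    simp only [sub_sub_cancel] at h3
    rw [h2] at h3
    exact hr g h3
  have hnil : ∀ g ∈ S, IsNilpotent (j r₀ * (w g - 1)) := by
    intro g hg
    rw [nilpotent_iff_mem_prime]
    intro q hq
    by_contra hmem
    let L := q.ResidueField
    let π : A →+* L := algebraMap A L
    have hπ : π (j r₀ * (w g - 1)) ≠ 0 := fun h ↦
      hmem (Ideal.algebraMap_residueField_eq_zero.mp h)
    rw [map_mul, map_sub, map_one, mul_ne_zero_iff, sub_ne_zero] at hπ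
    obtain ⟨hπr, hπg⟩ := hπ
    let χ : G →* L := (π : A →* L).comp w
    have hann : ∀ h ∈ 𝔎, h.coeff.sum (fun d x ↦ π (j x) * χ d) = 0 := fun h hh ↦ by
      have e : (h.coeff.sum fun d x ↦ π (j x) * χ d) = π (mk h) := by
        rw [show π (mk h) = (π.comp mk) h from rfl, hsum (π.comp mk) h]
        exact Finsupp.sum_congr fun d _ ↦ by
          show π (j _) * π (w d) = _
          rw [← map_mul, hjw]
          rfl
      rw [e, show mk h = 0 from Ideal.Quotient.eq_zero_iff_mem.mpr hh, map_zero]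
    have hk := fun k ↦ hpow L (π.comp j) χ hann k (f g) (hf g)
    let s := (f g).coeff.support ∪ {g, 1}
    have hlin : ∀ Q : Polynomial L, ∑ d ∈ s, π (j ((f g).coeff d)) * Q.eval (χ d) = 0 := by
      intro Q
      simp only [Polynomial.eval_eq_sum, Polynomial.sum, Finset.mul_sum]
      rw [Finset.sum_comm]
      refine Finset.sum_eq_zero fun k _ ↦ ?_
      have e : ∑ d ∈ s, π (j ((f g).coeff d)) * χ d ^ k = 0 := by
        rw [← hk k, Finsupp.sum]
        refine (Finset.sum_subset Finset.subset_union_left fun d _ hd ↦ ?_).symm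
        simp [Finsupp.notMem_support_iff.mp hd]
      calc ∑ d ∈ s, π (j ((f g).coeff d)) * (Q.coeff k * χ d ^ k)
          = Q.coeff k * ∑ d ∈ s, π (j ((f g).coeff d)) * χ d ^ k := by
            rw [Finset.mul_sum]; exact Finset.sum_congr rfl fun d _ ↦ by ring
        _ = 0 := by rw [e, mul_zero]
    -- isolate the value of `g`
    let Q : Polynomial L := ∏ d ∈ s.filter (fun d ↦ χ d ≠ χ g),
      (Polynomial.X - Polynomial.C (χ d))
    have hQg : Q.eval (χ g) ≠ 0 := by
      rw [show Q.eval (χ g) = ∏ d ∈ s.filter (fun d ↦ χ d ≠ χ g), (χ g - χ d) by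
        simp [Q, Polynomial.eval_prod]]
      exact Finset.prod_ne_zero_iff.mpr fun d hd ↦ sub_ne_zero.mpr
        (Ne.symm (Finset.mem_filter.mp hd).2)
    let I := s.filter fun d ↦ χ d = χ g
    have hIsum : π (j (∑ d ∈ I, (f g).coeff d)) * Q.eval (χ g) = 0 := by
      rw [← hlin Q, map_sum, map_sum, Finset.sum_mul,
        ← Finset.sum_filter_add_sum_filter_not s (fun d ↦ χ d = χ g)]
      have e1 : ∀ d ∈ I, π (j ((f g).coeff d)) * Q.eval (χ d) =
          π (j ((f g).coeff d)) * Q.eval (χ g) := fun d hd ↦ by rw [(Finset.mem_filter.mp hd).2]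
      have e2 : ∀ d ∈ s.filter (fun d ↦ ¬ χ d = χ g), π (j ((f g).coeff d)) * Q.eval (χ d) = 0 :=
        fun d hd ↦ by
          have : Q.eval (χ d) = 0 := by
            simp only [Q, Polynomial.eval_prod]
            exact Finset.prod_eq_zero hd (by simp)
          rw [this, mul_zero]
      rw [Finset.sum_eq_zero e2, add_zero, Finset.sum_congr rfl e1]
    have hI : I ∈ Φ g := by
      refine Finset.mem_filter.mpr ⟨Finset.mem_powerset.mpr (Finset.filter_subset _ _), ?_, ?_⟩
      · exact Finset.mem_filter.mpr ⟨by simp [s], rfl⟩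
      · intro h1
        exact hπg ((Finset.mem_filter.mp h1).2.symm.trans (map_one χ))
    refine hπr ?_
    obtain ⟨q₁, hq₁⟩ : (∑ d ∈ I, (f g).coeff d) ∣ r₀ :=
      (Finset.dvd_prod_of_mem (fun I ↦ ∑ d ∈ I, (f g).coeff d) hI).trans
        (Finset.dvd_prod_of_mem (fun g ↦ ∏ I ∈ Φ g, ∑ d ∈ I, (f g).coeff d) hg)
    rw [hq₁, map_mul, map_mul, (mul_eq_zero.mp hIsum).resolve_right hQg, zero_mul]
  obtain ⟨t, ht, htg⟩ := exists_kill p j w ε (fun x ↦ by show e₀ (single 1 x) = x; simp [e₀])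
    (fun a ↦ by
      obtain ⟨h, hh⟩ := Ideal.Quotient.mk_surjective a
      refine ⟨h.coeff, hh.symm.trans ((hsum mk h).trans ?_)⟩
      exact Finsupp.sum_congr fun d _ ↦ (hjw _ _).symm)
    (fun g ↦ by show e₀ (single g 1) = 1; simp [e₀]) S hS r₀ hr₀ hnil
    (fun g ↦ by
      let h : MonoidAlgebra R G := single g (r g) - single 1 (r g) - f g
      refine ⟨r g, hr g, h.coeff, fun d ↦ ?_, ?_⟩
      · have e := p.neg_mem (hfc g d)
        simpa [h] using e
      · have e1 : j (r g) * (w g - 1) = mk h := by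
          rw [mul_sub, hjw, map_sub mk, map_sub mk,
            show mk (f g) = 0 from Ideal.Quotient.eq_zero_iff_mem.mpr (hf g), sub_zero, mul_one]
          rfl
        have e2 : (h.coeff.sum fun _ x ↦ j x) = 0 := by
          rw [← map_finsuppSum, show h.coeff.sum (fun _ x ↦ x) = 0 from ?_, map_zero]
          rw [← he₀, map_sub, map_sub, show e₀ (f g) = 0 from (he₀ _).trans (haug _ (hf g))]
          simp [e₀]
        have e3 : (h.coeff.sum fun d x ↦ j x * (w d - 1)) =
            (h.coeff.sum fun d x ↦ mk (single d x)) - h.coeff.sum fun _ x ↦ j x := by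
          rw [← Finsupp.sum_sub]
          exact Finsupp.sum_congr fun d _ ↦ by rw [mul_sub, hjw, mul_one]
        rw [e1, hsum mk h, e3, e2, sub_zero])
  refine ⟨t, ht, fun g ↦ Ideal.Quotient.eq_zero_iff_mem.mp ?_⟩
  rw [← htg g, mul_sub, hjw, mul_one, map_sub]
  rfl

end Groth.Reductive.KernelTrivial
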