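import Groth.Agent.Reductive.MultTypeHom
import Groth.Agent.Reductive.KernelTrivialAlg

/-!
The locus where a homomorphism from a group of multiplicative type is a monomorphism is open.
-/

set_option autoImplicit false
universe u

open CategoryTheory MonoidalCategory CartesianMonoidalCategory MonObj GrpObj AlgebraicGeometry

noncomputable section

namespace Groth.Reductive.FreeDiag

attribute [local instance] algΓ'

variable {S : Scheme.{u}} {H G : Over S} [GrpObj H] [GrpObj G] {u : H ⟶ G}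

/-- The kernel of `u` is trivial over `Z`. -/
def KerTriv (u : H ⟶ G) (Z : Over S) : Prop :=
  ∀ W : Over S, (W ⟶ Z) → ∀ x : W ⟶ H, x ≫ u = 1 → x = 1

lemma KerTriv.of_hom {Z Z' : Over S} (h : KerTriv u Z) (a : Z' ⟶ Z) : KerTriv u Z' :=
  fun W w x ↦ h W (w ≫ a) x

lemma KerTriv.descend {W Z : Over S} (p : W ⟶ Z) [Flat p.left] [Surjective p.left]
    (h : KerTriv u W) : KerTriv u Z := by
  intro Y y x hx
  let k := Limits.pullback.fst y.left p.left
  haveI : Flat k := MorphismProperty.pullback_fst _ _ ‹_›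
  haveI : Surjective k := MorphismProperty.pullback_fst _ _ ‹_›
  haveI : Epi k := Flat.epi_of_flat_of_surjective k
  let Y' : Over S := Over.mk (k ≫ Y.hom)
  let a : Y' ⟶ Y := Over.homMk k rfl
  let b : Y' ⟶ W := Over.homMk (Limits.pullback.snd y.left p.left) (by
    show _ = k ≫ Y.hom
    rw [← Over.w p, ← Limits.pullback.condition_assoc, Over.w y])
  have e := h Y' b (a ≫ x) (by rw [Category.assoc, hx, MonObj.comp_one])
  rw [← MonObj.comp_one a] at e
  exact Over.OverMorphism.ext ((cancel_epi k).mp (congrArg (fun z : Y' ⟶ H ↦ z.left) e))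

lemma KerTriv.of_openCover {Z : Over S} (V : Z.left → Z.left.Opens) (hV : ∀ z, z ∈ V z)
    (h : ∀ z, KerTriv u (Over.mk ((V z).ι ≫ Z.hom))) : KerTriv u Z := by
  intro Y y x hx
  let 𝒰 : Z.left.OpenCover := Scheme.openCoverOfIsOpenCover _ V
    (.mk (top_unique fun z _ ↦ TopologicalSpace.Opens.mem_iSup.mpr ⟨z, hV z⟩))
  refine Over.OverMorphism.ext (Scheme.Cover.hom_ext (𝒰.pullback₁ y.left) _ _ fun z ↦ ?_)
  show Limits.pullback.fst y.left (V z).ι ≫ _ = Limits.pullback.fst y.left (V z).ι ≫ _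
  let k := Limits.pullback.fst y.left (V z).ι
  let Y' : Over S := Over.mk (k ≫ Y.hom)
  let a : Y' ⟶ Y := Over.homMk k rfl
  let b : Y' ⟶ Over.mk ((V z).ι ≫ Z.hom) :=
    Over.homMk (Limits.pullback.snd y.left (V z).ι) (by
      show _ ≫ _ ≫ Z.hom = k ≫ Y.hom
      rw [← Limits.pullback.condition_assoc, Over.w y])
  have e := h z Y' b (a ≫ x) (by rw [Category.assoc, hx, MonObj.comp_one])
  rw [← MonObj.comp_one a] at e
  exact congrArg (fun z : Y' ⟶ H ↦ z.left) e

variable [IsMonHom u]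

/-- A base change of `u` is a monomorphism iff its kernel is trivial. -/
lemma mono_map_iff {T : Scheme.{u}} (g : T ⟶ S) :
    Mono ((Over.pullback g).map u).left ↔ KerTriv u (Over.mk g) := by
  constructor
  · intro hm W w x hx
    haveI : Mono ((Over.pullback g).map u) := (Over.forget T).mono_of_mono_map hm
    have hw : w.left ≫ g = W.hom := Over.w w
    let ci : (Over.map g).obj (Over.mk w.left) ⟶ W :=
      Over.homMk (𝟙 _) ((Category.id_comp _).trans hw.symm)
    let c : W ⟶ (Over.map g).obj (Over.mk w.left) :=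
      Over.homMk (𝟙 _) ((Category.id_comp _).trans hw)
    have hcci : c ≫ ci = 𝟙 W := Over.OverMorphism.ext (Category.id_comp _)
    let y := (Over.mapPullbackAdj g).homEquiv (Over.mk w.left) H (ci ≫ x)
    have e : y ≫ (Over.pullback g).map u = 1 ≫ (Over.pullback g).map u := by
      apply qPt_injective g
      rw [qPt_map, qPt_map, show qPt g y = ci ≫ x from Equiv.symm_apply_apply _ _, Category.assoc, hx,
        MonObj.comp_one,
        show qPt g (1 : Over.mk w.left ⟶ Red.bc g H) = 1 from map_one (bcPointEquiv g H _),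
        MonObj.one_comp]
    have e' := congrArg (qPt g) ((cancel_mono _).mp e)
    rw [show qPt g y = ci ≫ x from Equiv.symm_apply_apply _ _,
      show qPt g (1 : Over.mk w.left ⟶ Red.bc g H) = 1 from map_one (bcPointEquiv g H _)] at e'
    have e'' := c ≫= e'
    rwa [← Category.assoc, hcci, Category.id_comp, MonObj.comp_one] at e''
  · intro h
    haveI : Mono ((Over.pullback g).map u) := ⟨fun {Z} y y' e ↦ by
      apply qPt_injective g
      have e' := congrArg (qPt g) e
      rw [qPt_map, qPt_map] at e'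
      have h1 : (qPt g y * (qPt g y')⁻¹) ≫ u = 1 := by
        rw [MonObj.mul_comp, e', GrpObj.inv_comp, mul_inv_cancel]
      exact mul_inv_eq_one.mp (h _ (Over.homMk Z.hom rfl) _ h1)⟩
    infer_instance

omit [IsMonHom u] in
lemma exists_lift_denominators {R K : Type u} [CommRing R] [Field K] (φ : R →+* K) (p : Ideal R)
    [p.IsPrime] (hφ : ∀ x, ∃ s, s ∉ p ∧ ∃ a, φ s * x = φ a) {G : Type} [CommGroup G]
    (x : MonoidAlgebra K G) :
    ∃ s, s ∉ p ∧ ∃ a : MonoidAlgebra R G,
      MonoidAlgebra.single 1 (φ s) * x = MonoidAlgebra.mapRingHom G φ a := by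
  induction x using MonoidAlgebra.induction_linear with
  | zero => exact ⟨1, (Ideal.ne_top_iff_one p).mp Ideal.IsPrime.ne_top', 0, by simp⟩
  | add a b ha hb =>
    obtain ⟨s, hs, a', ha⟩ := ha
    obtain ⟨t, ht, b', hb⟩ := hb
    refine ⟨s * t, Ideal.IsPrime.mul_notMem inferInstance hs ht,
      MonoidAlgebra.single 1 t * a' + MonoidAlgebra.single 1 s * b', ?_⟩
    simp only [map_add, map_mul, MonoidAlgebra.mapRingHom_single, ← ha, ← hb]
    rw [show (MonoidAlgebra.single (1 : G) (φ s * φ t) : MonoidAlgebra K G) =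
        MonoidAlgebra.single 1 (φ s) * MonoidAlgebra.single 1 (φ t) by
          rw [MonoidAlgebra.single_mul_single, _root_.one_mul]]
    ring
  | single g c =>
    obtain ⟨s, hs, a, ha⟩ := hφ c
    exact ⟨s, hs, MonoidAlgebra.single g a, by
      rw [MonoidAlgebra.mapRingHom_single, MonoidAlgebra.single_mul_single, _root_.one_mul, ha]⟩

omit [IsMonHom u] in
lemma exists_of_mem_map {R K : Type u} [CommRing R] [Field K] (φ : R →+* K) (p : Ideal R)
    [p.IsPrime] (hφ : ∀ x, ∃ s, s ∉ p ∧ ∃ a, φ s * x = φ a) {G : Type} [CommGroup G]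
    (I : Ideal (MonoidAlgebra R G)) (x : MonoidAlgebra K G)
    (hx : x ∈ I.map (MonoidAlgebra.mapRingHom G φ)) :
    ∃ s, s ∉ p ∧ ∃ f ∈ I, MonoidAlgebra.single 1 (φ s) * x = MonoidAlgebra.mapRingHom G φ f := by
  induction hx using Submodule.span_induction with
  | mem x hx =>
    obtain ⟨f, hf, rfl⟩ := hx
    exact ⟨1, (Ideal.ne_top_iff_one p).mp Ideal.IsPrime.ne_top', f, hf, by
      rw [map_one, ← MonoidAlgebra.one_def, _root_.one_mul]⟩
  | zero => exact ⟨1, (Ideal.ne_top_iff_one p).mp Ideal.IsPrime.ne_top', 0, I.zero_mem, by simp⟩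
  | add a b _ _ ha hb =>
    obtain ⟨s, hs, f, hf, ha⟩ := ha
    obtain ⟨t, ht, f', hf', hb⟩ := hb
    refine ⟨s * t, Ideal.IsPrime.mul_notMem inferInstance hs ht,
      MonoidAlgebra.single 1 t * f + MonoidAlgebra.single 1 s * f',
      I.add_mem (I.mul_mem_left _ hf) (I.mul_mem_left _ hf'), ?_⟩
    simp only [map_add, map_mul, MonoidAlgebra.mapRingHom_single, ← ha, ← hb]
    rw [show (MonoidAlgebra.single (1 : G) (φ s * φ t) : MonoidAlgebra K G) =
        MonoidAlgebra.single 1 (φ s) * MonoidAlgebra.single 1 (φ t) by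
          rw [MonoidAlgebra.single_mul_single, _root_.one_mul]]
    ring
  | smul c a _ ha =>
    obtain ⟨s, hs, f, hf, ha⟩ := ha
    obtain ⟨t, ht, c', hc⟩ := exists_lift_denominators φ p hφ c
    refine ⟨s * t, Ideal.IsPrime.mul_notMem inferInstance hs ht, c' * f, I.mul_mem_left _ hf, ?_⟩
    rw [map_mul (MonoidAlgebra.mapRingHom G φ), ← ha, ← hc, smul_eq_mul, map_mul,
      show (MonoidAlgebra.single (1 : G) (φ s * φ t) : MonoidAlgebra K G) =
        MonoidAlgebra.single 1 (φ s) * MonoidAlgebra.single 1 (φ t) by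
          rw [MonoidAlgebra.single_mul_single, _root_.one_mul]]
    ring

omit [IsMonHom u] in
/-- If the only point of a closed subgroup over the residue field is the unit, the ideal contains
approximations of the elements `g - 1`. -/
lemma exists_approx {R K : Type u} [CommRing R] [Field K] (φ : R →+* K) (p : Ideal R) [p.IsPrime]
    (hφker : ∀ x, φ x = 0 ↔ x ∈ p) (hφ : ∀ x, ∃ s, s ∉ p ∧ ∃ a, φ s * x = φ a)
    {G : Type} [CommGroup G] (𝔎 : Ideal (MonoidAlgebra R G))
    (h : ∀ (C : Type u) [CommRing C] (ψ : K →+* C) (χ : G →* C),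
      (∀ f ∈ 𝔎, ev (ψ.comp φ) χ f = 0) → ∀ m, χ m = 1) (m : G) :
    ∃ r, r ∉ p ∧ ∃ f ∈ 𝔎, ∀ d,
      f.coeff d - ((MonoidAlgebra.single m r : MonoidAlgebra R G).coeff d -
        (MonoidAlgebra.single 1 r : MonoidAlgebra R G).coeff d) ∈ p := by
  classical
  let I := 𝔎.map (MonoidAlgebra.mapRingHom G φ)
  have h4 : MonoidAlgebra.single m 1 - 1 ∈ I := by
    refine Ideal.Quotient.eq.mp ?_
    rw [map_one]
    refine h _ ((Ideal.Quotient.mk I).comp MonoidAlgebra.singleOneRingHom)
      ((Ideal.Quotient.mk I : MonoidAlgebra K G →* _).comp (MonoidAlgebra.of K G)) (fun f hf ↦ ?_) m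
    refine Eq.trans ?_ (Ideal.Quotient.eq_zero_iff_mem.mpr
      (Ideal.mem_map_of_mem (MonoidAlgebra.mapRingHom G φ) hf))
    clear hf
    induction f using MonoidAlgebra.induction_linear with
    | zero => simp
    | add a b ha hb => simp only [map_add, ha, hb]
    | single a x =>
      rw [ev_single, MonoidAlgebra.mapRingHom_single]
      show Ideal.Quotient.mk I (MonoidAlgebra.single 1 (φ x)) *
        Ideal.Quotient.mk I (MonoidAlgebra.single a 1) = _
      rw [← map_mul, MonoidAlgebra.single_mul_single, _root_.one_mul, _root_.mul_one]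
  obtain ⟨s, hs, f, hf, hsf⟩ := exists_of_mem_map φ p hφ 𝔎 _ h4
  refine ⟨s, hs, f, hf, fun d ↦ (hφker _).mp ?_⟩
  rw [mul_sub, MonoidAlgebra.single_mul_single, _root_.one_mul, _root_.mul_one, _root_.mul_one] at hsf
  have e1 := congrArg (fun z ↦ z.coeff d) hsf
  simp only [MonoidAlgebra.coeff_mapRingHom, MonoidAlgebra.coeff_sub, Finsupp.sub_apply,
    MonoidAlgebra.coeff_single, Finsupp.single_apply] at e1
  simp only [MonoidAlgebra.coeff_single, Finsupp.single_apply, map_sub, apply_ite φ, map_zero]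
  rw [← e1, sub_self]

set_option maxHeartbeats 1000000 in
/-- Near a point of an affine chart where the kernel is trivial, it is trivial. -/
theorem exists_open_kerTriv [IsSeparated G.hom] {T : Scheme.{u}} [IsAffine T] (g : T ⟶ S)
    {M : Type} [AddCommGroup M] [AddGroup.FG M] (e : Red.DS T M ≅ Red.bc g H) [IsMonHom e.hom]
    (t : T)
    (ht : ∀ (K : Type u) [Field K] (p : Spec (CommRingCat.of K) ⟶ T),
      p.base (IsLocalRing.closedPoint K) = t → KerTriv u (Over.mk (p ≫ g))) :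
    ∃ V : T.Opens, t ∈ V ∧ KerTriv u (Over.mk (V.ι ≫ g)) := by
  classical
  haveI : IsClosedImmersion η[G].left := by
    haveI : IsClosedImmersion (η[G].left ≫ G.hom) := by
      rw [Over.w η[G]]
      exact MorphismProperty.id_mem @IsClosedImmersion _
    exact MorphismProperty.of_postcomp (W := @IsClosedImmersion) (W' := @IsSeparated) η[G].left
      G.hom inferInstance inferInstance
  let D := Red.DS T M
  let Y := 𝟙_ (Over T)
  haveI : IsAffine Y.left := inferInstanceAs (IsAffine T)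
  haveI : IsAffine ((Over.map g).obj D).left := inferInstanceAs (IsAffine D.left)
  let R : Type u := Γ(Y.left, ⊤)
  let γD : MonoidAlgebra R (Multiplicative M) →+* Γ(D.left, ⊤) := ptEv (𝟙 D) (toUnit D)
  have hγD : ∀ (Z : Over T) (h : Z ⟶ D) x, h.left.appTop (γD x) = ptEv h (toUnit Z) x := by
    intro Z h x
    have e1 := ptEv_comp h (𝟙 D) (toUnit D)
    rw [Category.comp_id, toUnit_unique (h ≫ toUnit D) (toUnit Z)] at e1
    exact (RingHom.congr_fun e1 x).symm
  have hγDs : Function.Surjective γD := by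
    intro y
    let f := fst D Y
    obtain ⟨x, hx⟩ := (κ₀_bijective (T := T) (M := M) (Y := Y)).2 (f.left.appTop y)
    refine ⟨x, ?_⟩
    let l : D ⟶ D ⊗ Y := lift (𝟙 D) (toUnit D)
    have e1 : γD x = l.left.appTop (κ₀ x) := by
      show ptEv (𝟙 D) (toUnit D) x = _
      have e2 := ptEv_comp l (fst D Y) (snd D Y)
      rw [lift_fst, lift_snd] at e2
      exact RingHom.congr_fun e2 x
    rw [e1, hx, ← CommRingCat.comp_apply, ← Scheme.Hom.comp_appTop, ← Over.comp_left, lift_fst]
    simp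
  -- the kernel
  let ρ := qPt g e.hom ≫ u
  let k := Limits.pullback.fst ρ.left η[G].left
  haveI : IsClosedImmersion k := MorphismProperty.pullback_fst _ _ ‹_›
  have hto : ∀ (Z : Over T) (h : Z ⟶ D), grpVal g e u h = 1 ↔
      ∀ r, k.appTop r = 0 → h.left.appTop r = 0 := by
    intro Z h
    have hval : grpVal g e u h = (Over.map g).map h ≫ ρ := by
      have e1 := grpVal_comp g e u h (𝟙 D)
      rw [Category.comp_id] at e1
      rw [e1, grpVal, Category.id_comp]
    have hone : ∀ (Z' : Over S), ((1 : Z' ⟶ G)).left = Z'.hom ≫ η[G].left := fun Z' ↦ by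
      rw [Hom.one_def, Over.comp_left]
      rfl
    rw [hval]
    constructor
    · intro e1 r hr
      have e' : h.left ≫ ρ.left = ((Over.map g).obj Z).hom ≫ η[G].left := by
        rw [← hone, ← e1]
        rfl
      rw [show h.left = Limits.pullback.lift h.left _ e' ≫ k from
        (Limits.pullback.lift_fst _ _ _).symm, Scheme.Hom.comp_appTop, CommRingCat.comp_apply, hr,
        map_zero]
    · intro e1
      obtain ⟨l, hl⟩ := exists_lift_of_appTop_ker k h.left e1
      have hη : η[G].left ≫ G.hom = 𝟙 _ := Over.w η[G]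
      have e' : h.left ≫ ρ.left = ((Over.map g).obj Z).hom ≫ η[G].left := by
        have e2 : l ≫ Limits.pullback.snd ρ.left η[G].left = ((Over.map g).obj Z).hom := by
          have e3 : h.left ≫ ρ.left ≫ G.hom = ((Over.map g).obj Z).hom := by
            rw [Over.w ρ]
            exact Over.w ((Over.map g).map h)
          rw [← hl, Category.assoc, show k ≫ ρ.left ≫ G.hom = Limits.pullback.snd _ _ from
            by rw [Limits.pullback.condition_assoc, hη]; exact Category.comp_id _] at e3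
          exact e3
        rw [← e2, ← hl, Category.assoc, Category.assoc, Limits.pullback.condition]
      refine Over.OverMorphism.ext ?_
      rw [hone, ← e']
      rfl
  let 𝔎 : Ideal (MonoidAlgebra R (Multiplicative M)) := (RingHom.ker k.appTop.hom).comap γD
  have hker : ∀ (Z : Over T) (h : Z ⟶ D), grpVal g e u h = 1 ↔
      ∀ f ∈ 𝔎, ptEv h (toUnit Z) f = 0 := by
    intro Z h
    rw [hto]
    refine ⟨fun h1 f hf ↦ ?_, fun h1 r hr ↦ ?_⟩
    · rw [← hγD]; exact h1 _ hf
    · obtain ⟨f, rfl⟩ := hγDs r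
      rw [hγD]
      exact h1 f hr
  have hval1 : ∀ Z : Over T, grpVal g e u (1 : Z ⟶ D) = 1 := fun Z ↦ by
    have e1 := grpVal_mul g e u (1 : Z ⟶ D) 1
    rw [_root_.one_mul (1 : Z ⟶ D)] at e1
    exact left_eq_mul.mp e1
  have hsum : ∀ {C : Type u} [CommRing C] (j : R →+* C) (χ : Multiplicative M →* C)
      (f : MonoidAlgebra R (Multiplicative M)), ev j χ f = f.coeff.sum fun d x ↦ j x * χ d := by
    intro C _ j χ f
    conv_lhs => rw [← MonoidAlgebra.sum_coeff_single f]
    rw [map_finsuppSum]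
    exact Finsupp.sum_congr fun d _ ↦ ev_single j χ d _
  have hunit : (toUnit Y : Y ⟶ 𝟙_ (Over T)).left.appTop.hom = RingHom.id _ := by
    rw [toUnit_unique (toUnit Y) (𝟙 Y)]
    exact congrArg CommRingCat.Hom.hom Scheme.Hom.id_appTop
  have haug : ∀ f ∈ 𝔎, f.coeff.sum (fun _ x ↦ x) = 0 := fun f hf ↦ by
    have e1 := (hker Y 1).mp (hval1 Y) f hf
    rw [hsum, hunit] at e1
    refine Eq.trans (Finsupp.sum_congr fun d _ ↦ ?_) e1
    rw [dsValHom_apply, dsVal_one, _root_.mul_one]
    rfl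
  -- test points
  have htest : ∀ (C : Type u) [CommRing C] (j : R →+* C) (χ : Multiplicative M →* C)
      (f : MonoidAlgebra R (Multiplicative M)),
      ptEv (hT (Y := Y) C j χ) (toUnit (mkT C j)) f = ΓT C j (ev j χ f) := by
    intro C _ j χ f
    rw [toUnit_unique (toUnit (mkT C j)) (yT (Y := Y) C j)]
    exact RingHom.congr_fun (ptEv_hT C j χ) f
  have hkerT : ∀ (C : Type u) [CommRing C] (j : R →+* C) (χ : Multiplicative M →* C),
      grpVal g e u (hT (Y := Y) C j χ) = 1 ↔ ∀ f ∈ 𝔎, ev j χ f = 0 := by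
    intro C _ j χ
    rw [hker]
    refine forall₂_congr fun f _ ↦ ?_
    rw [htest]
    exact map_eq_zero_iff _ (ΓT_bijective C j).1
  have hpow : ∀ (L : Type u) [Field L] (j : R →+* L) (χ : Multiplicative M →* L),
      (∀ f ∈ 𝔎, f.coeff.sum (fun d x ↦ j x * χ d) = 0) →
      ∀ k : ℕ, ∀ f ∈ 𝔎, f.coeff.sum (fun d x ↦ j x * χ d ^ k) = 0 := by
    intro L _ j χ h k
    have hχ : grpVal g e u (hT (Y := Y) L j χ) = 1 :=
      (hkerT L j χ).mpr fun f hf ↦ (hsum j χ f).trans (h f hf)
    have hk : ∀ k : ℕ, grpVal g e u (hT (Y := Y) L j (χ ^ k)) = 1 := fun k ↦ by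
      induction k with
      | zero =>
        rw [show hT (Y := Y) L j (χ ^ 0) = (1 : mkT (Y := Y) L j ⟶ D) from dsVal_ext fun m ↦ by
          rw [dsVal_hT, dsVal_one, pow_zero, MonoidHom.one_apply, map_one]]
        exact hval1 _
      | succ k ih =>
        rw [show hT (Y := Y) L j (χ ^ (k + 1)) = hT L j (χ ^ k) * hT L j χ from dsVal_ext fun m ↦ by
          rw [dsVal_mul, dsVal_hT, dsVal_hT, dsVal_hT, pow_succ, MonoidHom.mul_apply, map_mul],
          grpVal_mul, ih, hχ, _root_.one_mul]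
    intro f hf
    have := (hkerT L j _).mp (hk k) f hf
    rw [hsum] at this
    exact this
  -- the prime of `t`
  let t' : Spec (CommRingCat.of R) := T.isoSpec.hom t
  let p : Ideal R := t'.asIdeal
  haveI : p.IsPrime := t'.isPrime
  let K := FractionRing (R ⧸ p)
  let φ : R →+* K := (algebraMap (R ⧸ p) K).comp (Ideal.Quotient.mk p)
  have hφker : ∀ x, φ x = 0 ↔ x ∈ p := fun x ↦ by
    rw [← Ideal.Quotient.eq_zero_iff_mem]
    exact map_eq_zero_iff _ (IsFractionRing.injective (R ⧸ p) K)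
  have hφlift : ∀ x, ∃ s, s ∉ p ∧ ∃ a, φ s * x = φ a := fun x ↦ by
    obtain ⟨a, b, hb, rfl⟩ := IsFractionRing.div_surjective (R ⧸ p) x
    obtain ⟨a, rfl⟩ := Ideal.Quotient.mk_surjective a
    obtain ⟨b, rfl⟩ := Ideal.Quotient.mk_surjective b
    refine ⟨b, fun h ↦ nonZeroDivisors.ne_zero hb (Ideal.Quotient.eq_zero_iff_mem.mpr h), a, ?_⟩
    show φ b * (φ a / φ b) = φ a
    rw [mul_div_cancel₀ _ fun h ↦ nonZeroDivisors.ne_zero hb
      (Ideal.Quotient.eq_zero_iff_mem.mpr ((hφker b).mp h))]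
  let pK := (mkT (Y := Y) K φ).hom
  have hpK : pK.base (IsLocalRing.closedPoint K) = t := by
    have h1 : (Spec.map (CommRingCat.ofHom φ)).base (IsLocalRing.closedPoint K) = t' := by
      refine PrimeSpectrum.ext (Ideal.ext fun x ↦ ?_)
      show φ x ∈ IsLocalRing.maximalIdeal K ↔ x ∈ p
      rw [IsLocalRing.maximalIdeal_eq_bot, Ideal.mem_bot, hφker]
    show (Spec.map (CommRingCat.ofHom φ) ≫ T.isoSpec.inv ≫ 𝟙 T).base _ = t
    rw [Category.comp_id, Scheme.Hom.comp_apply, h1, ← Scheme.Hom.comp_apply, Iso.hom_inv_id]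
    rfl
  have hKer := ht K pK hpK
  have hp : ∀ m : Multiplicative M, ∃ r, r ∉ p ∧ ∃ f ∈ 𝔎, ∀ d,
      f.coeff d - ((MonoidAlgebra.single m r : MonoidAlgebra R _).coeff d -
        (MonoidAlgebra.single 1 r : MonoidAlgebra R _).coeff d) ∈ p := by
    refine exists_approx φ p hφker hφlift 𝔎 ?_
    intro C _ ψ χ hann m
    let jC : R →+* C := ψ.comp φ
    have h1 : grpVal g e u (hT (Y := Y) C jC χ) = 1 := (hkerT C jC χ).mpr hann
    let w : (Over.map g).obj (mkT (Y := Y) C jC) ⟶ Over.mk (pK ≫ g) :=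
      Over.homMk (Spec.map (CommRingCat.ofHom ψ)) (by
        show _ ≫ (Spec.map (CommRingCat.ofHom φ) ≫ _) ≫ g =
          (Spec.map (CommRingCat.ofHom jC) ≫ _) ≫ g
        simp only [jC, CommRingCat.ofHom_comp, Spec.map_comp, Category.assoc])
    have h2 : hT (Y := Y) C jC χ = (1 : mkT (Y := Y) C jC ⟶ D) := by
      have e1 := hKer _ w (qPt g (hT (Y := Y) C jC χ ≫ e.hom)) h1
      have e2 : hT (Y := Y) C jC χ ≫ e.hom = 1 :=
        qPt_injective g (e1.trans (map_one (bcPointEquiv g H _)).symm)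
      rw [← cancel_mono e.hom, e2, MonObj.one_comp]
    apply (ΓT_bijective (Y := Y) C jC).1
    rw [← dsVal_hT, h2, dsVal_one, map_one]
  haveI : Group.FG (Multiplicative M) := AddGroup.fg_iff_mul_fg.mp ‹_›
  obtain ⟨r, hr, hrk⟩ := Groth.Reductive.KernelTrivial.exists_span_le 𝔎 p haug hpow hp
  let r' : Γ(T, ⊤) := r
  refine ⟨T.basicOpen r', ?_, ?_⟩
  · rw [← Scheme.toSpecΓ_preimage_basicOpen]
    show r ∉ ((T.toSpecΓ).base t).asIdeal
    rw [show T.toSpecΓ = T.isoSpec.hom from rfl]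
    exact hr
  · intro W w x hx
    let W' : Over T := Over.mk (w.left ≫ (T.basicOpen r').ι)
    have hw : (w.left ≫ (T.basicOpen r').ι) ≫ g = W.hom := (Category.assoc _ _ _).trans (Over.w w)
    let ci : (Over.map g).obj W' ⟶ W := Over.homMk (𝟙 _) ((Category.id_comp _).trans hw.symm)
    let c : W ⟶ (Over.map g).obj W' := Over.homMk (𝟙 _) ((Category.id_comp _).trans hw)
    have hcci : c ≫ ci = 𝟙 W := Over.OverMorphism.ext (Category.id_comp _)
    let y := (Over.mapPullbackAdj g).homEquiv W' H (ci ≫ x)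
    let h := y ≫ e.inv
    have hh : qPt g (h ≫ e.hom) = ci ≫ x := by
      rw [Category.assoc, e.inv_hom_id, Category.comp_id]
      exact Equiv.symm_apply_apply _ _
    have h1 : grpVal g e u h = 1 := by
      rw [grpVal, hh, Category.assoc, hx, MonObj.comp_one]
    have hu : IsUnit ((toUnit W').left.appTop r) := by
      refine W'.left.toRingedSpace.isUnit_of_isUnit_germ ⊤ _ fun z _ ↦ ?_
      refine (Scheme.mem_basicOpen_top _ _ z).mp ?_
      show z ∈ W'.left.basicOpen (W'.hom.appTop r')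
      rw [← Scheme.preimage_basicOpen_top]
      exact (w.left z).2
    have h2 : h = 1 := dsVal_ext fun m ↦ by
      have e1 := (hker W' h).mp h1 _ (hrk m)
      rw [map_sub, ev_single, ev_single, map_one, _root_.mul_one, dsValHom_apply, sub_eq_zero] at e1
      rw [dsVal_one]
      exact hu.mul_left_cancel (e1.trans (_root_.mul_one _).symm)
    have h3 : ci ≫ x = 1 := by
      rw [← hh, h2, MonObj.one_comp]
      exact map_one (bcPointEquiv g H W')
    have h4 := c ≫= h3
    rwa [← Category.assoc, hcci, Category.id_comp, MonObj.comp_one] at h4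

/-- The monomorphism locus is open, and the homomorphism is a monomorphism over it. -/
theorem exists_open_monoLocus [IsSeparated G.hom] (hH : SGA3x.IsMultTypeFT H) :
    ∃ U : S.Opens, (∀ s : S, s ∈ U ↔ Mono ((Over.pullback (S.fromSpecResidueField s)).map u).left) ∧
      Mono ((Over.pullback U.ι).map u).left := by
  obtain ⟨S', f, hflat, hsurj, hqc, hloc⟩ := hH
  haveI := hflat
  haveI := hsurj
  let P : MorphismProperty Scheme.{u} := MorphismProperty.monomorphisms _
  let A : Set S := {s | Mono ((Over.pullback (S.fromSpecResidueField s)).map u).left}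
  have hchart : ∀ x : S', f x ∈ A → ∃ V : S'.Opens, x ∈ V ∧ KerTriv u (Over.mk (V.ι ≫ f)) := by
    intro x hxA
    obtain ⟨U', hxU, M, _, hM, ⟨e⟩⟩ := hloc x
    obtain ⟨T, hT, hxT, hTU⟩ := exists_isAffineOpen_mem_and_subset hxU
    haveI : IsAffine (T : Scheme.{u}) := hT
    haveI := hM
    let e' : Red.DS (U' : Scheme.{u}) M ≅ Red.bc (U'.ι ≫ f) H :=
      ⟨e.inv.hom.hom, e.hom.hom.hom, congrArg (fun z ↦ z.hom.hom) e.inv_hom_id,
        congrArg (fun z ↦ z.hom.hom) e.hom_inv_id⟩
    haveI : IsMonHom e'.hom := inferInstanceAs (IsMonHom e.inv.hom.hom)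
    obtain ⟨i, hi⟩ := exists_trivialisation_comp H (S'.homOfLE hTU) (U'.ι ≫ f) e'
    revert i hi
    rw [Scheme.homOfLE_ι_assoc]
    intro i hi
    haveI := hi
    obtain ⟨V, hxV, hV⟩ := exists_open_kerTriv (u := u) (T.ι ≫ f) i ⟨x, hxT⟩ (by
      intro K _ p hp
      rw [← mono_map_iff]
      refine (prop_map_fieldPoint_iff u P K (p ≫ T.ι ≫ f)).mpr ?_
      have : (p ≫ T.ι ≫ f).base (IsLocalRing.closedPoint K) = f x := by
        rw [Scheme.Hom.comp_apply, hp]
        rfl
      rw [this]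
      exact hxA)
    refine ⟨T.ι ''ᵁ V, ⟨⟨x, hxT⟩, hxV, rfl⟩, ?_⟩
    have hle : Set.range (T.ι ''ᵁ V).ι ⊆ Set.range (V.ι ≫ T.ι) := by
      rintro _ ⟨v, rfl⟩
      obtain ⟨v', hv', e⟩ := v.2
      exact ⟨⟨v', hv'⟩, e⟩
    refine hV.of_hom (Over.homMk (IsOpenImmersion.lift (V.ι ≫ T.ι) _ hle) ?_)
    show _ ≫ V.ι ≫ T.ι ≫ f = (T.ι ''ᵁ V).ι ≫ f
    rw [← Category.assoc V.ι, IsOpenImmersion.lift_fac_assoc]
  have hmem : ∀ (V : S'.Opens), KerTriv u (Over.mk (V.ι ≫ f)) → ∀ v ∈ V, f v ∈ A := by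
    intro V hV v hv
    let pt := S'.fromSpecResidueField v
    have hr : Set.range pt ⊆ Set.range V.ι := by
      rw [Scheme.range_fromSpecResidueField, Scheme.Opens.range_ι]
      exact Set.singleton_subset_iff.mpr hv
    have h1 : Mono ((Over.pullback (pt ≫ f)).map u).left := (mono_map_iff _).mpr (hV.of_hom
      (Over.homMk (IsOpenImmersion.lift V.ι pt hr) (IsOpenImmersion.lift_fac_assoc _ _ _ _)))
    have himg : (pt ≫ f).base (IsLocalRing.closedPoint _) = f v := by
      rw [Scheme.Hom.comp_apply, Scheme.fromSpecResidueField_apply]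
    exact ((prop_map_fieldPoint_iff u P _ (pt ≫ f)).trans
      (iff_of_eq (congrArg (fun s ↦ s ∈ A) himg))).mp h1
  have hA : IsOpen A := by
    have hpre : IsOpen (f.base ⁻¹' A) := isOpen_iff_forall_mem_open.mpr fun x hx ↦ by
      obtain ⟨V, hxV, hV⟩ := hchart x hx
      exact ⟨(V : Set S'), fun v hv ↦ hmem V hV v hv, V.isOpen, hxV⟩
    exact isOpen_of_preimage f hqc hpre
  let U : S.Opens := ⟨A, hA⟩
  refine ⟨U, fun s ↦ Iff.rfl, (mono_map_iff U.ι).mpr ?_⟩
  let r : (f ⁻¹ᵁ U : Scheme.{u}) ⟶ (U : Scheme.{u}) := f ∣_ U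
  let p : Over.mk ((f ⁻¹ᵁ U).ι ≫ f) ⟶ Over.mk U.ι := Over.homMk r (morphismRestrict_ι f U)
  haveI : Flat p.left := IsZariskiLocalAtTarget.restrict hflat U
  haveI : Surjective p.left := IsZariskiLocalAtTarget.restrict hsurj U
  refine KerTriv.descend p ?_
  choose V hxV hV using fun x : (f ⁻¹ᵁ U : Scheme.{u}) ↦ hchart x.1 x.2
  refine KerTriv.of_openCover (fun x ↦ (f ⁻¹ᵁ U).ι ⁻¹ᵁ V x) hxV fun x ↦ ?_
  let m := ((f ⁻¹ᵁ U).ι ⁻¹ᵁ V x).ι ≫ (f ⁻¹ᵁ U).ι
  have hle : Set.range m ⊆ Set.range (V x).ι := by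
    rw [Scheme.Opens.range_ι]
    rintro _ ⟨w, rfl⟩
    exact w.2
  refine (hV x).of_hom (Over.homMk (IsOpenImmersion.lift (V x).ι m hle) ?_)
  show _ ≫ (V x).ι ≫ f = ((f ⁻¹ᵁ U).ι ⁻¹ᵁ V x).ι ≫ (f ⁻¹ᵁ U).ι ≫ f
  rw [IsOpenImmersion.lift_fac_assoc, Category.assoc]

end Groth.Reductive.FreeDiag
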