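import Groth.Agent.Reductive.RedRankSplit
import Groth.Agent.Reductive.ClopenDescent
import Groth.Agent.Reductive.MonoLocus
import Groth.Agent.Abvar.BaseChange
import Groth.Agent.GrpschAbsch.TorusToAbelianSheaf
import Groth.Prelude.Def_SGA3x
import Groth.Prelude.Def_AutFam

/-!
# Reductive ranks in families
-/

set_option autoImplicit false

universe u

open CategoryTheory Limits MonoidalCategory CartesianMonoidalCategory MonObj GrpObj AlgebraicGeometry

noncomputable section

namespace Groth.Reductive.RedRank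

/-- Transitivity of base change, for groups. -/
def bcTwo {S₁ S₂ S₃ : Scheme.{u}} (f : S₁ ⟶ S₂) (g : S₂ ⟶ S₃) (h : S₁ ⟶ S₃) (w : f ≫ g = h)
    (A : Over S₃) [GrpObj A] : Grp.mk (Red.bc f (Red.bc g A)) ≅ Grp.mk (Red.bc h A) := by
  subst w
  let e : Red.bc f (Red.bc g A) ≅ Red.bc (f ≫ g) A := ((Over.pullbackComp f g).app A).symm
  have : IsMonHom e.hom := (Groth.Abvar.isMonHom_pullbackComp f g A).1
  exact Grp.mkIso' e

/-- Base change of an isomorphism of groups. -/
def bcIso {S₁ S₂ : Scheme.{u}} (f : S₁ ⟶ S₂) {A B : Over S₂} [GrpObj A] [GrpObj B]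
    (w : Grp.mk A ≅ Grp.mk B) : Grp.mk (Red.bc f A) ≅ Grp.mk (Red.bc f B) := by
  let e0 : A ≅ B := (Grp.forget _).mapIso w
  have : IsMonHom e0.hom := inferInstanceAs (IsMonHom w.hom.hom.hom)
  let e : Red.bc f A ≅ Red.bc f B := (Over.pullback f).mapIso e0
  have : IsMonHom e.hom := Groth.Abvar.isMonHom_map (f := f) e0.hom
  exact Grp.mkIso' e

theorem isSplit_DS_bc {T S : Scheme.{u}} (f : T ⟶ S) (M : Type) [AddCommGroup M] :
    Nonempty (Grp.mk (Red.bc f (Red.DS S M)) ≅ Grp.mk (Red.DS T M)) :=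
  ⟨bcTwo f _ _ (specULiftZIsTerminal.hom_ext _ _) _⟩

section Fields

variable {K L : Type u} [Field K] [IsAlgClosed K] [Field L] [IsAlgClosed L]

theorem SplitRank.bc {T : Over (Spec (CommRingCat.of K))} [GrpObj T] {r : ℕ} (h : SplitRank r T)
    (ψ : Spec (CommRingCat.of L) ⟶ Spec (CommRingCat.of K)) : SplitRank r (Red.bc ψ T) := by
  obtain ⟨w⟩ := h
  obtain ⟨d⟩ := isSplit_DS_bc ψ (Fin r → ℤ)
  exact ⟨bcIso ψ w ≪≫ d⟩

theorem SplitRank.congr {T T' : Over (Spec (CommRingCat.of K))} [GrpObj T] [GrpObj T'] {r : ℕ}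
    (h : SplitRank r T) (w : Grp.mk T' ≅ Grp.mk T) : SplitRank r T' := by
  obtain ⟨v⟩ := h
  exact ⟨w ≪≫ v⟩

theorem SplitRank.unique {T : Over (Spec (CommRingCat.of K))} [GrpObj T] {r r' : ℕ}
    (h : SplitRank r T) (h' : SplitRank r' T) : r = r' :=
  le_antisymm (le_of_mono h h' (𝟙 T)) (le_of_mono h' h (𝟙 T))

/-- The group has a maximal torus of rank `r`. -/
def HasMax (r : ℕ) (X : Over (Spec (CommRingCat.of K))) [GrpObj X] : Prop :=
  ∃ (T : Over (Spec (CommRingCat.of K))) (_ : GrpObj T) (i : T ⟶ X), AGF.IsMaxTorus i ∧ SplitRank r T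

theorem HasMax.congr {X Y : Over (Spec (CommRingCat.of K))} [GrpObj X] [GrpObj Y] {r : ℕ}
    (h : HasMax r X) (w : Grp.mk X ≅ Grp.mk Y) : HasMax r Y := by
  obtain ⟨T, _, i, ⟨hm, hmo, hT, hmax⟩, hr⟩ := h
  haveI := hm; haveI := hmo
  let e := isoOf w
  refine ⟨T, inferInstance, i ≫ e.hom, ⟨Groth.Abvar.isMonHom_comp hm inferInstance, inferInstance, hT,
    fun T' _ j _ _ f hT' hf => ?_⟩, hr⟩
  exact hmax T' (j ≫ e.inv) f hT' (by rw [← Category.assoc, hf, Category.assoc, Iso.hom_inv_id, Category.comp_id])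

theorem HasMax.bc {X : Over (Spec (CommRingCat.of K))} [GrpObj X] {r : ℕ} (h : HasMax r X)
    (ψ : Spec (CommRingCat.of L) ⟶ Spec (CommRingCat.of K)) [IsIso ψ] : HasMax r (Red.bc ψ X) := by
  obtain ⟨T, _, i, ⟨hm, hmo, hT, hmax⟩, hr⟩ := h
  haveI := hm; haveI := hmo
  exact ⟨Red.bc ψ T, inferInstance, (Over.pullback ψ).map i, ⟨Groth.Abvar.isMonHom_map (f := ψ) i,
    inferInstance, Groth.AlgGrp1.isTorus_bc ψ hT, fun T' _ j _ _ f hT' hf =>
      Groth.Reductive2.MaxTorus.isIso_of_isMax ψ i hmax j f hT' hf⟩, hr.bc ψ⟩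

theorem HasMax.unique {X : Over (Spec (CommRingCat.of K))} [GrpObj X] [IsAffine X.left] [Smooth X.hom]
    {r r' : ℕ} (h : HasMax r X) (h' : HasMax r' X) : r = r' := by
  obtain ⟨T, _, i, hi, hr⟩ := h
  obtain ⟨T', _, i', hi', hr'⟩ := h'
  have := hi.1; have := hi.2.1; have := hi'.1; have := hi'.2.1
  exact le_antisymm (le_of_maxTorus hi' hr' i hr) (le_of_maxTorus hi hr i' hr')

end Fields

variable {S : Scheme.{u}}

/-- Comparison of geometric points along a morphism. -/
theorem exists_geomPt_hom {W : Scheme.{u}} (f : W ⟶ S) (t : W) :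
    ∃ ψ : Spec (CommRingCat.of (AlgebraicClosure (W.residueField t))) ⟶
        Spec (CommRingCat.of (AlgebraicClosure (S.residueField (f.base t)))),
      ψ ≫ Red.geomPt (f.base t) = Red.geomPt t ≫ f ∧
      (LocallyOfFiniteType f → LocallyQuasiFinite f → IsIso ψ) := by
  letI : Algebra (S.residueField (f.base t)) (W.residueField t) := (f.residueFieldMap t).hom.toAlgebra
  let L : AlgebraicClosure (S.residueField (f.base t)) →ₐ[S.residueField (f.base t)]
    AlgebraicClosure (W.residueField t) := IsAlgClosed.lift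
  refine ⟨Spec.map (CommRingCat.ofHom L.toRingHom), ?_, fun h1 h2 => ?_⟩
  · rw [Red.geomPt, Red.geomPt, ← Category.assoc, ← Spec.map_comp, ← CommRingCat.ofHom_comp,
      show L.toRingHom.comp (algebraMap _ _) =
        (algebraMap (W.residueField t) _).comp (f.residueFieldMap t).hom from
        RingHom.ext fun x => (L.commutes x).trans (IsScalarTower.algebraMap_apply _ (W.residueField t) _ x),
      CommRingCat.ofHom_comp, CommRingCat.ofHom_hom, Spec.map_comp, Category.assoc, Category.assoc,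
      Scheme.Hom.SpecMap_residueFieldMap_fromSpecResidueField]
  · have hcl : IsClosed ({f.asFiber t} : Set ↑(f.fiber (f.base t))) := isClosed_discrete _
    have hfin := (Groth.Agent.S9332.result f t).1 hcl
    haveI : Module.Finite (S.residueField (f.base t)) (W.residueField t) := hfin
    haveI : Algebra.IsAlgebraic (S.residueField (f.base t)) (AlgebraicClosure (W.residueField t)) :=
      Algebra.IsAlgebraic.trans (S.residueField (f.base t)) (W.residueField t) (AlgebraicClosure (W.residueField t))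
    letI : Algebra (AlgebraicClosure (S.residueField (f.base t))) (AlgebraicClosure (W.residueField t)) :=
      L.toRingHom.toAlgebra
    haveI : IsScalarTower (S.residueField (f.base t)) (AlgebraicClosure (S.residueField (f.base t)))
        (AlgebraicClosure (W.residueField t)) := IsScalarTower.of_algebraMap_eq' L.comp_algebraMap.symm
    haveI : Algebra.IsAlgebraic (AlgebraicClosure (S.residueField (f.base t)))
        (AlgebraicClosure (W.residueField t)) := Algebra.IsAlgebraic.tower_top (K := S.residueField (f.base t)) _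
    have hb : Function.Bijective L.toRingHom :=
      IsAlgClosed.algebraMap_bijective_of_isIntegral (k := AlgebraicClosure (S.residueField (f.base t)))
        (K := AlgebraicClosure (W.residueField t))
    haveI : IsIso (CommRingCat.ofHom L.toRingHom) := (ConcreteCategory.isIso_iff_bijective _).2 hb
    infer_instance

variable (G : Over S) [GrpObj G]

/-- `HasRedRank` in terms of ranks of split tori. -/
theorem hasRedRank_iff (s : S) (d : WithBot ℕ∞) :
    SGA3x.HasRedRank G s d ↔ ∃ r : ℕ, d = r ∧ HasMax r (Red.geomFibre s G) := by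
  constructor
  · rintro ⟨T, _, i, hi, rfl⟩
    obtain ⟨r, hr⟩ := exists_splitRank hi.2.2.1
    exact ⟨r, topologicalKrullDim_of_splitRank hr, T, inferInstance, i,
      (Groth.Reductive2.MaxTorus.isMaximalTorus_iff i).1 hi, hr⟩
  · rintro ⟨r, rfl, T, _, i, hi, hr⟩
    exact ⟨T, inferInstance, i, (Groth.Reductive2.MaxTorus.isMaximalTorus_iff i).2 hi,
      topologicalKrullDim_of_splitRank hr⟩

variable {G}

theorem hasMax_bc_iff {W : Scheme.{u}} (f : W ⟶ S) [LocallyOfFiniteType f] [LocallyQuasiFinite f] (t : W)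
    (r : ℕ) : HasMax r (Red.geomFibre t (Red.bc f G)) ↔ HasMax r (Red.geomFibre (f.base t) G) := by
  obtain ⟨ψ, hψ, hiso⟩ := exists_geomPt_hom f t
  haveI : IsIso ψ := hiso inferInstance inferInstance
  let e : Grp.mk (Red.geomFibre t (Red.bc f G)) ≅ Grp.mk (Red.bc ψ (Red.geomFibre (f.base t) G)) :=
    bcTwo (Red.geomPt t) f _ hψ.symm G ≪≫ (bcTwo ψ (Red.geomPt (f.base t)) _ rfl G).symm
  constructor
  · intro h
    exact ((h.congr e).bc (inv ψ)).congr
      (bcTwo (inv ψ) ψ (𝟙 _) (IsIso.inv_hom_id ψ) (Red.geomFibre (f.base t) G) ≪≫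
        bcTwo (𝟙 _) (Red.geomPt (f.base t)) _ (Category.id_comp _) G)
  · intro h
    exact (h.bc ψ).congr e.symm

/-- The rank of a torus is constant near every point of a trivialising cover. -/
theorem isOpen_rankLocus {T : Over S} [GrpObj T] (hT : Red.IsTorus T) (r : ℕ) :
    IsOpen {s : S | SplitRank r (Red.geomFibre s T)} := by
  obtain ⟨S', f, hflat, hsurj, hqc, hloc⟩ := hT
  haveI := hflat
  refine Groth.Reductive.FreeDiag.isOpen_of_preimage f hqc ?_
  refine isOpen_iff_forall_mem_open.mpr fun x hx => ?_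
  obtain ⟨U, hxU, r₀, ⟨e⟩⟩ := hloc x
  have key : ∀ y : (U : Scheme.{u}), SplitRank r₀ (Red.geomFibre ((U.ι ≫ f).base y) T) := fun y => by
    obtain ⟨ψ, hψ, -⟩ := exists_geomPt_hom (U.ι ≫ f) y
    obtain ⟨d⟩ := isSplit_DS_bc (Red.geomPt y) (Fin r₀ → ℤ)
    have h1 : SplitRank r₀ (Red.bc ψ (Red.geomFibre ((U.ι ≫ f).base y) T)) :=
      ⟨bcTwo ψ (Red.geomPt ((U.ι ≫ f).base y)) _ hψ T ≪≫ (bcTwo (Red.geomPt y) (U.ι ≫ f) _ rfl T).symm ≪≫
        bcIso (Red.geomPt y) e ≪≫ d⟩
    obtain ⟨r₁, hr₁⟩ := exists_splitRank (T := Red.geomFibre ((U.ι ≫ f).base y) T)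
      (Groth.GrpschAbsch.TorusToAbelian.isTorus_bc ⟨S', f, hflat, hsurj, hqc, hloc⟩ _)
    rwa [← (hr₁.bc ψ).unique h1]
  have hr0 : r = r₀ := SplitRank.unique hx (key ⟨x, hxU⟩)
  exact ⟨U, fun y hy => hr0 ▸ key ⟨y, hy⟩, U.isOpen, hxU⟩

theorem exists_rank {T : Over S} [GrpObj T] (hT : Red.IsTorus T) (s : S) :
    ∃ r, SplitRank r (Red.geomFibre s T) :=
  exists_splitRank (Groth.GrpschAbsch.TorusToAbelian.isTorus_bc hT _)

/-- A maximal torus gives maximal tori of the geometric fibres. -/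
theorem hasMax_of_isMaximalTorus {T : Over S} [GrpObj T] {i : T ⟶ G} (hi : Red.IsMaximalTorus i) (s : S)
    {r : ℕ} (hr : SplitRank r (Red.geomFibre s T)) : HasMax r (Red.geomFibre s G) := by
  obtain ⟨hm, hmo, hT, hmax⟩ := hi
  haveI := hm; haveI := hmo
  exact ⟨Red.geomFibre s T, inferInstance, (Over.pullback (Red.geomPt s)).map i,
    ⟨Groth.Abvar.isMonHom_map (f := Red.geomPt s) i, inferInstance,
      Groth.GrpschAbsch.TorusToAbelian.isTorus_bc hT _, fun T' _ j _ _ f hT' hf => hmax s T' j f hT' hf⟩, hr⟩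

/-- The family attached to a homomorphism over a base change. -/
theorem exists_family {H : Over S} [GrpObj H] {W : Scheme.{u}} (p : W ⟶ S)
    (u : Red.bc p H ⟶ Red.bc p G) [IsMonHom u] :
    ∃ φ : H ⊗ Over.mk p ⟶ G, AutFam.IsHomFamily H G φ ∧
      φ.left = u.left ≫ pullback.fst G.hom p := by
  let φ : H ⊗ Over.mk p ⟶ G := Over.homMk (u.left ≫ pullback.fst G.hom p) (by
    rw [Category.assoc, pullback.condition, ← Category.assoc,
      show u.left ≫ pullback.snd G.hom p = pullback.snd H.hom p from Over.w u, ← pullback.condition]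
    rfl)
  refine ⟨φ, fun X g₁ g₂ t => ?_, rfl⟩
  let X' : Over W := Over.mk t.left
  let c : X ⟶ (Over.map p).obj X' := Over.homMk (𝟙 _) ((Category.id_comp _).trans (Over.w t))
  let c' : (Over.map p).obj X' ⟶ X := Over.homMk (𝟙 _) ((Category.id_comp _).trans (Over.w t).symm)
  have key : ∀ g : X ⟶ H, lift g t ≫ φ =
      c ≫ Groth.Reductive.bcPointEquiv p G X' ((Groth.Reductive.bcPointEquiv p H X').symm (c' ≫ g) ≫ u) := by
    intro g
    apply Over.OverMorphism.ext
    have h1 : ((Groth.Reductive.bcPointEquiv p H X').symm (c' ≫ g)).left = (lift g t).left := by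
      apply pullback.hom_ext
      · simp [Groth.Reductive.bcPointEquiv, Adjunction.homEquiv_unit, c', X']
        repeat' (first | erw [pullback.lift_fst_assoc] | erw [pullback.lift_fst] | erw [Category.id_comp])
      · simp [Groth.Reductive.bcPointEquiv, Adjunction.homEquiv_unit, c', X']
        repeat' (first | erw [pullback.lift_snd_assoc] | erw [pullback.lift_snd] | erw [Category.id_comp])
    simp [Groth.Reductive.bcPointEquiv, Adjunction.homEquiv_counit, φ, c, X'] at h1 ⊢
    rw [← h1]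
  rw [key, key, key, MonObj.comp_mul, map_mul, MonObj.mul_comp, map_mul, MonObj.comp_mul]

/-- The homomorphism over a base change attached to a family. -/
theorem exists_hom_of_family {H : Over S} [GrpObj H] {W : Scheme.{u}} (p : W ⟶ S)
    (φ : H ⊗ Over.mk p ⟶ G) (hφ : AutFam.IsHomFamily H G φ) :
    ∃ u : Red.bc p H ⟶ Red.bc p G, IsMonHom u ∧ u.left ≫ pullback.fst G.hom p = φ.left := by
  let u : Red.bc p H ⟶ Red.bc p G := Over.homMk (pullback.lift φ.left (pullback.snd H.hom p) (by
    rw [Over.w φ]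
    exact pullback.condition)) (pullback.lift_snd _ _ _)
  refine ⟨u, Groth.AlgGrp1.isMonHom_of_points u fun X a b => ?_, pullback.lift_fst _ _ _⟩
  apply (Groth.Reductive.bcPointEquiv p G X).injective
  let t : (Over.map p).obj X ⟶ Over.mk p := Over.homMk X.hom rfl
  have key : ∀ a : X ⟶ Red.bc p H, Groth.Reductive.bcPointEquiv p G X (a ≫ u) =
      lift (Groth.Reductive.bcPointEquiv p H X a) t ≫ φ := by
    intro a
    apply Over.OverMorphism.ext
    have h1 : (lift (Groth.Reductive.bcPointEquiv p H X a) t).left = a.left := by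
      apply pullback.hom_ext
      · simp [Groth.Reductive.bcPointEquiv, Adjunction.homEquiv_counit, t]
        erw [pullback.lift_fst]
      · simp [Groth.Reductive.bcPointEquiv, Adjunction.homEquiv_counit, t]
        erw [pullback.lift_snd]
        exact (Over.w a).symm
    simp [Groth.Reductive.bcPointEquiv, Adjunction.homEquiv_counit, u] at h1 ⊢
    rw [h1]
    erw [pullback.lift_fst]
  rw [map_mul, key, key, key, map_mul, hφ]

end Groth.Reductive.RedRank

end
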