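import Groth.Agent.GrpschAbsch.EtaleFiber
import Mathlib.AlgebraicGeometry.Morphisms.FormallyUnramified

/-!
A morphism locally of finite type with formally unramified fibres is formally unramified.
-/

universe u

open CategoryTheory Limits AlgebraicGeometry TensorProduct

namespace Groth.Reductive

attribute [local instance] Algebra.TensorProduct.rightAlgebra

set_option backward.isDefEq.respectTransparency false in
/-- A morphism locally of finite type with formally unramified fibres is formally unramified. -/
theorem formallyUnramified_of_fibres {X Y : Scheme.{u}} (f : X ⟶ Y) [LocallyOfFiniteType f]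
    (h : ∀ y, FormallyUnramified (f.fiberToSpecResidueField y)) : FormallyUnramified f := by
  wlog h : ∃ R, Y = Spec R
  · rw [IsZariskiLocalAtTarget.iff_of_openCover (P := @FormallyUnramified) Y.affineCover]
    intro i
    dsimp [Scheme.Cover.pullbackHom]
    refine this _ (fun y ↦ ?_) ⟨_, rfl⟩
    apply MorphismProperty.of_isPullback
    · exact isPullback_fiberToSpecResidueField_of_isPullback (IsPullback.of_hasPullback _ _) _
    · infer_instance
  obtain ⟨R, rfl⟩ := h
  wlog h : ∃ S, X = Spec S generalizing f X
  · rw [IsZariskiLocalAtSource.iff_of_openCover (P := @FormallyUnramified) X.affineCover]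
    intro i
    have _ (y) : FormallyUnramified (pullback.snd f ((Spec R).fromSpecResidueField y)) :=
      inferInstanceAs <| FormallyUnramified (f.fiberToSpecResidueField y)
    refine this _ (fun y ↦ ?_) ⟨_, rfl⟩
    rw [Scheme.Hom.fiberToSpecResidueField, ← pullbackRightPullbackFstIso_inv_snd_snd]
    exact MorphismProperty.comp_mem _ _ _ inferInstance
      (MorphismProperty.comp_mem _ _ _ inferInstance inferInstance)
  obtain ⟨S, rfl⟩ := h
  obtain ⟨φ, rfl⟩ := Spec.map_surjective f
  rw [HasRingHomProperty.Spec_iff (P := @FormallyUnramified)]
  have hft : LocallyOfFiniteType (Spec.map φ) := inferInstance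
  rw [HasRingHomProperty.Spec_iff (P := @LocallyOfFiniteType)] at hft
  algebraize [φ.hom]
  have := Groth.GrpschAbsch.formallyUnramified_of_fiber R S fun p hp ↦ by
    have h1 : FormallyUnramified
        (Spec.map (CommRingCat.ofHom (algebraMap p.ResidueField (p.Fiber S)))) :=
      (MorphismProperty.arrow_mk_iso_iff (P := @FormallyUnramified)
        (Spec.fiberToSpecResidueFieldIso R S ⟨p, hp⟩)).mp (h ⟨p, hp⟩)
    rw [HasRingHomProperty.Spec_iff (P := @FormallyUnramified)] at h1
    exact RingHom.formallyUnramified_algebraMap.mp h1
  exact this

end Groth.Reductive
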