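import Groth.Agent.Reductive.TrivialAction
import Mathlib.RingTheory.Etale.Pi
import Mathlib.AlgebraicGeometry.Morphisms.Finite
import Mathlib.AlgebraicGeometry.Morphisms.Etale

/-!
Homomorphisms between diagonalisable groups: idempotents of a family, and the scheme of homomorphisms
between finite diagonalisable groups is finite étale.
-/

set_option autoImplicit false
universe u v

open CategoryTheory MonoidalCategory CartesianMonoidalCategory MonObj GrpObj AlgebraicGeometry

noncomputable section

namespace Groth.Reductive.FreeDiag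

section Algebra

open MonoidAlgebra

variable {B : Type u} [CommRing B] {G : Type v} [CommGroup G]

/-- The coefficients of a group-like element are orthogonal idempotents. -/
theorem groupLike_coeff_mul (x : MonoidAlgebra B G)
    (hx : ∀ (C : Type max u v) [CommRing C] (jc : B →+* C) (χ χ' : G →* C),
      ev jc χ x * ev jc χ' x = ev jc (χ * χ') x)
    (g h : G) [Decidable (g = h)] : x.coeff g * x.coeff h = if g = h then x.coeff g else 0 := by
  classical
  let jc : B →+* MonoidAlgebra (MonoidAlgebra B G) G :=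
    singleOneRingHom.comp singleOneRingHom
  let χ : G →* MonoidAlgebra (MonoidAlgebra B G) G :=
    (singleOneRingHom : MonoidAlgebra B G →+* _).toMonoidHom.comp (of B G)
  let χ' : G →* MonoidAlgebra (MonoidAlgebra B G) G := of _ G
  have h1 : ev jc χ = (singleOneRingHom : MonoidAlgebra B G →+* _) := by
    refine MonoidAlgebra.ringHom_ext (fun r ↦ ?_) (fun a ↦ ?_) <;>
      simp [ev_single, jc, χ, single_mul_single]
  have hs1 : ∀ r : B, (singleOneRingHom : B →+* MonoidAlgebra B G) r = single 1 r := fun _ ↦ rfl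
  have hs2 : ∀ r : MonoidAlgebra B G,
      (singleOneRingHom : MonoidAlgebra B G →+* MonoidAlgebra (MonoidAlgebra B G) G) r = single 1 r :=
    fun _ ↦ rfl
  have e := congrArg (fun z ↦ (z.coeff h).coeff g) (hx _ jc χ χ')
  rw [h1, ringHom_eq_sum (ev jc χ'), ringHom_eq_sum (ev jc (χ * χ'))] at e
  simp only [ev_single, MonoidHom.mul_apply, jc, χ, χ', of_apply, hs1, hs2,
    RingHom.toMonoidHom_eq_coe, MonoidHom.coe_comp, MonoidHom.coe_coe, RingHom.comp_apply,
    Function.comp_apply, single_mul_single, _root_.mul_one, _root_.one_mul, Finset.mul_sum,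
    coeff_sum, coeff_single, Finset.sum_apply', Finsupp.single_apply, Finset.sum_ite_eq',
    Finsupp.mem_support_iff] at e
  have hz : ∀ c : B, (single 1 c : MonoidAlgebra B G) = 0 ↔ c = 0 := fun c ↦ by simp
  by_cases hh : x.coeff h = 0
  · rw [hh, MulZeroClass.mul_zero]
    split_ifs with hgh
    · rw [hgh, hh]
    · rfl
  rw [if_pos hh, if_pos hh] at e
  have e' : x.coeff g * x.coeff h = (single h (x.coeff h) : MonoidAlgebra B G).coeff g := by
    rw [← e, coeff_mul_single_one]
  rw [e', coeff_single, Finsupp.single_apply]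
  by_cases hgh : g = h
  · subst hgh; simp
  · rw [if_neg hgh, if_neg (Ne.symm hgh)]

/-- A group-like element times one of its coefficients. -/
theorem single_coeff_mul (x : MonoidAlgebra B G)
    (hx : ∀ (C : Type max u v) [CommRing C] (jc : B →+* C) (χ χ' : G →* C),
      ev jc χ x * ev jc χ' x = ev jc (χ * χ') x)
    (g : G) : single 1 (x.coeff g) * x = single g (x.coeff g) := by
  classical
  refine MonoidAlgebra.ext <| Finsupp.ext fun h ↦ ?_
  rw [coeff_single_one_mul, groupLike_coeff_mul x hx, coeff_single, Finsupp.single_apply]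

theorem sum_coeff_eq_one [Fintype G] (x : MonoidAlgebra B G) (hone : ev (RingHom.id B) 1 x = 1) :
    ∑ g, x.coeff g = 1 := by
  classical
  rw [ringHom_eq_sum] at hone
  simp only [ev_single, RingHom.id_apply, MonoidHom.one_apply, _root_.mul_one] at hone
  rw [← hone]
  exact (Finset.sum_subset (Finset.subset_univ _) fun g _ hg ↦ by simpa using hg).symm

end Algebra

attribute [local instance] algΓ'

variable {T : Scheme.{u}} {M N : Type} [AddCommGroup M] [AddCommGroup N]

/-- A family of homomorphisms, on points. -/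
def IsHom {Y : Over T} (φ : Red.DS T M ⊗ Y ⟶ Red.DS T N) : Prop :=
  ∀ (Z : Over T) (h h' : Z ⟶ Red.DS T M) (y : Z ⟶ Y),
    lift (h * h') y ≫ φ = (lift h y ≫ φ) * (lift h' y ≫ φ)

/-- The constant family attached to a homomorphism of character groups. -/
def constFam (f : Multiplicative N →* Multiplicative M) (Y : Over T) :
    Red.DS T M ⊗ Y ⟶ Red.DS T N :=
  dsMk _ ((dsValHom (fst (Red.DS T M) Y)).comp f)

lemma lift_constFam (f : Multiplicative N →* Multiplicative M) {Y Z : Over T}
    (h : Z ⟶ Red.DS T M) (y : Z ⟶ Y) (n : Multiplicative N) :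
    dsVal (lift h y ≫ constFam f Y) n = dsVal h (f n) := by
  rw [dsVal_comp, constFam, dsVal_dsMk, MonoidHom.comp_apply, dsValHom_apply]
  exact (dsVal_comp (lift h y) (fst _ _) (f n)).symm.trans (by rw [lift_fst])

lemma isHom_constFam (f : Multiplicative N →* Multiplicative M) (Y : Over T) :
    IsHom (constFam f Y) := fun Z h h' y ↦ dsVal_ext fun n ↦ by
  rw [dsVal_mul, lift_constFam, lift_constFam, lift_constFam, dsVal_mul]

variable [IsAffine T]

/-- The comorphism of a family in the group algebra. -/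
def famU {Y : Over T} [IsAffine Y.left] (φ : Red.DS T M ⊗ Y ⟶ Red.DS T N) :
    Multiplicative N →* MonoidAlgebra Γ(Y.left, ⊤) (Multiplicative M) :=
  (RingEquiv.ofBijective _ (κ₀_bijective (T := T) (M := M) (Y := Y))).symm.toMonoidHom.comp
    (dsValHom φ)

lemma κ₀_famU {Y : Over T} [IsAffine Y.left] (φ : Red.DS T M ⊗ Y ⟶ Red.DS T N) (n : Multiplicative N) :
    κ₀ (famU φ n) = dsVal φ n :=
  (RingEquiv.ofBijective _ (κ₀_bijective (T := T) (M := M) (Y := Y))).apply_symm_apply _

lemma dsVal_lift_fam {Y : Over T} [IsAffine Y.left] (φ : Red.DS T M ⊗ Y ⟶ Red.DS T N) {Z : Over T}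
    (h : Z ⟶ Red.DS T M) (y : Z ⟶ Y) (n : Multiplicative N) :
    dsVal (lift h y ≫ φ) n = ptEv h y (famU φ n) := by
  have h1 := ptEv_comp (lift h y) (fst (Red.DS T M) Y) (snd (Red.DS T M) Y)
  rw [lift_fst, lift_snd] at h1
  rw [dsVal_comp, h1, RingHom.comp_apply]
  exact congrArg _ (κ₀_famU φ n).symm

lemma famU_ext {Y : Over T} [IsAffine Y.left] {φ φ' : Red.DS T M ⊗ Y ⟶ Red.DS T N}
    (h : ∀ n, famU φ n = famU φ' n) : φ = φ' :=
  dsVal_ext fun n ↦ by rw [← κ₀_famU, ← κ₀_famU, h]

lemma famU_constFam (f : Multiplicative N →* Multiplicative M) (Y : Over T) [IsAffine Y.left]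
    (n : Multiplicative N) : famU (constFam f Y) n = MonoidAlgebra.single (f n) 1 := by
  apply κ₀_bijective.1
  rw [κ₀_famU, κ₀, ptEv_single, map_one, _root_.one_mul, constFam, dsVal_dsMk]
  rfl

lemma famU_comp {Y Y' : Over T} [IsAffine Y.left] [IsAffine Y'.left]
    (φ : Red.DS T M ⊗ Y ⟶ Red.DS T N) (v : Y' ⟶ Y) (n : Multiplicative N) :
    famU ((Red.DS T M ◁ v) ≫ φ) n = MonoidAlgebra.mapRingHom _ v.left.appTop.hom (famU φ n) := by
  apply κ₀_bijective.1
  rw [κ₀_famU]
  have e : (Red.DS T M ◁ v) = lift (fst (Red.DS T M) Y') (snd (Red.DS T M) Y' ≫ v) := by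
    apply CartesianMonoidalCategory.hom_ext <;> simp
  rw [e, dsVal_lift_fam]
  generalize famU φ n = x
  suffices hh : ptEv (fst (Red.DS T M) Y') (snd (Red.DS T M) Y' ≫ v) =
      (κ₀ (T := T) (M := M) (Y := Y')).comp
        (MonoidAlgebra.mapRingHom (Multiplicative M) v.left.appTop.hom) from RingHom.congr_fun hh x
  refine MonoidAlgebra.ringHom_ext (fun r ↦ ?_) (fun a ↦ ?_)
  · rw [RingHom.comp_apply, MonoidAlgebra.mapRingHom_single, κ₀, ptEv_single, ptEv_single,
      Over.comp_left, Scheme.Hom.comp_appTop]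
    rfl
  · rw [RingHom.comp_apply, MonoidAlgebra.mapRingHom_single, map_one, κ₀, ptEv_single, ptEv_single,
      map_one, map_one]

lemma famU_groupLike {Y : Over T} [IsAffine Y.left] (φ : Red.DS T M ⊗ Y ⟶ Red.DS T N) (hφ : IsHom φ)
    (n : Multiplicative N) :
    (∀ (C : Type u) [CommRing C] (jc : Γ(Y.left, ⊤) →+* C) (χ χ' : Multiplicative M →* C),
      ev jc χ (famU φ n) * ev jc χ' (famU φ n) = ev jc (χ * χ') (famU φ n)) ∧
      ev (RingHom.id Γ(Y.left, ⊤)) 1 (famU φ n) = 1 := by
  constructor
  · intro C _ jc χ χ'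
    apply (ΓT_bijective C jc).1
    have e : hT C jc χ * hT C jc χ' = hT C jc (χ * χ') := dsVal_ext fun m ↦ by
      rw [dsVal_mul, dsVal_hT, dsVal_hT, dsVal_hT, MonoidHom.mul_apply, map_mul]
    have h := congrArg (fun z ↦ dsVal z n) (hφ _ (hT C jc χ) (hT C jc χ') (yT C jc))
    simp only [dsVal_mul, e, dsVal_lift_fam, ptEv_hT, RingHom.comp_apply] at h
    rw [map_mul]
    exact h.symm
  · have h0 : dsVal (lift (1 : Y ⟶ Red.DS T M) (𝟙 Y) ≫ φ) n = 1 := by
      have h := congrArg (fun z ↦ dsVal z n) (hφ Y 1 1 (𝟙 Y))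
      simp only [_root_.one_mul (1 : Y ⟶ Red.DS T M), dsVal_mul] at h
      have hu : IsUnit (dsValHom (lift (1 : Y ⟶ Red.DS T M) (𝟙 Y) ≫ φ) n) :=
        (Group.isUnit n).map _
      rw [dsValHom_apply] at hu
      exact hu.mul_left_cancel (by rw [_root_.mul_one]; exact h.symm)
    have h := dsVal_lift_fam φ (1 : Y ⟶ Red.DS T M) (𝟙 Y) n
    rw [h0, ptEv, dsValHom_one] at h
    simpa using h.symm

/-- If a family of homomorphisms between finite diagonalisable groups over an affine scheme is
universal among affine test objects, its base is finite étale. -/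
theorem finite_etale_of_universal [Finite M] [Finite N] {A : Over T} [IsAffine A.left]
    (φ : Red.DS T M ⊗ A ⟶ Red.DS T N) (hφ : IsHom φ)
    (huniv : ∀ (Z : Over T) (ψ : Red.DS T M ⊗ Z ⟶ Red.DS T N), IsHom ψ →
      ∃! v : Z ⟶ A, (Red.DS T M ◁ v) ≫ φ = ψ) :
    IsFinite A.hom ∧ Etale A.hom := by
  classical
  haveI : Finite (Multiplicative M) := Finite.of_equiv M Multiplicative.ofAdd
  haveI : Finite (Multiplicative N) := Finite.of_equiv N Multiplicative.ofAdd
  letI := Fintype.ofFinite (Multiplicative M)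
  letI := Fintype.ofFinite (Multiplicative N)
  haveI : Finite (Multiplicative N →* Multiplicative M) := Finite.of_injective _ DFunLike.coe_injective
  haveI : IsAffine (𝟙_ (Over T)).left := inferInstanceAs (IsAffine T)
  have hR : ∀ r, (𝟙_ (Over T)).hom.appTop r = r := fun r ↦ by
    show (𝟙 T : T ⟶ T).appTop r = r
    simp
  choose s hs hs' using fun f : Multiplicative N →* Multiplicative M ↦
    huniv (𝟙_ (Over T)) (constFam f _) (isHom_constFam f _)
  let B := Γ(A.left, ⊤)
  let j : Γ(T, ⊤) →+* B := A.hom.appTop.hom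
  let ρ : (Multiplicative N →* Multiplicative M) → B →+* Γ(T, ⊤) := fun f ↦ (s f).left.appTop.hom
  have hρj : ∀ f r, ρ f (j r) = r := fun f r ↦ by
    show ((A.hom.appTop ≫ (s f).left.appTop)) r = r
    rw [← Scheme.Hom.comp_appTop, Over.w (s f)]
    exact hR r
  let u := famU φ
  have hu : ∀ f n m, ρ f ((u n).coeff m) = if f n = m then 1 else 0 := fun f n m ↦ by
    have h := congrArg (fun z ↦ (famU z n).coeff m) (hs f)
    simp only [famU_comp, famU_constFam, MonoidAlgebra.coeff_single, Finsupp.single_apply] at h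
    rw [MonoidAlgebra.coeff_mapRingHom] at h
    exact h
  have hgl := fun n ↦ famU_groupLike φ hφ n
  let E : (Multiplicative N → Multiplicative M) → B := fun g ↦ ∏ n, (u n).coeff (g n)
  have hEidem : ∀ g, E g * E g = E g := fun g ↦ by
    rw [← Finset.prod_mul_distrib]
    refine Finset.prod_congr rfl fun n _ ↦ ?_
    rw [groupLike_coeff_mul (u n) (hgl n).1, if_pos rfl]
  have hEsum : ∑ g, E g = 1 := by
    rw [← Fintype.prod_sum]
    exact Finset.prod_eq_one fun n _ ↦ sum_coeff_eq_one _ (hgl n).2
  have hEu : ∀ g n, MonoidAlgebra.single 1 (E g) * u n = MonoidAlgebra.single (g n) (E g) :=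
    fun g n ↦ by
    have hsplit : E g = (∏ k ∈ Finset.univ.erase n, (u k).coeff (g k)) * (u n).coeff (g n) :=
      (Finset.prod_erase_mul _ _ (Finset.mem_univ n)).symm
    rw [hsplit, ← _root_.one_mul (1 : Multiplicative M), ← MonoidAlgebra.single_mul_single,
      _root_.mul_assoc, single_coeff_mul (u n) (hgl n).1, MonoidAlgebra.single_mul_single,
      _root_.one_mul]
  let π : B →+* ((Multiplicative N →* Multiplicative M) → Γ(T, ⊤)) := Pi.ringHom ρ
  have hπE : ∀ f g : Multiplicative N →* Multiplicative M, ρ f (E g) = if f = g then 1 else 0 :=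
    fun f g ↦ by
    rw [map_prod]
    simp only [hu]
    split_ifs with hfg
    · subst hfg; simp
    · obtain ⟨n, hn⟩ : ∃ n, f n ≠ g n := not_forall.mp fun h ↦ hfg (MonoidHom.ext h)
      exact Finset.prod_eq_zero (Finset.mem_univ n) (if_neg hn)
  letI := Fintype.ofFinite (Multiplicative N →* Multiplicative M)
  have hsurj : Function.Surjective π := fun a ↦ ⟨∑ g, j (a g) * E g, funext fun f ↦ by
    show ρ f _ = a f
    simp [map_sum, hρj, hπE]⟩
  have hinj : Function.Injective π := by
    rw [injective_iff_map_eq_zero]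
    intro b hb
    rw [← _root_.mul_one b, ← hEsum, Finset.mul_sum]
    refine Finset.sum_eq_zero fun g _ ↦ ?_
    by_cases hg : E g = 0
    · rw [hg, MulZeroClass.mul_zero]
    by_cases hhom : g 1 = 1 ∧ ∀ a c, g (a * c) = g a * g c
    swap
    · exfalso
      refine hhom ⟨?_, fun a c ↦ ?_⟩
      · have h := hEu g 1
        rw [map_one, _root_.mul_one] at h
        by_contra hne
        have h' := congrArg (fun z ↦ z.coeff 1) h
        simp [MonoidAlgebra.coeff_single, Ne.symm hne] at h'
        exact hg h'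
      · have h := hEu g (a * c)
        rw [map_mul, ← hEidem g, ← _root_.one_mul (1 : Multiplicative M),
          ← MonoidAlgebra.single_mul_single,
          show MonoidAlgebra.single 1 (E g) * MonoidAlgebra.single 1 (E g) * (u a * u c) =
            MonoidAlgebra.single 1 (E g) * u a * (MonoidAlgebra.single 1 (E g) * u c) by ring,
          hEu, hEu, MonoidAlgebra.single_mul_single, hEidem] at h
        by_contra hne
        have h' := congrArg (fun z ↦ z.coeff (g a * g c)) h
        simp [MonoidAlgebra.coeff_single, hne] at h'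
        exact hg h'
    let f : Multiplicative N →* Multiplicative M :=
      { toFun := g, map_one' := hhom.1, map_mul' := hhom.2 }
    let P : Ideal B := Ideal.span {1 - E g}
    let jC : B →+* B ⧸ P := Ideal.Quotient.mk P
    have hE1 : jC (E g) = 1 :=
      (Ideal.Quotient.eq.mpr (Ideal.mem_span_singleton_self (1 - E g))).symm.trans (map_one jC)
    let Z := mkT (B ⧸ P) jC
    haveI : IsAffine Z.left := inferInstanceAs (IsAffine (Spec _))
    have e1 : (Red.DS T M ◁ yT (B ⧸ P) jC) ≫ φ = constFam f Z := famU_ext fun n ↦ by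
      rw [famU_comp, famU_constFam, yT_appTop]
      have h := congrArg (MonoidAlgebra.mapRingHom _ ((ΓT (B ⧸ P) jC).comp jC)) (hEu g n)
      simp only [map_mul, MonoidAlgebra.mapRingHom_single, RingHom.comp_apply, hE1, map_one] at h
      rw [← MonoidAlgebra.one_def, _root_.one_mul] at h
      exact h
    have e2 : (Red.DS T M ◁ (toUnit Z ≫ s f)) ≫ φ = constFam f Z := famU_ext fun n ↦ by
      rw [whiskerLeft_comp, Category.assoc, hs f, famU_comp, famU_constFam, famU_constFam,
        MonoidAlgebra.mapRingHom_single, map_one]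
    have e3 : yT (B ⧸ P) jC = toUnit Z ≫ s f := by
      obtain ⟨v, -, hv⟩ := huniv Z (constFam f Z) (isHom_constFam f Z)
      rw [hv _ e1, hv _ e2]
    have hb0 : jC b = 0 := by
      apply (ΓT_bijective (B ⧸ P) jC).1
      rw [map_zero, ← RingHom.comp_apply, ← yT_appTop, e3, Over.comp_left, Scheme.Hom.comp_appTop]
      show (toUnit Z).left.appTop (ρ f b) = 0
      rw [show ρ f b = 0 from congrFun hb f, map_zero]
    obtain ⟨c, hc⟩ := Ideal.mem_span_singleton'.mp (Ideal.Quotient.eq_zero_iff_mem.mp hb0)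
    rw [← hc]
    linear_combination (-c) * hEidem g
  let alg : Algebra Γ(T, ⊤) B := j.toAlgebra
  let e : B ≃ₐ[Γ(T, ⊤)] ((Multiplicative N →* Multiplicative M) → Γ(T, ⊤)) :=
    AlgEquiv.ofBijective ⟨π, fun r ↦ funext fun f ↦ hρj f r⟩ ⟨hinj, hsurj⟩
  haveI : Algebra.Etale Γ(T, ⊤) B := Algebra.Etale.of_equiv e.symm
  haveI : Module.Finite Γ(T, ⊤) B := Module.Finite.equiv e.symm.toLinearEquiv
  constructor
  · rw [HasAffineProperty.iff_of_isAffine (P := @IsFinite)]
    exact ⟨inferInstance, RingHom.finite_algebraMap.mpr inferInstance⟩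
  · rw [HasRingHomProperty.iff_of_isAffine (P := @Etale)]
    exact RingHom.etale_algebraMap.mpr inferInstance

end Groth.Reductive.FreeDiag
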