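import Groth.Agent.Reductive.MTSubTransporter
import Groth.Agent.SmoothSlice.Sections
import Groth.Agent.Reductive.MultGa
import Groth.Agent.Reductive.FreeDiagDescent

/-!
Etale-local conjugacy of homomorphisms and subgroups of multiplicative type.
-/

set_option autoImplicit false
universe u

open CategoryTheory MonoidalCategory CartesianMonoidalCategory MonObj AlgebraicGeometry Limits

noncomputable section

namespace Groth.Reductive.MTInt

variable {S : Scheme.{u}} {G H H₁ H₂ : Over S} [GrpObj G] [GrpObj H] [GrpObj H₁] [GrpObj H₂]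

/-- A smooth scheme with a geometric point over `s` has a point over an etale neighbourhood of `s`. -/
theorem exists_etale_point {T : Over S} [Smooth T.hom] {s : S}
    (t : Over.mk (Red.geomPt s) ⟶ T) :
    ∃ (W : Scheme.{u}) (e : W ⟶ S), Etale e ∧ s ∈ Set.range e.base ∧
      Nonempty (Over.mk e ⟶ T) := by
  let x := t.left (IsLocalRing.closedPoint (AlgebraicClosure (S.residueField s)))
  obtain ⟨W, h, w, he, hw⟩ := Groth.SmoothSlice.exists_etale_section T.hom x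
  refine ⟨W, h ≫ T.hom, he, ⟨w, hw.trans ?_⟩, ⟨Over.homMk h rfl⟩⟩
  show T.hom (t.left _) = s
  rw [← Scheme.Hom.comp_apply, Over.w t]
  simp only [Over.mk_hom, Scheme.Hom.comp_apply]
  exact Scheme.fromSpecResidueField_apply _ _

/-- The identity point of a base change, as a point over the source. -/
def unitPt {W : Scheme.{u}} (e : W ⟶ S) : (Over.map e).obj (𝟙_ (Over W)) ⟶ Over.mk e :=
  Over.homMk (𝟙 W) (by simp [Over.tensorUnit_hom])

/-- The section of a base change given by a point over the new base. -/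
def sectionOf {W : Scheme.{u}} {e : W ⟶ S} (g : Over.mk e ⟶ G) : 𝟙_ (Over W) ⟶ Red.bc e G :=
  (Groth.Reductive.bcPointEquiv e G _).symm (unitPt e ≫ g)

lemma bcPointEquiv_sectionOf {W : Scheme.{u}} {e : W ⟶ S} (g : Over.mk e ⟶ G) (X : Over W) :
    Groth.Reductive.bcPointEquiv e G X (toUnit X ≫ sectionOf g) =
      (Over.map e).map (toUnit X) ≫ unitPt e ≫ g := by
  rw [Groth.Reductive.bcPointEquiv_comp, sectionOf, MulEquiv.apply_symm_apply]

lemma bcPointEquiv_map {W : Scheme.{u}} (e : W ⟶ S) {A B : Over S} [GrpObj A] [GrpObj B]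
    (f : A ⟶ B) {X : Over W} (h : X ⟶ Red.bc e A) :
    Groth.Reductive.bcPointEquiv e B X (h ≫ (Over.pullback e).map f) =
      Groth.Reductive.bcPointEquiv e A X h ≫ f :=
  Groth.Reductive.FreeDiag.qPt_map e h f

/-- Conjugacy of homomorphisms on points transfers to base changes. -/
theorem conj_bc {W : Scheme.{u}} {e : W ⟶ S} (g : Over.mk e ⟶ G) (u₁ u₂ : H ⟶ G)
    (hg : ∀ (X' : Over S) (x : X' ⟶ Over.mk e) (h : X' ⟶ H),
      (x ≫ g) * (h ≫ u₁) * (x ≫ g)⁻¹ = h ≫ u₂) (X : Over W) (h : X ⟶ Red.bc e H) :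
    h ≫ (Over.pullback e).map u₂ =
      (toUnit X ≫ sectionOf g) * (h ≫ (Over.pullback e).map u₁) * (toUnit X ≫ sectionOf g)⁻¹ := by
  apply (Groth.Reductive.bcPointEquiv e G X).injective
  simp only [map_mul, map_inv, bcPointEquiv_map, bcPointEquiv_sectionOf]
  simp only [← Category.assoc]
  exact (hg _ _ _).symm

/-- Conjugacy of subgroups on points transfers to base changes. -/
theorem conjBy_bc {W : Scheme.{u}} {e : W ⟶ S} (g : Over.mk e ⟶ G)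
    (i₁ : H₁ ⟶ G) [IsMonHom i₁] [Mono i₁] (i₂ : H₂ ⟶ G) [IsMonHom i₂] [Mono i₂]
    (hg : ∀ (X' : Over S) (x : X' ⟶ Over.mk e),
      (∀ h₁ : X' ⟶ H₁, ∃ h₂ : X' ⟶ H₂, (x ≫ g) * (h₁ ≫ i₁) * (x ≫ g)⁻¹ = h₂ ≫ i₂) ∧
      (∀ h₂ : X' ⟶ H₂, ∃ h₁ : X' ⟶ H₁, (x ≫ g)⁻¹ * (h₂ ≫ i₂) * (x ≫ g) = h₁ ≫ i₁)) :
    SGA3x.ConjBy ((Over.pullback e).map i₁) ((Over.pullback e).map i₂) (sectionOf g) := by
  have key₁ : ∀ (X : Over W) (a : X ⟶ Red.bc e H₁), ∃ b : X ⟶ Red.bc e H₂,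
      (toUnit X ≫ sectionOf g) * (a ≫ (Over.pullback e).map i₁) * (toUnit X ≫ sectionOf g)⁻¹ =
        b ≫ (Over.pullback e).map i₂ := fun X a ↦ by
    obtain ⟨b, hb⟩ := (hg _ ((Over.map e).map (toUnit X) ≫ unitPt e)).1
      (Groth.Reductive.bcPointEquiv e H₁ X a)
    refine ⟨(Groth.Reductive.bcPointEquiv e H₂ X).symm b,
      (Groth.Reductive.bcPointEquiv e G X).injective ?_⟩
    simp only [map_mul, map_inv, bcPointEquiv_map, bcPointEquiv_sectionOf, MulEquiv.apply_symm_apply]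
    simpa only [Category.assoc] using hb
  have key₂ : ∀ (X : Over W) (b : X ⟶ Red.bc e H₂), ∃ a : X ⟶ Red.bc e H₁,
      (toUnit X ≫ sectionOf g)⁻¹ * (b ≫ (Over.pullback e).map i₂) * (toUnit X ≫ sectionOf g) =
        a ≫ (Over.pullback e).map i₁ := fun X b ↦ by
    obtain ⟨a, ha⟩ := (hg _ ((Over.map e).map (toUnit X) ≫ unitPt e)).2
      (Groth.Reductive.bcPointEquiv e H₂ X b)
    refine ⟨(Groth.Reductive.bcPointEquiv e H₁ X).symm a,
      (Groth.Reductive.bcPointEquiv e G X).injective ?_⟩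
    simp only [map_mul, map_inv, bcPointEquiv_map, bcPointEquiv_sectionOf, MulEquiv.apply_symm_apply]
    simpa only [Category.assoc] using ha
  obtain ⟨φ, hφ⟩ := key₁ _ (𝟙 _)
  obtain ⟨ψ, hψ⟩ := key₂ _ (𝟙 _)
  rw [Category.id_comp] at hφ hψ
  have t₁ : φ ≫ toUnit (Red.bc e H₂) = toUnit _ := toUnit_unique _ _
  have t₂ : ψ ≫ toUnit (Red.bc e H₁) = toUnit _ := toUnit_unique _ _
  refine ⟨⟨φ, ψ, ?_, ?_⟩, hφ⟩
  · rw [← cancel_mono ((Over.pullback e).map i₁), Category.assoc, ← hψ, Category.id_comp,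
      MonObj.comp_mul, MonObj.comp_mul, GrpObj.comp_inv, ← Category.assoc φ (toUnit _), t₁, ← hφ]
    group
  · rw [← cancel_mono ((Over.pullback e).map i₂), Category.assoc, ← hφ, Category.id_comp,
      MonObj.comp_mul, MonObj.comp_mul, GrpObj.comp_inv, ← Category.assoc ψ (toUnit _), t₂, ← hψ]
    group

/-- Homomorphisms that are geometrically conjugate at `s` are conjugate over an etale
neighbourhood of `s`. -/
theorem exists_conj_nbhd (hH : LocTriv H) (hG : Smooth G.hom) (hGa : IsAffineHom G.hom)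
    (u₁ u₂ : H ⟶ G) [IsMonHom u₁] [IsMonHom u₂] (s : S)
    (hs : ∃ g : Over.mk (Red.geomPt s) ⟶ G, ∀ (X : Over S) (p : X ⟶ Over.mk (Red.geomPt s))
      (h : X ⟶ H), h ≫ u₂ = (p ≫ g) * (h ≫ u₁) * (p ≫ g)⁻¹) :
    ∃ (W : Scheme.{u}) (e : W ⟶ S), Etale e ∧ s ∈ Set.range e.base ∧
      ∃ g : 𝟙_ (Over W) ⟶ Red.bc e G, ∀ (X : Over W) (h : X ⟶ Red.bc e H),
        h ≫ (Over.pullback e).map u₂ =
          (toUnit X ≫ g) * (h ≫ (Over.pullback e).map u₁) * (toUnit X ≫ g)⁻¹ := by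
  obtain ⟨T, j, -, hT, hiff⟩ := exists_transporter hH hG hGa u₁ u₂
  obtain ⟨g, hg⟩ := hs
  obtain ⟨t, -⟩ := (hiff _ g).mpr fun X' x h ↦ (hg X' x h).symm
  obtain ⟨W, e, he, hse, ⟨t'⟩⟩ := exists_etale_point (T := T) t
  exact ⟨W, e, he, hse, sectionOf (t' ≫ j), conj_bc (t' ≫ j) u₁ u₂ ((hiff _ _).mp ⟨t', rfl⟩)⟩

/-- Subgroups of multiplicative type that are geometrically conjugate at `s` are conjugate over an
etale neighbourhood of `s`. -/
theorem exists_conjBy_nbhd (h₁ : SGA3x.IsMultTypeFT H₁) (h₂ : SGA3x.IsMultTypeFT H₂)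
    (hG : Smooth G.hom) (hGa : IsAffineHom G.hom)
    (i₁ : H₁ ⟶ G) [IsMonHom i₁] [Mono i₁] (i₂ : H₂ ⟶ G) [IsMonHom i₂] [Mono i₂] (s : S)
    (hs : ∃ g : Over.mk (Red.geomPt s) ⟶ G, ∀ (X : Over S) (p : X ⟶ Over.mk (Red.geomPt s)),
      (∀ a : X ⟶ H₁, ∃ b : X ⟶ H₂, (p ≫ g) * (a ≫ i₁) * (p ≫ g)⁻¹ = b ≫ i₂) ∧
      (∀ b : X ⟶ H₂, ∃ a : X ⟶ H₁, (p ≫ g)⁻¹ * (b ≫ i₂) * (p ≫ g) = a ≫ i₁)) :
    ∃ (W : Scheme.{u}) (e : W ⟶ S), Etale e ∧ s ∈ Set.range e.base ∧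
      ∃ g : 𝟙_ (Over W) ⟶ Red.bc e G,
        SGA3x.ConjBy ((Over.pullback e).map i₁) ((Over.pullback e).map i₂) g := by
  obtain ⟨T, j, -, hT, hiff⟩ := exists_subTransporter h₁ h₂ hG hGa i₁ i₂
  obtain ⟨g, hg⟩ := hs
  obtain ⟨t, -⟩ := (hiff _ g).mpr hg
  obtain ⟨W, e, he, hse, ⟨t'⟩⟩ := exists_etale_point (T := T) t
  exact ⟨W, e, he, hse, sectionOf (t' ≫ j), conjBy_bc (t' ≫ j) i₁ i₂ ((hiff _ _).mp ⟨t', rfl⟩)⟩

end Groth.Reductive.MTInt
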