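import Groth.Agent.Reductive.TrivialLocus
import Groth.Agent.Reductive.ClopenDescent
import Groth.Agent.Reductive.HomDiag
import Groth.Agent.AlgGrp1.Basic
import Groth.Agent.AlgGrp1.MonoHom
import Groth.Agent.S0351
import Mathlib.GroupTheory.FiniteAbelian.Basic

/-!
The locus where one of two commuting subgroups of multiplicative type lies in the other is open and
closed.
-/

set_option autoImplicit false
universe u

open CategoryTheory MonoidalCategory CartesianMonoidalCategory MonObj GrpObj AlgebraicGeometry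

noncomputable section

namespace Groth.Reductive.FreeDiag

attribute [local instance] algΓ'

variable {S : Scheme.{u}}

/-! ### Homomorphisms of diagonalisable groups from the character groups -/

/-- A morphism which is a closed immersion over every field valued point of the base. -/
class FieldClosed {S : Scheme.{u}} {A B : Over S} (i : A ⟶ B) : Prop where
  isClosedImmersion : ∀ (K : Type u) [Field K] (k : Spec (CommRingCat.of K) ⟶ S),
    IsClosedImmersion ((Over.pullback k).map i).left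

instance fieldClosed_of_isImmersion {S : Scheme.{u}} {A B : Over S} [GrpObj A] [GrpObj B]
    (i : A ⟶ B) [IsMonHom i] [IsImmersion i.left] : FieldClosed i where
  isClosedImmersion K _ k := by
    have sq : IsPullback (Limits.pullback.fst A.hom k) ((Over.pullback k).map i).left i.left
        (Limits.pullback.fst B.hom k) := by
      refine IsPullback.of_bot ?_ (Limits.pullback.lift_fst _ _ _).symm
        (IsPullback.of_hasPullback B.hom k)
      rw [Over.w i, show ((Over.pullback k).map i).left ≫ Limits.pullback.snd B.hom k =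
        Limits.pullback.snd A.hom k from Over.w ((Over.pullback k).map i)]
      exact IsPullback.of_hasPullback A.hom k
    haveI : IsImmersion ((Over.pullback k).map i).left :=
      MorphismProperty.of_isPullback (P := @IsImmersion) sq ‹IsImmersion i.left›
    exact Groth.Agent.S0351.result K _ _ ((Over.pullback k).map i)

/-- A monomorphism of group schemes of finite type is a closed immersion over fields. -/
theorem fieldClosed_of_mono {S : Scheme.{u}} {A B : Over S} [GrpObj A] [GrpObj B]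
    [LocallyOfFiniteType A.hom] [QuasiCompact A.hom] [LocallyOfFiniteType B.hom]
    [QuasiCompact B.hom] (i : A ⟶ B) [IsMonHom i] [Mono i] : FieldClosed i where
  isClosedImmersion K _ k := by
    haveI hlA : LocallyOfFiniteType ((Over.pullback k).obj A).hom :=
      inferInstanceAs (LocallyOfFiniteType (Limits.pullback.snd A.hom k))
    haveI hqA : QuasiCompact ((Over.pullback k).obj A).hom :=
      inferInstanceAs (QuasiCompact (Limits.pullback.snd A.hom k))
    haveI hlB : LocallyOfFiniteType ((Over.pullback k).obj B).hom :=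
      inferInstanceAs (LocallyOfFiniteType (Limits.pullback.snd B.hom k))
    haveI hqB : QuasiCompact ((Over.pullback k).obj B).hom :=
      inferInstanceAs (QuasiCompact (Limits.pullback.snd B.hom k))
    exact Groth.AlgGrp1.isClosedImmersion_of_mono_hom ((Over.pullback k).map i)

section DSHom

variable {T : Scheme.{u}} {M N : Type} [AddCommGroup M] [AddCommGroup N]

/-- The homomorphism of diagonalisable groups attached to one of character groups. -/
def dsHom (f : M →+ N) : Red.DS T N ⟶ Red.DS T M :=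
  dsMk _ ((dsValHom (𝟙 (Red.DS T N))).comp (AddMonoidHom.toMultiplicative f))

lemma dsVal_dsHom (f : M →+ N) {Z : Over T} (h : Z ⟶ Red.DS T N) (m : Multiplicative M) :
    dsVal (h ≫ dsHom f) m = dsVal h (AddMonoidHom.toMultiplicative f m) := by
  rw [dsVal_comp, dsHom, dsVal_dsMk, MonoidHom.comp_apply, dsValHom_apply, ← dsVal_comp,
    Category.comp_id]

instance isMonHom_dsHom (f : M →+ N) : IsMonHom (dsHom (T := T) f) :=
  Groth.AlgGrp1.isMonHom_of_points _ fun Z a b ↦ dsVal_ext fun m ↦ by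
    rw [dsVal_mul, dsVal_dsHom, dsVal_dsHom, dsVal_dsHom, dsVal_mul]

lemma mul_comp_dsHom (f : M →+ N) {Z : Over T} (a b : Z ⟶ Red.DS T N) :
    (a * b) ≫ dsHom f = (a ≫ dsHom f) * (b ≫ dsHom f) := dsVal_ext fun m ↦ by
  rw [dsVal_mul, dsVal_dsHom, dsVal_dsHom, dsVal_dsHom, dsVal_mul]

lemma dsHom_id : dsHom (T := T) (AddMonoidHom.id M) = 𝟙 _ := dsVal_ext fun m ↦ by
  rw [← Category.id_comp (dsHom _), dsVal_dsHom]
  rfl

lemma dsHom_comp {P : Type} [AddCommGroup P] (f : M →+ N) (g : N →+ P) :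
    dsHom (T := T) g ≫ dsHom f = dsHom (g.comp f) := dsVal_ext fun m ↦ by
  rw [dsVal_dsHom, ← Category.id_comp (dsHom g), dsVal_dsHom, ← Category.id_comp (dsHom (g.comp f)),
    dsVal_dsHom]
  rfl

/-- A diagonalisable group of finite type is of multiplicative type and of finite type. -/
lemma isMultTypeFT_DS (hN : AddGroup.FG N) : SGA3x.IsMultTypeFT (Red.DS T N) := by
  refine ⟨T, 𝟙 T, MorphismProperty.id_mem @Flat T, inferInstance,
    qcCover_of_quasiCompact (𝟙 T), fun x ↦ ⟨⊤, trivial, N, inferInstance, hN, ?_⟩⟩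
  obtain ⟨i, hi⟩ := exists_grpIso_of_points (A := Red.DS ((⊤ : T.Opens) : Scheme.{u}) N)
    (B := Red.bc ((⊤ : T.Opens).ι ≫ 𝟙 T) (Red.DS T N))
    (fun Z ↦ (dsPtEquiv ((⊤ : T.Opens).ι ≫ 𝟙 T) N Z).trans (bcPointEquiv _ _ Z).symm)
    (fun {Z W} z x ↦ by
      apply (bcPointEquiv _ _ W).injective
      rw [bcPointEquiv_comp, MulEquiv.trans_apply, MulEquiv.apply_symm_apply, dsPtEquiv_comp,
        MulEquiv.trans_apply, MulEquiv.apply_symm_apply])
  haveI := hi
  exact ⟨(Grp.mkIso' i).symm⟩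

end DSHom

/-! ### Finite quotients of finitely generated groups -/

lemma exists_not_mem_nsmul {M : Type} [AddCommGroup M] [AddGroup.FG M] (x : M) (hx : x ≠ 0) :
    ∃ n : ℕ, n ≠ 0 ∧ ∀ y : M, n • y ≠ x := by
  classical
  obtain ⟨r, J, _, p, hp, e, ⟨f⟩⟩ := AddCommGroup.equiv_free_prod_directSum_zmod (G := M)
  by_cases h1 : (f x).1 = 0
  · refine ⟨∏ j, p j ^ e j, Finset.prod_ne_zero_iff.mpr fun j _ ↦ pow_ne_zero _ (hp j).ne_zero,
      fun y hy ↦ hx (f.injective ?_)⟩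
    rw [map_zero]
    refine Prod.ext h1 (DFinsupp.ext fun j ↦ ?_)
    rw [← hy, map_nsmul]
    show (∏ j, p j ^ e j) • (f y).2 j = 0
    obtain ⟨c, hc⟩ : p j ^ e j ∣ ∏ j, p j ^ e j := Finset.dvd_prod_of_mem _ (Finset.mem_univ j)
    rw [hc, nsmul_eq_mul, Nat.cast_mul, ZMod.natCast_self, MulZeroClass.zero_mul,
      MulZeroClass.zero_mul]
  · obtain ⟨i, hi⟩ := Finsupp.ne_iff.mp h1
    refine ⟨((f x).1 i).natAbs + 1, by omega, fun y hy ↦ ?_⟩
    have h : ((f x).1 i) = (((f x).1 i).natAbs + 1 : ℕ) * ((f y).1 i) := by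
      conv_lhs => rw [← hy, map_nsmul]
      show ((((f x).1 i).natAbs + 1) • (f y).1) i = _
      rw [Finsupp.smul_apply, nsmul_eq_mul]
    have hi' : (f x).1 i ≠ 0 := by simpa using hi
    have h2 : ((f x).1 i).natAbs = (((f x).1 i).natAbs + 1) * ((f y).1 i).natAbs := by
      conv_lhs => rw [h]
      rw [Int.natAbs_mul, Int.natAbs_natCast]
    rcases Nat.eq_zero_or_pos ((f y).1 i).natAbs with h3 | h3
    · rw [h3, MulZeroClass.mul_zero] at h2
      exact hi' (Int.natAbs_eq_zero.mp h2)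
    · have := Nat.le_mul_of_pos_right (((f x).1 i).natAbs + 1) h3
      omega

/-- A finitely generated group has finite quotients separating any finite set. -/
lemma exists_finite_quotient_injOn {M : Type} [AddCommGroup M] [AddGroup.FG M] (F : Finset M) :
    ∃ (N : Type) (_ : AddCommGroup N) (_ : Finite N) (q : M →+ N),
      Set.InjOn q (F : Set M) := by
  classical
  let D := ((F ×ˢ F).image fun p ↦ p.1 - p.2).erase 0
  choose n hn hn' using fun d : D ↦ exists_not_mem_nsmul (d : M) (Finset.mem_erase.mp d.2).1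
  let k := ∏ d, n d
  have hk : k ≠ 0 := Finset.prod_ne_zero_iff.mpr fun d _ ↦ hn d
  let R := (nsmulAddMonoidHom k : M →+ M).range
  refine ⟨M ⧸ R, inferInstance, ?_, QuotientAddGroup.mk' R, fun a ha b hb hab ↦ ?_⟩
  · haveI : Module.Finite ℤ M := Module.Finite.iff_addGroup_fg.mpr ‹_›
    haveI : Module.Finite ℤ (M ⧸ R) := Module.Finite.of_surjective
      ((QuotientAddGroup.mk' R).toIntLinearMap) (QuotientAddGroup.mk'_surjective R)
    refine Module.finite_of_fg_torsion _ fun {x} ↦ ?_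
    obtain ⟨y, rfl⟩ := QuotientAddGroup.mk'_surjective R x
    refine ⟨⟨(k : ℤ), mem_nonZeroDivisors_of_ne_zero (by exact_mod_cast hk)⟩, ?_⟩
    show (k : ℤ) • (QuotientAddGroup.mk' R y) = 0
    rw [natCast_zsmul, ← map_nsmul, QuotientAddGroup.mk'_apply, QuotientAddGroup.eq_zero_iff]
    exact ⟨y, rfl⟩
  · by_contra hne
    have hd : a - b ∈ D := Finset.mem_erase.mpr ⟨sub_ne_zero.mpr hne,
      Finset.mem_image.mpr ⟨(a, b), Finset.mem_product.mpr ⟨ha, hb⟩, rfl⟩⟩
    have hab' : a - b ∈ R := by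
      rw [← QuotientAddGroup.eq_zero_iff]
      show QuotientAddGroup.mk' R (a - b) = 0
      rw [map_sub, hab, sub_self]
    obtain ⟨y, hy⟩ := hab'
    obtain ⟨c, hc⟩ : n ⟨a - b, hd⟩ ∣ k := Finset.dvd_prod_of_mem _ (Finset.mem_univ _)
    refine hn' ⟨a - b, hd⟩ (c • y) ?_
    rw [← mul_nsmul', ← hc]
    exact hy

lemma finite_addMonoidHom {M N : Type} [AddCommGroup M] [AddGroup.FG M] [AddCommGroup N] [Finite N] :
    Finite (M →+ N) := by
  obtain ⟨s, hs⟩ := AddGroup.fg_def.mp ‹AddGroup.FG M›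
  refine Finite.of_injective (fun f (x : s) ↦ f x) fun f g h ↦ ?_
  exact AddMonoidHom.eq_of_eqOn_dense hs fun x hx ↦ congrFun h ⟨x, hx⟩

/-! ### One subgroup inside the other -/

variable {G H₁ H₂ : Over S} (i₁ : H₁ ⟶ G) (i₂ : H₂ ⟶ G)

/-- Over `Z`, the points of `H₁` lie in `H₂`. -/
def FacOn (Z : Over S) : Prop :=
  ∀ (W : Over S), (W ⟶ Z) → ∀ x : W ⟶ H₁, ∃ y : W ⟶ H₂, y ≫ i₂ = x ≫ i₁

variable {i₁ i₂}

lemma FacOn.of_hom {Z Z' : Over S} (h : FacOn i₁ i₂ Z) (a : Z' ⟶ Z) : FacOn i₁ i₂ Z' :=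
  fun W w x ↦ h W (w ≫ a) x

lemma FacOn.of_snd {Z : Over S} (y : Z ⊗ H₁ ⟶ H₂) (hy : y ≫ i₂ = snd Z H₁ ≫ i₁) :
    FacOn i₁ i₂ Z := fun W w x ↦ ⟨lift w x ≫ y, by rw [Category.assoc, hy, lift_snd_assoc]⟩

/-- Descent along fpqc coverings. -/
lemma FacOn.descend [Mono i₂.left] {W Z : Over S} (p : W ⟶ Z) [Flat p.left] [Surjective p.left]
    (hcov : ∀ V : Z.left.Opens, IsAffineOpen V → ∃ W' : W.left.Opens, IsCompact (W' : Set W.left) ∧
      p.left.base '' (W' : Set W.left) = (V : Set Z.left))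
    (h : FacOn i₁ i₂ W) : FacOn i₁ i₂ Z := by
  let k := Limits.pullback.fst (fst Z H₁).left p.left
  haveI : Flat k := MorphismProperty.pullback_fst _ _ ‹_›
  haveI : Surjective k := MorphismProperty.pullback_fst _ _ ‹_›
  haveI : EffectiveEpi k := effectiveEpi_of_qcCover k (qcCover_pullback_fst p.left hcov _)
  let W' : Over S := Over.mk (k ≫ (Z ⊗ H₁).hom)
  let a : W' ⟶ Z ⊗ H₁ := Over.homMk k rfl
  let b : W' ⟶ W := Over.homMk (Limits.pullback.snd (fst Z H₁).left p.left) (by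
    show _ = k ≫ (Z ⊗ H₁).hom
    rw [← Over.w p, ← Limits.pullback.condition_assoc, Over.w (fst Z H₁)])
  obtain ⟨y', hy'⟩ := h W' b (a ≫ snd Z H₁)
  have e := congrArg (fun z : W' ⟶ G ↦ z.left) hy'
  simp only [Over.comp_left, Category.assoc] at e
  have hsame : ∀ {R : Scheme.{u}} (g₁ g₂ : R ⟶ _), g₁ ≫ k = g₂ ≫ k →
      g₁ ≫ y'.left = g₂ ≫ y'.left := fun g₁ g₂ hg ↦ by
    rw [← cancel_mono i₂.left, Category.assoc, Category.assoc, e]
    show g₁ ≫ k ≫ _ = g₂ ≫ k ≫ _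
    rw [reassoc_of% hg]
  have hfac := EffectiveEpi.fac k y'.left hsame
  refine .of_snd (Over.homMk (EffectiveEpi.desc k y'.left hsame) ?_) (Over.OverMorphism.ext ?_)
  · rw [← cancel_epi k, ← Category.assoc, hfac]
    exact Over.w y'
  · rw [← cancel_epi k, Over.comp_left]
    show k ≫ EffectiveEpi.desc k y'.left hsame ≫ i₂.left = _
    rw [← Category.assoc, hfac]
    exact e

/-- The property is Zariski local. -/
lemma FacOn.of_openCover [Mono i₂.left] {Z : Over S} (V : Z.left → Z.left.Opens)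
    (hV : ∀ z, z ∈ V z) (h : ∀ z, FacOn i₁ i₂ (Over.mk ((V z).ι ≫ Z.hom))) : FacOn i₁ i₂ Z := by
  let 𝒰 := (Scheme.openCoverOfIsOpenCover _ V
    (.mk (top_unique fun z _ ↦ TopologicalSpace.Opens.mem_iSup.mpr ⟨z, hV z⟩))).pullback₁
      (fst Z H₁).left
  let W' : ∀ z, Over S := fun z ↦ Over.mk (𝒰.f z ≫ (Z ⊗ H₁).hom)
  let a : ∀ z, W' z ⟶ Z ⊗ H₁ := fun z ↦ Over.homMk (𝒰.f z) rfl
  let b : ∀ z, W' z ⟶ Over.mk ((V z).ι ≫ Z.hom) := fun z ↦
    Over.homMk (Limits.pullback.snd (fst Z H₁).left (V z).ι) (by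
      show _ ≫ _ ≫ Z.hom = Limits.pullback.fst (fst Z H₁).left (V z).ι ≫ (Z ⊗ H₁).hom
      rw [← Limits.pullback.condition_assoc, Over.w (fst Z H₁)])
  choose y' hy' using fun z ↦ h z (W' z) (b z) (a z ≫ snd Z H₁)
  have e : ∀ z, (y' z).left ≫ i₂.left = 𝒰.f z ≫ (snd Z H₁ ≫ i₁).left := fun z ↦ by
    have e := congrArg (fun t : W' z ⟶ G ↦ t.left) (hy' z)
    simp only [Over.comp_left, Category.assoc] at e
    exact e
  have hglue : ∀ z z', Limits.pullback.fst (𝒰.f z) (𝒰.f z') ≫ (y' z).left =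
      Limits.pullback.snd (𝒰.f z) (𝒰.f z') ≫ (y' z').left := fun z z' ↦ by
    rw [← cancel_mono i₂.left, Category.assoc, Category.assoc, e, e,
      Limits.pullback.condition_assoc]
  have hg : ∀ z, 𝒰.f z ≫ Scheme.Cover.glueMorphisms 𝒰 (fun i ↦ (y' i).left) hglue = (y' z).left := fun z ↦
    Scheme.Cover.ι_glueMorphisms 𝒰 _ hglue z
  refine .of_snd (Over.homMk (Scheme.Cover.glueMorphisms 𝒰 (fun i ↦ (y' i).left) hglue) ?_)
    (Over.OverMorphism.ext ?_)
  · refine Scheme.Cover.hom_ext 𝒰 _ _ fun z ↦ ?_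
    exact ((Category.assoc _ _ _).symm.trans (congrArg (· ≫ H₂.hom) (hg z))).trans (Over.w (y' z))
  · refine Scheme.Cover.hom_ext 𝒰 _ _ fun z ↦ ?_
    exact ((Category.assoc _ _ _).symm.trans (congrArg (· ≫ i₂.left) (hg z))).trans (e z)

lemma facOn_fieldPoint_iff [Mono i₂.left] (K : Type u) [Field K] (p : Spec (CommRingCat.of K) ⟶ S) :
    FacOn i₁ i₂ (Over.mk p) ↔ FacOn i₁ i₂
      (Over.mk (S.fromSpecResidueField (p.base (IsLocalRing.closedPoint K)))) := by
  set s := p.base (IsLocalRing.closedPoint K)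
  let d : Spec (CommRingCat.of K) ⟶ Spec (S.residueField s) :=
    Spec.map (S.descResidueField (Scheme.stalkClosedPointTo p))
  have hd : d ≫ S.fromSpecResidueField s = p :=
    Scheme.descResidueField_stalkClosedPointTo_fromSpecResidueField K S p
  let q : Over.mk p ⟶ Over.mk (S.fromSpecResidueField s) := Over.homMk d hd
  refine ⟨fun h ↦ ?_, fun h ↦ h.of_hom q⟩
  haveI : Flat q.left := by
    show Flat (Spec.map _)
    rw [Flat.SpecMap_iff]
    let φ := (S.descResidueField (Scheme.stalkClosedPointTo p)).hom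
    show φ.Flat
    letI := φ.toAlgebra
    exact inferInstanceAs (Module.Flat (S.residueField s) K)
  haveI : Surjective q.left := ⟨fun y ↦ ⟨IsLocalRing.closedPoint K,
    Subsingleton.elim (α := (Spec (S.residueField s) : Scheme.{u})) _ _⟩⟩
  haveI : QuasiCompact q.left := inferInstanceAs (QuasiCompact (Spec.map _))
  exact FacOn.descend q (qcCover_of_quasiCompact q.left) h

variable [GrpObj G] [GrpObj H₁] [GrpObj H₂] [IsMonHom i₁] [IsMonHom i₂]

/-- Two subgroups containing each other over `U` are isomorphic over it. -/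
lemma exists_iso_of_facOn [Mono i₁] [Mono i₂] {T : Scheme.{u}} (g : T ⟶ S)
    (h : FacOn i₁ i₂ (Over.mk g)) (h' : FacOn i₂ i₁ (Over.mk g)) :
    ∃ ψ : Red.bc g H₁ ≅ Red.bc g H₂, ψ.hom ≫ (Over.pullback g).map i₂ = (Over.pullback g).map i₁ := by
  obtain ⟨y, hy⟩ := h _ (Over.homMk (Red.bc g H₁).hom rfl) (qPt g (𝟙 (Red.bc g H₁)))
  obtain ⟨y', hy'⟩ := h' _ (Over.homMk (Red.bc g H₂).hom rfl) (qPt g (𝟙 (Red.bc g H₂)))
  let a := (Over.mapPullbackAdj g).homEquiv (Red.bc g H₁) H₂ y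
  let a' := (Over.mapPullbackAdj g).homEquiv (Red.bc g H₂) H₁ y'
  have ha : a ≫ (Over.pullback g).map i₂ = (Over.pullback g).map i₁ := by
    apply qPt_injective g
    rw [qPt_map, show qPt g a = y from Equiv.symm_apply_apply _ _, hy, ← qPt_map, Category.id_comp]
  have ha' : a' ≫ (Over.pullback g).map i₁ = (Over.pullback g).map i₂ := by
    apply qPt_injective g
    rw [qPt_map, show qPt g a' = y' from Equiv.symm_apply_apply _ _, hy', ← qPt_map,
      Category.id_comp]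
  refine ⟨⟨a, a', ?_, ?_⟩, ha⟩
  · apply qPt_injective g
    rw [← cancel_mono i₁, ← qPt_map, ← qPt_map, Category.assoc, ha', ha, Category.id_comp]
  · apply qPt_injective g
    rw [← cancel_mono i₂, ← qPt_map, ← qPt_map, Category.assoc, ha, ha', Category.id_comp]

/-- Conversely, isomorphic subgroups contain each other. -/
lemma facOn_of_iso {T : Scheme.{u}} (g : T ⟶ S) (ψ : Red.bc g H₁ ≅ Red.bc g H₂)
    (hψ : ψ.hom ≫ (Over.pullback g).map i₂ = (Over.pullback g).map i₁) :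
    FacOn i₁ i₂ (Over.mk g) := by
  intro W w x
  have hw : w.left ≫ g = W.hom := Over.w w
  let ci : (Over.map g).obj (Over.mk w.left) ⟶ W :=
    Over.homMk (𝟙 _) ((Category.id_comp _).trans hw.symm)
  let c : W ⟶ (Over.map g).obj (Over.mk w.left) := Over.homMk (𝟙 _) ((Category.id_comp _).trans hw)
  have hcci : c ≫ ci = 𝟙 W := Over.OverMorphism.ext (Category.id_comp _)
  let x' := (Over.mapPullbackAdj g).homEquiv (Over.mk w.left) H₁ (ci ≫ x)
  refine ⟨c ≫ qPt g (x' ≫ ψ.hom), ?_⟩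
  rw [Category.assoc, ← qPt_map, Category.assoc, hψ, qPt_map,
    show qPt g x' = ci ≫ x from Equiv.symm_apply_apply _ _, ← Category.assoc, ← Category.assoc,
    hcci, Category.id_comp]

/-! ### On a chart where both groups are diagonalisable -/

section Chart

variable {T : Scheme.{u}} (g : T ⟶ S) {M₁ M₂ : Type} [AddCommGroup M₁] [AddCommGroup M₂]
  (e₁ : Red.DS T M₁ ≅ Red.bc g H₁) (e₂ : Red.DS T M₂ ≅ Red.bc g H₂)
  [IsMonHom e₁.hom] [IsMonHom e₂.hom]

/-- The value in `G` of a point of the diagonalisable group. -/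
def grpVal {H : Over S} {M : Type} [AddCommGroup M] (e : Red.DS T M ≅ Red.bc g H) (i : H ⟶ G)
    {Z : Over T} (z : Z ⟶ Red.DS T M) : (Over.map g).obj Z ⟶ G :=
  qPt g (z ≫ e.hom) ≫ i

lemma grpVal_comp {H : Over S} {M : Type} [AddCommGroup M] (e : Red.DS T M ≅ Red.bc g H) (i : H ⟶ G)
    {Z W : Over T} (h : W ⟶ Z) (z : Z ⟶ Red.DS T M) :
    grpVal g e i (h ≫ z) = (Over.map g).map h ≫ grpVal g e i z := by
  unfold grpVal
  rw [Category.assoc, ← Category.assoc ((Over.map g).map h)]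
  congr 1

lemma grpVal_mul {H : Over S} [GrpObj H] {M : Type} [AddCommGroup M]
    (e : Red.DS T M ≅ Red.bc g H) [IsMonHom e.hom] (i : H ⟶ G) [IsMonHom i] {Z : Over T}
    (z z' : Z ⟶ Red.DS T M) : grpVal g e i (z * z') = grpVal g e i z * grpVal g e i z' := by
  unfold grpVal
  show bcPointEquiv g H Z _ ≫ i = _
  rw [MonObj.mul_comp, map_mul, MonObj.mul_comp]
  rfl

lemma grpVal_injective {H : Over S} {M : Type} [AddCommGroup M]
    (e : Red.DS T M ≅ Red.bc g H) (i : H ⟶ G) [Mono i] (Z : Over T) :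
    Function.Injective (grpVal g e i (Z := Z)) := fun z z' h ↦ by
  rw [← cancel_mono e.hom]
  exact qPt_injective g ((cancel_mono i).mp h)

variable (hcomm : ∀ (X : Over S) (x : X ⟶ H₁) (y : X ⟶ H₂),
  (x ≫ i₁) * (y ≫ i₂) = (y ≫ i₂) * (x ≫ i₁))

variable {N : Type} [AddCommGroup N] (q : M₁ →+ N) (b : M₂ →+ N)

variable (i₁ i₂) in
/-- The quotient of the two homomorphisms `D(N) → G` attached to `q` and `b`. -/
def diffHom : Red.DS T N ⟶ Red.bc g G :=
  (Over.mapPullbackAdj g).homEquiv (Red.DS T N) G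
    (grpVal g e₁ i₁ (dsHom q) * (grpVal g e₂ i₂ (dsHom b))⁻¹)

lemma qPt_diffHom {Z : Over T} (z : Z ⟶ Red.DS T N) :
    qPt g (z ≫ diffHom i₁ i₂ g e₁ e₂ q b) =
      grpVal g e₁ i₁ (z ≫ dsHom q) * (grpVal g e₂ i₂ (z ≫ dsHom b))⁻¹ := by
  rw [grpVal_comp, grpVal_comp, ← GrpObj.comp_inv, ← MonObj.comp_mul]
  refine ((Over.mapPullbackAdj g).homEquiv_naturality_left_symm _ _).trans ?_
  congr 1
  exact Equiv.symm_apply_apply _ _

include hcomm in
lemma isMonHom_diffHom : IsMonHom (diffHom i₁ i₂ g e₁ e₂ q b) :=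
  Groth.AlgGrp1.isMonHom_of_points _ fun Z z z' ↦ by
    apply qPt_injective g
    show _ = bcPointEquiv g G Z _
    rw [map_mul, qPt_diffHom,
      show bcPointEquiv g G Z (z ≫ diffHom i₁ i₂ g e₁ e₂ q b) = _ from qPt_diffHom g e₁ e₂ q b z,
      show bcPointEquiv g G Z (z' ≫ diffHom i₁ i₂ g e₁ e₂ q b) = _ from qPt_diffHom g e₁ e₂ q b z',
      mul_comp_dsHom, mul_comp_dsHom, grpVal_mul, grpVal_mul, _root_.mul_inv_rev,
      _root_.mul_assoc, _root_.mul_assoc]
    congr 1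
    rw [← _root_.mul_assoc]
    have h1 : Commute (grpVal g e₁ i₁ (z' ≫ dsHom q)) (grpVal g e₂ i₂ (z ≫ dsHom b)) :=
      hcomm _ _ _
    have h2 : Commute (grpVal g e₂ i₂ (z' ≫ dsHom b)) (grpVal g e₂ i₂ (z ≫ dsHom b)) := by
      show _ * _ = _ * _
      rw [← grpVal_mul, ← grpVal_mul]
      congr 1
      exact dsVal_ext fun n ↦ by rw [dsVal_mul, dsVal_mul, mul_comm]
    exact (h1.inv_right.mul_left h2.inv_inv).eq

lemma trivOn_diffHom_iff {Z : Over T} :
    TrivOn (diffHom i₁ i₂ g e₁ e₂ q b) Z ↔ ∀ (W : Over T), (W ⟶ Z) → ∀ z : W ⟶ Red.DS T N,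
      grpVal g e₁ i₁ (z ≫ dsHom q) = grpVal g e₂ i₂ (z ≫ dsHom b) := by
  constructor
  · intro h W w z
    have h1 := congrArg (qPt g) (h W w z)
    rw [qPt_diffHom, show qPt g (1 : W ⟶ Red.bc g G) = 1 from map_one (bcPointEquiv g G W),
      mul_inv_eq_one] at h1
    exact h1
  · intro h W w z
    apply qPt_injective g
    rw [qPt_diffHom, show qPt g (1 : W ⟶ Red.bc g G) = 1 from map_one (bcPointEquiv g G W),
      mul_inv_eq_one]
    exact h W w z

include hcomm in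
/-- The locus where the two homomorphisms agree is clopen. -/
lemma exists_clopen_diffHom [IsSeparated G.hom] (hN : AddGroup.FG N)
    [LocallyOfFinitePresentation
      (Limits.pullback.fst ((fst H₁ H₂ ≫ i₁) * (snd H₁ H₂ ≫ i₂)⁻¹).left η[G].left)] :
    ∃ U : T.Opens, IsClosed (U : Set T) ∧ TrivOn (diffHom i₁ i₂ g e₁ e₂ q b) (Over.mk U.ι) ∧
      ∀ t : T, t ∈ U ↔ TrivOn (diffHom i₁ i₂ g e₁ e₂ q b) (Over.mk (T.fromSpecResidueField t)) := by
  haveI := isMonHom_diffHom g e₁ e₂ hcomm q b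
  haveI : IsSeparated (Red.bc g G).hom := MorphismProperty.pullback_snd _ _ ‹_›
  let v := diffHom i₁ i₂ g e₁ e₂ q b
  let ηT := η[Red.bc g G]
  haveI : IsClosedImmersion ηT.left := by
    haveI : IsClosedImmersion (ηT.left ≫ (Red.bc g G).hom) := by
      rw [Over.w ηT]
      exact MorphismProperty.id_mem @IsClosedImmersion _
    exact MorphismProperty.of_postcomp (W := @IsClosedImmersion) (W' := @IsSeparated) ηT.left
      (Red.bc g G).hom inferInstance inferInstance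
  haveI : LocallyOfFinitePresentation (Limits.pullback.fst v.left ηT.left) := by
    let u := (fst H₁ H₂ ≫ i₁) * (snd H₁ H₂ ≫ i₂)⁻¹
    let j : (Over.map g).obj (Red.DS T N) ⟶ H₁ ⊗ H₂ :=
      lift (qPt g (dsHom q ≫ e₁.hom)) (qPt g (dsHom b ≫ e₂.hom))
    have hju : j ≫ u = qPt g v := by
      rw [MonObj.comp_mul, GrpObj.comp_inv, lift_fst_assoc, lift_snd_assoc]
      exact (Equiv.symm_apply_apply _ _).symm
    have hη : ηT.left ≫ Limits.pullback.fst G.hom g = g ≫ η[G].left := by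
      have h1 : qPt g (1 : 𝟙_ (Over T) ⟶ Red.bc g G) = 1 :=
        map_one (bcPointEquiv g G (𝟙_ (Over T)))
      rw [show (1 : 𝟙_ (Over T) ⟶ Red.bc g G) = ηT from by
        rw [Hom.one_def, toUnit_unique (toUnit (𝟙_ (Over T))) (𝟙 _), Category.id_comp],
        Hom.one_def] at h1
      have h2 := congrArg (fun z ↦ z.left) h1
      simp only [qPt, Over.comp_left, Adjunction.homEquiv_counit] at h2
      simpa using h2
    have sq : IsPullback ηT.left g (Limits.pullback.fst G.hom g) η[G].left := by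
      refine IsPullback.of_right ?_ hη (IsPullback.of_hasPullback G.hom g).flip
      rw [show ηT.left ≫ Limits.pullback.snd G.hom g = 𝟙 T from Over.w ηT,
        show η[G].left ≫ G.hom = 𝟙 S from Over.w η[G]]
      show IsPullback (𝟙 T) g g (𝟙 S)
      exact IsPullback.of_horiz_isIso ⟨by simp⟩
    have hv : v.left ≫ Limits.pullback.fst G.hom g = j.left ≫ u.left := by
      rw [← Over.comp_left, hju]
      simp [qPt, Adjunction.homEquiv_counit]
    have sq' := (IsPullback.of_hasPullback v.left ηT.left).flip.paste_horiz sq.flip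
    haveI : LocallyOfFinitePresentation (Limits.pullback.fst (j.left ≫ u.left) η[G].left) := by
      rw [← Limits.pullbackRightPullbackFstIso_inv_fst u.left η[G].left j.left]
      infer_instance
    rw [hv] at sq'
    rw [← sq'.flip.isoPullback_hom_fst]
    infer_instance
  obtain ⟨U, hUc, hiff, htriv⟩ := exists_clopen_trivLocus v (isMultTypeFT_DS hN)
  exact ⟨U, hUc, htriv, fun t ↦ (hiff t).trans (pullback_map_eq_one_iff _)⟩

lemma facOn_of_trivOn (a : M₂ →+ M₁) {Z : Over T}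
    (h : TrivOn (diffHom i₁ i₂ g e₁ e₂ (AddMonoidHom.id M₁) a) Z) :
    FacOn i₁ i₂ ((Over.map g).obj Z) := by
  intro W w x
  let W' : Over T := Over.mk (w.left ≫ Z.hom)
  have hw : (w.left ≫ Z.hom) ≫ g = W.hom := (Category.assoc _ _ _).trans (Over.w w)
  let ci : (Over.map g).obj W' ⟶ W := Over.homMk (𝟙 _) ((Category.id_comp _).trans hw.symm)
  let c : W ⟶ (Over.map g).obj W' := Over.homMk (𝟙 _) ((Category.id_comp _).trans hw)
  have hcci : c ≫ ci = 𝟙 W := Over.OverMorphism.ext (Category.id_comp _)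
  let z := (Over.mapPullbackAdj g).homEquiv W' H₁ (ci ≫ x) ≫ e₁.inv
  have h1 := (trivOn_diffHom_iff g e₁ e₂ _ a).mp h W' (Over.homMk w.left rfl) z
  rw [dsHom_id, Category.comp_id] at h1
  have hz : qPt g (z ≫ e₁.hom) = ci ≫ x := by
    rw [Category.assoc, e₁.inv_hom_id, Category.comp_id]
    exact Equiv.symm_apply_apply _ _
  refine ⟨c ≫ qPt g ((z ≫ dsHom a) ≫ e₂.hom), ?_⟩
  rw [Category.assoc]
  show c ≫ grpVal g e₂ i₂ (z ≫ dsHom a) = _
  rw [← h1, grpVal, hz, ← Category.assoc, ← Category.assoc, hcci, Category.id_comp]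

lemma trivOn_diffHom_comp (a : M₂ →+ M₁) {Z : Over T}
    (h : TrivOn (diffHom i₁ i₂ g e₁ e₂ (AddMonoidHom.id M₁) a) Z) :
    TrivOn (diffHom i₁ i₂ g e₁ e₂ q (q.comp a)) Z := by
  rw [trivOn_diffHom_iff] at h ⊢
  intro W w z
  have h1 := h W w (z ≫ dsHom q)
  rwa [dsHom_id, Category.comp_id, Category.assoc, dsHom_comp] at h1

/-- Over a field valued point an inclusion comes from the character groups. -/
lemma exists_trivOn_of_facOn [IsAffine T] [Mono i₂] (K : Type u) [Field K]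
    (p : Spec (CommRingCat.of K) ⟶ T) (h : FacOn i₁ i₂ (Over.mk (p ≫ g))) :
    ∃ a : M₂ →+ M₁, TrivOn (diffHom i₁ i₂ g e₁ e₂ (AddMonoidHom.id M₁) a) (Over.mk p) := by
  classical
  let Y : Over T := Over.mk p
  haveI : IsAffine Y.left := inferInstanceAs (IsAffine (Spec _))
  let D := Red.DS T M₁ ⊗ Y
  obtain ⟨y, hy⟩ := h ((Over.map g).obj D)
    ((Over.map g).map (snd (Red.DS T M₁) Y)) (qPt g (fst (Red.DS T M₁) Y ≫ e₁.hom))
  let φ : D ⟶ Red.DS T M₂ := (Over.mapPullbackAdj g).homEquiv D H₂ y ≫ e₂.inv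
  have hφ : grpVal g e₂ i₂ φ = grpVal g e₁ i₁ (fst (Red.DS T M₁) Y) := by
    unfold grpVal
    rw [Category.assoc, e₂.inv_hom_id, Category.comp_id,
      show qPt g ((Over.mapPullbackAdj g).homEquiv D H₂ y) = y from Equiv.symm_apply_apply _ _, hy]
  have hpt : ∀ (Z : Over T) (z : Z ⟶ Red.DS T M₁) (w : Z ⟶ Y),
      grpVal g e₂ i₂ (lift z w ≫ φ) = grpVal g e₁ i₁ z := fun Z z w ↦ by
    rw [grpVal_comp, hφ, ← grpVal_comp, lift_fst]
  have hhom : IsHom φ := fun Z z z' w ↦ by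
    apply grpVal_injective g e₂ i₂
    rw [hpt, grpVal_mul, grpVal_mul, hpt, hpt]
  haveI : IsField Γ(Y.left, ⊤) := by
    exact (Scheme.ΓSpecIso (CommRingCat.of K)).commRingCatIsoToRingEquiv.toMulEquiv.isField
      (Field.toIsField K)
  have hfield := ‹IsField Γ(Y.left, ⊤)›
  haveI : Nontrivial Γ(Y.left, ⊤) := hfield.nontrivial
  have hsingle : ∀ n, ∃ m, famU φ n = MonoidAlgebra.single m 1 := fun n ↦ by
    obtain ⟨h1, h2⟩ := famU_groupLike φ hhom n
    set x := famU φ n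
    have hidem : ∀ m, x.coeff m = 0 ∨ x.coeff m = 1 := fun m ↦ by
      have e := groupLike_coeff_mul x h1 m m
      rw [if_pos rfl] at e
      letI := hfield.toField
      exact (IsIdempotentElem.iff_eq_zero_or_one).mp e
    obtain ⟨m, hm⟩ : ∃ m, x.coeff m ≠ 0 := by
      by_contra! hc
      have : x = 0 := MonoidAlgebra.ext (Finsupp.ext fun m ↦ by simpa using hc m)
      rw [this, map_zero] at h2
      exact zero_ne_one h2
    refine ⟨m, ?_⟩
    have e := single_coeff_mul x h1 m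
    rw [(hidem m).resolve_left hm] at e
    rw [← e, ← MonoidAlgebra.one_def, _root_.one_mul]
  choose f hf using hsingle
  have hfm : ∀ n n', f (n * n') = f n * f n' := fun n n' ↦ by
    have e := map_mul (famU φ) n n'
    rw [hf, hf, hf, MonoidAlgebra.single_mul_single, _root_.one_mul] at e
    exact (Finsupp.single_left_injective (one_ne_zero)) (congrArg MonoidAlgebra.coeff e)
  let F : Multiplicative M₂ →* Multiplicative M₁ := MonoidHom.mk' f hfm
  let a : M₂ →+ M₁ := AddMonoidHom.toMultiplicative.symm F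
  have hconst : φ = constFam F Y := famU_ext fun n ↦ by rw [hf, famU_constFam]; rfl
  refine ⟨a, (trivOn_diffHom_iff g e₁ e₂ _ a).mpr fun W w z ↦ ?_⟩
  rw [dsHom_id, Category.comp_id, ← hpt W z w]
  congr 1
  exact dsVal_ext fun n ↦ by rw [hconst, lift_constFam, dsVal_dsHom]; rfl

/-- An inclusion on all finite subgroups is an inclusion, over a field valued point. -/
lemma facOn_of_finite_quotients [IsAffine T] [FieldClosed i₂] [AddGroup.FG M₁] (K : Type u)
    [Field K] (p : Spec (CommRingCat.of K) ⟶ T)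
    (h : ∀ (N : Type) (_ : AddCommGroup N) (_ : Finite N) (q : M₁ →+ N),
      ∃ b : M₂ →+ N, TrivOn (diffHom i₁ i₂ g e₁ e₂ q b) (Over.mk p)) :
    FacOn i₁ i₂ (Over.mk (p ≫ g)) := by
  classical
  let Y : Over T := Over.mk p
  haveI : IsAffine Y.left := inferInstanceAs (IsAffine (Spec _))
  let D := Red.DS T M₁ ⊗ Y
  haveI : IsAffine D.left := inferInstance
  haveI : IsAffine ((Over.map g).obj D).left := inferInstanceAs (IsAffine D.left)
  let ρ := grpVal g e₁ i₁ (fst (Red.DS T M₁) Y)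
  let Q := Limits.pullback ρ.left i₂.left
  let π := Limits.pullback.fst ρ.left i₂.left
  -- a closed immersion, as the base is a field
  haveI : IsClosedImmersion π := by
    let k := p ≫ g
    have sq : IsPullback (Limits.pullback.fst H₂.hom k) ((Over.pullback k).map i₂).left i₂.left
        (Limits.pullback.fst G.hom k) := by
      refine IsPullback.of_bot ?_ (Limits.pullback.lift_fst _ _ _).symm
        (IsPullback.of_hasPullback G.hom k)
      rw [Over.w i₂, show ((Over.pullback k).map i₂).left ≫ Limits.pullback.snd G.hom k =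
        Limits.pullback.snd H₂.hom k from Over.w ((Over.pullback k).map i₂)]
      exact IsPullback.of_hasPullback H₂.hom k
    haveI := FieldClosed.isClosedImmersion (i := i₂) K k
    let ρ' : D.left ⟶ (Red.bc k G).left := Limits.pullback.lift ρ.left (snd (Red.DS T M₁) Y).left (by
      rw [Over.w ρ]
      show D.hom ≫ g = _ ≫ p ≫ g
      rw [← Category.assoc]
      exact congrArg (· ≫ g) (Over.w (snd (Red.DS T M₁) Y)).symm)
    have sq' := (IsPullback.of_hasPullback ρ' ((Over.pullback k).map i₂).left).flip.paste_horiz sq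
    have hρ : ρ' ≫ Limits.pullback.fst G.hom k = ρ.left := Limits.pullback.lift_fst _ _ _
    rw [hρ] at sq'
    show IsClosedImmersion (Limits.pullback.fst ρ.left i₂.left)
    rw [← sq'.flip.isoPullback_inv_fst]
    haveI : IsClosedImmersion (Limits.pullback.fst ρ' ((Over.pullback k).map i₂).left) :=
      MorphismProperty.pullback_fst _ _ ‹_›
    infer_instance
  -- whose ideal is zero
  let e₀ := RingEquiv.ofBijective _ (κ₀_bijective (T := T) (M := M₁) (Y := Y))
  have hinj : Function.Injective π.appTop := by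
    rw [injective_iff_map_eq_zero]
    intro r hr
    obtain ⟨c, rfl⟩ := e₀.surjective r
    suffices hc : c = 0 by rw [hc, map_zero]
    obtain ⟨N, _, _, q, hq⟩ := exists_finite_quotient_injOn
      (c.coeff.support.image Multiplicative.toAdd)
    obtain ⟨b, hb⟩ := h N inferInstance inferInstance q
    let P := Red.DS T N ⊗ Y
    haveI : IsAffine P.left := inferInstance
    let z := fst (Red.DS T N) Y
    let w := snd (Red.DS T N) Y
    let m : P ⟶ D := lift (z ≫ dsHom q) w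
    have hm : m.left ≫ ρ.left = (qPt g ((z ≫ dsHom b) ≫ e₂.hom)).left ≫ i₂.left := by
      have e : (Over.map g).map m ≫ ρ = grpVal g e₂ i₂ (z ≫ dsHom b) := by
        rw [← grpVal_comp, lift_fst]
        exact (trivOn_diffHom_iff g e₁ e₂ q b).mp hb P w z
      exact congrArg (fun t ↦ t.left) e
    have hz : m.left.appTop (e₀ c) = 0 := by
      rw [show m.left = Limits.pullback.lift _ _ hm ≫ π from (Limits.pullback.lift_fst _ _ _).symm,
        Scheme.Hom.comp_appTop, CommRingCat.comp_apply, hr, map_zero]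
    have hmap : m.left.appTop.hom.comp (κ₀ (T := T) (M := M₁) (Y := Y)) =
        (κ₀ (T := T) (M := N) (Y := Y)).comp
          (MonoidAlgebra.mapDomainRingHom Γ(Y.left, ⊤) (AddMonoidHom.toMultiplicative q)) := by
      rw [← ptEv_comp, lift_fst, lift_snd]
      refine MonoidAlgebra.ringHom_ext (fun x ↦ ?_) (fun d ↦ ?_)
      · simp only [RingHom.comp_apply, MonoidAlgebra.mapDomainRingHom_apply,
          MonoidAlgebra.mapDomain_single, map_one, κ₀, ptEv_single, ← dsValHom_apply]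
        rfl
      · simp only [RingHom.comp_apply, MonoidAlgebra.mapDomainRingHom_apply,
          MonoidAlgebra.mapDomain_single, κ₀, ptEv_single, map_one, _root_.one_mul]
        exact dsVal_dsHom q z d
    have hc' : MonoidAlgebra.mapDomainRingHom Γ(Y.left, ⊤) (AddMonoidHom.toMultiplicative q) c = 0 := by
      apply κ₀_bijective.1
      rw [map_zero, ← RingHom.comp_apply, ← hmap]
      exact hz
    refine MonoidAlgebra.ext (Finsupp.ext fun d ↦ ?_)
    by_contra hd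
    have hinjOn : Set.InjOn (AddMonoidHom.toMultiplicative q) (c.coeff.support : Set (Multiplicative M₁)) :=
      fun d₁ hd₁ d₂ hd₂ e ↦ hq (Finset.mem_image_of_mem _ hd₁) (Finset.mem_image_of_mem _ hd₂) e
    have e := congrArg (fun t ↦ t.coeff (AddMonoidHom.toMultiplicative q d)) hc'
    simp only [MonoidAlgebra.mapDomainRingHom_apply, MonoidAlgebra.coeff_mapDomain] at e
    rw [Finsupp.mapDomain_apply' (c.coeff.support : Set (Multiplicative M₁)) _ (fun _ h ↦ h) hinjOn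
      (Finsupp.mem_support_iff.mpr (by simpa using hd))] at e
    exact hd (by simpa using e)
  -- so the universal point lifts
  obtain ⟨l, hl⟩ := exists_lift_of_appTop_ker π (𝟙 D.left) (fun r hr ↦ by
    rw [hinj (hr.trans (map_zero _).symm), map_zero])
  have hlift : (l ≫ Limits.pullback.snd ρ.left i₂.left) ≫ i₂.left = ρ.left := by
    rw [Category.assoc, ← Limits.pullback.condition, reassoc_of% hl]
  let y : (Over.map g).obj D ⟶ H₂ := Over.homMk (l ≫ Limits.pullback.snd ρ.left i₂.left) (by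
    rw [← Over.w i₂, ← Category.assoc, hlift]
    exact Over.w ρ)
  have hy : y ≫ i₂ = ρ := Over.OverMorphism.ext hlift
  intro W w x
  let W' : Over T := Over.mk (w.left ≫ p)
  have hw : (w.left ≫ p) ≫ g = W.hom := (Category.assoc _ _ _).trans (Over.w w)
  let ci : (Over.map g).obj W' ⟶ W := Over.homMk (𝟙 _) ((Category.id_comp _).trans hw.symm)
  let cc : W ⟶ (Over.map g).obj W' := Over.homMk (𝟙 _) ((Category.id_comp _).trans hw)
  have hcci : cc ≫ ci = 𝟙 W := Over.OverMorphism.ext (Category.id_comp _)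
  let z := (Over.mapPullbackAdj g).homEquiv W' H₁ (ci ≫ x) ≫ e₁.inv
  let wY : W' ⟶ Y := Over.homMk w.left rfl
  refine ⟨cc ≫ (Over.map g).map (lift z wY) ≫ y, ?_⟩
  rw [Category.assoc, Category.assoc, hy, ← grpVal_comp, lift_fst, grpVal, Category.assoc,
    e₁.inv_hom_id, Category.comp_id]
  show cc ≫ qPt g _ ≫ i₁ = _
  rw [show qPt g ((Over.mapPullbackAdj g).homEquiv W' H₁ (ci ≫ x)) = ci ≫ x from
    Equiv.symm_apply_apply _ _, ← Category.assoc, ← Category.assoc, hcci, Category.id_comp]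

include hcomm e₁ e₂ in
/-- On a chart, the locus of inclusion is clopen. -/
theorem exists_clopen_facOn_chart [IsAffine T] [IsSeparated G.hom] [FieldClosed i₂] [Mono i₂]
    (hM₁ : AddGroup.FG M₁) (hM₂ : AddGroup.FG M₂)
    [LocallyOfFinitePresentation
      (Limits.pullback.fst ((fst H₁ H₂ ≫ i₁) * (snd H₁ H₂ ≫ i₂)⁻¹).left η[G].left)] :
    ∃ V : T.Opens, IsClosed (V : Set T) ∧ FacOn i₁ i₂ (Over.mk (V.ι ≫ g)) ∧
      ∀ t : T, FacOn i₁ i₂ (Over.mk (T.fromSpecResidueField t ≫ g)) ↔ t ∈ V := by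
  classical
  haveI := hM₁
  haveI := hM₂
  haveI : Mono i₂.left := inferInstance
  choose U hUc hUtriv hUiff using fun a : M₂ →+ M₁ ↦
    exists_clopen_diffHom g e₁ e₂ hcomm (AddMonoidHom.id M₁) a hM₁
  let V : T.Opens := ⨆ a, U a
  have hV : ∀ t : T, FacOn i₁ i₂ (Over.mk (T.fromSpecResidueField t ≫ g)) ↔ t ∈ V := fun t ↦ by
    rw [TopologicalSpace.Opens.mem_iSup]
    constructor
    · intro h
      obtain ⟨a, ha⟩ := exists_trivOn_of_facOn g e₁ e₂ _ _ h
      exact ⟨a, (hUiff a t).mpr ha⟩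
    · rintro ⟨a, ha⟩
      exact facOn_of_trivOn g e₁ e₂ a ((hUiff a t).mp ha)
  refine ⟨V, ?_, ?_, hV⟩
  · -- closed, being an intersection of finite unions
    refine isOpen_compl_iff.mp (isOpen_iff_forall_mem_open.mpr fun t ht ↦ ?_)
    have hnot : ¬ FacOn i₁ i₂ (Over.mk (T.fromSpecResidueField t ≫ g)) := fun h ↦ ht ((hV t).mp h)
    have hex : ∃ (N : Type) (_ : AddCommGroup N) (_ : Finite N) (q : M₁ →+ N), ∀ b : M₂ →+ N,
        ¬ TrivOn (diffHom i₁ i₂ g e₁ e₂ q b) (Over.mk (T.fromSpecResidueField t)) := by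
      by_contra! hc
      exact hnot (facOn_of_finite_quotients g e₁ e₂ _ _ hc)
    obtain ⟨N, _, _, q, hq⟩ := hex
    haveI : Finite (M₂ →+ N) := finite_addMonoidHom
    choose C hCc hCtriv hCiff using fun b : M₂ →+ N ↦
      exists_clopen_diffHom g e₁ e₂ hcomm q b inferInstance
    refine ⟨(⋃ b, (C b : Set T))ᶜ, fun x hx hxV ↦ hx ?_,
      (isClosed_iUnion_of_finite hCc).isOpen_compl, ?_⟩
    · obtain ⟨a, ha⟩ := TopologicalSpace.Opens.mem_iSup.mp hxV
      exact Set.mem_iUnion.mpr ⟨q.comp a,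
        (hCiff _ x).mpr (trivOn_diffHom_comp g e₁ e₂ q a ((hUiff a x).mp ha))⟩
    · simp only [Set.mem_compl_iff, Set.mem_iUnion, not_exists]
      exact fun b hb ↦ hq b ((hCiff b t).mp hb)
  · have hmem : ∀ v : (V : Scheme.{u}), ∃ a, V.ι v ∈ U a := fun v ↦
      TopologicalSpace.Opens.mem_iSup.mp v.2
    choose a ha using hmem
    refine FacOn.of_openCover (fun v ↦ V.ι ⁻¹ᵁ U (a v)) ha fun v ↦ ?_
    let m := (V.ι ⁻¹ᵁ U (a v)).ι ≫ V.ι
    have hle : Set.range m ⊆ Set.range (U (a v)).ι := by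
      rw [Scheme.Opens.range_ι]
      rintro _ ⟨w, rfl⟩
      exact w.2
    have h1 : FacOn i₁ i₂ (Over.mk ((U (a v)).ι ≫ g)) := facOn_of_trivOn g e₁ e₂ _ (hUtriv (a v))
    refine h1.of_hom (Over.homMk (IsOpenImmersion.lift (U (a v)).ι m hle) ?_)
    show _ ≫ (U (a v)).ι ≫ g = (V.ι ⁻¹ᵁ U (a v)).ι ≫ V.ι ≫ g
    rw [IsOpenImmersion.lift_fac_assoc, Category.assoc]

end Chart

variable (i₁ i₂) in
/-- The locus where the first subgroup lies in the second is clopen. -/
theorem exists_clopen_facOn [IsSeparated G.hom] [FieldClosed i₂] [Mono i₂]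
    (hcomm : ∀ (X : Over S) (x : X ⟶ H₁) (y : X ⟶ H₂),
      (x ≫ i₁) * (y ≫ i₂) = (y ≫ i₂) * (x ≫ i₁))
    (h₁ : SGA3x.IsMultTypeFT H₁) (h₂ : SGA3x.IsMultTypeFT H₂)
    [LocallyOfFinitePresentation
      (Limits.pullback.fst ((fst H₁ H₂ ≫ i₁) * (snd H₁ H₂ ≫ i₂)⁻¹).left η[G].left)] :
    ∃ U : S.Opens, IsClosed (U : Set S) ∧ FacOn i₁ i₂ (Over.mk U.ι) ∧
      ∀ s : S, s ∈ U ↔ FacOn i₁ i₂ (Over.mk (S.fromSpecResidueField s)) := by
  obtain ⟨S₁, f₁, hflat₁, hsurj₁, hqc₁, hloc₁⟩ := h₁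
  obtain ⟨S₂, f₂, hflat₂, hsurj₂, hqc₂, hloc₂⟩ := h₂
  haveI := hflat₁
  haveI := hsurj₁
  haveI := hflat₂
  haveI := hsurj₂
  let p₁ := Limits.pullback.fst f₁ f₂
  let p₂ := Limits.pullback.snd f₁ f₂
  let f := p₁ ≫ f₁
  have hf : Flat f := inferInstance
  have hqc := qcCover_comp p₁ f₁ (qcCover_pullback_fst f₂ hqc₂ f₁) hqc₁
  haveI : Mono i₂.left := inferInstance
  let A : Set S := {s | FacOn i₁ i₂ (Over.mk (S.fromSpecResidueField s))}
  have hchart : ∀ x, ∃ (T : (Limits.pullback f₁ f₂).Opens) (V : (T : Scheme.{u}).Opens), x ∈ T ∧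
      IsClosed (V : Set (T : Scheme.{u})) ∧ FacOn i₁ i₂ (Over.mk (V.ι ≫ T.ι ≫ f)) ∧
      ∀ t : (T : Scheme.{u}), (T.ι ≫ f).base t ∈ A ↔ t ∈ V := by
    intro x
    obtain ⟨U₁, hxU₁, M₁, _, hM₁, ⟨e₁⟩⟩ := hloc₁ (p₁ x)
    obtain ⟨U₂, hxU₂, M₂, _, hM₂, ⟨e₂⟩⟩ := hloc₂ (p₂ x)
    obtain ⟨T, hT, hxT, hTU⟩ := exists_isAffineOpen_mem_and_subset
      (U := p₁ ⁻¹ᵁ U₁ ⊓ p₂ ⁻¹ᵁ U₂) (show x ∈ p₁ ⁻¹ᵁ U₁ ⊓ p₂ ⁻¹ᵁ U₂ from ⟨hxU₁, hxU₂⟩)
    haveI : IsAffine (T : Scheme.{u}) := hT
    let e₁' : Red.DS (U₁ : Scheme.{u}) M₁ ≅ Red.bc (U₁.ι ≫ f₁) H₁ :=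
      ⟨e₁.inv.hom.hom, e₁.hom.hom.hom, congrArg (fun z ↦ z.hom.hom) e₁.inv_hom_id,
        congrArg (fun z ↦ z.hom.hom) e₁.hom_inv_id⟩
    haveI : IsMonHom e₁'.hom := inferInstanceAs (IsMonHom e₁.inv.hom.hom)
    let e₂' : Red.DS (U₂ : Scheme.{u}) M₂ ≅ Red.bc (U₂.ι ≫ f₂) H₂ :=
      ⟨e₂.inv.hom.hom, e₂.hom.hom.hom, congrArg (fun z ↦ z.hom.hom) e₂.inv_hom_id,
        congrArg (fun z ↦ z.hom.hom) e₂.hom_inv_id⟩
    haveI : IsMonHom e₂'.hom := inferInstanceAs (IsMonHom e₂.inv.hom.hom)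
    have hTU₁ : T ≤ p₁ ⁻¹ᵁ U₁ := hTU.trans inf_le_left
    have hTU₂ : T ≤ p₂ ⁻¹ᵁ U₂ := hTU.trans inf_le_right
    obtain ⟨j₁, hj₁⟩ := exists_trivialisation_comp H₁
      ((Limits.pullback f₁ f₂).homOfLE hTU₁ ≫ p₁ ∣_ U₁) (U₁.ι ≫ f₁) e₁'
    obtain ⟨j₂, hj₂⟩ := exists_trivialisation_comp H₂
      ((Limits.pullback f₁ f₂).homOfLE hTU₂ ≫ p₂ ∣_ U₂) (U₂.ι ≫ f₂) e₂'
    revert j₁ hj₁ j₂ hj₂
    rw [Category.assoc, morphismRestrict_ι_assoc, Scheme.homOfLE_ι_assoc, Category.assoc,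
      morphismRestrict_ι_assoc, Scheme.homOfLE_ι_assoc,
      show p₂ ≫ f₂ = f from Limits.pullback.condition.symm]
    intro j₁ hj₁ j₂ hj₂
    haveI := hj₁
    haveI := hj₂
    obtain ⟨V, hVc, hV, hVA⟩ := exists_clopen_facOn_chart (T.ι ≫ f) j₁ j₂ hcomm hM₁ hM₂
    refine ⟨T, V, hxT, hVc, hV, fun t ↦ ?_⟩
    let pt := (T : Scheme.{u}).fromSpecResidueField t
    have himg : (pt ≫ T.ι ≫ f).base (IsLocalRing.closedPoint _) = (T.ι ≫ f).base t := by
      rw [Scheme.Hom.comp_apply, Scheme.fromSpecResidueField_apply]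
    exact ((facOn_fieldPoint_iff _ (pt ≫ T.ι ≫ f)).trans
      (iff_of_eq (congrArg (fun s ↦ s ∈ A) himg))).symm.trans (hVA t)
  choose T V hxT hVc hV hVA using hchart
  have hA : IsClopen A := by
    refine isClopen_of_preimage f hqc ?_
    have hcov : TopologicalSpace.IsOpenCover T :=
      .mk (top_unique fun x _ ↦ TopologicalSpace.Opens.mem_iSup.mpr ⟨x, hxT x⟩)
    have hpre : ∀ x, (Subtype.val : {y // y ∈ T x} → _) ⁻¹' (f.base ⁻¹' A) =
        (V x : Set (T x : Scheme.{u})) := fun x ↦ Set.ext fun t ↦ hVA x t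
    exact ⟨hcov.isClosed_iff_coe_preimage.mpr fun x ↦ (hpre x).symm ▸ hVc x,
      hcov.isOpen_iff_coe_preimage.mpr fun x ↦ (hpre x).symm ▸ (V x).isOpen⟩
  let U : S.Opens := ⟨A, hA.2⟩
  refine ⟨U, hA.1, ?_, fun s ↦ Iff.rfl⟩
  let r : (f ⁻¹ᵁ U : Scheme.{u}) ⟶ (U : Scheme.{u}) := f ∣_ U
  haveI : Flat r := IsZariskiLocalAtTarget.restrict hf U
  haveI : Surjective r := IsZariskiLocalAtTarget.restrict (inferInstance : Surjective f) U
  have hqcr : ∀ W : (U : Scheme.{u}).Opens, IsAffineOpen W →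
      ∃ W' : (f ⁻¹ᵁ U : Scheme.{u}).Opens, IsCompact (W' : Set (f ⁻¹ᵁ U : Scheme.{u})) ∧
        r.base '' (W' : Set (f ⁻¹ᵁ U : Scheme.{u})) = (W : Set (U : Scheme.{u})) := by
    intro W hW
    obtain ⟨W₀, hW₀c, hW₀⟩ := hqc (U.ι ''ᵁ W) (hW.image_of_isOpenImmersion U.ι)
    have hle : (W₀ : Set (Limits.pullback f₁ f₂ : Scheme.{u})) ⊆ Set.range (f ⁻¹ᵁ U).ι := by
      rw [Scheme.Opens.range_ι]
      intro w hw
      obtain ⟨v, -, hv⟩ := (hW₀.subset ⟨w, hw, rfl⟩ : f w ∈ U.ι ''ᵁ W)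
      show f w ∈ U
      exact hv ▸ v.2
    refine ⟨(f ⁻¹ᵁ U).ι ⁻¹ᵁ W₀,
      (f ⁻¹ᵁ U).ι.isOpenEmbedding.isInducing.isCompact_preimage' hW₀c hle, ?_⟩
    apply U.ι.isOpenEmbedding.injective.image_injective
    rw [Set.image_image]
    refine (Set.image_congr' fun w ↦ ?_).trans (((Set.image_image _ _ _).symm.trans
      (congrArg (f.base '' ·) (Set.image_preimage_eq_of_subset hle))).trans hW₀)
    show U.ι (r w) = f ((f ⁻¹ᵁ U).ι w)
    rw [← Scheme.Hom.comp_apply, ← Scheme.Hom.comp_apply, morphismRestrict_ι]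
  let p : Over.mk ((f ⁻¹ᵁ U).ι ≫ f) ⟶ Over.mk U.ι := Over.homMk r (morphismRestrict_ι f U)
  haveI : Flat p.left := inferInstanceAs (Flat r)
  haveI : Surjective p.left := inferInstanceAs (Surjective r)
  refine FacOn.descend p hqcr ?_
  refine FacOn.of_openCover (fun x ↦ (f ⁻¹ᵁ U).ι ⁻¹ᵁ T x.1) (fun x ↦ hxT x.1) fun x ↦ ?_
  let m := (((f ⁻¹ᵁ U).ι ⁻¹ᵁ T x.1).ι ≫ (f ⁻¹ᵁ U).ι)
  have hle : Set.range m ⊆ Set.range ((V x.1).ι ≫ (T x.1).ι) := by
    rintro _ ⟨w, rfl⟩
    have hwT : m w ∈ T x.1 := w.2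
    have hwA : f (m w) ∈ A := w.1.2
    exact ⟨⟨⟨m w, hwT⟩, (hVA x.1 ⟨m w, hwT⟩).mp hwA⟩, rfl⟩
  refine (hV x.1).of_hom (Over.homMk (IsOpenImmersion.lift ((V x.1).ι ≫ (T x.1).ι) m hle) ?_)
  show _ ≫ (V x.1).ι ≫ (T x.1).ι ≫ f = ((f ⁻¹ᵁ U).ι ⁻¹ᵁ T x.1).ι ≫ (f ⁻¹ᵁ U).ι ≫ f
  rw [← Category.assoc (V x.1).ι, IsOpenImmersion.lift_fac_assoc, Category.assoc]

/-- The kernel of a morphism from a product of groups of multiplicative type is of finite
presentation. -/
theorem lfp_pullback_fst_eta {S : Scheme.{u}} {G H₁ H₂ : Over S} [GrpObj G] [GrpObj H₁] [GrpObj H₂]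
    [IsSeparated G.hom] (h₁ : SGA3x.IsMultTypeFT H₁) (h₂ : SGA3x.IsMultTypeFT H₂)
    (hG : IsLocallyNoetherian S ∨ LocallyOfFinitePresentation G.hom) (u : H₁ ⊗ H₂ ⟶ G) :
    LocallyOfFinitePresentation (Limits.pullback.fst u.left η[G].left) := by
  have hη : η[G].left ≫ G.hom = 𝟙 S := Over.w η[G]
  rcases hG with hS | hG
  · haveI := (flat_lfp_of_multTypeFT H₁ h₁ Groth.AlgSp2.flat_descendsAlong inferInstance).2
    haveI := (flat_lfp_of_multTypeFT H₂ h₂ Groth.AlgSp2.flat_descendsAlong inferInstance).2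
    haveI : LocallyOfFiniteType (H₁ ⊗ H₂).hom :=
      inferInstanceAs (LocallyOfFiniteType (Limits.pullback.fst H₁.hom H₂.hom ≫ H₁.hom))
    haveI : IsLocallyNoetherian (H₁ ⊗ H₂).left :=
      LocallyOfFiniteType.isLocallyNoetherian (H₁ ⊗ H₂).hom
    haveI : IsClosedImmersion η[G].left := by
      haveI : IsClosedImmersion (η[G].left ≫ G.hom) := by
        rw [hη]
        exact MorphismProperty.id_mem @IsClosedImmersion _
      exact MorphismProperty.of_postcomp (W := @IsClosedImmersion) (W' := @IsSeparated) η[G].left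
        G.hom inferInstance inferInstance
    haveI : IsClosedImmersion (Limits.pullback.fst u.left η[G].left) :=
      MorphismProperty.pullback_fst _ _ ‹_›
    exact Groth.AlgSp2.lfp_of_isLocallyNoetherian _
  · haveI : LocallyOfFinitePresentation (η[G].left ≫ G.hom) := by
      rw [hη]
      exact locallyOfFinitePresentation_of_isOpenImmersion (𝟙 _)
    haveI := Groth.PropsBasic2.lfp_of_comp η[G].left G.hom
    exact MorphismProperty.pullback_fst _ _ ‹_›

end Groth.Reductive.FreeDiag
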