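import Groth.Agent.Reductive.MTConj

/-!
A monomorphism from a group of multiplicative type to an affine group is a closed immersion.
-/

set_option autoImplicit false
universe u

open CategoryTheory MonoidalCategory CartesianMonoidalCategory MonObj AlgebraicGeometry Limits
open scoped TensorProduct

noncomputable section

namespace Groth.Reductive.MTInt

open Groth.Reductive.FreeDiag (ev ev_single)

variable {S : Scheme.{u}} {H G : Over S} [GrpObj H] [GrpObj G] {Y : Over S}

namespace Triv

variable (τ : Triv H Y)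

omit [GrpObj G] in
lemma appTop_κ {Z : Over S} (h : Z ⟶ H) (y : Z ⟶ Y)
    (c : MonoidAlgebra Γ(Y.left, ⊤) (Multiplicative τ.M)) :
    (lift h y).left.appTop (τ.κ c) = ev y.left.appTop.hom (τ.val y h) c := by
  refine RingHom.congr_fun (f := (lift h y).left.appTop.hom.comp τ.κ) ?_ c
  refine MonoidAlgebra.ringHom_ext (fun r ↦ ?_) (fun a ↦ ?_)
  · rw [RingHom.comp_apply, τ.κ_single_one, ev_single, map_one, _root_.mul_one]
    show (lift h y).left.appTop ((snd H Y).left.appTop r) = _
    rw [← appTop_comp_apply, lift_snd]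
  · rw [RingHom.comp_apply, τ.κ_single, map_one, _root_.one_mul, ev_single, map_one, _root_.one_mul]
    have e := DFunLike.congr_fun (τ.nat (lift h y) (snd H Y) (fst H Y)) a
    rw [lift_snd, lift_fst] at e
    exact e.symm

omit [GrpObj G] in
include τ in
/-- `H` is commutative over `Y`. -/
lemma mul_comm_of {Z : Over S} (y : Z ⟶ Y) (a b : Z ⟶ H) : a * b = b * a := by
  apply (τ.val y).injective
  rw [map_mul, map_mul, _root_.mul_comm]

variable [IsAffine Y.left] [IsAffine (H ⊗ Y).left]

/-- Extraction of a coefficient in the first variable of `H × (H × Y)`: the outer variable is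
`fst`, the inner one is `snd`. -/
def swapCoeff (m : Multiplicative τ.M) : AY H (H ⊗ Y) →+ AY H Y where
  toFun z := τ.κ (MonoidAlgebra.ofCoeff (((τ.restrict (snd H Y)).κE.symm z).coeff.mapRange
    (fun r ↦ (τ.κE.symm r).coeff m) (by simp)))
  map_zero' := by simp
  map_add' a b := by
    rw [map_add, MonoidAlgebra.coeff_add, Finsupp.mapRange_add (by simp)]
    rw [← map_add]
    congr 1

lemma swapCoeff_κ (m n : Multiplicative τ.M) (r : AY H Y) :
    τ.swapCoeff m ((τ.restrict (snd H Y)).κ (MonoidAlgebra.single n r)) =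
      τ.κ (MonoidAlgebra.single n ((τ.κE.symm r).coeff m)) := by
  show τ.κ (MonoidAlgebra.ofCoeff ((((τ.restrict (snd H Y)).κE.symm ((τ.restrict (snd H Y)).κE
    (MonoidAlgebra.single n r))).coeff).mapRange _ _)) = _
  rw [RingEquiv.symm_apply_apply, MonoidAlgebra.coeff_single, Finsupp.mapRange_single]
  rfl

lemma swapCoeff_sY_mul (m : Multiplicative τ.M) (r : AY H Y) (a : AY H Y) :
    τ.swapCoeff m (sY H (H ⊗ Y) r * gA H (snd H Y) a) =
      sY H Y ((τ.κE.symm r).coeff m) * a := by
  refine τ.induction_on (P := fun a ↦ τ.swapCoeff m (sY H (H ⊗ Y) r * gA H (snd H Y) a) =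
      sY H Y ((τ.κE.symm r).coeff m) * a) a (fun x y hx hy ↦ ?_) fun n b ↦ ?_
  · rw [map_add, _root_.mul_add, map_add, hx, hy, _root_.mul_add]
  · have e : τ.κE.symm (r * τ.κ (MonoidAlgebra.single 1 b)) =
        τ.κE.symm r * MonoidAlgebra.single 1 b := by
      rw [map_mul]
      congr 1
      exact τ.κE.symm_apply_apply _
    rw [τ.gA_κ_single, ← (τ.restrict (snd H Y)).κ_single_one, ← map_mul,
      MonoidAlgebra.single_mul_single, _root_.one_mul, τ.swapCoeff_κ,
      ← τ.κ_single_one ((τ.κE.symm r).coeff m), ← map_mul,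
      MonoidAlgebra.single_mul_single, _root_.one_mul,
      show (snd H Y).left.appTop b = τ.κ (MonoidAlgebra.single 1 b) from (τ.κ_single_one b).symm,
      e, MonoidAlgebra.coeff_mul_single_one]

end Triv

variable [IsAffine Y.left]

set_option maxHeartbeats 1000000 in
/-- Over a trivialising base a monomorphism to an affine group is surjective on functions. -/
theorem surjective_dA_of_triv (hH : IsAffineHom H.hom) (hG : IsAffineHom G.hom) (τ : Triv H Y)
    (u : H ⟶ G) [IsMonHom u] [Mono u] : Function.Surjective (dA (fst H Y ≫ u)) := by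
  haveI := isAffine_prod hH Y
  haveI := isAffine_prod hG Y
  let P : H ⊗ Y ⟶ Y := snd H Y
  let d : H ⊗ Y ⟶ G := fst H Y ≫ u
  let Im : Subring (AY H Y) := (dA d).range
  have hsY : ∀ r, sY H Y r ∈ Im := fun r ↦ ⟨sY G Y r, dA_sY d r⟩
  -- coefficients
  have hcoef : ∀ f m, τ.κ (MonoidAlgebra.single m ((τ.κE.symm (dA d f)).coeff m)) ∈ Im := by
    intro f m
    let mu : G ⊗ (H ⊗ Y) ⟶ G ⊗ Y :=
      lift (fst G (H ⊗ Y) * (snd G (H ⊗ Y) ≫ d)) (snd G (H ⊗ Y) ≫ P)
    have e1 : famGraph ((H ◁ P) ≫ d) ≫ mu = Triv.th (fst H Y) ≫ (H ◁ P) ≫ famGraph d := by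
      ext1
      · simp only [mu, d, P, Category.assoc, lift_fst, lift_snd_assoc, MonObj.comp_mul,
          whiskerLeft_fst_assoc, Triv.th, lift_fst_assoc, MonObj.mul_comp]
        rw [← Category.assoc (snd H (H ⊗ Y)), ← MonObj.mul_comp, ← MonObj.mul_comp, τ.mul_comm_of (snd H (H ⊗ Y) ≫ snd H Y)]
      · simp [mu, P, Triv.th]
    have key : (τ.swapCoeff m) (dA ((H ◁ P) ≫ d) (mu.left.appTop f)) ∈ Im := by
      refine AY_ext hG P (P := fun F ↦ τ.swapCoeff m (dA ((H ◁ P) ≫ d) F) ∈ Im)
        (fun x y hx hy ↦ ?_) (fun r a ↦ ?_) _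
      · rw [map_add, map_add]; exact add_mem hx hy
      · rw [map_mul, dA_sY, dA_gA, τ.swapCoeff_sY_mul]
        exact mul_mem (hsY _) ⟨a, rfl⟩
    have e2 : dA ((H ◁ P) ≫ d) (mu.left.appTop f) =
        (Triv.th (fst H Y)).left.appTop (gA H P (dA d f)) := by
      show (famGraph ((H ◁ P) ≫ d)).left.appTop (mu.left.appTop f) =
        (Triv.th (fst H Y)).left.appTop ((H ◁ P).left.appTop ((famGraph d).left.appTop f))
      rw [← appTop_comp_apply, e1, appTop_comp_apply, appTop_comp_apply]
    rw [e2] at key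
    have e3 : ∀ a : AY H Y, τ.swapCoeff m ((Triv.th (fst H Y)).left.appTop (gA H P a)) =
        τ.κ (MonoidAlgebra.single m ((τ.κE.symm a).coeff m)) := by
      intro a
      refine τ.induction_on (P := fun a ↦ τ.swapCoeff m ((Triv.th (fst H Y)).left.appTop (gA H P a)) =
        τ.κ (MonoidAlgebra.single m ((τ.κE.symm a).coeff m))) a (fun x y hx hy ↦ ?_) fun n b ↦ ?_
      · simp only [map_add, hx, hy, MonoidAlgebra.coeff_add, Finsupp.add_apply,
          MonoidAlgebra.single_add]
      · rw [τ.gA_κ_single, (τ.restrict P).th_κ_single, τ.swapCoeff_κ,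
          show (τ.restrict P).val (𝟙 (H ⊗ Y)) (fst H Y) = τ.val (snd H Y) (fst H Y) by
            show τ.val (𝟙 _ ≫ P) _ = _
            rw [Category.id_comp],
          show P.left.appTop b * τ.val (snd H Y) (fst H Y) n = τ.κE (MonoidAlgebra.single n b) from
            (τ.κ_single n b).symm,
          RingEquiv.symm_apply_apply,
          show τ.κE.symm (τ.κ (MonoidAlgebra.single n b)) = MonoidAlgebra.single n b from
            τ.κE.symm_apply_apply _, MonoidAlgebra.coeff_single]
        rcases eq_or_ne n m with rfl | hnm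
        · rfl
        · simp [Finsupp.single_apply, hnm]
    rwa [e3] at key
  -- inverses
  have hinv : ∀ m c, τ.κ (MonoidAlgebra.single m c) ∈ Im → τ.κ (MonoidAlgebra.single m⁻¹ c) ∈ Im := by
    rintro m c ⟨f, hf⟩
    let σ : H ⊗ Y ⟶ H ⊗ Y := lift (fst H Y)⁻¹ (snd H Y)
    let ιG : G ⊗ Y ⟶ G ⊗ Y := lift (fst G Y)⁻¹ (snd G Y)
    refine ⟨ιG.left.appTop f, ?_⟩
    have e : famGraph d ≫ ιG = σ ≫ famGraph d := by
      ext1
      · simp only [ιG, σ, d, Category.assoc, lift_fst, GrpObj.comp_inv, lift_fst_assoc]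
        exact (GrpObj.inv_comp _ u).symm
      · simp [ιG, σ]
    show (famGraph d).left.appTop (ιG.left.appTop f) = _
    rw [← appTop_comp_apply, e, appTop_comp_apply, show (famGraph d).left.appTop f = _ from hf,
      τ.appTop_κ, ev_single, τ.κ_single]
    congr 1
    set v := τ.val (snd H Y)
    have h1 : v (fst H Y)⁻¹ m * v (fst H Y) m = 1 := by
      rw [← MonoidHom.mul_apply, ← map_mul v, inv_mul_cancel, map_one, MonoidHom.one_apply]
    have h2 : v (fst H Y) m * v (fst H Y) m⁻¹ = 1 := by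
      rw [← map_mul, mul_inv_cancel, map_one]
    exact left_inv_eq_right_inv h1 h2
  -- the ideals of the coefficients are trivial
  let J : Multiplicative τ.M → Ideal Γ(Y.left, ⊤) := fun m ↦
    { carrier := {c | τ.κ (MonoidAlgebra.single m c) ∈ Im}
      add_mem' := fun {x y} hx hy ↦ by
        show τ.κ _ ∈ Im
        rw [MonoidAlgebra.single_add, map_add]; exact add_mem hx hy
      zero_mem' := by show τ.κ _ ∈ Im; simp
      smul_mem' := fun r x hx ↦ by
        show τ.κ _ ∈ Im
        rw [smul_eq_mul, ← _root_.one_mul m, ← MonoidAlgebra.single_mul_single, map_mul,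
          τ.κ_single_one]
        exact mul_mem (hsY r) hx }
  have hJ : ∀ m, J m = ⊤ := by
    intro m₀
    by_contra hne
    obtain ⟨p, hp, hJp⟩ := Ideal.exists_le_maximal _ hne
    let q := Ideal.Quotient.mk p
    let M' : Subgroup (Multiplicative τ.M) :=
      { carrier := {m | ¬ J m ≤ p}
        one_mem' := fun h ↦ hp.ne_top ((Ideal.eq_top_iff_one p).mpr (h (by
          show τ.κ _ ∈ Im
          rw [τ.κ_single_one]
          exact hsY 1)))
        mul_mem' := fun {a b} ha hb h ↦ by
          obtain ⟨x, hx, hxp⟩ := SetLike.not_le_iff_exists.mp ha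
          obtain ⟨y, hy, hyp⟩ := SetLike.not_le_iff_exists.mp hb
          refine (hp.isPrime.mem_or_mem (h (x := x * y) ?_)).elim hxp hyp
          show τ.κ _ ∈ Im
          rw [← MonoidAlgebra.single_mul_single, map_mul]
          exact mul_mem hx hy
        inv_mem' := fun {a} ha h ↦ ha fun x hx ↦ h (hinv a x hx) }
    let K := MonoidAlgebra (Γ(Y.left, ⊤) ⧸ p) (Multiplicative τ.M ⧸ M')
    let jC : Γ(Y.left, ⊤) →+* K := MonoidAlgebra.singleOneRingHom.comp q
    let qY : Spec (CommRingCat.of K) ⟶ Y.left :=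
      Spec.map (CommRingCat.ofHom jC) ≫ Y.left.isoSpec.inv
    let Z : Over S := Over.mk (qY ≫ Y.hom)
    let y : Z ⟶ Y := Over.homMk qY rfl
    let γC : K →+* Γ(Z.left, ⊤) := (Scheme.ΓSpecIso (CommRingCat.of K)).inv.hom
    have hγC : Function.Bijective γC :=
      ConcreteCategory.bijective_of_isIso (Scheme.ΓSpecIso (CommRingCat.of K)).inv
    have hy : ∀ r, y.left.appTop r = γC (jC r) := fun r ↦ by
      have e := ConcreteCategory.congr_hom (Scheme.ΓSpecIso_inv_naturality (CommRingCat.ofHom jC)) r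
      refine Eq.trans ?_ e.symm
      show (Spec.map (CommRingCat.ofHom jC)).appTop (Y.left.isoSpec.inv.appTop r) = _
      have : Y.left.isoSpec.inv.appTop = (Scheme.ΓSpecIso Γ(Y.left, ⊤)).inv := by
        rw [← cancel_epi (Scheme.ΓSpecIso Γ(Y.left, ⊤)).hom, Iso.hom_inv_id,
          ← Scheme.toSpecΓ_appTop, ← Scheme.isoSpec_hom, ← Scheme.Hom.comp_appTop, Iso.inv_hom_id]
        rfl
      exact congrArg (Spec.map (CommRingCat.ofHom jC)).appTop (ConcreteCategory.congr_hom this r)
    let χ : Multiplicative τ.M →* Γ(Z.left, ⊤) :=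
      γC.toMonoidHom.comp ((MonoidAlgebra.of _ _).comp (QuotientGroup.mk' M'))
    let h : Z ⟶ H := (τ.val y).symm χ
    have hu : h ≫ u = (1 : Z ⟶ H) ≫ u := by
      have : lift (h ≫ u) y = lift ((1 : Z ⟶ H) ≫ u) y := by
        refine hom_ext_appTop fun f ↦ ?_
        have hl : ∀ h' : Z ⟶ H, lift (h' ≫ u) y = lift h' y ≫ famGraph d := fun h' ↦ by
          ext1 <;> simp [d]
        rw [hl, hl, appTop_comp_apply, appTop_comp_apply]
        obtain ⟨c, hc⟩ := τ.κ_bijective.2 ((famGraph d).left.appTop f)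
        rw [← hc, τ.appTop_κ, τ.appTop_κ, map_one (τ.val y), MulEquiv.apply_symm_apply,
          Groth.Reductive.FreeDiag.ringHom_eq_sum (ev _ χ),
          Groth.Reductive.FreeDiag.ringHom_eq_sum (ev _ (1 : Multiplicative τ.M →* Γ(Z.left, ⊤)))]
        refine Finset.sum_congr rfl fun m _ ↦ ?_
        rw [ev_single, ev_single]
        have hm := hcoef f m
        rw [show dA d f = τ.κE c from hc.symm, RingEquiv.symm_apply_apply] at hm
        by_cases hmM : m ∈ M'
        · congr 1
          show γC (MonoidAlgebra.single (QuotientGroup.mk' M' m) 1) = 1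
          rw [show QuotientGroup.mk' M' m = 1 from (QuotientGroup.eq_one_iff m).mpr hmM,
            ← MonoidAlgebra.one_def, map_one]
        · have : y.left.appTop (c.coeff m) = 0 := by
            rw [hy, show jC (c.coeff m) = 0 from ?_, map_zero]
            show MonoidAlgebra.singleOneRingHom (q (c.coeff m)) = 0
            rw [show q (c.coeff m) = 0 from Ideal.Quotient.eq_zero_iff_mem.mpr
              (not_not.mp hmM hm), map_zero]
          rw [this, MulZeroClass.zero_mul, MulZeroClass.zero_mul]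
      simpa using congrArg (fun z ↦ z ≫ fst G Y) this
    rw [cancel_mono] at hu
    have hχ : χ = 1 := by
      rw [← (τ.val y).apply_symm_apply χ, show (τ.val y).symm χ = 1 from hu, map_one]
    have : m₀ ∈ M' := (QuotientGroup.eq_one_iff m₀).mp (by
      haveI : Nontrivial (Γ(Y.left, ⊤) ⧸ p) := Ideal.Quotient.nontrivial_iff.mpr hp.ne_top
      exact Finsupp.single_left_injective (one_ne_zero (α := Γ(Y.left, ⊤) ⧸ p))
        (congrArg MonoidAlgebra.coeff (hγC.1 ((DFunLike.congr_fun hχ m₀).trans (map_one γC).symm))))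
    exact this hJp
  intro a
  show a ∈ Im
  refine τ.induction_on (P := (· ∈ Im)) a (fun x y hx hy ↦ add_mem hx hy) fun m b ↦ ?_
  exact (hJ m).ge (Submodule.mem_top : b ∈ ⊤)

/-- Descent of surjectivity. -/
theorem surjective_dA (hH : LocTriv H) (hG : IsAffineHom G.hom) (u : H ⟶ G) [IsMonHom u] [Mono u] :
    Function.Surjective (dA (fst H Y ≫ u)) := by
  classical
  obtain ⟨c, hc⟩ := hH.2 Y ‹_›
  haveI := isAffine_prod hH.1 Y
  let B := Γ(Y.left, ⊤)
  letI : Algebra B (AY H Y) := (sY H Y).toAlgebra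
  letI algC : ∀ i, Algebra B Γ((c.Z i).left, ⊤) := fun i ↦
    (c.g i).left.appTop.hom.toAlgebra
  haveI := c.faithfullyFlat
  let d := fst H Y ≫ u
  let Im : Submodule B (AY H Y) :=
    { carrier := Set.range (dA d)
      add_mem' := fun ⟨x, hx⟩ ⟨y, hy⟩ ↦ ⟨x + y, by rw [map_add, hx, hy]⟩
      zero_mem' := ⟨0, map_zero _⟩
      smul_mem' := fun r x ⟨f, hf⟩ ↦ ⟨sY G Y r * f, by
        rw [map_mul, dA_sY, hf]; rfl⟩ }
  intro a
  show a ∈ Im
  rw [← Submodule.Quotient.mk_eq_zero]
  refine Groth.Sga3.MultType.eq_zero_of_cover (R := B) (fun i ↦ (Γ((c.Z i).left, ⊤) : Type u)) fun i ↦ ?_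
  obtain ⟨τ⟩ := hc i
  obtain ⟨F, hF⟩ := surjective_dA_of_triv hH.1 hG τ u (gA H (c.g i) a)
  have hp := isPushout_appTop_of_isPullback (Groth.AlgGrp1.isPullback_whiskerLeft H (c.g i))
  let T := Γ((c.Z i).left, ⊤) ⊗[B] AY H Y
  let j₁ : Γ((c.Z i).left, ⊤) →+* T := Algebra.TensorProduct.includeLeftRingHom
  let j₂ : AY H Y →+* T := (Algebra.TensorProduct.includeRight : AY H Y →ₐ[B] T).toRingHom
  have w : (c.g i).left.appTop ≫ CommRingCat.ofHom j₁ =
      (snd H Y).left.appTop ≫ CommRingCat.ofHom j₂ := CommRingCat.hom_ext (RingHom.ext fun r ↦ by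
    show algebraMap B Γ((c.Z i).left, ⊤) r ⊗ₜ[B] (1 : AY H Y) =
      (1 : Γ((c.Z i).left, ⊤)) ⊗ₜ[B] algebraMap B (AY H Y) r
    rw [Algebra.algebraMap_eq_smul_one, Algebra.algebraMap_eq_smul_one, TensorProduct.smul_tmul])
  let l := hp.desc (CommRingCat.ofHom j₁) (CommRingCat.ofHom j₂) w
  have hl1 : ∀ r, l (sY H (c.Z i) r) = r ⊗ₜ[B] (1 : AY H Y) := fun r ↦
    ConcreteCategory.congr_hom (hp.inl_desc _ _ w) r
  have hl2 : ∀ x, l (gA H (c.g i) x) = (1 : Γ((c.Z i).left, ⊤)) ⊗ₜ[B] x := fun x ↦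
    ConcreteCategory.congr_hom (hp.inr_desc _ _ w) x
  have key : ∀ F, LinearMap.lTensor _ Im.mkQ (l (dA (fst H (c.Z i) ≫ u) F)) = 0 := by
    rw [show fst H (c.Z i) ≫ u = (H ◁ c.g i) ≫ d by simp [d]]
    refine AY_ext hG (c.g i) (fun x y hx hy ↦ by rw [map_add, map_add, map_add, hx, hy, _root_.add_zero])
      fun r f ↦ ?_
    rw [map_mul, dA_sY, dA_gA, map_mul, hl1, hl2, Algebra.TensorProduct.tmul_mul_tmul,
      _root_.mul_one, _root_.one_mul, LinearMap.lTensor_tmul,
      show Im.mkQ (dA d f) = 0 from (Submodule.Quotient.mk_eq_zero Im).mpr ⟨f, rfl⟩,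
      TensorProduct.tmul_zero]
  have e := key F
  rw [hF, hl2] at e
  exact e

/-- A monomorphism from a group of multiplicative type to an affine group is a closed immersion. -/
theorem isClosedImmersion_of_mono (hH : LocTriv H) (hG : IsAffineHom G.hom) (u : H ⟶ G)
    [IsMonHom u] [Mono u] : IsClosedImmersion u.left := by
  rw [IsZariskiLocalAtTarget.iff_of_openCover (P := @IsClosedImmersion)
    (S.affineCover.pullback₁ G.hom)]
  intro j
  let Y : Over S := Over.mk (S.affineCover.f j)
  haveI : IsAffine Y.left := inferInstanceAs (IsAffine (Spec _))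
  haveI := isAffine_prod hH.1 Y
  haveI := isAffine_prod hG Y
  haveI : IsClosedImmersion (famGraph (fst H Y ≫ u)).left :=
    IsClosedImmersion.of_surjective_of_isAffine _ (surjective_dA hH hG u)
  have sq : IsPullback (fst H Y).left (famGraph (fst H Y ≫ u)).left u.left (fst G Y).left := by
    refine IsPullback.of_bot ?_ ?_ (IsPullback.of_hasPullback G.hom Y.hom)
    · rw [Over.w u, show (famGraph (fst H Y ≫ u)).left ≫ pullback.snd G.hom Y.hom =
        pullback.snd H.hom Y.hom from congrArg (fun z ↦ z.left) (lift_snd (fst H Y ≫ u) (snd H Y))]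
      exact IsPullback.of_hasPullback H.hom Y.hom
    · exact congrArg (fun z ↦ z.left) (lift_fst (fst H Y ≫ u) (snd H Y)).symm
  show IsClosedImmersion (pullback.snd u.left (fst G Y).left)
  rw [← sq.isoPullback_inv_snd]
  exact MorphismProperty.RespectsIso.precomp @IsClosedImmersion _ _ ‹_›

end Groth.Reductive.MTInt
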