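import Mathlib.Algebra.MonoidAlgebra.Basic
import Mathlib.GroupTheory.QuotientGroup.Basic
import Mathlib.RingTheory.Ideal.Quotient.Basic
import Mathlib.RingTheory.Ideal.Maximal
import Mathlib.Algebra.Ring.Subring.Basic

/-!
A free coaction of a group algebra: the graph comorphism is surjective.
-/

set_option autoImplicit false
universe u v

noncomputable section

namespace Groth.Reductive.FreeDiag

open MonoidAlgebra

variable {B : Type u} [CommRing B] {G : Type v} [CommGroup G]

/-- Evaluation of a group algebra at a coefficient map and a character. -/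
abbrev ev {C : Type*} [CommRing C] (ι : B →+* C) (χ : G →* C) : MonoidAlgebra B G →+* C :=
  liftNCRingHom ι χ fun _ _ ↦ Commute.all _ _

lemma ev_single {C : Type*} [CommRing C] (ι : B →+* C) (χ : G →* C) (g : G) (b : B) :
    ev ι χ (single g b) = ι b * χ g := by
  simp [ev]

lemma ringHom_eq_sum {C : Type*} [CommRing C] (φ : MonoidAlgebra B G →+* C)
    (f : MonoidAlgebra B G) : φ f = ∑ g ∈ f.coeff.support, φ (single g (f.coeff g)) := by
  conv_lhs => rw [← sum_coeff_single f]
  rw [Finsupp.sum, map_sum]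

lemma coaction_coeff (ψ : B →+* MonoidAlgebra B G)
    (hco : ∀ (C : Type max u v) [CommRing C] (ι : B →+* C) (χ χ' : G →* C) (b : B),
      ev ((ev ι χ).comp ψ) χ' (ψ b) = ev ι (χ' * χ) (ψ b))
    (b : B) (g : G) : ψ ((ψ b).coeff g) = single g ((ψ b).coeff g) := by
  classical
  let ι : B →+* MonoidAlgebra (MonoidAlgebra B G) G :=
    singleOneRingHom.comp singleOneRingHom
  let χ : G →* MonoidAlgebra (MonoidAlgebra B G) G :=
    (singleOneRingHom : MonoidAlgebra B G →+* _).toMonoidHom.comp (of B G)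
  let χ' : G →* MonoidAlgebra (MonoidAlgebra B G) G := of _ G
  have h1 : ev ι χ = (singleOneRingHom : MonoidAlgebra B G →+* _) := by
    refine MonoidAlgebra.ringHom_ext (fun r ↦ ?_) (fun a ↦ ?_) <;>
      simp [ev_single, ι, χ, single_mul_single]
  have hs1 : ∀ r : B, (singleOneRingHom : B →+* MonoidAlgebra B G) r = single 1 r := fun _ ↦ rfl
  have hs2 : ∀ r : MonoidAlgebra B G,
      (singleOneRingHom : MonoidAlgebra B G →+* MonoidAlgebra (MonoidAlgebra B G) G) r = single 1 r :=
    fun _ ↦ rfl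
  have h := congrArg (fun z ↦ z.coeff g) (hco _ ι χ χ' b)
  rw [h1, ringHom_eq_sum, ringHom_eq_sum (ev ι (χ' * χ))] at h
  simp only [ev_single, RingHom.comp_apply, MonoidHom.mul_apply, ι, χ, χ', of_apply,
    hs1, hs2, RingHom.toMonoidHom_eq_coe, MonoidHom.coe_comp, MonoidHom.coe_coe,
    Function.comp_apply, single_mul_single, mul_one, one_mul, coeff_sum, coeff_single,
    Finset.sum_apply', Finsupp.single_apply, Finset.sum_ite_eq', Finsupp.mem_support_iff] at h
  by_cases hg : (ψ b).coeff g = 0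
  · simp [hg]
  · rw [if_pos hg, if_pos hg] at h
    exact h

theorem closure_eq_top (ψ : B →+* MonoidAlgebra B G)
    (hco : ∀ (C : Type max u v) [CommRing C] (ι : B →+* C) (χ χ' : G →* C) (b : B),
      ev ((ev ι χ).comp ψ) χ' (ψ b) = ev ι (χ' * χ) (ψ b))
    (hfree : ∀ (C : Type max u v) [CommRing C] (ι : B →+* C) (χ : G →* C),
      (ev ι χ).comp ψ = ι → χ = 1)
    (A : Subring (MonoidAlgebra B G)) (hψ : ∀ b, ψ b ∈ A) (h1 : ∀ b, single 1 b ∈ A) : A = ⊤ := by
  classical
  have hc := coaction_coeff ψ hco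
  rw [eq_top_iff]
  suffices hs : ∀ g : G, single g (1 : B) ∈ A by
    intro f _
    rw [← RingHom.id_apply f, ringHom_eq_sum]
    refine sum_mem fun g _ ↦ ?_
    simpa [single_mul_single] using mul_mem (h1 (f.coeff g)) (hs g)
  intro g
  let J : Ideal B :=
    { carrier := {c | single g c ∈ A}
      add_mem' := fun {a b} ha hb ↦ by
        simpa [single_add] using add_mem (show single g a ∈ A from ha) hb
      zero_mem' := by simp
      smul_mem' := fun c x hx ↦ by
        simpa [single_mul_single] using mul_mem (h1 c) (show single g x ∈ A from hx) }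
  suffices hJ : J = ⊤ from (J.eq_top_iff_one.mp hJ : (1 : B) ∈ J)
  by_contra hne
  obtain ⟨p, hp, hJp⟩ := Ideal.exists_le_maximal J hne
  let x := Ideal.Quotient.mk p
  haveI : IsDomain (B ⧸ p) := Ideal.Quotient.isDomain p
  let MM : Submonoid G :=
    { carrier := {h | ∃ b, x ((ψ b).coeff h) ≠ 0}
      one_mem' := ⟨1, by simp⟩
      mul_mem' := fun {h h'} ⟨b, hb⟩ ⟨b', hb'⟩ ↦ ⟨(ψ b).coeff h * (ψ b').coeff h', by
        rw [map_mul ψ, hc, hc, single_mul_single]
        simpa using mul_ne_zero hb hb'⟩ }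
  let U : Subgroup G :=
    { carrier := {h | h ∈ MM ∧ h⁻¹ ∈ MM}
      one_mem' := ⟨one_mem _, by simp⟩
      mul_mem' := fun {a b} ha hb ↦ ⟨mul_mem ha.1 hb.1, by
        rw [mul_inv]; exact mul_mem ha.2 hb.2⟩
      inv_mem' := fun {a} ha ↦ ⟨ha.2, by rw [inv_inv]; exact ha.1⟩ }
  have hU : ∀ a ∈ MM, ∀ b ∈ MM, (a * b ∈ U ↔ a ∈ U ∧ b ∈ U) := by
    intro a ha b hb
    refine ⟨fun h ↦ ?_, fun h ↦ mul_mem h.1 h.2⟩
    have e1 : a⁻¹ = b * (a * b)⁻¹ := by
      rw [mul_inv_rev, mul_inv_cancel_left]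
    have e2 : b⁻¹ = a * (a * b)⁻¹ := by
      rw [mul_comm a b, mul_inv_rev, mul_inv_cancel_left]
    exact ⟨⟨ha, e1 ▸ mul_mem hb h.2⟩, ⟨hb, e2 ▸ mul_mem ha h.2⟩⟩
  let w : G → B → B ⧸ p := fun a c ↦ if a ∈ U then x c else 0
  let δ : MonoidAlgebra B G →+ B ⧸ p :=
    { toFun := fun f ↦ f.coeff.sum w
      map_zero' := by simp
      map_add' := fun f f' ↦ Finsupp.sum_add_index' (fun a ↦ by simp [w])
        (fun a c c' ↦ by by_cases ha : a ∈ U <;> simp [w, ha]) }
  have hδ : ∀ a c, δ (single a c) = w a c := fun a c ↦ Finsupp.sum_single_index (by simp [w])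
  have hsum : ∀ f, δ f = ∑ a ∈ f.coeff.support, w a (f.coeff a) := fun f ↦ rfl
  let x₀ : B →+* B ⧸ p :=
    { toFun := fun b ↦ δ (ψ b)
      map_one' := by
        rw [map_one, one_def, hδ]
        simp [w, U.one_mem]
      map_zero' := by simp
      map_add' := fun a b ↦ by simp
      map_mul' := fun b b' ↦ by
        rw [hsum (ψ b), hsum (ψ b'), Finset.sum_mul_sum, map_mul]
        conv_lhs => rw [← sum_coeff_single (ψ b), ← sum_coeff_single (ψ b')]
        rw [Finsupp.sum, Finsupp.sum, Finset.sum_mul_sum, map_sum]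
        refine Finset.sum_congr rfl fun a _ ↦ ?_
        rw [map_sum]
        refine Finset.sum_congr rfl fun a' _ ↦ ?_
        rw [single_mul_single, hδ]
        by_cases h : x ((ψ b).coeff a) = 0
        · simp [w, h]
        by_cases h' : x ((ψ b').coeff a') = 0
        · simp [w, h']
        simp only [w, hU a ⟨b, h⟩ a' ⟨b', h'⟩, map_mul]
        by_cases ha : a ∈ U <;> by_cases ha' : a' ∈ U <;> simp [ha, ha'] }
  let ι : B →+* MonoidAlgebra (B ⧸ p) (G ⧸ U) := singleOneRingHom.comp x₀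
  let χ : G →* MonoidAlgebra (B ⧸ p) (G ⧸ U) := (of _ _).comp (QuotientGroup.mk' U)
  have hfix : (ev ι χ).comp ψ = ι := by
    refine RingHom.ext fun b ↦ ?_
    rw [RingHom.comp_apply, ringHom_eq_sum]
    show _ = singleOneRingHom (δ (ψ b))
    rw [hsum, map_sum]
    refine Finset.sum_congr rfl fun a _ ↦ ?_
    rw [ev_single]
    show single 1 (δ (ψ ((ψ b).coeff a))) * χ a = _
    rw [hc, hδ]
    by_cases ha : a ∈ U
    · simp [w, χ, ha, single_mul_single, (QuotientGroup.eq_one_iff a).mpr ha]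
    · simp [w, χ, ha]
  have hg : g ∈ U := by
    rw [← QuotientGroup.eq_one_iff]
    have h := congrArg (fun z : G →* _ ↦ z g) (hfree _ ι χ hfix)
    simp only [χ, MonoidHom.comp_apply, of_apply, MonoidHom.one_apply, one_def] at h
    have h2 : Finsupp.single (QuotientGroup.mk' U g) (1 : B ⧸ p) = Finsupp.single 1 1 :=
      congrArg MonoidAlgebra.coeff h
    exact Finsupp.single_left_injective one_ne_zero h2
  obtain ⟨b, hb⟩ := hg.1
  refine hb (Ideal.Quotient.eq_zero_iff_mem.mpr (hJp ?_))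
  show single g ((ψ b).coeff g) ∈ A
  rw [← hc b g]
  exact hψ _

end Groth.Reductive.FreeDiag
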