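import Groth.Agent.Reductive.MultGa
import Groth.Agent.Reductive.FreeDiag

/-!
A free action of a diagonalisable group on an affine scheme has closed immersion graph.
-/

set_option autoImplicit false
universe u

open CategoryTheory MonoidalCategory CartesianMonoidalCategory MonObj AlgebraicGeometry

noncomputable section

namespace Groth.Reductive.FreeDiag

attribute [local instance] algΓ'

variable {T : Scheme.{u}} {M : Type} [AddCommGroup M] {Y : Over T}

lemma dsVal_one (Z : Over T) (m : Multiplicative M) :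
    dsVal (1 : Z ⟶ Red.DS T M) m = 1 := by
  have h := dsVal_mul (1 : Z ⟶ Red.DS T M) 1 m
  rw [show (1 : Z ⟶ Red.DS T M) * 1 = 1 from _root_.mul_one (M := (Z ⟶ Red.DS T M)) 1] at h
  have hu : IsUnit (dsValHom (1 : Z ⟶ Red.DS T M) m) := (Group.isUnit m).map _
  exact hu.mul_left_cancel (show dsVal (1 : Z ⟶ Red.DS T M) m * dsVal (1 : Z ⟶ Red.DS T M) m = dsVal (1 : Z ⟶ Red.DS T M) m * 1 by
    rw [_root_.mul_one]; exact h.symm)

/-- The value on a point of `D(M) × Y` of a function on it. -/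
abbrev ptEv {Z : Over T} (h : Z ⟶ Red.DS T M) (y : Z ⟶ Y) :
    MonoidAlgebra Γ(Y.left, ⊤) (Multiplicative M) →+* Γ(Z.left, ⊤) :=
  ev y.left.appTop.hom (dsValHom h)

lemma ptEv_single {Z : Over T} (h : Z ⟶ Red.DS T M) (y : Z ⟶ Y) (m : Multiplicative M)
    (b : Γ(Y.left, ⊤)) : ptEv h y (MonoidAlgebra.single m b) = y.left.appTop b * dsVal h m :=
  ev_single y.left.appTop.hom (dsValHom h) m b

lemma dsValHom_apply {Z : Over T} (h : Z ⟶ Red.DS T M) (m : Multiplicative M) :
    dsValHom h m = dsVal h m := rfl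

lemma dsValHom_mul_hT {Z : Over T} (h h' : Z ⟶ Red.DS T M) :
    dsValHom (h * h') = dsValHom h * dsValHom h' :=
  MonoidHom.ext fun m ↦ dsVal_mul h h' m

lemma ptEv_comp {Z W : Over T} (g : W ⟶ Z) (h : Z ⟶ Red.DS T M) (y : Z ⟶ Y) :
    ptEv (g ≫ h) (g ≫ y) = g.left.appTop.hom.comp (ptEv h y) := by
  refine MonoidAlgebra.ringHom_ext (fun r ↦ ?_) (fun a ↦ ?_)
  · simp [ptEv, ev_single, Scheme.Hom.comp_appTop]
  · simp only [ptEv, ev_single, map_one, _root_.one_mul, RingHom.comp_apply]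
    exact dsVal_comp g h a

variable [IsAffine T] [IsAffine Y.left]

/-- A test object under `Y`. -/
def mkT (C : Type u) [CommRing C] (jC : Γ(Y.left, ⊤) →+* C) : Over T :=
  Over.mk (Spec.map (CommRingCat.ofHom jC) ≫ Y.left.isoSpec.inv ≫ Y.hom)

/-- Its point of `Y`. -/
def yT (C : Type u) [CommRing C] (jC : Γ(Y.left, ⊤) →+* C) : mkT C jC ⟶ Y :=
  Over.homMk (Spec.map (CommRingCat.ofHom jC) ≫ Y.left.isoSpec.inv) (Category.assoc _ _ _)

/-- Functions on a test object. -/
def ΓT (C : Type u) [CommRing C] (jC : Γ(Y.left, ⊤) →+* C) : C →+* Γ((mkT C jC).left, ⊤) :=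
  (Scheme.ΓSpecIso (CommRingCat.of C)).inv.hom

lemma ΓT_bijective (C : Type u) [CommRing C] (jC : Γ(Y.left, ⊤) →+* C) :
    Function.Bijective (ΓT C jC) :=
  ConcreteCategory.bijective_of_isIso (Scheme.ΓSpecIso (CommRingCat.of C)).inv

lemma yT_appTop (C : Type u) [CommRing C] (jC : Γ(Y.left, ⊤) →+* C) :
    (yT C jC).left.appTop.hom = (ΓT C jC).comp jC := by
  refine RingHom.ext fun r ↦ ?_
  have e := ConcreteCategory.congr_hom (Scheme.ΓSpecIso_inv_naturality (CommRingCat.ofHom jC)) r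
  refine Eq.trans ?_ e.symm
  show (Spec.map (CommRingCat.ofHom jC)).appTop (Y.left.isoSpec.inv.appTop r) = _
  have : Y.left.isoSpec.inv.appTop = (Scheme.ΓSpecIso Γ(Y.left, ⊤)).inv := by
    rw [← cancel_epi (Scheme.ΓSpecIso Γ(Y.left, ⊤)).hom, Iso.hom_inv_id,
      ← Scheme.toSpecΓ_appTop, ← Scheme.isoSpec_hom, ← Scheme.Hom.comp_appTop, Iso.inv_hom_id]
    rfl
  exact congrArg (Spec.map (CommRingCat.ofHom jC)).appTop (ConcreteCategory.congr_hom this r)

/-- Its point of `D(M)`. -/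
def hT (C : Type u) [CommRing C] (jC : Γ(Y.left, ⊤) →+* C) (χ : Multiplicative M →* C) :
    mkT C jC ⟶ Red.DS T M :=
  dsMk _ ((ΓT C jC).toMonoidHom.comp χ)

lemma dsVal_hT (C : Type u) [CommRing C] (jC : Γ(Y.left, ⊤) →+* C) (χ : Multiplicative M →* C)
    (m : Multiplicative M) : dsVal (hT C jC χ) m = ΓT C jC (χ m) :=
  dsVal_dsMk _ _ m

lemma ev_eq {C D : Type u} [CommRing C] [CommRing D] (φ : C →+* D) (jC : Γ(Y.left, ⊤) →+* C)
    (χ : Multiplicative M →* C) : ev (φ.comp jC) (φ.toMonoidHom.comp χ) = φ.comp (ev jC χ) :=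
  MonoidAlgebra.ringHom_ext (fun r ↦ by simp [ev_single]) (fun a ↦ by simp [ev_single])

lemma ptEv_hT (C : Type u) [CommRing C] (jC : Γ(Y.left, ⊤) →+* C) (χ : Multiplicative M →* C) :
    ptEv (hT C jC χ) (yT C jC) = (ΓT C jC).comp (ev jC χ) := by
  rw [← ev_eq, ptEv, yT_appTop]
  congr 1
  exact MonoidHom.ext fun m ↦ dsVal_hT C jC χ m

/-- The comorphism of the product `D(M) × Y`. -/
abbrev κ₀ : MonoidAlgebra Γ(Y.left, ⊤) (Multiplicative M) →+* Γ((Red.DS T M ⊗ Y).left, ⊤) :=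
  ptEv (fst (Red.DS T M) Y) (snd (Red.DS T M) Y)

lemma κ₀_bijective : Function.Bijective (κ₀ : _ →+* Γ((Red.DS T M ⊗ Y).left, ⊤)) := by
  let C := MonoidAlgebra Γ(Y.left, ⊤) (Multiplicative M)
  let jC : Γ(Y.left, ⊤) →+* C := MonoidAlgebra.singleOneRingHom
  let n : mkT C jC ⟶ Red.DS T M ⊗ Y := lift (hT C jC (MonoidAlgebra.of _ _)) (yT C jC)
  have hn : (n.left.appTop.hom).comp κ₀ = ΓT C jC := by
    rw [← ptEv_comp, lift_fst, lift_snd, ptEv_hT]
    conv_rhs => rw [← RingHom.comp_id (ΓT C jC)]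
    congr 1
    refine MonoidAlgebra.ringHom_ext (fun r ↦ ?_) (fun a ↦ ?_) <;>
      simp [ev_single, jC, MonoidAlgebra.singleOneRingHom, MonoidAlgebra.of_apply, MonoidAlgebra.single_mul_single] <;> first | rfl | exact _root_.one_mul _
  let jl : (Red.DS T M ⊗ Y).left ⟶ (mkT C jC).left := (Red.DS T M ⊗ Y).left.toSpecΓ ≫ Spec.map (CommRingCat.ofHom κ₀)
  have hjl : ∀ z, jl.appTop (ΓT C jC z) = κ₀ z := fun z ↦ by
    rw [Scheme.Hom.comp_appTop, CommRingCat.comp_apply]
    have e := ConcreteCategory.congr_hom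
      (Scheme.ΓSpecIso_inv_naturality (CommRingCat.ofHom (κ₀ (T := T) (M := M) (Y := Y)))) z
    refine (congrArg (Red.DS T M ⊗ Y).left.toSpecΓ.appTop e.symm).trans ?_
    rw [Scheme.toSpecΓ_appTop]
    exact ConcreteCategory.congr_hom (Scheme.ΓSpecIso _).inv_hom_id (κ₀ z)
  have hsnd : jl ≫ (yT C jC).left = (snd (Red.DS T M) Y).left := by
    refine ext_of_isAffine (CommRingCat.hom_ext (RingHom.ext fun r ↦ ?_))
    show jl.appTop ((yT C jC).left.appTop r) = _
    rw [show (yT C jC).left.appTop r = ΓT C jC (jC r) from RingHom.congr_fun (yT_appTop C jC) r, hjl]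
    show κ₀ (MonoidAlgebra.single 1 r) = _
    rw [κ₀, ptEv_single, ← dsValHom_apply, map_one, _root_.mul_one]
  let j : (Red.DS T M ⊗ Y) ⟶ mkT C jC := Over.homMk jl (by
    rw [← Over.w (yT C jC), ← Category.assoc, hsnd]
    exact Over.w (snd (Red.DS T M) Y))
  have hjn : j ≫ n = 𝟙 (Red.DS T M ⊗ Y) := by
    refine CartesianMonoidalCategory.hom_ext _ _ (dsVal_ext fun m ↦ ?_) ?_
    · rw [Category.assoc, Category.id_comp,
        show n ≫ fst _ _ = hT C jC (MonoidAlgebra.of _ _) from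
          lift_fst (hT C jC (MonoidAlgebra.of _ _)) (yT C jC)]
      rw [dsVal_comp, dsVal_hT]
      show jl.appTop _ = _
      rw [hjl]
      rw [MonoidAlgebra.of_apply, κ₀, ptEv_single, map_one, _root_.one_mul]
    · rw [Category.assoc, Category.id_comp,
        show n ≫ snd _ _ = yT C jC from lift_snd (hT C jC (MonoidAlgebra.of _ _)) (yT C jC)]
      exact Over.OverMorphism.ext hsnd
  constructor
  · intro a b h
    apply (ΓT_bijective C jC).1
    rw [← hn, RingHom.comp_apply, RingHom.comp_apply, h]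
  · intro z
    obtain ⟨c, hc⟩ := (ΓT_bijective C jC).2 (n.left.appTop z)
    refine ⟨c, ?_⟩
    rw [← hjl, hc]
    show j.left.appTop (n.left.appTop z) = z
    rw [← CommRingCat.comp_apply, ← Scheme.Hom.comp_appTop, ← Over.comp_left, hjn]
    simp

instance : IsAffine (Red.DS T M).left := by
  have : IsAffine (Red.diag (ULift.{u} ℤ) M).left := by
    unfold Red.diag; exact inferInstanceAs (IsAffine (Spec _))
  exact inferInstanceAs (IsAffine (Limits.pullback (Red.diag (ULift.{u} ℤ) M).hom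
    (specULiftZIsTerminal.from T)))

instance (A B : Over T) [IsAffine A.left] [IsAffine B.left] : IsAffine (A ⊗ B).left :=
  inferInstanceAs (IsAffine (Limits.pullback A.hom B.hom))

theorem isClosedImmersion_graph (act : Red.DS T M ⊗ Y ⟶ Y)
    (hassoc : ∀ (Z : Over T) (h h' : Z ⟶ Red.DS T M) (y : Z ⟶ Y),
      lift h (lift h' y ≫ act) ≫ act = lift (h * h') y ≫ act)
    (hfree : ∀ (Z : Over T) (h : Z ⟶ Red.DS T M) (y : Z ⟶ Y), lift h y ≫ act = y → h = 1) :
    IsClosedImmersion (lift act (snd (Red.DS T M) Y)).left := by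
  let e := RingEquiv.ofBijective _ (κ₀_bijective (T := T) (M := M) (Y := Y))
  let ψ : Γ(Y.left, ⊤) →+* MonoidAlgebra Γ(Y.left, ⊤) (Multiplicative M) :=
    e.symm.toRingHom.comp act.left.appTop.hom
  have hψ : ∀ (Z : Over T) (h : Z ⟶ Red.DS T M) (y : Z ⟶ Y),
      (lift h y ≫ act).left.appTop.hom = (ptEv h y).comp ψ := by
    intro Z h y
    refine RingHom.ext fun b ↦ ?_
    have h1 := ptEv_comp (lift h y) (fst (Red.DS T M) Y) (snd (Red.DS T M) Y)
    rw [lift_fst, lift_snd] at h1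
    rw [h1, Over.comp_left, Scheme.Hom.comp_appTop]
    exact congrArg (lift h y).left.appTop.hom (e.apply_symm_apply _).symm
  refine IsClosedImmersion.of_surjective_of_isAffine _ ?_
  intro z
  obtain ⟨w, rfl⟩ := κ₀_bijective.2 z
  set γ := (lift act (snd (Red.DS T M) Y)).left
  let A : Subring (MonoidAlgebra Γ(Y.left, ⊤) (Multiplicative M)) :=
    γ.appTop.hom.range.comap κ₀
  suffices hA : A = ⊤ from (hA ▸ Subring.mem_top w : w ∈ A)
  refine closure_eq_top ψ ?_ ?_ A ?_ ?_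
  · intro C _ jC χ χ' b
    apply (ΓT_bijective C jC).1
    have h := congrArg (fun g : mkT C jC ⟶ Y ↦ g.left.appTop.hom b)
      (hassoc _ (hT C jC χ') (hT C jC χ) (yT C jC))
    simp only [hψ, RingHom.comp_apply] at h
    have e1 : ptEv (hT C jC χ') (lift (hT C jC χ) (yT C jC) ≫ act) =
        (ΓT C jC).comp (ev ((ev jC χ).comp ψ) χ') := by
      rw [← ev_eq, ptEv, hψ, ptEv_hT]
      congr 1
      exact MonoidHom.ext fun m ↦ dsVal_hT C jC χ' m
    have e2 : ptEv (hT C jC χ' * hT C jC χ) (yT C jC) = (ΓT C jC).comp (ev jC (χ' * χ)) := by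
      rw [← ev_eq, ptEv, yT_appTop]
      congr 1
      rw [dsValHom_mul_hT]
      refine MonoidHom.ext fun m ↦ ?_
      rw [MonoidHom.mul_apply, dsValHom_apply, dsValHom_apply, dsVal_hT, dsVal_hT,
        MonoidHom.comp_apply, MonoidHom.mul_apply, map_mul]
      rfl
    rw [e1, e2] at h
    exact h
  · intro C _ jC χ hfix
    have hy : lift (hT C jC χ) (yT C jC) ≫ act = yT C jC := by
      refine Over.OverMorphism.ext (ext_of_isAffine (CommRingCat.hom_ext ?_))
      rw [hψ, ptEv_hT, yT_appTop, RingHom.comp_assoc, hfix]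
    refine MonoidHom.ext fun m ↦ (ΓT_bijective C jC).1 ?_
    rw [← dsVal_hT, hfree _ _ _ hy, dsVal_one, MonoidHom.one_apply, map_one]
  · intro b
    refine ⟨(fst Y Y).left.appTop b, ?_⟩
    show ((lift act (snd (Red.DS T M) Y)).left.appTop) ((fst Y Y).left.appTop b) = e (e.symm _)
    rw [e.apply_symm_apply, ← CommRingCat.comp_apply, ← Scheme.Hom.comp_appTop, ← Over.comp_left,
      lift_fst]
  · intro b
    refine ⟨(snd Y Y).left.appTop b, ?_⟩
    show ((lift act (snd (Red.DS T M) Y)).left.appTop) ((snd Y Y).left.appTop b) = κ₀ _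
    rw [← CommRingCat.comp_apply, ← Scheme.Hom.comp_appTop, ← Over.comp_left, lift_snd]
    rw [κ₀, ptEv_single, ← dsValHom_apply, map_one, _root_.mul_one]

end Groth.Reductive.FreeDiag
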