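import Groth.Agent.Reductive.TrivialActionDescent
import Groth.Agent.Reductive.FpqcLocal
import Groth.Agent.AlgSp2.SmoothDescent
import Groth.Agent.AlgSp2.FiniteMor
import Groth.Agent.PropsBasic2.Misc
import Mathlib.RingTheory.Ideal.IdempotentFG
import Mathlib.RingTheory.FinitePresentation
import Mathlib.AlgebraicGeometry.ResidueField
import Mathlib.AlgebraicGeometry.Morphisms.Flat

/-!
The locus where a homomorphism of a group of multiplicative type into a separated group is trivial
is open and closed.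
-/

set_option autoImplicit false
universe u

open CategoryTheory MonoidalCategory CartesianMonoidalCategory MonObj GrpObj AlgebraicGeometry

noncomputable section

namespace Groth.Reductive.FreeDiag

attribute [local instance] algΓ'

variable {S : Scheme.{u}}

section Points

/-- Two maps equal after base change agree on points over the new base. -/
lemma comp_eq_of_pullback_map_eq {T : Scheme.{u}} (g : T ⟶ S) {A B : Over S} {f f' : A ⟶ B}
    (h : (Over.pullback g).map f = (Over.pullback g).map f') {W : Over S} (w : W ⟶ Over.mk g)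
    (p : W ⟶ A) : p ≫ f = p ≫ f' := by
  have hw : w.left ≫ g = W.hom := Over.w w
  let ci : (Over.map g).obj (Over.mk w.left) ⟶ W :=
    Over.homMk (𝟙 _) ((Category.id_comp _).trans hw.symm)
  let c : W ⟶ (Over.map g).obj (Over.mk w.left) := Over.homMk (𝟙 _) ((Category.id_comp _).trans hw)
  have hcci : c ≫ ci = 𝟙 W := Over.OverMorphism.ext (Category.id_comp _)
  let x := (Over.mapPullbackAdj g).homEquiv (Over.mk w.left) A (ci ≫ p)
  have e := congrArg (qPt g) (x ≫= h)
  rw [qPt_map, qPt_map, show qPt g x = ci ≫ p from Equiv.symm_apply_apply _ _] at e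
  have := c ≫= e
  simpa only [← Category.assoc, hcci, Category.id_comp] using this

variable {H G : Over S} [GrpObj G]

/-- The morphism `u` is trivial on all points over `Z`. -/
def TrivOn (u : H ⟶ G) (Z : Over S) : Prop := ∀ (W : Over S), (W ⟶ Z) → ∀ x : W ⟶ H, x ≫ u = 1

variable {u : H ⟶ G}

lemma TrivOn.of_hom {Z Z' : Over S} (h : TrivOn u Z) (a : Z' ⟶ Z) : TrivOn u Z' :=
  fun W w x ↦ h W (w ≫ a) x

lemma TrivOn.of_snd {Z : Over S} (h : snd Z H ≫ u = 1) : TrivOn u Z := fun W w x ↦ by
  rw [← lift_snd w x, Category.assoc, h, MonObj.comp_one]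

/-- Triviality descends along flat surjective maps. -/
lemma TrivOn.descend {W Z : Over S} (p : W ⟶ Z) [Flat p.left] [Surjective p.left]
    (h : TrivOn u W) : TrivOn u Z := by
  refine .of_snd (Over.OverMorphism.ext ?_)
  let k := Limits.pullback.fst (fst Z H).left p.left
  haveI : Flat k := MorphismProperty.pullback_fst _ _ ‹_›
  haveI : Surjective k := MorphismProperty.pullback_fst _ _ ‹_›
  haveI : Epi k := Flat.epi_of_flat_of_surjective k
  let W' : Over S := Over.mk (k ≫ (Z ⊗ H).hom)
  let a : W' ⟶ Z ⊗ H := Over.homMk k rfl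
  let b : W' ⟶ W := Over.homMk (Limits.pullback.snd (fst Z H).left p.left) (by
    show _ = k ≫ (Z ⊗ H).hom
    rw [← Over.w p, ← Limits.pullback.condition_assoc, Over.w (fst Z H)])
  have e := congrArg (fun z : W' ⟶ G ↦ z.left)
    ((h W' b (a ≫ snd Z H)).trans (MonObj.comp_one a).symm)
  simp only [Over.comp_left, Category.assoc] at e
  exact (cancel_epi k).mp e

/-- Triviality is Zariski local. -/
lemma TrivOn.of_openCover {Z : Over S} (V : Z.left → Z.left.Opens) (hV : ∀ z, z ∈ V z)
    (h : ∀ z, TrivOn u (Over.mk ((V z).ι ≫ Z.hom))) : TrivOn u Z := by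
  refine .of_snd (Over.OverMorphism.ext ?_)
  let 𝒰 : Z.left.OpenCover := Scheme.openCoverOfIsOpenCover _ V
    (.mk (top_unique fun z _ ↦ TopologicalSpace.Opens.mem_iSup.mpr ⟨z, hV z⟩))
  refine Scheme.Cover.hom_ext (𝒰.pullback₁ (fst Z H).left) _ _ fun z ↦ ?_
  show Limits.pullback.fst (fst Z H).left (V z).ι ≫ _ = Limits.pullback.fst (fst Z H).left (V z).ι ≫ _
  let k := Limits.pullback.fst (fst Z H).left (V z).ι
  let W' : Over S := Over.mk (k ≫ (Z ⊗ H).hom)
  let a : W' ⟶ Z ⊗ H := Over.homMk k rfl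
  let b : W' ⟶ Over.mk ((V z).ι ≫ Z.hom) :=
    Over.homMk (Limits.pullback.snd (fst Z H).left (V z).ι) (by
      show _ ≫ _ ≫ Z.hom = k ≫ (Z ⊗ H).hom
      rw [← Limits.pullback.condition_assoc, Over.w (fst Z H)])
  have e := congrArg (fun z : W' ⟶ G ↦ z.left)
    ((h z W' b (a ≫ snd Z H)).trans (MonObj.comp_one a).symm)
  simp only [Over.comp_left, Category.assoc] at e
  exact e

variable [GrpObj H] [IsMonHom u]

/-- Triviality over `T` is triviality of the base change to `T`. -/
lemma pullback_map_eq_one_iff {T : Scheme.{u}} (g : T ⟶ S) :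
    (Over.pullback g).map u = 1 ↔ TrivOn u (Over.mk g) := by
  constructor
  · intro h W w x
    have h1 : (Over.pullback g).map (1 : H ⟶ G) = 1 := by
      have e : (1 : H ⟶ G) = 1 ≫ (𝟙 G) := (Category.comp_id _).symm
      apply qPt_injective g
      rw [← Category.id_comp ((Over.pullback g).map (1 : H ⟶ G)), qPt_map, MonObj.comp_one]
      exact (map_one (bcPointEquiv g G (Red.bc g H))).symm
    rw [comp_eq_of_pullback_map_eq g (h.trans h1.symm) w x, MonObj.comp_one]
  · intro h
    apply qPt_injective g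
    rw [← Category.id_comp ((Over.pullback g).map u), qPt_map]
    refine (h _ (Over.homMk (Red.bc g H).hom rfl) _).trans ?_
    exact (map_one (bcPointEquiv g G (Red.bc g H))).symm

/-- Left translation through `u`. -/
def leftMulAction (u : H ⟶ G) [IsMonHom u] : AlgGrp.Action H G where
  act := (fst H G ≫ u) * snd H G
  one_act := by
    rw [MonObj.comp_mul, ← Category.assoc, whiskerRight_fst, whiskerRight_snd, Category.assoc,
      IsMonHom.one_hom, toUnit_unique (fst (𝟙_ (Over S)) G) (toUnit _), ← Hom.one_def,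
      _root_.one_mul, leftUnitor_hom]
  mul_act := by
    have e : ∀ (Z : Over S) (g : Z ⟶ H) (y : Z ⟶ G),
        lift g y ≫ ((fst H G ≫ u) * snd H G) = (g ≫ u) * y := fun Z g y ↦ by
      simp only [MonObj.comp_mul, lift_fst_assoc, lift_snd]
    have e1 : μ[H] ▷ G = lift ((fst (H ⊗ H) G ≫ fst H H) * (fst (H ⊗ H) G ≫ snd H H))
        (snd (H ⊗ H) G) := by
      apply CartesianMonoidalCategory.hom_ext
      · rw [lift_fst, ← MonObj.comp_mul, Hom.mul_def, lift_fst_snd, Category.id_comp]
        simp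
      · simp
    have e2 : (α_ H H G).hom ≫ (H ◁ ((fst H G ≫ u) * snd H G)) =
        lift (fst (H ⊗ H) G ≫ fst H H) (lift (fst (H ⊗ H) G ≫ snd H H) (snd (H ⊗ H) G) ≫
          ((fst H G ≫ u) * snd H G)) := by
      apply CartesianMonoidalCategory.hom_ext
      · simp
      · rw [lift_snd, Category.assoc, whiskerLeft_snd, ← Category.assoc]
        congr 1
        apply CartesianMonoidalCategory.hom_ext <;> simp
    rw [e1, ← Category.assoc (α_ H H G).hom, e2, e, e, e, MonObj.mul_comp, _root_.mul_assoc]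

lemma lift_leftMulAction {Z : Over S} (g : Z ⟶ H) (y : Z ⟶ G) :
    lift g y ≫ (leftMulAction u).act = (g ≫ u) * y := by
  simp only [leftMulAction, MonObj.comp_mul, lift_fst_assoc, lift_snd]

end Points

lemma ev_comp_eq {B C : Type*} [CommRing B] [CommRing C] {G : Type*} [CommGroup G] {D : Type*}
    [CommRing D] (φ : B →+* C) (ψ : C →+* D) (χ : G →* D) :
    ev (ψ.comp φ) χ = (ev ψ χ).comp (MonoidAlgebra.mapRingHom G φ) :=
  MonoidAlgebra.ringHom_ext (fun r ↦ by simp [ev_single, MonoidAlgebra.mapRingHom_single])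
    (fun a ↦ by simp [ev_single, MonoidAlgebra.mapRingHom_single])

lemma mapRingHom_eq_zero_iff {B C : Type*} [CommRing B] [CommRing C] {G : Type*} [CommGroup G]
    (φ : B →+* C) (c : MonoidAlgebra B G) :
    MonoidAlgebra.mapRingHom G φ c = 0 ↔ ∀ g, φ (c.coeff g) = 0 := by
  constructor
  · intro h g
    rw [← MonoidAlgebra.coeff_mapRingHom, h]
    simp
  · intro h
    exact MonoidAlgebra.ext (Finsupp.ext fun g ↦ by rw [MonoidAlgebra.coeff_mapRingHom, h]; simp)

variable {H G : Over S} [GrpObj H] [GrpObj G] (u : H ⟶ G) [IsMonHom u]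

set_option maxHeartbeats 1000000 in
/-- On an affine chart on which the group is diagonalisable, the trivial locus is clopen. -/
theorem exists_clopen_trivOn {T : Scheme.{u}} [IsAffine T] (g : T ⟶ S) {M : Type} [AddCommGroup M]
    (i : Red.DS T M ≅ Red.bc g H) [IsMonHom i.hom]
    [IsClosedImmersion η[G].left]
    [LocallyOfFinitePresentation (Limits.pullback.fst u.left η[G].left)] :
    ∃ V : T.Opens, IsClosed (V : Set T) ∧ TrivOn u (Over.mk (V.ι ≫ g)) ∧
      ∀ (Z : Over T), IsAffine Z.left → TrivOn u ((Over.map g).obj Z) → ∀ z, Z.hom.base z ∈ V := by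
  classical
  let D := Red.DS T M
  let j : (Over.map g).obj D ⟶ H := qPt g i.hom
  let k := Limits.pullback.fst (j ≫ u).left η[G].left
  haveI : IsAffine ((Over.map g).obj D).left := inferInstanceAs (IsAffine D.left)
  haveI : IsClosedImmersion k := MorphismProperty.pullback_fst _ _ ‹_›
  haveI : LocallyOfFinitePresentation k := by
    show LocallyOfFinitePresentation (Limits.pullback.fst (j.left ≫ u.left) η[G].left)
    rw [← Limits.pullbackRightPullbackFstIso_inv_fst u.left η[G].left j.left]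
    infer_instance
  haveI : IsAffine (Limits.pullback (j ≫ u).left η[G].left) := isAffine_of_isAffineHom k
  -- the kernel
  have hto : ∀ (Z : Over T) (h : Z ⟶ D), (Over.map g).map h ≫ j ≫ u = 1 ↔
      ∀ r, k.appTop r = 0 → h.left.appTop r = 0 := by
    intro Z h
    have hone : ∀ (Z' : Over S), ((1 : Z' ⟶ G)).left = Z'.hom ≫ η[G].left := fun Z' ↦ by
      rw [Hom.one_def, Over.comp_left]
      rfl
    constructor
    · intro e r hr
      have e' : h.left ≫ (j ≫ u).left = ((Over.map g).obj Z).hom ≫ η[G].left := by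
        rw [← hone, ← e]
        rfl
      rw [show h.left = Limits.pullback.lift h.left _ e' ≫ k from
        (Limits.pullback.lift_fst _ _ _).symm, Scheme.Hom.comp_appTop, CommRingCat.comp_apply, hr,
        map_zero]
    · intro e
      obtain ⟨l, hl⟩ := exists_lift_of_appTop_ker k h.left e
      have hη : η[G].left ≫ G.hom = 𝟙 _ := Over.w η[G]
      have e' : h.left ≫ (j ≫ u).left = ((Over.map g).obj Z).hom ≫ η[G].left := by
        have e1 : l ≫ Limits.pullback.snd (j ≫ u).left η[G].left = ((Over.map g).obj Z).hom := by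
          have e2 : h.left ≫ (j ≫ u).left ≫ G.hom = ((Over.map g).obj Z).hom := by
            rw [Over.w (j ≫ u)]
            exact Over.w ((Over.map g).map h)
          rw [← hl, Category.assoc, show k ≫ (j ≫ u).left ≫ G.hom = Limits.pullback.snd _ _ from
            by rw [Limits.pullback.condition_assoc, hη]; exact Category.comp_id _] at e2
          exact e2
        rw [← e1, ← hl, Category.assoc, Category.assoc, Limits.pullback.condition]
      refine Over.OverMorphism.ext ?_
      rw [hone, ← e']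
      rfl
  -- its ideal is of finite type
  have hfg : (RingHom.ker k.appTop.hom).FG := by
    letI := k.appTop.hom.toAlgebra
    haveI : Algebra.FinitePresentation Γ(((Over.map g).obj D).left, ⊤)
        Γ(Limits.pullback (j ≫ u).left η[G].left, ⊤) := k.finitePresentation_appTop
    exact Algebra.FinitePresentation.ker_fG_of_surjective (Algebra.ofId _ _)
      (k.app_surjective ⊤ (isAffineOpen_top _))
  obtain ⟨t, ht⟩ : ∃ t : Finset Γ(D.left, ⊤),
      Ideal.span (t : Set Γ(D.left, ⊤)) = RingHom.ker k.appTop.hom := hfg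
  -- coefficients
  haveI : IsAffine (𝟙_ (Over T)).left := inferInstanceAs (IsAffine T)
  let e₀ := RingEquiv.ofBijective _ (κ₀_bijective (T := T) (M := M) (Y := 𝟙_ (Over T)))
  let c : Γ(D.left, ⊤) → MonoidAlgebra Γ((𝟙_ (Over T)).left, ⊤) (Multiplicative M) := fun r ↦
    e₀.symm ((fst D (𝟙_ (Over T))).left.appTop r)
  have hc : ∀ (Z : Over T) (h : Z ⟶ D) r, h.left.appTop r = ptEv h (toUnit Z) (c r) := by
    intro Z h r
    have h1 := ptEv_comp (lift h (toUnit Z)) (fst D (𝟙_ (Over T))) (snd D (𝟙_ (Over T)))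
    rw [lift_fst, lift_snd] at h1
    rw [h1, RingHom.comp_apply]
    refine Eq.trans ?_ (congrArg (lift h (toUnit Z)).left.appTop.hom (e₀.apply_symm_apply _).symm)
    show h.left.appTop r = ((fst D (𝟙_ (Over T))).left.appTop ≫ (lift h (toUnit Z)).left.appTop) r
    rw [← Scheme.Hom.comp_appTop, ← Over.comp_left, lift_fst]
  let 𝔞 : Ideal Γ((𝟙_ (Over T)).left, ⊤) :=
    Ideal.span (t.biUnion fun r ↦ (c r).coeff.support.image fun m ↦ (c r).coeff m : Finset _)
  have hmem : ∀ r ∈ t, ∀ m, (c r).coeff m ∈ 𝔞 := fun r hr m ↦ by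
    by_cases h : (c r).coeff m = 0
    · rw [h]; exact 𝔞.zero_mem
    · exact Ideal.subset_span (Finset.mem_biUnion.mpr ⟨r, hr, Finset.mem_image.mpr
        ⟨m, Finsupp.mem_support_iff.mpr h, rfl⟩⟩)
  have hcomp : ∀ (A B E : Over T) (a : A ⟶ B) (b : B ⟶ E),
      (a ≫ b).left.appTop.hom = a.left.appTop.hom.comp b.left.appTop.hom := fun A B E a b ↦ by
    rw [Over.comp_left, Scheme.Hom.comp_appTop]
    rfl
  have hP : ∀ Z : Over T, (∀ a ∈ 𝔞, (toUnit Z).left.appTop a = 0) →
      TrivOn u ((Over.map g).obj Z) := by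
    intro Z hZ W w x
    let W' : Over T := Over.mk (w.left ≫ Z.hom)
    let z : W' ⟶ Z := Over.homMk w.left rfl
    have hw : (w.left ≫ Z.hom) ≫ g = W.hom := (Category.assoc _ _ _).trans (Over.w w)
    let ci : (Over.map g).obj W' ⟶ W := Over.homMk (𝟙 _) ((Category.id_comp _).trans hw.symm)
    let cc : W ⟶ (Over.map g).obj W' := Over.homMk (𝟙 _) ((Category.id_comp _).trans hw)
    have hcci : cc ≫ ci = 𝟙 W := Over.OverMorphism.ext (Category.id_comp _)
    let y : W' ⟶ Red.bc g H := (Over.mapPullbackAdj g).homEquiv W' H (ci ≫ x)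
    have hy : (Over.map g).map (y ≫ i.inv) ≫ j = ci ≫ x := by
      refine ((Over.mapPullbackAdj g).homEquiv_naturality_left_symm (y ≫ i.inv) i.hom).symm.trans ?_
      rw [Category.assoc, i.inv_hom_id, Category.comp_id]
      exact Equiv.symm_apply_apply _ _
    have h1 : (Over.map g).map (y ≫ i.inv) ≫ j ≫ u = 1 := by
      rw [hto]
      intro r hr
      have hr' : r ∈ Ideal.span (t : Set Γ(D.left, ⊤)) := ht.symm ▸ hr
      refine (Ideal.span_le (I := RingHom.ker (y ≫ i.inv).left.appTop.hom)).mpr (fun s hs ↦ ?_) hr'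
      show (y ≫ i.inv).left.appTop s = 0
      rw [hc, toUnit_unique (toUnit W') (z ≫ toUnit Z), ptEv, hcomp,
        ev_comp_eq, RingHom.comp_apply,
        (mapRingHom_eq_zero_iff _ _).mpr (fun m ↦ hZ _ (hmem s hs m)), map_zero]
    rw [← Category.assoc, hy] at h1
    have h2 := cc ≫= h1
    simpa only [← Category.assoc, hcci, Category.id_comp, MonObj.comp_one] using h2
  have hQ : ∀ Z : Over T, IsAffine Z.left → TrivOn u ((Over.map g).obj Z) →
      ∀ a ∈ 𝔞, (toUnit Z).left.appTop a = 0 := by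
    intro Z _ hZ a ha
    refine (Ideal.span_le (I := RingHom.ker (toUnit Z).left.appTop.hom)).mpr ?_ ha
    intro b hb
    obtain ⟨r, hr, hb⟩ := Finset.mem_biUnion.mp hb
    obtain ⟨m, -, rfl⟩ := Finset.mem_image.mp hb
    have h1 := hZ _ ((Over.map g).map (snd D Z)) ((Over.map g).map (fst D Z) ≫ j)
    rw [Category.assoc] at h1
    have h2 := (hto _ (fst D Z)).mp h1 r (ht.le (Submodule.subset_span hr))
    rw [hc, toUnit_unique (toUnit (D ⊗ Z)) (snd D Z ≫ toUnit Z), ptEv, hcomp,
      ev_comp_eq, RingHom.comp_apply] at h2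
    exact (mapRingHom_eq_zero_iff _ _).mp
      (κ₀_bijective.1 (h2.trans (map_zero _).symm)) m
  -- the ideal is idempotent
  have hidem : IsIdempotentElem 𝔞 := by
    refine le_antisymm Ideal.mul_le_left ?_
    let C := Γ((𝟙_ (Over T)).left, ⊤) ⧸ (𝔞 * 𝔞)
    let mk : Γ((𝟙_ (Over T)).left, ⊤) →+* C := Ideal.Quotient.mk _
    let Z₂ : Over T := mkT C mk
    haveI : IsAffine Z₂.left := inferInstanceAs (IsAffine (Spec (CommRingCat.of C)))
    obtain ⟨i₂, hi₂⟩ := exists_trivialisation_comp H Z₂.hom g i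
    haveI := hi₂
    let y₂ : Z₂ ⟶ 𝟙_ (Over T) := yT C mk
    let I : Ideal Γ(Z₂.left, ⊤) := 𝔞.map y₂.left.appTop.hom
    have hI : IsNilpotent I := by
      refine ⟨2, ?_⟩
      rw [← Ideal.map_pow, sq, Ideal.zero_eq_bot, Ideal.map_eq_bot_iff_le_ker]
      intro a ha
      rw [RingHom.mem_ker]
      refine (RingHom.congr_fun (yT_appTop C mk) a).trans ?_
      rw [RingHom.comp_apply, Ideal.Quotient.eq_zero_iff_mem.mpr ha, map_zero]
    have h0 : ∀ Z : Over Z₂.left, (∀ r ∈ I, Z.hom.appTop r = 0) →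
        ∀ (x : (Over.map (Z₂.hom ≫ g)).obj Z ⟶ H) (y : (Over.map (Z₂.hom ≫ g)).obj Z ⟶ G),
          lift x y ≫ (leftMulAction u).act = y := by
      intro Z hZ x y
      have h1 : TrivOn u ((Over.map g).obj ((Over.map Z₂.hom).obj Z)) := hP _ fun a ha ↦ by
        rw [show (toUnit ((Over.map Z₂.hom).obj Z)) =
          (Over.homMk Z.hom rfl : (Over.map Z₂.hom).obj Z ⟶ Z₂) ≫ y₂ from toUnit_unique _ _,
          Over.comp_left, Scheme.Hom.comp_appTop, CommRingCat.comp_apply]
        exact hZ _ (Ideal.mem_map_of_mem _ ha)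
      have h2 : x ≫ u = 1 := h1 _ (Over.homMk (𝟙 _) ((Category.id_comp _).trans
        (Category.assoc _ _ _))) x
      rw [lift_leftMulAction, h2, _root_.one_mul]
    have hmap := pullback_act_eq (Z₂.hom ≫ g) (leftMulAction u) i₂ I hI h0
    have htriv : TrivOn u ((Over.map g).obj Z₂) := fun W w x ↦ by
      have h1 := comp_eq_of_pullback_map_eq (Z₂.hom ≫ g) hmap w (lift x 1)
      rwa [lift_leftMulAction, _root_.mul_one, lift_snd] at h1
    intro a ha
    have h1 := hQ Z₂ inferInstance htriv a ha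
    rw [toUnit_unique (toUnit Z₂) y₂] at h1
    exact Ideal.Quotient.eq_zero_iff_mem.mp ((ΓT_bijective C mk).1
      ((RingHom.congr_fun (yT_appTop C mk) a).symm.trans (h1.trans (map_zero _).symm)))
  obtain ⟨e, he, hspan⟩ := (Ideal.isIdempotentElem_iff_of_fg _ ⟨_, rfl⟩).mp hidem
  let e' : Γ(T, ⊤) := e
  have hT : ∀ (Z : Over T) (a : Γ(T, ⊤)), (toUnit Z).left.appTop a = Z.hom.appTop a := fun _ _ ↦ rfl
  have hiff : ∀ Z : Over T, (∀ z, Z.hom.base z ∈ T.basicOpen (1 - e')) ↔ Z.hom.appTop e' = 0 := by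
    intro Z
    constructor
    · intro h
      have hu : IsUnit (Z.hom.appTop (1 - e')) := by
        refine Z.left.toRingedSpace.isUnit_of_isUnit_germ ⊤ _ fun z _ ↦ ?_
        refine (Scheme.mem_basicOpen_top _ _ z).mp ?_
        rw [← Scheme.preimage_basicOpen_top]
        exact h z
      refine hu.mul_left_cancel ?_
      rw [← map_mul, MulZeroClass.mul_zero, sub_mul, _root_.one_mul,
        show e' * e' = e' from he.eq, sub_self, map_zero]
    · intro h z
      show z ∈ Z.hom ⁻¹ᵁ T.basicOpen (1 - e')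
      rw [Scheme.preimage_basicOpen_top, map_sub, h, map_one, sub_zero, Scheme.basicOpen_one]
      trivial
  refine ⟨T.basicOpen (1 - e'), ?_, ?_, fun Z hZa hZ ↦ (hiff Z).mpr ?_⟩
  · have : (T.basicOpen (1 - e') : Set T) = (T.basicOpen e' : Set T)ᶜ := by
      ext x
      simp only [SetLike.mem_coe, Set.mem_compl_iff, Scheme.mem_basicOpen_top, map_sub, map_one]
      constructor
      · intro h1 h2
        have h3 := congrArg (T.presheaf.germ ⊤ x trivial) (he.one_sub_mul_self)
        rw [map_mul, map_sub, map_one, map_zero] at h3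
        exact (h1.mul h2).ne_zero h3
      · intro h
        exact (IsLocalRing.isUnit_or_isUnit_one_sub_self _).resolve_left h
    rw [this]
    exact (T.basicOpen e').isOpen.isClosed_compl
  · let Z : Over T := Over.mk (T.basicOpen (1 - e')).ι
    refine hP Z fun a ha ↦ ?_
    obtain ⟨b, rfl⟩ := Submodule.mem_span_singleton.mp (hspan.le ha)
    rw [smul_eq_mul, map_mul]
    refine mul_eq_zero_of_right _ ((hT Z e').trans ((hiff Z).mp fun z ↦ z.2))
  · rw [← hT]
    exact hQ Z hZa hZ e (hspan.ge (Submodule.mem_span_singleton_self e))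

/-- The triviality at a field-valued point only depends on its image. -/
lemma trivOn_fieldPoint_iff (K : Type u) [Field K] (p : Spec (CommRingCat.of K) ⟶ S) :
    TrivOn u (Over.mk p) ↔
      TrivOn u (Over.mk (S.fromSpecResidueField (p.base (IsLocalRing.closedPoint K)))) := by
  set s := p.base (IsLocalRing.closedPoint K)
  let d : Spec (CommRingCat.of K) ⟶ Spec (S.residueField s) :=
    Spec.map (S.descResidueField (Scheme.stalkClosedPointTo p))
  have hd : d ≫ S.fromSpecResidueField s = p :=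
    Scheme.descResidueField_stalkClosedPointTo_fromSpecResidueField K S p
  let q : Over.mk p ⟶ Over.mk (S.fromSpecResidueField s) := Over.homMk d hd
  refine ⟨fun h ↦ ?_, fun h ↦ h.of_hom q⟩
  haveI : Flat q.left := by
    show Flat (Spec.map _)
    rw [Flat.SpecMap_iff]
    let φ := (S.descResidueField (Scheme.stalkClosedPointTo p)).hom
    show φ.Flat
    letI := φ.toAlgebra
    exact inferInstanceAs (Module.Flat (S.residueField s) K)
  haveI : Surjective q.left := ⟨fun y ↦ ⟨IsLocalRing.closedPoint K,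
    Subsingleton.elim (α := (Spec (S.residueField s) : Scheme.{u})) _ _⟩⟩
  exact TrivOn.descend q h

/-- The locus where `u` is trivial is open and closed. -/
theorem exists_clopen_trivLocus (hH : SGA3x.IsMultTypeFT H)
    [IsClosedImmersion η[G].left]
    [LocallyOfFinitePresentation (Limits.pullback.fst u.left η[G].left)] :
    ∃ U : S.Opens, IsClosed (U : Set S) ∧
      (∀ s : S, s ∈ U ↔ (Over.pullback (S.fromSpecResidueField s)).map u = 1) ∧
      TrivOn u (Over.mk U.ι) := by
  obtain ⟨S', f, hflat, hsurj, hqc, hloc⟩ := hH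
  haveI := hflat
  haveI := hsurj
  let A : Set S := {s | TrivOn u (Over.mk (S.fromSpecResidueField s))}
  -- on charts of the cover
  have hchart : ∀ x : S', ∃ (T : S'.Opens) (V : (T : Scheme.{u}).Opens), x ∈ T ∧
      IsClosed (V : Set (T : Scheme.{u})) ∧ TrivOn u (Over.mk (V.ι ≫ T.ι ≫ f)) ∧
      ∀ t : (T : Scheme.{u}), (T.ι ≫ f).base t ∈ A ↔ t ∈ V := by
    intro x
    obtain ⟨U', hxU, M, _, -, ⟨e⟩⟩ := hloc x
    obtain ⟨T, hT, hxT, hTU⟩ := exists_isAffineOpen_mem_and_subset hxU
    haveI : IsAffine (T : Scheme.{u}) := hT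
    let e' : Red.DS (U' : Scheme.{u}) M ≅ Red.bc (U'.ι ≫ f) H :=
      ⟨e.inv.hom.hom, e.hom.hom.hom, congrArg (fun z ↦ z.hom.hom) e.inv_hom_id,
        congrArg (fun z ↦ z.hom.hom) e.hom_inv_id⟩
    haveI : IsMonHom e'.hom := inferInstanceAs (IsMonHom e.inv.hom.hom)
    obtain ⟨i, hi⟩ := exists_trivialisation_comp H (S'.homOfLE hTU) (U'.ι ≫ f) e'
    revert i hi
    rw [Scheme.homOfLE_ι_assoc]
    intro i hi
    haveI := hi
    obtain ⟨V, hVc, hV, hV'⟩ := exists_clopen_trivOn u (T.ι ≫ f) i
    refine ⟨T, V, hxT, hVc, hV, fun t ↦ ?_⟩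
    let pt := (T : Scheme.{u}).fromSpecResidueField t
    have himg : (pt ≫ T.ι ≫ f).base (IsLocalRing.closedPoint _) = (T.ι ≫ f).base t := by
      rw [Scheme.Hom.comp_apply, Scheme.fromSpecResidueField_apply]
    have hiff := (trivOn_fieldPoint_iff u _ (pt ≫ T.ι ≫ f)).trans
      (iff_of_eq (congrArg (fun s ↦ s ∈ A) himg))
    refine hiff.symm.trans ⟨fun h ↦ ?_, fun htV ↦ ?_⟩
    · have := hV' (Over.mk pt) (inferInstanceAs (IsAffine (Spec _))) h (IsLocalRing.closedPoint _)
      exact (Scheme.fromSpecResidueField_apply t _) ▸ this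
    · have hr : Set.range pt ⊆ Set.range V.ι := by
        rw [Scheme.range_fromSpecResidueField, Scheme.Opens.range_ι]
        exact Set.singleton_subset_iff.mpr htV
      refine hV.of_hom (Over.homMk (IsOpenImmersion.lift V.ι pt hr) ?_)
      exact IsOpenImmersion.lift_fac_assoc _ _ _ _
  choose T V hxT hVc hV hVA using hchart
  have hclopen : IsClopen (f.base ⁻¹' A) := by
    have hpre : ∀ x, (Subtype.val : {y // y ∈ T x} → S') ⁻¹' (f.base ⁻¹' A) = (V x : Set (T x : Scheme.{u})) := fun x ↦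
      Set.ext fun t ↦ hVA x t
    have hcov : TopologicalSpace.IsOpenCover T :=
      .mk (top_unique fun x _ ↦ TopologicalSpace.Opens.mem_iSup.mpr ⟨x, hxT x⟩)
    exact ⟨hcov.isClosed_iff_coe_preimage.mpr fun x ↦ (hpre x).symm ▸ hVc x,
      hcov.isOpen_iff_coe_preimage.mpr fun x ↦ (hpre x).symm ▸ (V x).isOpen⟩
  have hA : IsClopen A := by
    have hres : ∀ Y : S.affineOpens, IsClopen ((Subtype.val : {y // y ∈ (Y : S.Opens)} → S) ⁻¹' A) := by
      intro Y
      obtain ⟨W, hWc, hW⟩ := hqc Y Y.2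
      haveI : IsAffine ((Y : S.Opens) : Scheme.{u}) := Y.2
      have hle : Set.range (W.ι ≫ f) ⊆ Set.range (Y : S.Opens).ι := by
        rintro _ ⟨w, rfl⟩
        rw [Scheme.Opens.range_ι]
        exact hW.subset ⟨w.1, w.2, rfl⟩
      let g := IsOpenImmersion.lift (Y : S.Opens).ι (W.ι ≫ f) hle
      have hg : g ≫ (Y : S.Opens).ι = W.ι ≫ f := IsOpenImmersion.lift_fac _ _ _
      have : Surjective g := by
        refine ⟨fun v ↦ ?_⟩
        obtain ⟨w, hw, e⟩ := hW.superset v.2
        refine ⟨⟨w, hw⟩, (Y : S.Opens).ι.isOpenEmbedding.injective ?_⟩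
        rw [← Scheme.Hom.comp_apply, hg]
        exact e
      have : Flat g := by
        haveI : Flat (g ≫ (Y : S.Opens).ι) := by rw [hg]; infer_instance
        exact MorphismProperty.of_postcomp (W := @Flat) (W' := @IsOpenImmersion) g (Y : S.Opens).ι
          inferInstance inferInstance
      haveI : CompactSpace (W : Scheme.{u}) := isCompact_iff_compactSpace.mp hWc
      haveI : QuasiCompact g := inferInstance
      have hq := Flat.isQuotientMap_of_surjective g
      have hpre : g.base ⁻¹' ((Subtype.val : {y // y ∈ (Y : S.Opens)} → S) ⁻¹' A) =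
          (Subtype.val : {y // y ∈ W} → S') ⁻¹' (f.base ⁻¹' A) := by
        ext w
        show ((Y : S.Opens).ι (g w)) ∈ A ↔ f (W.ι w) ∈ A
        rw [← Scheme.Hom.comp_apply, hg, Scheme.Hom.comp_apply]
      constructor
      · refine hq.isClosed_preimage.mp ?_
        exact (congrArg IsClosed hpre).mpr (hclopen.1.preimage continuous_subtype_val)
      · refine hq.isOpen_preimage.mp ?_
        exact (congrArg IsOpen hpre).mpr (hclopen.2.preimage continuous_subtype_val)
    have hcov : TopologicalSpace.IsOpenCover fun Y : S.affineOpens ↦ (Y : S.Opens) :=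
      .mk (iSup_affineOpens_eq_top S)
    exact ⟨hcov.isClosed_iff_coe_preimage.mpr fun Y ↦ (hres Y).1,
      hcov.isOpen_iff_coe_preimage.mpr fun Y ↦ (hres Y).2⟩
  refine ⟨⟨A, hA.2⟩, hA.1, fun s ↦ (pullback_map_eq_one_iff (S.fromSpecResidueField s)).symm, ?_⟩
  let U : S.Opens := ⟨A, hA.2⟩
  let r : (f ⁻¹ᵁ U : Scheme.{u}) ⟶ (U : Scheme.{u}) := f ∣_ U
  haveI : Flat r := IsZariskiLocalAtTarget.restrict hflat U
  haveI : Surjective r := IsZariskiLocalAtTarget.restrict hsurj U
  let p : Over.mk ((f ⁻¹ᵁ U).ι ≫ f) ⟶ Over.mk U.ι := Over.homMk r (morphismRestrict_ι f U)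
  haveI : Flat p.left := inferInstanceAs (Flat r)
  haveI : Surjective p.left := inferInstanceAs (Surjective r)
  refine TrivOn.descend p ?_
  refine TrivOn.of_openCover (fun x ↦ (f ⁻¹ᵁ U).ι ⁻¹ᵁ T x.1) (fun x ↦ hxT x.1) fun x ↦ ?_
  let m := (((f ⁻¹ᵁ U).ι ⁻¹ᵁ T x.1).ι ≫ (f ⁻¹ᵁ U).ι)
  have hle : Set.range m ⊆ Set.range ((V x.1).ι ≫ (T x.1).ι) := by
    rintro _ ⟨w, rfl⟩
    have hwT : m w ∈ T x.1 := w.2
    have hwA : f (m w) ∈ A := w.1.2
    exact ⟨⟨⟨m w, hwT⟩, (hVA x.1 ⟨m w, hwT⟩).mp hwA⟩, rfl⟩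
  refine (hV x.1).of_hom (Over.homMk (IsOpenImmersion.lift ((V x.1).ι ≫ (T x.1).ι) m hle) ?_)
  show _ ≫ (V x.1).ι ≫ (T x.1).ι ≫ f = ((f ⁻¹ᵁ U).ι ⁻¹ᵁ T x.1).ι ≫ (f ⁻¹ᵁ U).ι ≫ f
  rw [← Category.assoc (V x.1).ι, IsOpenImmersion.lift_fac_assoc, Category.assoc]

/-- `exists_clopen_trivLocus` for a separated group, over a locally noetherian base or locally of
finite presentation. -/
theorem exists_clopen_trivLocus' [IsSeparated G.hom] (hH : SGA3x.IsMultTypeFT H)
    (hG : IsLocallyNoetherian S ∨ LocallyOfFinitePresentation G.hom) :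
    ∃ U : S.Opens, IsClosed (U : Set S) ∧
      (∀ s : S, s ∈ U ↔ (Over.pullback (S.fromSpecResidueField s)).map u = 1) ∧
      TrivOn u (Over.mk U.ι) := by
  have hη : η[G].left ≫ G.hom = 𝟙 S := Over.w η[G]
  haveI : IsClosedImmersion η[G].left := by
    haveI : IsClosedImmersion (η[G].left ≫ G.hom) := by
      rw [hη]
      exact MorphismProperty.id_mem @IsClosedImmersion _
    exact MorphismProperty.of_postcomp (W := @IsClosedImmersion) (W' := @IsSeparated) η[G].left
      G.hom inferInstance inferInstance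
  haveI : LocallyOfFinitePresentation (Limits.pullback.fst u.left η[G].left) := by
    rcases hG with hS | hG
    · haveI := (flat_lfp_of_multTypeFT H hH Groth.AlgSp2.flat_descendsAlong inferInstance).2
      haveI : IsLocallyNoetherian H.left := LocallyOfFiniteType.isLocallyNoetherian H.hom
      haveI : IsClosedImmersion (Limits.pullback.fst u.left η[G].left) :=
        MorphismProperty.pullback_fst _ _ ‹_›
      exact Groth.AlgSp2.lfp_of_isLocallyNoetherian _
    · haveI : LocallyOfFinitePresentation (η[G].left ≫ G.hom) := by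
        rw [hη]
        exact locallyOfFinitePresentation_of_isOpenImmersion (𝟙 _)
      haveI := Groth.PropsBasic2.lfp_of_comp η[G].left G.hom
      exact MorphismProperty.pullback_fst _ _ ‹_›
  exact exists_clopen_trivLocus u hH

end Groth.Reductive.FreeDiag
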