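import Groth.Agent.AlgGrp1.Basic
import Groth.Prelude.Def_RedSub

/-!
The group structure of an fppf quotient by a normal subgroup.
-/

universe u

open CategoryTheory MonoidalCategory CartesianMonoidalCategory MonObj AlgebraicGeometry

namespace Groth.Reductive

variable {S : Scheme.{u}} {H G Q : Over S} [GrpObj H] [GrpObj G] {i : H ⟶ G} {q : G ⟶ Q}

lemma isCover_of_isQuotient (hq : RedSub.IsQuotient i q) : AlgGrp1.IsCover q :=
  ⟨hq.2.1, hq.1, hq.2.2.1⟩

/-- Two points of `G` with the same image in `G/H` differ by a point of `H`. -/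
lemma exists_mul_of_comp_eq (hq : RedSub.IsQuotient i q) {T : Over S} {a b : T ⟶ G}
    (h : a ≫ q = b ≫ q) : ∃ x : T ⟶ H, b = a * (x ≫ i) := by
  refine ⟨hq.2.2.2.lift a b h ≫ snd G H, ?_⟩
  conv_lhs => rw [← hq.2.2.2.lift_snd a b h, ← lift_comp_fst_snd (hq.2.2.2.lift a b h), hq.2.2.2.lift_fst]
  rw [lift_whiskerLeft_assoc, Hom.mul_def]

/-- Right translation by a point of `H` does not change the image in `G/H`. -/
lemma mul_comp_quotient (hq : RedSub.IsQuotient i q) {T : Over S} (a : T ⟶ G) (x : T ⟶ H) :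
    (a * (x ≫ i)) ≫ q = a ≫ q := by
  have h := congrArg (lift a x ≫ ·) hq.2.2.2.w
  simp only [lift_fst_assoc, Category.assoc, lift_whiskerLeft_assoc] at h
  rw [Hom.mul_def, Category.assoc, ← h]

lemma comp_eq_iff (hq : RedSub.IsQuotient i q) {T : Over S} (a b : T ⟶ G) :
    a ≫ q = b ≫ q ↔ ∃ x : T ⟶ H, b = a * (x ≫ i) :=
  ⟨exists_mul_of_comp_eq hq, fun ⟨x, hx⟩ ↦ by rw [hx, mul_comp_quotient hq]⟩

section Normal

variable [IsMonHom i] (hn : AlgGrp.IsNormalHom i) (hq : RedSub.IsQuotient i q)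

include hn hq in
lemma mul_congr {T : Over S} {a a' b b' : T ⟶ G} (ha : a ≫ q = a' ≫ q) (hb : b ≫ q = b' ≫ q) :
    (a * b) ≫ q = (a' * b') ≫ q := by
  obtain ⟨x, rfl⟩ := exists_mul_of_comp_eq hq ha
  obtain ⟨y, rfl⟩ := exists_mul_of_comp_eq hq hb
  obtain ⟨x', hx'⟩ := hn T b⁻¹ x
  rw [inv_inv] at hx'
  refine (comp_eq_iff hq _ _).2 ⟨x' * y, ?_⟩
  rw [MonObj.mul_comp, ← hx']
  simp [_root_.mul_assoc]

include hn hq in
lemma inv_congr {T : Over S} {a a' : T ⟶ G} (ha : a ≫ q = a' ≫ q) : a⁻¹ ≫ q = a'⁻¹ ≫ q := by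
  obtain ⟨x, rfl⟩ := exists_mul_of_comp_eq hq ha
  obtain ⟨x', hx'⟩ := hn T a x⁻¹
  refine (comp_eq_iff hq _ _).2 ⟨x', ?_⟩
  rw [← hx', GrpObj.inv_comp]
  simp [mul_inv_rev, ← _root_.mul_assoc]

include hn hq in
lemma exists_mul : ∃ m : Q ⊗ Q ⟶ Q, ∀ (T : Over S) (a b : T ⟶ G),
    lift (a ≫ q) (b ≫ q) ≫ m = (a * b) ≫ q := by
  have hc : AlgGrp1.IsCover ((q ▷ G) ≫ (Q ◁ q)) :=
    ((isCover_of_isQuotient hq).whiskerRight G).comp ((isCover_of_isQuotient hq).whiskerLeft Q)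
  have hc' : ∀ (T : Over S) (a : T ⟶ G ⊗ G), a ≫ (q ▷ G) ≫ (Q ◁ q) =
      lift (a ≫ fst G G ≫ q) (a ≫ snd G G ≫ q) := by
    intro T a
    apply CartesianMonoidalCategory.hom_ext <;> simp
  obtain ⟨m, hm⟩ := hc.exists_desc (μ[G] ≫ q) (fun T a b hab ↦ by
    rw [hc', hc'] at hab
    have h1 := congrArg (· ≫ fst Q Q) hab
    have h2 := congrArg (· ≫ snd Q Q) hab
    simp only [lift_fst, lift_snd, ← Category.assoc] at h1 h2
    rw [← lift_comp_fst_snd a, ← lift_comp_fst_snd b, ← Category.assoc, ← Category.assoc,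
      ← Hom.mul_def, ← Hom.mul_def]
    exact mul_congr hn hq h1 h2)
  refine ⟨m, fun T a b ↦ ?_⟩
  rw [Hom.mul_def, Category.assoc, ← hm, ← Category.assoc, hc']
  simp

include hn hq in
lemma exists_inv : ∃ j : Q ⟶ Q, ∀ (T : Over S) (a : T ⟶ G), a ≫ q ≫ j = a⁻¹ ≫ q := by
  obtain ⟨j, hj⟩ := (isCover_of_isQuotient hq).exists_desc ((𝟙 G)⁻¹ ≫ q) (fun T a b hab ↦ by
    rw [← Category.assoc, ← Category.assoc, GrpObj.comp_inv, GrpObj.comp_inv, Category.comp_id,
      Category.comp_id]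
    exact inv_congr hn hq hab)
  exact ⟨j, fun T a ↦ by rw [hj, ← Category.assoc, GrpObj.comp_inv, Category.comp_id]⟩

/-- The group structure of the quotient. -/
@[instance_reducible]
noncomputable def quotientGrpObj : GrpObj Q :=
  let m := (exists_mul hn hq).choose
  have hm : ∀ (T : Over S) (a b : T ⟶ G), lift (a ≫ q) (b ≫ q) ≫ m = (a * b) ≫ q :=
    (exists_mul hn hq).choose_spec
  have hc := isCover_of_isQuotient hq
  have key : ∀ {T : Over S} {U : Over S} {c : U ⟶ T} (x : U ⟶ G) (a : T ⟶ Q), x ≫ q = c ≫ a →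
      c ≫ lift (toUnit T ≫ η[G] ≫ q) a ≫ m = c ≫ a ∧
      c ≫ lift a (toUnit T ≫ η[G] ≫ q) ≫ m = c ≫ a := by
    intro T U c x a hx
    have h1 : c ≫ toUnit T ≫ η[G] ≫ q = (1 : U ⟶ G) ≫ q := by
      rw [← Category.assoc, comp_toUnit, ← Category.assoc]; rfl
    rw [comp_lift_assoc, comp_lift_assoc, h1, ← hx, hm, hm, _root_.one_mul, _root_.mul_one]
    exact ⟨rfl, rfl⟩
  have hunit : ∀ {T : Over S} (a : T ⟶ Q), lift (toUnit T ≫ η[G] ≫ q) a ≫ m = a ∧
      lift a (toUnit T ≫ η[G] ≫ q) ≫ m = a := fun {T} a ↦ by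
    obtain ⟨U, c, x, hcc, hx⟩ := hc.exists_lift a
    exact ⟨hcc.cancel (key x a hx).1, hcc.cancel (key x a hx).2⟩
  have hassoc : ∀ {T : Over S} (a b d : T ⟶ Q),
      lift (lift a b ≫ m) d ≫ m = lift a (lift b d ≫ m) ≫ m := fun {T} a b d ↦ by
    obtain ⟨U, c, x, y, hcc, hx, hy⟩ := hc.exists_lift₂ a b
    obtain ⟨V, e, z, hee, hz⟩ := hc.exists_lift (c ≫ d)
    apply (hee.comp hcc).cancel
    have hx' : (e ≫ x) ≫ q = (e ≫ c) ≫ a := by rw [Category.assoc, hx, Category.assoc]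
    have hy' : (e ≫ y) ≫ q = (e ≫ c) ≫ b := by rw [Category.assoc, hy, Category.assoc]
    have hz' : z ≫ q = (e ≫ c) ≫ d := by rw [hz, Category.assoc]
    rw [comp_lift_assoc, comp_lift_assoc, comp_lift_assoc, comp_lift_assoc, ← hx', ← hy', ← hz']
    simp only [hm, _root_.mul_assoc]
  have hinv : ∀ {T : Over S} (a : T ⟶ Q),
      lift (a ≫ (exists_inv hn hq).choose) a ≫ m = toUnit T ≫ η[G] ≫ q ∧
      lift a (a ≫ (exists_inv hn hq).choose) ≫ m = toUnit T ≫ η[G] ≫ q := fun {T} a ↦ by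
    obtain ⟨U, c, x, hcc, hx⟩ := hc.exists_lift a
    have h1 : c ≫ toUnit T ≫ η[G] ≫ q = (1 : U ⟶ G) ≫ q := by
      rw [← Category.assoc, comp_toUnit, ← Category.assoc]; rfl
    have hj : c ≫ a ≫ (exists_inv hn hq).choose = x⁻¹ ≫ q := by
      rw [← Category.assoc, ← hx, Category.assoc]
      exact (exists_inv hn hq).choose_spec U x
    constructor <;> apply hcc.cancel <;>
      rw [comp_lift_assoc, h1, hj, ← hx, hm] <;> simp
  { one := η[G] ≫ q
    mul := m
    one_mul := by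
      have e : (η[G] ≫ q) ▷ Q = lift (toUnit _ ≫ η[G] ≫ q) (snd (𝟙_ (Over S)) Q) := by
        apply CartesianMonoidalCategory.hom_ext
        · simp [toUnit_unique (fst (𝟙_ (Over S)) Q) (toUnit _)]
        · simp
      rw [e, (hunit _).1]
      simp [leftUnitor_hom]
    mul_one := by
      have e : Q ◁ (η[G] ≫ q) = lift (fst Q (𝟙_ (Over S))) (toUnit _ ≫ η[G] ≫ q) := by
        apply CartesianMonoidalCategory.hom_ext
        · simp
        · simp [toUnit_unique (snd Q (𝟙_ (Over S))) (toUnit _)]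
      rw [e, (hunit _).2]
      simp [rightUnitor_hom]
    mul_assoc := by
      have h := hassoc (fst (Q ⊗ Q) Q ≫ fst Q Q) (fst (Q ⊗ Q) Q ≫ snd Q Q) (snd (Q ⊗ Q) Q)
      convert h using 1
      · congr 1
        apply CartesianMonoidalCategory.hom_ext <;> simp [← comp_lift_assoc, lift_fst_snd]
      · rw [← Category.assoc]
        congr 1
        apply CartesianMonoidalCategory.hom_ext
        · simp
        · simp only [Category.assoc, whiskerLeft_snd, lift_snd]
          rw [← Category.assoc]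
          congr 1
          apply CartesianMonoidalCategory.hom_ext <;> simp
    inv := (exists_inv hn hq).choose
    left_inv := by
      have h := (hinv (𝟙 Q)).1
      rwa [Category.id_comp] at h
    right_inv := by
      have h := (hinv (𝟙 Q)).2
      rwa [Category.id_comp] at h }

lemma isMonHom_quotient : @IsMonHom (Over S) _ _ G Q _ (quotientGrpObj hn hq).toMonObj q :=
  letI := quotientGrpObj hn hq
  { one_hom := rfl
    mul_hom := by
      have h := (exists_mul hn hq).choose_spec (G ⊗ G) (fst G G) (snd G G)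
      rw [Hom.mul_def, lift_fst_snd, Category.id_comp] at h
      refine h.symm.trans ?_
      congr 1 }

include hq in
lemma grpObj_quotient_unique (s t : GrpObj Q) (hs : @IsMonHom (Over S) _ _ G Q _ s.toMonObj q)
    (ht : @IsMonHom (Over S) _ _ G Q _ t.toMonObj q) : s = t := by
  apply GrpObj.toMonObj_injective
  apply MonObj.ext
  have hc : AlgGrp1.IsCover ((q ▷ G) ≫ (Q ◁ q)) :=
    ((isCover_of_isQuotient hq).whiskerRight G).comp ((isCover_of_isQuotient hq).whiskerLeft Q)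
  apply hc.cancel
  have e : (q ▷ G) ≫ (Q ◁ q) = q ⊗ₘ q := by
    apply CartesianMonoidalCategory.hom_ext <;> simp
  rw [e]
  exact hs.mul_hom.symm.trans ht.mul_hom

end Normal

end Groth.Reductive
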