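import Groth.Agent.Reductive.MTSubTransporter

/-!
Averages of families over a group of multiplicative type with values in an arbitrary scheme,
for families congruent to a constant one modulo an ideal of square zero.
-/

set_option autoImplicit false
universe u

open CategoryTheory MonoidalCategory CartesianMonoidalCategory MonObj AlgebraicGeometry Limits

noncomputable section

namespace Groth.Reductive.MTInt

variable {S : Scheme.{u}} {H X X' : Over S} [GrpObj H] {Y Y' Y₀ : Over S}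

/-! ### Opens as objects -/

/-- An open as an object over `S`. -/
abbrev opObj {X : Over S} (V : X.left.Opens) : Over S := Over.mk (V.ι ≫ X.hom)

/-- The inclusion of an open. -/
abbrev opIncl {X : Over S} (V : X.left.Opens) : opObj V ⟶ X := Over.homMk V.ι rfl

instance {X : Over S} (V : X.left.Opens) : IsOpenImmersion (opIncl V).left :=
  inferInstanceAs (IsOpenImmersion V.ι)

omit [GrpObj H] in
lemma mono_of_isOpenImmersion {A : Over S} (p : A ⟶ X) [IsOpenImmersion p.left] : Mono p :=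
  (Over.forget S).mono_of_mono_map (inferInstanceAs (Mono p.left))

omit [GrpObj H] in
lemma isAffine_opObj {V : X.left.Opens} (hV : IsAffineOpen V) : IsAffine (opObj V).left := hV

omit [GrpObj H] in
lemma opIncl_mem {V : X.left.Opens} (x : (opObj V).left) : V.ι.base x ∈ V :=
  (Scheme.Opens.range_ι V).le ⟨x, rfl⟩

omit [GrpObj H] in
/-- Morphisms that agree near every point agree. -/
lemma hom_ext_nhds {a b : Y ⟶ X}
    (h : ∀ y : Y.left, ∃ W : Y.left.Opens, y ∈ W ∧ opIncl W ≫ a = opIncl W ≫ b) : a = b := by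
  choose W hW he using h
  refine Over.OverMorphism.ext (Scheme.Cover.hom_ext
    (Scheme.openCoverOfIsOpenCover _ W (.mk (top_unique fun x _ ↦
      TopologicalSpace.Opens.mem_iSup.mpr ⟨x, hW x⟩))) _ _ fun y ↦ ?_)
  exact congrArg (fun z ↦ z.left) (he y)

omit [GrpObj H] in
/-- Lifting a map through an open immersion. -/
lemma exists_lift_open {A : Over S} (p : A ⟶ X) [IsOpenImmersion p.left] (f : Y ⟶ X)
    (h : ∀ y, f.left.base y ∈ Set.range p.left.base) : ∃ g : Y ⟶ A, g ≫ p = f :=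
  ⟨Over.homMk (IsOpenImmersion.lift p.left f.left (by rintro _ ⟨y, rfl⟩; exact h y)) (by
    rw [← Over.w p, IsOpenImmersion.lift_fac_assoc, Over.w f]),
    Over.OverMorphism.ext (IsOpenImmersion.lift_fac _ _ _)⟩

omit [GrpObj H] in
lemma surjective_of_sqZero [IsAffine Y.left] [IsAffine Y₀.left] {i₀ : Y₀ ⟶ Y} (h : SqZero i₀) :
    Surjective i₀.left := by
  have : Surjective (Spec.map i₀.left.appTop) := by
    refine ⟨fun p ↦ ?_⟩
    have hp : RingHom.ker i₀.left.appTop.hom ≤ p.asIdeal := fun r hr ↦ by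
      have hrr : r * r ∈ p.asIdeal := by
        have := Ideal.mul_mem_mul hr hr
        rw [h.sq, Ideal.mem_bot] at this
        rw [this]
        exact p.asIdeal.zero_mem
      exact (p.isPrime.mem_or_mem hrr).elim id id
    exact (range_comap_of_surjective _ _ h.surj).ge hp
  exact (MorphismProperty.arrow_mk_iso_iff @Surjective (arrowIsoSpecΓOfIsAffine i₀.left)).mpr this

/-! ### Congruence -/

/-- The value of a family at the neutral element. -/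
abbrev ev1 (d : H ⊗ Y ⟶ X) : Y ⟶ X := lift (1 : Y ⟶ H) (𝟙 Y) ≫ d

lemma ev1_whisker (d : H ⊗ Y ⟶ X) (j : Y' ⟶ Y) : ev1 ((H ◁ j) ≫ d) = j ≫ ev1 d := by
  rw [ev1, lift_whiskerLeft_assoc, ev1, comp_lift_assoc, MonObj.comp_one, Category.id_comp,
    Category.comp_id]

lemma ev1_comp (d : H ⊗ Y ⟶ X) (f : X ⟶ X') : ev1 (d ≫ f) = ev1 d ≫ f :=
  (Category.assoc _ _ _).symm

/-- A family congruent to a constant one along `i₀`. -/
def Congr (i₀ : Y₀ ⟶ Y) (d : H ⊗ Y ⟶ X) : Prop :=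
  (H ◁ i₀) ≫ d = snd H Y₀ ≫ i₀ ≫ ev1 d

variable {i₀ : Y₀ ⟶ Y}

lemma Congr.comp {d : H ⊗ Y ⟶ X} (h : Congr i₀ d) (f : X ⟶ X') : Congr i₀ (d ≫ f) := by
  unfold Congr at h ⊢
  rw [reassoc_of% h, ev1_comp, Category.assoc]

lemma Congr.of_comp {d : H ⊗ Y ⟶ X} (f : X ⟶ X') [Mono f] (h : Congr i₀ (d ≫ f)) :
    Congr i₀ d := by
  unfold Congr at h ⊢
  rw [← cancel_mono f]
  rw [Category.assoc, h]; simp only [ev1, Category.assoc]

lemma Congr.const (c : Y ⟶ X) : Congr i₀ (snd H Y ≫ c) := by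
  unfold Congr ev1
  rw [whiskerLeft_snd_assoc, lift_snd_assoc, Category.id_comp]

lemma Congr.lift {d : H ⊗ Y ⟶ X} {d' : H ⊗ Y ⟶ X'} (h : Congr i₀ d) (h' : Congr i₀ d') :
    Congr i₀ (lift d d') := by
  unfold Congr at h h' ⊢
  rw [comp_lift, h, h', ev1, ev1, ev1, comp_lift, comp_lift, comp_lift]

lemma congr_of_eq_one [GrpObj X] {d : H ⊗ Y ⟶ X} (h : (H ◁ i₀) ≫ d = 1) : Congr i₀ d := by
  unfold Congr
  rw [h, show i₀ ≫ ev1 d = CartesianMonoidalCategory.lift (1 : Y₀ ⟶ H) (𝟙 Y₀) ≫ (H ◁ i₀) ≫ d by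
    rw [← ev1_whisker], h, MonObj.comp_one, MonObj.comp_one]

/-- Congruences restrict. -/
theorem exists_restrict_congr [IsAffine Y.left] [IsAffine Y₀.left] [IsAffine Y'.left]
    (hs : SqZero i₀) (j : Y' ⟶ Y) :
    ∃ (Y₁ : Over S) (_ : IsAffine Y₁.left) (i₁ : Y₁ ⟶ Y') (t : Y₁ ⟶ Y₀), SqZero i₁ ∧
      t ≫ i₀ = i₁ ≫ j ∧
      ∀ {X : Over S} (d : H ⊗ Y ⟶ X), Congr i₀ d → Congr i₁ ((H ◁ j) ≫ d) := by
  obtain ⟨Y₁, hY₁, i₁, t, ht, h1, -, h2⟩ := exists_thickening i₀ hs.surj hs.sq j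
  refine ⟨Y₁, hY₁, i₁, t, ⟨h1, h2⟩, ht, fun d hd ↦ ?_⟩
  unfold Congr at hd ⊢
  rw [ev1_whisker, ← reassoc_of% ht, ← Category.assoc, ← whiskerLeft_comp, ← ht, whiskerLeft_comp,
    Category.assoc, hd, whiskerLeft_snd_assoc]

/-! ### Averages into affine schemes -/

/-- `k` is the average of `d`. -/
def IsAvg (hH : LocTriv H) [IsAffine Y.left] {A : Over S} (d : H ⊗ Y ⟶ A) (k : Y ⟶ A) : Prop :=
  ∀ f, k.left.appTop f = L hH (d.left.appTop f)

attribute [local irreducible] L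

section Avg

variable {hH : LocTriv H} [IsAffine Y.left] {A A' : Over S} [IsAffine A.left]

lemma IsAvg.unique {d : H ⊗ Y ⟶ A} {k k' : Y ⟶ A} (h : IsAvg hH d k) (h' : IsAvg hH d k') :
    k = k' :=
  hom_ext_appTop fun f ↦ (h f).trans (h' f).symm

omit [IsAffine A.left] in
lemma IsAvg.comp {d : H ⊗ Y ⟶ A} {k : Y ⟶ A} (h : IsAvg hH d k) (r : A ⟶ A') :
    IsAvg hH (d ≫ r) (k ≫ r) := fun f ↦ by
  rw [appTop_comp_apply, appTop_comp_apply]
  exact h _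

omit [IsAffine A.left] in
lemma IsAvg.restrict [IsAffine Y'.left] {d : H ⊗ Y ⟶ A} {k : Y ⟶ A} (h : IsAvg hH d k)
    (j : Y' ⟶ Y) : IsAvg hH ((H ◁ j) ≫ d) (j ≫ k) := fun f ↦ by
  rw [appTop_comp_apply, appTop_comp_apply, h f]
  exact (L_nat hH j _).symm

omit [IsAffine A.left] in
lemma isAvg_const (c : Y ⟶ A) : IsAvg hH (snd H Y ≫ c) c := fun f ↦ by
  rw [appTop_comp_apply]
  exact (L_sY hH _).symm

omit [IsAffine A.left] in
lemma IsAvg.th {d : H ⊗ Y ⟶ A} {k : Y ⟶ A} (h : IsAvg hH d k) (a : Y ⟶ H) :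
    IsAvg hH (Triv.th a ≫ d) k := fun f ↦ by
  rw [appTop_comp_apply, L_th]
  exact h f

set_option maxHeartbeats 1000000 in
lemma exists_isAvg [IsAffine Y₀.left] (hs : SqZero i₀) {U : S.Opens} (hU : IsAffineOpen U)
    (hA : ∀ a, A.hom.base a ∈ U) (hY : ∀ y, Y.hom.base y ∈ U) {d : H ⊗ Y ⟶ A}
    (hd : Congr i₀ d) : ∃ k : Y ⟶ A, IsAvg hH d k := by
  let J := RingHom.ker i₀.left.appTop.hom
  let ε := (ev1 d).left.appTop.hom
  let dd : Γ(A.left, ⊤) →+* AY H Y := d.left.appTop.hom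
  have hmem : ∀ f, dd f - sY H Y (ε f) ∈ J.map (sY H Y) := fun f ↦ by
    refine ker_gA_le hH.1 i₀ hs.surj ?_
    rw [RingHom.mem_ker, map_sub, sub_eq_zero]
    show (H ◁ i₀).left.appTop (d.left.appTop f) =
      (H ◁ i₀).left.appTop ((snd H Y).left.appTop ((ev1 d).left.appTop f))
    rw [← appTop_comp_apply, ← appTop_comp_apply, ← appTop_comp_apply, Category.assoc,
      whiskerLeft_snd_assoc,
      show (H ◁ i₀) ≫ d = _ from hd]
  have hsplit : ∀ f, L hH (dd f) = ε f + L hH (dd f - sY H Y (ε f)) := fun f ↦ by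
    conv_lhs => rw [← add_sub_cancel (sY H Y (ε f)) (dd f)]
    rw [L_add, L_sY]
  let φ : Γ(A.left, ⊤) →+* Γ(Y.left, ⊤) :=
    { toFun := fun f ↦ L hH (dd f)
      map_one' := by rw [map_one, ← map_one (sY H Y), L_sY]
      map_zero' := by rw [map_zero, L_zero]
      map_add' := fun x y ↦ by rw [map_add, L_add]
      map_mul' := fun x y ↦ by
        set δx := dd x - sY H Y (ε x) with hx
        set δy := dd y - sY H Y (ε y) with hy
        have h1 : dd (x * y) =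
            (sY H Y (ε x * ε y) + sY H Y (ε x) * δy) + sY H Y (ε y) * δx := by
          have h0 := mul_eq_zero_of_mem_map hs.sq (hmem x) (hmem y)
          rw [← hx, ← hy] at h0
          rw [map_mul dd, map_mul (sY H Y),
            show dd x = sY H Y (ε x) + δx from (add_sub_cancel _ _).symm,
            show dd y = sY H Y (ε y) + δy from (add_sub_cancel _ _).symm]
          linear_combination h0
        have h2 : L hH δx * L hH δy = 0 := by
          have := Ideal.mul_mem_mul (L_mem_of_mem_map hH J (hmem x))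
            (L_mem_of_mem_map hH J (hmem y))
          rwa [hs.sq, Ideal.mem_bot] at this
        rw [h1, L_add, L_add, L_sY, L_sY_mul, L_sY_mul, hsplit x, hsplit y, ← hx, ← hy]
        linear_combination -h2 }
  obtain ⟨q, hq⟩ := exists_specHom (A := Y.left) (B := A.left) φ
  haveI : IsAffine U.toScheme := hU
  let a : A.left ⟶ U.toScheme := IsOpenImmersion.lift U.ι A.hom (by
    rw [Scheme.Opens.range_ι]; rintro _ ⟨x, rfl⟩; exact hA x)
  let b : Y.left ⟶ U.toScheme := IsOpenImmersion.lift U.ι Y.hom (by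
    rw [Scheme.Opens.range_ι]; rintro _ ⟨x, rfl⟩; exact hY x)
  have ha : a ≫ U.ι = A.hom := IsOpenImmersion.lift_fac _ _ _
  have hb : b ≫ U.ι = Y.hom := IsOpenImmersion.lift_fac _ _ _
  have e₁ : d.left ≫ a = (snd H Y).left ≫ b := by
    rw [← cancel_mono U.ι, Category.assoc, Category.assoc, ha, hb, Over.w, Over.w]
  have e₂ : q ≫ a = b := by
    refine ext_of_isAffine (CommRingCat.hom_ext (RingHom.ext fun r ↦ ?_))
    show q.appTop (a.appTop r) = b.appTop r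
    rw [hq]
    show L hH (d.left.appTop (a.appTop r)) = _
    have e₃ : d.left.appTop (a.appTop r) = sY H Y (b.appTop r) :=
      congrArg (fun z : (H ⊗ Y).left ⟶ U.toScheme ↦ z.appTop r) e₁
    rw [e₃, L_sY]
  exact ⟨Over.homMk q (by rw [← ha, ← Category.assoc, e₂, hb]), hq⟩

end Avg

/-! ### Averages into arbitrary schemes -/

set_option maxHeartbeats 1000000 in
/-- A chart of a congruent family. -/
theorem exists_chart (hH : LocTriv H) [IsAffine Y.left] [IsAffine Y₀.left] (hs : SqZero i₀)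
    {d : H ⊗ Y ⟶ X} (hd : Congr i₀ d) (y : Y.left) (O : X.left.Opens)
    (hy : (ev1 d).left.base y ∈ O) :
    ∃ (W : Y.left.Opens) (_ : IsAffine (opObj W).left) (V : X.left.Opens)
      (_ : IsAffine (opObj V).left) (d' : H ⊗ opObj W ⟶ opObj V) (k' : opObj W ⟶ opObj V),
      y ∈ W ∧ V ≤ O ∧ d' ≫ opIncl V = (H ◁ opIncl W) ≫ d ∧ IsAvg hH d' k' := by
  obtain ⟨U, hU, hyU, -⟩ := exists_isAffineOpen_mem_and_subset (U := (⊤ : S.Opens))
    (show Y.hom.base y ∈ (⊤ : S.Opens) from trivial)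
  have hyU' : X.hom.base ((ev1 d).left.base y) ∈ U := by
    rw [← Scheme.Hom.comp_apply, Over.w]; exact hyU
  obtain ⟨V, hV, hyV, hVO⟩ := exists_isAffineOpen_mem_and_subset (U := O ⊓ X.hom ⁻¹ᵁ U)
    (show (ev1 d).left.base y ∈ O ⊓ X.hom ⁻¹ᵁ U from ⟨hy, hyU'⟩)
  obtain ⟨W, hW, hyW, hWV⟩ := exists_isAffineOpen_mem_and_subset
    (U := (ev1 d).left ⁻¹ᵁ V ⊓ Y.hom ⁻¹ᵁ U)
    (show y ∈ (ev1 d).left ⁻¹ᵁ V ⊓ Y.hom ⁻¹ᵁ U from ⟨hyV, hyU⟩)
  haveI : IsAffine (opObj W).left := hW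
  haveI : IsAffine (opObj V).left := hV
  obtain ⟨W₀, _, i₁, t, hs₁, ht, hc⟩ := exists_restrict_congr (H := H) hs (opIncl W)
  have hd' := hc d hd
  haveI : Surjective i₁.left := surjective_of_sqZero hs₁
  haveI : Surjective (H ◁ i₁).left :=
    MorphismProperty.of_isPullback (P := @Surjective)
      (Groth.AlgGrp1.isPullback_whiskerLeft H i₁) inferInstance
  have hrange : ∀ z, ((H ◁ opIncl W) ≫ d).left.base z ∈ Set.range (opIncl V).left.base := fun z ↦ by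
    obtain ⟨z₀, rfl⟩ := (H ◁ i₁).left.surjective z
    have e := congrArg (fun f ↦ f.left.base z₀) (show _ = _ from hd')
    rw [ev1_whisker] at e
    simp only [Over.comp_left, Scheme.Hom.comp_apply] at e ⊢
    rw [e]
    refine (Scheme.Opens.range_ι V).ge ?_
    exact (hWV (opIncl_mem _)).1
  obtain ⟨d', hd'e⟩ := exists_lift_open (opIncl V) _ hrange
  haveI := mono_of_isOpenImmersion (opIncl V)
  obtain ⟨k', hk'⟩ := exists_isAvg (hH := hH) (A := opObj V) hs₁ hU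
    (fun a ↦ (hVO (opIncl_mem a)).2) (fun w ↦ (hWV (opIncl_mem w)).2)
    (Congr.of_comp (opIncl V) (hd'e ▸ hd'))
  exact ⟨W, inferInstance, V, inferInstance, d', k', hyW, fun x hx ↦ (hVO hx).1, hd'e, hk'⟩

/-- Two charts give the same average. -/
theorem agree_charts (hH : LocTriv H) [IsAffine Y.left] [IsAffine Y₀.left] (hs : SqZero i₀)
    {d : H ⊗ Y ⟶ X} (hd : Congr i₀ d)
    {A₁ A₂ : Over S} [IsAffine A₁.left] [IsAffine A₂.left]
    (p₁ : A₁ ⟶ X) [IsOpenImmersion p₁.left] (p₂ : A₂ ⟶ X) [IsOpenImmersion p₂.left]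
    {d₁ : H ⊗ Y ⟶ A₁} {d₂ : H ⊗ Y ⟶ A₂} {k₁ : Y ⟶ A₁} {k₂ : Y ⟶ A₂}
    (e₁ : d₁ ≫ p₁ = d) (e₂ : d₂ ≫ p₂ = d) (h₁ : IsAvg hH d₁ k₁) (h₂ : IsAvg hH d₂ k₂) :
    k₁ ≫ p₁ = k₂ ≫ p₂ := by
  refine hom_ext_nhds fun y ↦ ?_
  obtain ⟨W, _, V, _, d', k', hyW, hVO, e', h'⟩ := exists_chart hH hs hd y
    (p₁.left.opensRange ⊓ p₂.left.opensRange) ⟨⟨(ev1 d₁).left.base y, by
      rw [← e₁, ev1_comp]; rfl⟩, ⟨(ev1 d₂).left.base y, by rw [← e₂, ev1_comp]; rfl⟩⟩
  haveI := mono_of_isOpenImmersion p₁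
  haveI := mono_of_isOpenImmersion p₂
  obtain ⟨r₁, hr₁⟩ := exists_lift_open p₁ (opIncl V) fun v ↦ (hVO (opIncl_mem v)).1
  obtain ⟨r₂, hr₂⟩ := exists_lift_open p₂ (opIncl V) fun v ↦ (hVO (opIncl_mem v)).2
  have q₁ : k' ≫ r₁ = opIncl W ≫ k₁ := (h'.comp r₁).unique (by
    rw [show d' ≫ r₁ = (H ◁ opIncl W) ≫ d₁ by
      rw [← cancel_mono p₁, Category.assoc, hr₁, e', Category.assoc, e₁]]
    exact h₁.restrict _)
  have q₂ : k' ≫ r₂ = opIncl W ≫ k₂ := (h'.comp r₂).unique (by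
    rw [show d' ≫ r₂ = (H ◁ opIncl W) ≫ d₂ by
      rw [← cancel_mono p₂, Category.assoc, hr₂, e', Category.assoc, e₂]]
    exact h₂.restrict _)
  exact ⟨W, hyW, by rw [← reassoc_of% q₁, hr₁, ← reassoc_of% q₂, hr₂]⟩

/-- `k` is the average of `d`, in every chart. -/
def IsAvgG (hH : LocTriv H) (d : H ⊗ Y ⟶ X) (k : Y ⟶ X) : Prop :=
  ∀ (Y' : Over S) (_ : IsAffine Y'.left) (j : Y' ⟶ Y) (A : Over S) (_ : IsAffine A.left)
    (p : A ⟶ X) (_ : IsOpenImmersion p.left) (d' : H ⊗ Y' ⟶ A) (k' : Y' ⟶ A),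
    d' ≫ p = (H ◁ j) ≫ d → IsAvg hH d' k' → k' ≫ p = j ≫ k

/-- Congruent families have averages. -/
theorem exists_isAvgG (hH : LocTriv H) [IsAffine Y.left] [IsAffine Y₀.left] (hs : SqZero i₀)
    {d : H ⊗ Y ⟶ X} (hd : Congr i₀ d) : ∃ k : Y ⟶ X, IsAvgG hH d k := by
  choose W hWa V hVa d' k' hyW hVO e h using fun y ↦ exists_chart hH hs hd y ⊤ trivial
  haveI := hWa
  haveI := hVa
  have agree : ∀ (T : Over S) [IsAffine T.left] (j : T ⟶ Y) (A₁ A₂ : Over S) [IsAffine A₁.left]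
      [IsAffine A₂.left] (p₁ : A₁ ⟶ X) [IsOpenImmersion p₁.left] (p₂ : A₂ ⟶ X)
      [IsOpenImmersion p₂.left] (d₁ : H ⊗ T ⟶ A₁) (d₂ : H ⊗ T ⟶ A₂) (k₁ : T ⟶ A₁) (k₂ : T ⟶ A₂),
      d₁ ≫ p₁ = (H ◁ j) ≫ d → d₂ ≫ p₂ = (H ◁ j) ≫ d → IsAvg hH d₁ k₁ → IsAvg hH d₂ k₂ →
      k₁ ≫ p₁ = k₂ ≫ p₂ := fun T _ j A₁ A₂ _ _ p₁ _ p₂ _ d₁ d₂ k₁ k₂ e₁ e₂ h₁ h₂ ↦ by
    obtain ⟨T₀, _, i₁, t, hs₁, -, hc⟩ := exists_restrict_congr (H := H) hs j
    exact agree_charts hH hs₁ (hc d hd) p₁ p₂ e₁ e₂ h₁ h₂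
  let 𝒰 : Y.left.OpenCover := Scheme.openCoverOfIsOpenCover _ W (.mk (top_unique fun x _ ↦
    TopologicalSpace.Opens.mem_iSup.mpr ⟨x, hyW x⟩))
  have hcompat : ∀ a b, pullback.fst (𝒰.f a) (𝒰.f b) ≫ (k' a ≫ opIncl (V a)).left =
      pullback.snd (𝒰.f a) (𝒰.f b) ≫ (k' b ≫ opIncl (V b)).left := fun a b ↦ by
    let T : Over S := Over.mk (pullback.fst (W a).ι (W b).ι ≫ (W a).ι ≫ Y.hom)
    haveI : IsAffine (W a).toScheme := hWa a
    haveI : IsAffine (W b).toScheme := hWa b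
    haveI : IsAffine T.left := inferInstanceAs (IsAffine (pullback (W a).ι (W b).ι))
    let ta : T ⟶ opObj (W a) := Over.homMk (pullback.fst (W a).ι (W b).ι) rfl
    let tb : T ⟶ opObj (W b) := Over.homMk (pullback.snd (W a).ι (W b).ι) (by
      show _ ≫ (W b).ι ≫ Y.hom = _ ≫ (W a).ι ≫ Y.hom
      rw [pullback.condition_assoc])
    have hab : ta ≫ opIncl (W a) = tb ≫ opIncl (W b) :=
      Over.OverMorphism.ext pullback.condition
    have := agree T (ta ≫ opIncl (W a)) _ _ (opIncl (V a)) (opIncl (V b))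
      ((H ◁ ta) ≫ d' a) ((H ◁ tb) ≫ d' b) (ta ≫ k' a) (tb ≫ k' b)
      (by rw [Category.assoc, e, whiskerLeft_comp, Category.assoc])
      (by rw [hab, Category.assoc, e, whiskerLeft_comp, Category.assoc])
      ((h a).restrict ta) ((h b).restrict tb)
    have := congrArg (fun z ↦ z.left) this
    simp only [Over.comp_left, Category.assoc] at this
    exact this
  let kl : Y.left ⟶ X.left := 𝒰.glueMorphisms _ hcompat
  have hkl : ∀ y, (W y).ι ≫ kl = (k' y ≫ opIncl (V y)).left :=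
    Scheme.Cover.ι_glueMorphisms 𝒰 _ hcompat
  let k : Y ⟶ X := Over.homMk kl (Scheme.Cover.hom_ext 𝒰 _ _ fun y ↦ by
    show (W y).ι ≫ kl ≫ X.hom = _
    rw [reassoc_of% (hkl y)]
    exact Over.w (k' y ≫ opIncl (V y)))
  have hk : ∀ y, opIncl (W y) ≫ k = k' y ≫ opIncl (V y) := fun y ↦
    Over.OverMorphism.ext (hkl y)
  refine ⟨k, fun Y' _ j A _ p _ d₁ k₁ e₁ h₁ ↦ hom_ext_nhds fun y' ↦ ?_⟩
  let y := j.left.base y'
  obtain ⟨T, hT, hyT, hTW⟩ := exists_isAffineOpen_mem_and_subset (U := j.left ⁻¹ᵁ W y)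
    (show y' ∈ j.left ⁻¹ᵁ W y from hyW y)
  haveI : IsAffine (opObj T).left := hT
  obtain ⟨w, hw⟩ := exists_lift_open (opIncl (W y)) (opIncl T ≫ j) fun z ↦
    (Scheme.Opens.range_ι (W y)).ge (hTW (opIncl_mem z))
  have q := agree _ (opIncl T ≫ j) _ _ p (opIncl (V y)) ((H ◁ opIncl T) ≫ d₁) ((H ◁ w) ≫ d' y)
    (opIncl T ≫ k₁) (w ≫ k' y) (by rw [Category.assoc, e₁, whiskerLeft_comp, Category.assoc])
    (by rw [← hw, Category.assoc, e, whiskerLeft_comp, Category.assoc])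
    (h₁.restrict _) ((h y).restrict w)
  refine ⟨T, hyT, ?_⟩
  rw [← Category.assoc, q, Category.assoc, ← hk, reassoc_of% hw]

omit [GrpObj H] in
lemma th_inv_th [GrpObj H] (a : Y ⟶ H) : Triv.th a⁻¹ ≫ Triv.th a = 𝟙 (H ⊗ Y) := by
  unfold Triv.th
  apply CartesianMonoidalCategory.hom_ext
  · rw [Category.assoc, lift_fst, MonObj.comp_mul, lift_snd_assoc, lift_fst, GrpObj.comp_inv,
      mul_inv_cancel_left, Category.id_comp]
  · rw [Category.assoc, lift_snd, lift_snd, Category.id_comp]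

omit [GrpObj H] in
lemma th_comp' [GrpObj H] (g : Y' ⟶ Y) (a : Y ⟶ H) :
    Triv.th (g ≫ a) ≫ (H ◁ g) = (H ◁ g) ≫ Triv.th a := by
  apply CartesianMonoidalCategory.hom_ext
  · rw [Category.assoc, Category.assoc, whiskerLeft_fst, Triv.th, Triv.th, lift_fst, lift_fst,
      MonObj.comp_mul, whiskerLeft_snd_assoc, whiskerLeft_fst]
  · rw [Category.assoc, Category.assoc, whiskerLeft_snd, Triv.th, Triv.th, lift_snd,
      lift_snd_assoc, whiskerLeft_snd]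

variable {hH : LocTriv H}

lemma IsAvgG.restrict {d : H ⊗ Y ⟶ X} {k : Y ⟶ X} (h : IsAvgG hH d k) (g : Y' ⟶ Y) :
    IsAvgG hH ((H ◁ g) ≫ d) (g ≫ k) := fun T hT j A hA p hp d' k' e h' ↦ by
  rw [← Category.assoc]
  exact h T hT (j ≫ g) A hA p hp d' k' (by rw [e, whiskerLeft_comp, Category.assoc]) h'

lemma isAvgG_const (c : Y ⟶ X) : IsAvgG hH (snd H Y ≫ c) c := fun T _ j A _ p _ d' k' e h' ↦ by
  haveI := mono_of_isOpenImmersion p
  rw [whiskerLeft_snd_assoc] at e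
  have e2 : d' = snd H T ≫ ev1 d' := by
    rw [← cancel_mono p, Category.assoc, ev1, Category.assoc, e, lift_snd_assoc, Category.id_comp]
  have h3 := isAvg_const (hH := hH) (ev1 d')
  have : IsAvg hH d' (ev1 d') := fun f ↦ (h3 f).trans (by rw [← e2])
  rw [h'.unique this, ev1, Category.assoc, e, lift_snd_assoc, Category.id_comp]

lemma IsAvgG.th {d : H ⊗ Y ⟶ X} {k : Y ⟶ X} (h : IsAvgG hH d k) (a : Y ⟶ H) :
    IsAvgG hH (Triv.th a ≫ d) k := fun T hT j A hA p hp d' k' e h' ↦ by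
  refine h T hT j A hA p hp (Triv.th (j ≫ a)⁻¹ ≫ d') k' ?_ (h'.th _)
  rw [Category.assoc, e, ← Category.assoc (H ◁ j), ← th_comp', Category.assoc, ← Category.assoc,
    th_inv_th, Category.id_comp]

variable [IsAffine Y.left] [IsAffine Y₀.left]

lemma IsAvgG.unique (hs : SqZero i₀) {d : H ⊗ Y ⟶ X} (hd : Congr i₀ d) {k k' : Y ⟶ X}
    (h : IsAvgG hH d k) (h' : IsAvgG hH d k') : k = k' := by
  refine hom_ext_nhds fun y ↦ ?_
  obtain ⟨W, hWa, V, hVa, d₁, k₁, hyW, -, e, h₁⟩ := exists_chart hH hs hd y ⊤ trivial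
  exact ⟨W, hyW, (h _ hWa _ _ hVa (opIncl V) inferInstance _ _ e h₁).symm.trans
    (h' _ hWa _ _ hVa (opIncl V) inferInstance _ _ e h₁)⟩

lemma IsAvgG.comp (hs : SqZero i₀) {d : H ⊗ Y ⟶ X} (hd : Congr i₀ d) {k : Y ⟶ X}
    (h : IsAvgG hH d k) (f : X ⟶ X') : IsAvgG hH (d ≫ f) (k ≫ f) := by
  intro T hT j A hA p hp d' k' e h'
  haveI := mono_of_isOpenImmersion p
  obtain ⟨T₀, _, i₁, t, hs₁, -, hc⟩ := exists_restrict_congr (H := H) hs j
  refine hom_ext_nhds fun y ↦ ?_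
  obtain ⟨W, hWa, V, hVa, d₁, k₁, hyW, hVO, e₁, h₁⟩ := exists_chart hH hs₁ (hc d hd) y
    (f.left ⁻¹ᵁ p.left.opensRange) ⟨(ev1 d').left.base y, by
      rw [← Scheme.Hom.comp_apply, ← Scheme.Hom.comp_apply, ← Over.comp_left, ← Over.comp_left,
        ← ev1_comp, e, ← ev1_comp, Category.assoc]⟩
  obtain ⟨r, hr⟩ := exists_lift_open p (opIncl V ≫ f) fun v ↦ hVO (opIncl_mem v)
  have q : k₁ ≫ r = opIncl W ≫ k' := (h₁.comp r).unique (by
    rw [show d₁ ≫ r = (H ◁ opIncl W) ≫ d' by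
      rw [← cancel_mono p, Category.assoc, hr, ← Category.assoc d₁, e₁, Category.assoc,
        Category.assoc, Category.assoc, e]]
    exact h'.restrict _)
  have q' := h _ hWa (opIncl W ≫ j) _ hVa (opIncl V) inferInstance d₁ k₁
    (by rw [e₁, whiskerLeft_comp, Category.assoc]) h₁
  refine ⟨W, hyW, ?_⟩
  rw [← reassoc_of% q, hr, ← Category.assoc k₁, q', Category.assoc, Category.assoc]

lemma IsAvgG.lift (hs : SqZero i₀) {d : H ⊗ Y ⟶ X} {d' : H ⊗ Y ⟶ X'} (hd : Congr i₀ d)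
    (hd' : Congr i₀ d') {k : Y ⟶ X} {k' : Y ⟶ X'} (h : IsAvgG hH d k) (h' : IsAvgG hH d' k') :
    IsAvgG hH (CartesianMonoidalCategory.lift d d') (CartesianMonoidalCategory.lift k k') := by
  obtain ⟨K, hK⟩ := exists_isAvgG hH hs (hd.lift hd')
  have h1 := hK.comp hs (hd.lift hd') (fst X X')
  have h2 := hK.comp hs (hd.lift hd') (snd X X')
  rw [lift_fst] at h1
  rw [lift_snd] at h2
  rwa [← h1.unique hs hd h, ← h2.unique hs hd' h', lift_comp_fst_snd]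

/-- The average of a family congruent to one is congruent to one. -/
lemma IsAvgG.comp_eq_one [GrpObj X] {d : H ⊗ Y ⟶ X} {k : Y ⟶ X} (h : IsAvgG hH d k)
    (hd : (H ◁ i₀) ≫ d = 1) : i₀ ≫ k = 1 := by
  have hid : SqZero (𝟙 Y₀) := ⟨fun x ↦ ⟨x, by simp⟩, le_bot_iff.mp (Ideal.mul_le.mpr fun r hr s _ ↦ by
    have : r = 0 := by simpa using hr
    simp [this])⟩
  have h1 := h.restrict i₀
  rw [hd] at h1
  have h2 : IsAvgG hH (1 : H ⊗ Y₀ ⟶ X) 1 := by
    have := isAvgG_const (hH := hH) (H := H) (1 : Y₀ ⟶ X)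
    rwa [MonObj.comp_one] at this
  exact h1.unique hid (congr_of_eq_one (by rw [MonObj.comp_one])) h2

set_option maxHeartbeats 1000000 in
/-- Homomorphisms into an arbitrary group agreeing modulo an ideal of square zero are conjugate. -/
theorem exists_conjG {G : Over S} [GrpObj G] (hH : LocTriv H) (hs : SqZero i₀)
    (u v : H ⊗ Y ⟶ G) (hu : IsHomFam u) (hv : IsHomFam v)
    (h0 : (H ◁ i₀) ≫ u = (H ◁ i₀) ≫ v) :
    ∃ k : Y ⟶ G, i₀ ≫ k = 1 ∧ v = (snd H Y ≫ k) * u * (snd H Y ≫ k)⁻¹ := by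
  let d : H ⊗ Y ⟶ G := v * u⁻¹
  have hd0 : (H ◁ i₀) ≫ d = 1 := by
    rw [MonObj.comp_mul, GrpObj.comp_inv, h0, mul_inv_cancel]
  have hd : Congr i₀ d := congr_of_eq_one hd0
  obtain ⟨k, hk⟩ := exists_isAvgG hH hs hd
  refine ⟨k, hk.comp_eq_one hd0, ?_⟩
  haveI := isAffine_prod hH.1 Y
  let g : H ⊗ Y ⟶ Y := snd H Y
  let d' : H ⊗ (H ⊗ Y) ⟶ G := (H ◁ g) ≫ d
  obtain ⟨P₀, _, i₁, t, hs₁, -, hc⟩ := exists_restrict_congr (H := H) hs g
  have hd' : Congr i₁ d' := hc d hd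
  let k' : H ⊗ Y ⟶ G := g ≫ k
  have hk' : IsAvgG hH d' k' := hk.restrict g
  let b : G ⊗ (H ⊗ Y) ⟶ G := snd G (H ⊗ Y) ≫ u
  let ψ : G ⊗ (H ⊗ Y) ⟶ G := (snd G (H ⊗ Y) ≫ d) * b * fst G (H ⊗ Y) * b⁻¹
  have key : ∀ (Z : Over S) (p q : Z ⟶ H) (y : Z ⟶ Y),
      (lift p y ≫ d) * (lift p y ≫ u) * (lift q y ≫ d) * (lift p y ≫ u)⁻¹ =
        lift (p * q) y ≫ d := fun Z p q y ↦ by
    simp only [d, MonObj.comp_mul, GrpObj.comp_inv, hu Z p q y, hv Z p q y]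
    group
  have hcocycle : lift d' (snd H (H ⊗ Y)) ≫ ψ = Triv.th (fst H Y) ≫ d' := by
    let p : H ⊗ (H ⊗ Y) ⟶ H := snd H (H ⊗ Y) ≫ fst H Y
    let q : H ⊗ (H ⊗ Y) ⟶ H := fst H (H ⊗ Y)
    let y : H ⊗ (H ⊗ Y) ⟶ Y := snd H (H ⊗ Y) ≫ g
    have e1 : lift p y = snd H (H ⊗ Y) := by ext1 <;> simp [p, y, g]
    have e2 : lift q y = H ◁ g := by ext1 <;> simp [q, y]
    have e3 : lift (p * q) y = Triv.th (fst H Y) ≫ H ◁ g := by
      rw [Triv.th, lift_whiskerLeft]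
    have e := key _ p q y
    rw [e1, e2, e3, Category.assoc] at e
    rw [MonObj.comp_mul, MonObj.comp_mul, MonObj.comp_mul, GrpObj.comp_inv, lift_fst,
      lift_snd_assoc, lift_snd_assoc]
    exact e
  have hc2 : Congr i₁ (snd H (H ⊗ Y)) := by
    simpa using Congr.const (H := H) (i₀ := i₁) (𝟙 (H ⊗ Y))
  have hid : IsAvgG hH (snd H (H ⊗ Y)) (𝟙 (H ⊗ Y)) := by
    simpa using isAvgG_const (hH := hH) (H := H) (𝟙 (H ⊗ Y))
  have hΦ := hd'.lift hc2
  have h1 := (hk'.lift hs₁ hd' hc2 hid).comp hs₁ hΦ ψ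
  rw [hcocycle] at h1
  have h2 := h1.unique hs₁ (hcocycle ▸ hΦ.comp ψ) (hk'.th (fst H Y))
  simp only [ψ, b, MonObj.comp_mul, GrpObj.comp_inv, lift_fst, lift_snd_assoc, Category.id_comp,
    d, inv_mul_cancel_right] at h2
  calc v = (v * k' * u⁻¹) * u * k'⁻¹ := by group
    _ = k' * u * k'⁻¹ := by rw [h2]

end Groth.Reductive.MTInt
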