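import Groth.Agent.Reductive.MTRigid
import Groth.Agent.Reductive.MTConjLocal

/-!
Infinitesimal lifting, along nilpotent ideals, of points conjugating homomorphisms and subgroups of
multiplicative type of a smooth group, which need not be affine.
-/

set_option autoImplicit false
universe u

open CategoryTheory MonoidalCategory CartesianMonoidalCategory MonObj AlgebraicGeometry Limits

noncomputable section

namespace Groth.Reductive.MTInt

variable {S : Scheme.{u}} {G H H₁ H₂ K : Over S} [GrpObj G] [GrpObj H] [GrpObj H₁] [GrpObj H₂]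
  [GrpObj K] {Y Y₀ : Over S}

attribute [local irreducible] L

omit [GrpObj G] [GrpObj H] [GrpObj H₁] [GrpObj H₂] [GrpObj K] in
/-- Smooth schemes have the infinitesimal lifting property. -/
theorem exists_lift_smooth {X : Over S} (hX : Smooth X.hom) [IsAffine Y.left] [IsAffine Y₀.left]
    {i₀ : Y₀ ⟶ Y} (hs : SqZero i₀) (g₀ : Y₀ ⟶ X) : ∃ g : Y ⟶ X, i₀ ≫ g = g₀ := by
  haveI := hX
  let A := Γ(Y.left, ⊤)
  let I : Ideal A := RingHom.ker i₀.left.appTop.hom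
  let E : A ⧸ I ≃+* Γ(Y₀.left, ⊤) := RingHom.quotientKerEquivOfSurjective hs.surj
  let eC : CommRingCat.of (A ⧸ I) ≅ Γ(Y₀.left, ⊤) := E.toCommRingCatIso
  have hfac : CommRingCat.ofHom (Ideal.Quotient.mk I) ≫ eC.hom = i₀.left.appTop :=
    CommRingCat.hom_ext (RingHom.ext fun x ↦
      RingHom.quotientKerEquivOfSurjective_apply_mk hs.surj x)
  let a : Spec (CommRingCat.of (A ⧸ I)) ⟶ X.left :=
    Spec.map eC.inv ≫ Y₀.left.isoSpec.inv ≫ g₀.left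
  let b : Spec (CommRingCat.of A) ⟶ S := Y.left.isoSpec.inv ≫ Y.hom
  have hnat : Spec.map i₀.left.appTop ≫ Y.left.isoSpec.inv = Y₀.left.isoSpec.inv ≫ i₀.left :=
    Scheme.isoSpec_inv_naturality i₀.left
  have hq : Spec.map (CommRingCat.ofHom (Ideal.Quotient.mk I)) =
      Spec.map eC.inv ≫ Spec.map i₀.left.appTop := by
    rw [← Spec.map_comp, ← hfac, Category.assoc, Iso.hom_inv_id, Category.comp_id]
  obtain ⟨l, hl1, hl2⟩ := isFormallySmoothHom_of_smooth' X.hom A I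
    (by rw [pow_two]; exact hs.sq) a b (by
      simp only [a, b, hq, Category.assoc]
      rw [reassoc_of% hnat, Over.w, Over.w])
  refine ⟨Over.homMk (Y.left.isoSpec.hom ≫ l) ?_, Over.OverMorphism.ext ?_⟩
  · rw [Category.assoc, hl2]
    simp [b]
  · simp only [hq, a, Category.assoc] at hl1
    rw [cancel_epi] at hl1
    show i₀.left ≫ Y.left.isoSpec.hom ≫ l = g₀.left
    rw [← Scheme.isoSpec_hom_naturality_assoc, hl1, Iso.hom_inv_id_assoc]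

omit [GrpObj G] [GrpObj H] [GrpObj H₁] [GrpObj H₂] [GrpObj K] in
lemma sqZero_spec {A B : CommRingCat.{u}} (f : A ⟶ B) (hf : Function.Surjective f)
    (hk : RingHom.ker f.hom * RingHom.ker f.hom = ⊥) {bB : Spec B ⟶ S} {bA : Spec A ⟶ S}
    (i₀ : Over.mk bB ⟶ Over.mk bA) (hi : i₀.left = Spec.map f) : SqZero i₀ := by
  have happ : ∀ x, i₀.left.appTop ((Scheme.ΓSpecIso A).inv x) =
      (Scheme.ΓSpecIso B).inv (f x) := fun x ↦ by
    rw [hi]
    exact (ConcreteCategory.congr_hom (Scheme.ΓSpecIso_inv_naturality f) x).symm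
  have hA := ConcreteCategory.bijective_of_isIso (Scheme.ΓSpecIso A).inv
  have hB := ConcreteCategory.bijective_of_isIso (Scheme.ΓSpecIso B).inv
  constructor
  · intro z
    obtain ⟨z', rfl⟩ := hB.2 z
    obtain ⟨x, rfl⟩ := hf z'
    exact ⟨_, happ x⟩
  · refine le_bot_iff.mp (Ideal.mul_le.mpr fun r hr r' hr' ↦ ?_)
    obtain ⟨x, rfl⟩ := hA.2 r
    obtain ⟨x', rfl⟩ := hA.2 r'
    have hmem : ∀ y, i₀.left.appTop ((Scheme.ΓSpecIso A).inv y) = 0 → y ∈ RingHom.ker f.hom := by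
      intro y hy
      rw [happ, ← map_zero ((Scheme.ΓSpecIso B).inv).hom] at hy
      exact hB.1 hy
    have hxx : x * x' = 0 :=
      Ideal.mem_bot.mp (hk ▸ Ideal.mul_mem_mul (hmem x hr) (hmem x' hr'))
    rw [← map_mul, hxx, map_zero]
    exact Ideal.zero_mem _

/-- A property of points which lifts along ideals of square zero lifts along nilpotent ideals. -/
theorem exists_lift_nilpotent {R : Type u} [CommRing R] {X : Over (Spec (CommRingCat.of R))}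
    (P : ∀ {Y : Over (Spec (CommRingCat.of R))}, (Y ⟶ X) → Prop)
    (hstep : ∀ (Y₀ Y : Over (Spec (CommRingCat.of R))) [IsAffine Y₀.left] [IsAffine Y.left]
      (i₀ : Y₀ ⟶ Y), SqZero i₀ → ∀ g₀ : Y₀ ⟶ X, P g₀ → ∃ g : Y ⟶ X, i₀ ≫ g = g₀ ∧ P g)
    (J : Ideal R) (hJ : IsNilpotent J)
    (g₀ : (Over.mk (Spec.map (CommRingCat.ofHom (Ideal.Quotient.mk J))) :
      Over (Spec (CommRingCat.of R))) ⟶ X) (h₀ : P g₀) :
    ∃ g : 𝟙_ (Over (Spec (CommRingCat.of R))) ⟶ X,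
      toUnit (Over.mk (Spec.map (CommRingCat.ofHom (Ideal.Quotient.mk J))) :
        Over (Spec (CommRingCat.of R))) ≫ g = g₀ ∧ P g := by
  haveI hOb : ∀ I : Ideal R, IsAffine (Over.mk (Spec.map (CommRingCat.ofHom (Ideal.Quotient.mk I))) :
      Over (Spec (CommRingCat.of R))).left := fun I ↦ inferInstanceAs (IsAffine (Spec _))
  obtain ⟨n, hn⟩ := hJ
  have hn' : J ^ 2 ^ n = ⊥ := le_bot_iff.mp ((Ideal.pow_le_pow_right n.lt_two_pow_self.le).trans hn.le)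
  clear hn
  induction n generalizing J with
  | zero =>
    rw [pow_zero, pow_one] at hn'
    exact hstep _ _ _ (sqZero_quotient J (by rw [hn', pow_two, Ideal.bot_mul])) g₀ h₀
  | succ n ih =>
    let T : Ideal R := J ^ 2
    have hTJ : T ≤ J := Ideal.pow_le_self two_ne_zero
    let f : CommRingCat.of (R ⧸ T) ⟶ CommRingCat.of (R ⧸ J) :=
      CommRingCat.ofHom (Ideal.Quotient.factor hTJ)
    let i : (Over.mk (Spec.map (CommRingCat.ofHom (Ideal.Quotient.mk J))) :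
        Over (Spec (CommRingCat.of R))) ⟶ Over.mk (Spec.map (CommRingCat.ofHom (Ideal.Quotient.mk T))) :=
      Over.homMk (Spec.map f) (by
        show Spec.map f ≫ Spec.map _ = Spec.map _
        rw [← Spec.map_comp]
        rfl)
    have hi : SqZero i := by
      refine sqZero_spec f (Ideal.Quotient.factor_surjective hTJ) ?_ i rfl
      refine le_bot_iff.mp (Ideal.mul_le.mpr fun r hr r' hr' ↦ ?_)
      obtain ⟨x, rfl⟩ := Ideal.Quotient.mk_surjective r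
      obtain ⟨x', rfl⟩ := Ideal.Quotient.mk_surjective r'
      rw [Ideal.mem_bot, ← map_mul, Ideal.Quotient.eq_zero_iff_mem]
      show x * x' ∈ J ^ 2
      rw [pow_two]
      exact Ideal.mul_mem_mul (Ideal.Quotient.eq_zero_iff_mem.mp hr)
        (Ideal.Quotient.eq_zero_iff_mem.mp hr')
    obtain ⟨g₁, hg₁, h₁⟩ := hstep _ _ i hi g₀ h₀
    obtain ⟨g, hg, hP⟩ := ih T g₁ h₁ (by rw [← pow_mul, ← pow_succ']; exact hn')
    refine ⟨g, ?_, hP⟩
    rw [← hg₁, ← hg, ← Category.assoc]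
    congr 1
    exact toUnit_unique _ _

omit [GrpObj G] [GrpObj H₁] [GrpObj H₂] [GrpObj K] in
/-- Locally trivial groups are commutative. -/
theorem comm_of_locTriv (hH : LocTriv H) (X : Over S) (a b : X ⟶ H) : a * b = b * a := by
  refine hom_ext_nhds fun x ↦ ?_
  obtain ⟨W, hW, hxW, -⟩ := exists_isAffineOpen_mem_and_subset (U := (⊤ : X.left.Opens))
    (show x ∈ (⊤ : X.left.Opens) from trivial)
  haveI : IsAffine (opObj W).left := hW
  refine ⟨W, hxW, ?_⟩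
  rw [MonObj.comp_mul, MonObj.comp_mul]
  obtain ⟨c, hc⟩ := hH.2 (opObj W) inferInstance
  refine c.hom_ext hH.1 fun i ↦ ?_
  obtain ⟨τ⟩ := hc i
  rw [MonObj.comp_mul, MonObj.comp_mul]
  exact τ.mul_comm_of (𝟙 _) _ _

/-- Congruences restrict along compatible maps. -/
lemma Congr.restrict_of {X : Over S} {Y' Y₁ : Over S} {i₀ : Y₀ ⟶ Y} {d : H ⊗ Y ⟶ X}
    (hd : Congr i₀ d) {i₁ : Y₁ ⟶ Y'} {j : Y' ⟶ Y} {t : Y₁ ⟶ Y₀} (w : t ≫ i₀ = i₁ ≫ j) :
    Congr i₁ ((H ◁ j) ≫ d) := by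
  unfold Congr at hd ⊢
  rw [ev1_whisker, ← reassoc_of% w, ← Category.assoc, ← whiskerLeft_comp, ← w, whiskerLeft_comp,
    Category.assoc, hd, whiskerLeft_snd_assoc]

omit [GrpObj G] [GrpObj H₁] [GrpObj H₂] [GrpObj K] in
lemma sqZero_whisker (hH : LocTriv H) [IsAffine Y.left] [IsAffine Y₀.left] {i₀ : Y₀ ⟶ Y}
    (hs : SqZero i₀) : SqZero (H ◁ i₀) := by
  constructor
  · intro a
    refine RingHom.mem_range.mp (AY_generated hH.1 i₀ (gA H i₀).range (fun r ↦ ?_)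
      (fun b ↦ ⟨b, rfl⟩) a)
    obtain ⟨r', rfl⟩ := hs.surj r
    exact ⟨sY H Y r', gA_sY i₀ r'⟩
  · refine le_bot_iff.mp (Ideal.mul_le.mpr fun a ha b hb ↦ ?_)
    rw [Ideal.mem_bot]
    exact mul_eq_zero_of_mem_map hs.sq (ker_gA_le hH.1 i₀ hs.surj ha)
      (ker_gA_le hH.1 i₀ hs.surj hb)

omit [GrpObj G] [GrpObj H₁] [GrpObj H₂] in
set_option maxHeartbeats 1000000 in
/-- Homomorphisms into smooth groups lift along ideals of square zero. -/
theorem exists_homFam_lift_smooth (hH : LocTriv H) (hK : Smooth K.hom) [IsAffine Y.left]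
    [IsAffine Y₀.left] {i₀ : Y₀ ⟶ Y} (hs : SqZero i₀) (φ₀ : H ⊗ Y₀ ⟶ K) (hφ₀ : IsHomFam φ₀) :
    ∃ φ : H ⊗ Y ⟶ K, IsHomFam φ ∧ (H ◁ i₀) ≫ φ = φ₀ := by
  haveI := isAffine_prod hH.1 Y
  haveI := isAffine_prod hH.1 Y₀
  obtain ⟨φ', hφ'⟩ := exists_lift_smooth hK (sqZero_whisker hH hs) φ₀
  let d : H ⊗ (H ⊗ Y) ⟶ K :=
    (lift ((snd H (H ⊗ Y) ≫ fst H Y) * fst H (H ⊗ Y)) (snd H (H ⊗ Y) ≫ snd H Y) ≫ φ') *
      (lift (fst H (H ⊗ Y)) (snd H (H ⊗ Y) ≫ snd H Y) ≫ φ')⁻¹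
  have hval : ∀ (Z : Over S) (x a : Z ⟶ H) (y : Z ⟶ Y),
      lift x (lift a y) ≫ d = (lift (a * x) y ≫ φ') * (lift x y ≫ φ')⁻¹ := fun Z x a y ↦ by
    simp only [d, MonObj.comp_mul, GrpObj.comp_inv, comp_lift_assoc, lift_snd_assoc, lift_fst,
      lift_snd]
  have hw : ∀ (Z : Over S) (x : Z ⟶ H) (y : Z ⟶ Y₀), lift x (y ≫ i₀) ≫ φ' = lift x y ≫ φ₀ :=
    fun Z x y ↦ by rw [← hφ', lift_whiskerLeft_assoc]
  have hmod : (H ◁ (H ◁ i₀)) ≫ d = snd H (H ⊗ Y₀) ≫ φ₀ := by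
    have e : (H ◁ (H ◁ i₀)) = lift (fst H (H ⊗ Y₀))
        (lift (snd _ _ ≫ fst H Y₀) ((snd _ _ ≫ snd H Y₀) ≫ i₀)) := by
      apply CartesianMonoidalCategory.hom_ext
      · simp
      · rw [whiskerLeft_snd, lift_snd]
        ext1 <;> simp
    rw [e, hval, hw, hw, hφ₀, mul_inv_cancel_right]
    congr 1
    ext1 <;> simp
  have hd : Congr (H ◁ i₀) d := by
    unfold Congr
    rw [hmod]
    congr 1
    rw [← ev1_whisker, ev1, hmod, lift_snd_assoc, Category.id_comp]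
  obtain ⟨φ, hφ⟩ := exists_isAvgG hH (sqZero_whisker hH hs) hd
  refine ⟨φ, fun Z a b y ↦ ?_, ?_⟩
  · let P : Over S := H ⊗ (H ⊗ Y)
    let P₀ : Over S := H ⊗ (H ⊗ Y₀)
    haveI : IsAffine P.left := isAffine_prod hH.1 _
    haveI : IsAffine P₀.left := isAffine_prod hH.1 _
    let iP : P₀ ⟶ P := H ◁ (H ◁ i₀)
    have hsP : SqZero iP := sqZero_whisker hH (sqZero_whisker hH hs)
    let p : P ⟶ H := fst H (H ⊗ Y)
    let q : P ⟶ H := snd H (H ⊗ Y) ≫ fst H Y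
    let y' : P ⟶ Y := snd H (H ⊗ Y) ≫ snd H Y
    let y₀ : P₀ ⟶ Y₀ := snd H (H ⊗ Y₀) ≫ snd H Y₀
    have hy : iP ≫ y' = y₀ ≫ i₀ := by simp [iP, y', y₀]
    have hc : ∀ a : P ⟶ H, Congr iP ((H ◁ lift a y') ≫ d) := fun a ↦
      hd.restrict_of (t := lift (iP ≫ a) y₀) (by rw [lift_whiskerLeft, comp_lift, hy])
    have h1 := (hφ.restrict (lift p y')).th q
    have h2 := hφ.restrict (lift q y')
    have hc1 : Congr iP (Triv.th q ≫ (H ◁ lift p y') ≫ d) := by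
      have e : Triv.th q = lift ((snd H P ≫ q) * fst H P) (snd H P) := rfl
      unfold Congr
      have key : ∀ {Z : Over S} (z : Z ⟶ H ⊗ P₀),
          z ≫ (H ◁ iP) ≫ Triv.th q ≫ (H ◁ lift p y') ≫ d =
            lift (z ≫ snd H P₀ ≫ iP ≫ p) (z ≫ snd H P₀ ≫ y₀) ≫ φ₀ := fun {Z} z ↦ by
        have hz : z ≫ (H ◁ iP) ≫ Triv.th q ≫ (H ◁ lift p y') = lift
            ((z ≫ snd H P₀ ≫ iP ≫ q) * (z ≫ fst H P₀))
            (lift (z ≫ snd H P₀ ≫ iP ≫ p) ((z ≫ snd H P₀ ≫ y₀) ≫ i₀)) := by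
          apply CartesianMonoidalCategory.hom_ext
          · simp [e, MonObj.comp_mul]
          · simp only [e, Category.assoc, whiskerLeft_snd, lift_snd_assoc, lift_snd,
              whiskerLeft_snd_assoc, comp_lift, hy]
        rw [show z ≫ (H ◁ iP) ≫ Triv.th q ≫ (H ◁ lift p y') ≫ d =
          (z ≫ (H ◁ iP) ≫ Triv.th q ≫ (H ◁ lift p y')) ≫ d by simp only [Category.assoc],
          hz, hval, hw, hw, hφ₀, mul_inv_cancel_right]
      have l := key (𝟙 _)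
      simp only [Category.id_comp] at l
      rw [l, show iP ≫ ev1 (Triv.th q ≫ (H ◁ lift p y') ≫ d) =
        lift (1 : P₀ ⟶ H) (𝟙 P₀) ≫ (H ◁ iP) ≫ Triv.th q ≫ (H ◁ lift p y') ≫ d by
          rw [← ev1_whisker], key, lift_snd_assoc, lift_snd_assoc, Category.id_comp,
        Category.id_comp]
      simp only [comp_lift_assoc, Category.assoc]
    have hc2 := hc q
    have h3 := (h1.lift hsP hc1 hc2 h2).comp hsP (hc1.lift hc2) MonObj.mul
    rw [← Hom.mul_def, ← Hom.mul_def] at h3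
    have hfam : (Triv.th q ≫ (H ◁ lift p y') ≫ d) * ((H ◁ lift q y') ≫ d) =
        (H ◁ lift (p * q) y') ≫ d := by
      have e1 : Triv.th q ≫ (H ◁ lift p y') = lift ((snd H P ≫ q) * fst H P)
          (lift (snd H P ≫ p) (snd H P ≫ y')) := by
        rw [Triv.th, lift_whiskerLeft, comp_lift]
      have e2 : ∀ a : P ⟶ H, (H ◁ lift a y') = lift (fst H P)
          (lift (snd H P ≫ a) (snd H P ≫ y')) := fun a ↦ by
        apply CartesianMonoidalCategory.hom_ext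
        · simp
        · simp [comp_lift]
      rw [reassoc_of% e1, e2 q, e2 (p * q), hval, hval, hval, MonObj.comp_mul, _root_.mul_assoc]
      group
    rw [hfam] at h3
    have h4 := (hφ.restrict (lift (p * q) y')).unique hsP (hc _) h3
    have e := congrArg (fun z ↦ lift a (lift b y) ≫ z) h4
    simp only [MonObj.comp_mul, p, q, y', comp_lift_assoc, lift_fst, lift_snd,
      lift_fst_assoc, lift_snd_assoc] at e
    simpa [MonObj.comp_mul] using e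
  · haveI := isAffine_prod hH.1 (H ⊗ Y)
    have h1 := hφ.restrict (H ◁ i₀)
    rw [hmod] at h1
    have hid : SqZero (𝟙 (H ⊗ Y₀)) := ⟨fun x ↦ ⟨x, by simp⟩,
      le_bot_iff.mp (Ideal.mul_le.mpr fun r hr s _ ↦ by
        have : r = 0 := by simpa using hr
        simp [this])⟩
    exact h1.unique hid (Congr.const φ₀) (isAvgG_const φ₀)

/-- Infinitesimal lifting of points conjugating one homomorphism into another. -/
theorem exists_lift_conjG (hH : LocTriv H) (hG : Smooth G.hom) [IsAffine Y.left] [IsAffine Y₀.left]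
    (u₁ u₂ : H ⟶ G) [IsMonHom u₁] [IsMonHom u₂] {i₀ : Y₀ ⟶ Y} (hs : SqZero i₀) (g₀ : Y₀ ⟶ G)
    (h0 : Agree (conjFam u₁) (fst H G ≫ u₂) g₀) :
    ∃ g : Y ⟶ G, i₀ ≫ g = g₀ ∧ Agree (conjFam u₁) (fst H G ≫ u₂) g := by
  obtain ⟨g, hg⟩ := exists_lift_smooth hG hs g₀
  unfold Agree at h0 ⊢
  rw [whisker_conjFam, whiskerLeft_fst_assoc] at h0
  obtain ⟨k, hk0, hk⟩ := exists_conjG hH hs ((H ◁ g) ≫ conjFam u₁) (fst H Y ≫ u₂)
    (isHomFam_conj u₁ g) (isHomFam_fst u₂ Y) (by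
      rw [← Category.assoc, ← whiskerLeft_comp, hg, whisker_conjFam, h0, whiskerLeft_fst_assoc])
  refine ⟨k * g, by rw [MonObj.comp_mul, hk0, _root_.one_mul, hg], ?_⟩
  rw [whiskerLeft_fst_assoc, hk, whisker_conjFam, whisker_conjFam, MonObj.comp_mul]
  group

/-- Correction of a lift so that it transports a homomorphism into a subgroup. -/
theorem exists_conj_factors (hH : LocTriv H) [IsAffine Y.left] [IsAffine Y₀.left]
    (i₁ : H ⟶ G) [IsMonHom i₁] (i₂ : K ⟶ G) [IsMonHom i₂] {i₀ : Y₀ ⟶ Y} (hs : SqZero i₀)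
    (g : Y ⟶ G) (φ₀ : H ⊗ Y₀ ⟶ K) (hφ₀ : φ₀ ≫ i₂ = (H ◁ (i₀ ≫ g)) ≫ conjFam i₁)
    (φ : H ⊗ Y ⟶ K) (hφ : IsHomFam φ) (hφ0 : (H ◁ i₀) ≫ φ = φ₀) :
    ∃ g' : Y ⟶ G, i₀ ≫ g' = i₀ ≫ g ∧ φ ≫ i₂ = (H ◁ g') ≫ conjFam i₁ := by
  have hv : IsHomFam (φ ≫ i₂) := fun Z a b y ↦ by
    rw [← Category.assoc, hφ, MonObj.mul_comp, Category.assoc, Category.assoc]
  obtain ⟨k, hk0, hk⟩ := exists_conjG hH hs ((H ◁ g) ≫ conjFam i₁) (φ ≫ i₂)
    (isHomFam_conj i₁ g) hv (by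
      rw [← Category.assoc, ← whiskerLeft_comp, ← hφ₀, ← hφ0, Category.assoc])
  refine ⟨k * g, by rw [MonObj.comp_mul, hk0, _root_.one_mul], ?_⟩
  rw [hk, whisker_conjFam, whisker_conjFam, MonObj.comp_mul]
  group

/-- Lifting a point transporting a group of multiplicative type into a subgroup which is smooth
or of multiplicative type. -/
theorem exists_lift_transporterG (hH : LocTriv H) (hG : Smooth G.hom)
    (i₁ : H ⟶ G) [IsMonHom i₁] (i₂ : K ⟶ G) [IsMonHom i₂] [Mono i₂]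
    (hK : Smooth K.hom ∨ LocTriv K) [IsAffine Y.left] [IsAffine Y₀.left] {i₀ : Y₀ ⟶ Y}
    (hs : SqZero i₀) (g₀ : Y₀ ⟶ G) (h0 : Factors i₂ (conjFam i₁) g₀) :
    ∃ g : Y ⟶ G, i₀ ≫ g = g₀ ∧ Factors i₂ (conjFam i₁) g := by
  obtain ⟨g, hg⟩ := exists_lift_smooth hG hs g₀
  subst hg
  obtain ⟨φ₀, hφ₀⟩ := h0
  have hφ₀h : IsHomFam φ₀ := isHomFam_of_comp i₂ (by rw [hφ₀]; exact isHomFam_conj i₁ _)
  obtain ⟨φ, hφ, hφ0⟩ : ∃ φ : H ⊗ Y ⟶ K, IsHomFam φ ∧ (H ◁ i₀) ≫ φ = φ₀ := by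
    rcases hK with hK | hK
    · exact exists_homFam_lift_smooth hH hK hs φ₀ hφ₀h
    · exact exists_homFam_lift hH hK (comm_of_locTriv hK) i₀ hs.surj hs.sq φ₀ hφ₀h
  obtain ⟨g', hg', hconj⟩ := exists_conj_factors hH i₁ i₂ hs g φ₀ hφ₀ φ hφ hφ0
  exact ⟨g', hg', φ, hconj⟩

/-- Lifting a point transporting one subgroup of multiplicative type onto another. -/
theorem exists_lift_subTransporterG (hH₁ : LocTriv H₁) (hH₂ : LocTriv H₂)
    (i₁ : H₁ ⟶ G) [IsMonHom i₁] [Mono i₁] (i₂ : H₂ ⟶ G) [IsMonHom i₂] [Mono i₂]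
    [IsAffine Y.left] [IsAffine Y₀.left] {i₀ : Y₀ ⟶ Y} (hs : SqZero i₀) (g : Y ⟶ G)
    (h0 : Factors i₂ (conjFam i₁) (i₀ ≫ g)) (h1 : Factors i₁ (conjFamInv i₂) (i₀ ≫ g)) :
    ∃ g' : Y ⟶ G, i₀ ≫ g' = i₀ ≫ g ∧ Factors i₂ (conjFam i₁) g' ∧
      Factors i₁ (conjFamInv i₂) g' := by
  obtain ⟨φ₀, hφ₀⟩ := h0
  obtain ⟨ψ₀, hψ₀⟩ := h1
  have hφ₀h : IsHomFam φ₀ := isHomFam_of_comp i₂ (by rw [hφ₀]; exact isHomFam_conj i₁ _)
  have hψ₀h : IsHomFam ψ₀ := isHomFam_of_comp i₁ (by rw [hψ₀]; exact isHomFam_conjInv i₂ _)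
  obtain ⟨φ, hφ, hφ0⟩ :=
    exists_homFam_lift hH₁ hH₂ (comm_of_locTriv hH₂) i₀ hs.surj hs.sq φ₀ hφ₀h
  obtain ⟨g', hg', hconj⟩ := exists_conj_factors hH₁ i₁ i₂ hs g φ₀ hφ₀ φ hφ hφ0
  obtain ⟨ψ, hψ, hψ0⟩ :=
    exists_homFam_lift hH₂ hH₁ (comm_of_locTriv hH₁) i₀ hs.surj hs.sq ψ₀ hψ₀h
  refine ⟨g', hg', ⟨φ, hconj⟩, ψ, ?_⟩
  let comp : H₂ ⊗ Y ⟶ H₂ := lift ψ (snd H₂ Y) ≫ φ
  have hcomp : IsHomFam comp := fun Z a b y ↦ by
    simp only [comp, comp_lift_assoc, lift_snd]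
    rw [hψ]
    exact hφ Z _ _ y
  have e : comp = fst H₂ Y := by
    refine homFam_ext hH₂ hH₂ (comm_of_locTriv hH₂) i₀ hs.surj hs.sq hcomp
      (fun Z a b y ↦ by rw [lift_fst, lift_fst, lift_fst]) ?_
    rw [← cancel_mono i₂]
    simp only [comp, Category.assoc, hconj, whisker_conjFam]
    simp only [MonObj.comp_mul, GrpObj.comp_inv, whiskerLeft_fst_assoc, whiskerLeft_snd_assoc,
      lift_fst_assoc, lift_snd_assoc]
    rw [← Category.assoc (H₂ ◁ i₀) ψ, hψ0, hψ₀, whisker_conjFamInv, hg']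
    group
  have e' := congrArg (fun z ↦ z ≫ i₂) e
  simp only [comp, Category.assoc, hconj, whisker_conjFam] at e'
  simp only [MonObj.comp_mul, GrpObj.comp_inv, lift_fst_assoc, lift_snd_assoc] at e'
  rw [whisker_conjFamInv, ← e']
  group

/-- Conjugacy from factorisations over the unit. -/
theorem conjBy_of_factors (i₁ : H₁ ⟶ G) [Mono i₁] (i₂ : H₂ ⟶ G) [Mono i₂] (g : 𝟙_ (Over S) ⟶ G)
    (h1 : Factors i₂ (conjFam i₁) g) (h2 : Factors i₁ (conjFamInv i₂) g) :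
    SGA3x.ConjBy i₁ i₂ g := by
  rw [factors_conj_iff] at h1
  rw [factors_conjInv_iff] at h2
  obtain ⟨φ, hφ⟩ := h1 _ (toUnit H₁) (𝟙 _)
  obtain ⟨ψ, hψ⟩ := h2 _ (toUnit H₂) (𝟙 _)
  rw [Category.id_comp] at hφ hψ
  have t₁ : φ ≫ toUnit H₂ = toUnit _ := toUnit_unique _ _
  have t₂ : ψ ≫ toUnit H₁ = toUnit _ := toUnit_unique _ _
  refine ⟨⟨φ, ψ, ?_, ?_⟩, hφ⟩
  · rw [← cancel_mono i₁, Category.assoc, ← hψ, Category.id_comp,
      MonObj.comp_mul, MonObj.comp_mul, GrpObj.comp_inv, ← Category.assoc φ (toUnit _), t₁, ← hφ]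
    group
  · rw [← cancel_mono i₂, Category.assoc, ← hφ, Category.id_comp,
      MonObj.comp_mul, MonObj.comp_mul, GrpObj.comp_inv, ← Category.assoc ψ (toUnit _), t₂, ← hψ]
    group

end Groth.Reductive.MTInt
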