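import Mathlib

/-!
The group algebra is free over the algebra of a subgroup.
-/

set_option autoImplicit false
universe u v w

open MonoidAlgebra

noncomputable section

namespace Groth.Reductive.GroupAlgFF

variable {B : Type u} [CommRing B] {H : Type v} {G : Type w} [CommGroup H] [CommGroup G]

/-- An injective homomorphism of commutative groups gives a free, hence faithfully flat, map of group
algebras. -/
theorem faithfullyFlat_mapDomain (f : H →* G) (hf : Function.Injective f) :
    (mapDomainRingHom B f).FaithfullyFlat := by
  classical
  letI : Algebra (MonoidAlgebra B H) (MonoidAlgebra B G) := (mapDomainRingHom B f).toAlgebra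
  show Module.FaithfullyFlat (MonoidAlgebra B H) (MonoidAlgebra B G)
  have halg : ∀ x : MonoidAlgebra B H, algebraMap (MonoidAlgebra B H) (MonoidAlgebra B G) x =
      mapDomain f x := fun _ ↦ rfl
  let b : G ⧸ f.range → MonoidAlgebra B G := fun q ↦ single q.out 1
  let L := Finsupp.linearCombination (MonoidAlgebra B H) b
  have hcoeff : ∀ x q h, (L x).coeff ((q : G ⧸ f.range).out * f h) = (x q).coeff h := by
    intro x q h
    rw [Finsupp.linearCombination_apply, Finsupp.sum, coeff_sum, Finset.sum_apply']
    have hterm : ∀ q', ((x q') • b q').coeff (q.out * f h) = if q' = q then (x q').coeff h else 0 := by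
      intro q'
      have e : q.out * f h = q'.out * (q'.out⁻¹ * (q.out * f h)) := (mul_inv_cancel_left _ _).symm
      rw [Algebra.smul_def, halg, mul_comm, e, coeff_single_mul_apply]
      rw [← mul_assoc q'.out⁻¹ q'.out, inv_mul_cancel, one_mul, one_mul, coeff_mapDomain]
      by_cases hq : q' = q
      · subst hq
        rw [if_pos rfl, inv_mul_cancel_left, Finsupp.mapDomain_apply hf]
      · rw [if_neg hq, Finsupp.mapDomain_notin_range]
        rintro ⟨h', hh'⟩
        apply hq
        rw [← QuotientGroup.out_eq' q', ← QuotientGroup.out_eq' q, QuotientGroup.eq]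
        refine ⟨h' * h⁻¹, ?_⟩
        rw [map_mul, map_inv, hh']
        group
    rw [Finset.sum_congr rfl fun q' _ ↦ hterm q', Finset.sum_ite_eq']
    by_cases hx : x q = 0
    · simp [hx]
    · simp [Finsupp.mem_support_iff.mpr hx]
  have hinj : Function.Injective L := fun x y hxy ↦ Finsupp.ext fun q ↦
    MonoidAlgebra.ext (Finsupp.ext fun h ↦ by rw [← hcoeff, ← hcoeff, hxy])
  have hspan : ⊤ ≤ Submodule.span (MonoidAlgebra B H) (Set.range b) := fun y _ ↦ by
    induction y using MonoidAlgebra.induction_linear with
    | zero => exact Submodule.zero_mem _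
    | add p q hp hq => exact Submodule.add_mem _ (hp trivial) (hq trivial)
    | single g c =>
      obtain ⟨⟨_, h, rfl⟩, hh⟩ := QuotientGroup.mk_out_eq_mul f.range g
      have e : single g c = single h⁻¹ c • b (g : G ⧸ f.range) := by
        rw [Algebra.smul_def, halg, mapDomain_single, single_mul_single, mul_one, map_inv, hh]
        congr 1
        simp
      rw [e]
      exact Submodule.smul_mem _ _ (Submodule.subset_span ⟨_, rfl⟩)
  haveI : Module.Free (MonoidAlgebra B H) (MonoidAlgebra B G) :=
    Module.Free.of_basis (Module.Basis.mk (v := b) hinj hspan)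
  cases subsingleton_or_nontrivial B
  · haveI : Subsingleton (MonoidAlgebra B H) := inferInstance
    exact Module.FaithfullyFlat.of_comap_surjective fun p ↦ absurd (Subsingleton.elim p.asIdeal ⊤) p.isPrime.ne_top
  · infer_instance

end Groth.Reductive.GroupAlgFF
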