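import Groth.Agent.Reductive.MTLocus
import Groth.Agent.PropsBasic2.Misc

/-!
Closed subschemes given by ideals on affine test schemes; the closed locus where a family of maps
factors through a closed subscheme.
-/

set_option autoImplicit false
universe u

open CategoryTheory MonoidalCategory CartesianMonoidalCategory MonObj AlgebraicGeometry Limits

noncomputable section

namespace Groth.Reductive.MTInt

variable {S : Scheme.{u}} {X : Over S}

/-- A Zariski-local condition given by ideals on affine test schemes is a closed subscheme. -/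
theorem exists_closed_of_local (P : ∀ {Z : Over S}, (Z ⟶ X) → Prop)
    (hcomp : ∀ {Z Z' : Over S} (g : Z ⟶ X) (a : Z' ⟶ Z), P g → P (a ≫ g))
    (hlocal : ∀ {Z : Over S} (g : Z ⟶ X),
      (∀ x : Z.left, ∃ W : Z.left.Opens, x ∈ W ∧ P (openIncl Z W ≫ g)) → P g)
    (K : ∀ (Y : Over S) [IsAffine Y.left], (Y ⟶ X) → Ideal Γ(Y.left, ⊤))
    (hK : ∀ (Y Y' : Over S) [IsAffine Y.left] [IsAffine Y'.left] (y : Y ⟶ X) (g : Y' ⟶ Y),
      P (g ≫ y) ↔ ∀ r ∈ K Y y, g.left.appTop r = 0) :
    ∃ (E : Over S) (j : E ⟶ X), IsClosedImmersion j.left ∧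
      ((∀ (Y : Over S) [IsAffine Y.left] (y : Y ⟶ X), (K Y y).FG) →
        LocallyOfFinitePresentation j.left) ∧
      ∀ (Z : Over S) (g : Z ⟶ X), (∃ z : Z ⟶ E, z ≫ j = g) ↔ P g := by
  have hmap : ∀ (Y Y' : Over S) [IsAffine Y.left] [IsAffine Y'.left] (y : Y ⟶ X) (g : Y' ⟶ Y),
      (K Y y).map g.left.appTop.hom = K Y' (g ≫ y) := by
    intro Y Y' _ _ y g
    refine ideal_eq_of_test fun Y'' _ g' ↦ ?_
    rw [← hK Y' Y'' (g ≫ y) g', ← Category.assoc, hK Y Y'' y (g' ≫ g)]
    constructor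
    · intro h r hr
      rw [appTop_comp_apply]
      exact h _ (Ideal.mem_map_of_mem _ hr)
    · intro h
      have : (K Y y).map g.left.appTop.hom ≤ RingHom.ker g'.left.appTop.hom := by
        rw [Ideal.map_le_iff_le_comap]
        intro r hr
        show g'.left.appTop (g.left.appTop r) = 0
        rw [← appTop_comp_apply]
        exact h r hr
      exact fun r hr ↦ this hr
  let Iv : ∀ V : X.left.affineOpens, Ideal Γ(X.left, V.1) := fun V ↦
    haveI : IsAffine (openTest X V.1).left := V.2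
    (K _ (openIncl X V.1)).map V.1.topIso.hom.hom
  let I : X.left.IdealSheafData :=
    { ideal := Iv
      map_ideal_basicOpen := fun V f ↦ by
        let U := X.left.affineBasicOpen f
        haveI : IsAffine (openTest X V.1).left := V.2
        haveI : IsAffine (openTest X U.1).left := U.2
        have hle : U.1 ≤ V.1 := X.left.basicOpen_le f
        let g : openTest X U.1 ⟶ openTest X V.1 := Over.homMk (X.left.homOfLE hle)
          (by simp [openTest])
        have hg : g ≫ openIncl X V.1 = openIncl X U.1 :=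
          Over.OverMorphism.ext (X.left.homOfLE_ι hle)
        show ((K _ (openIncl X V.1)).map V.1.topIso.hom.hom).map _ =
          (K _ (openIncl X U.1)).map U.1.topIso.hom.hom
        rw [← hg, ← hmap]
        have hc : V.1.topIso.hom ≫ X.left.presheaf.map (homOfLE hle).op =
            (X.left.homOfLE hle).appTop ≫ U.1.topIso.hom := by
          simp [Scheme.homOfLE_appTop, ← Functor.map_comp]
          exact (X.left.presheaf.map_comp _ _).symm.trans
            ((congrArg X.left.presheaf.map (Subsingleton.elim _ _)).trans (X.left.presheaf.map_comp _ _))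
        refine (Ideal.map_map _ _).trans (Eq.trans ?_ (Ideal.map_map _ _).symm)
        exact congrArg (fun φ : Γ(openTest X V.1 |>.left, ⊤) ⟶ Γ(X.left, U.1) ↦
          (K _ (openIncl X V.1)).map φ.hom) hc }
  let E : Over S := Over.mk (I.subschemeι ≫ X.hom)
  let j : E ⟶ X := Over.homMk I.subschemeι rfl
  refine ⟨E, j, inferInstanceAs (IsClosedImmersion I.subschemeι), fun hfg ↦ ?_, fun Z g ↦ ?_⟩
  · refine Groth.Flatmor4.lfp_of_ker_fg I.subschemeι fun V ↦ ?_
    rw [I.ker_subschemeι]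
    haveI : IsAffine (openTest X V.1).left := V.2
    exact (hfg _ (openIncl X V.1)).map _
  -- on affine pieces
  have piece : ∀ (V : X.left.affineOpens) (W : Z.left.Opens) (_ : IsAffineOpen W)
      (e : W ≤ g.left ⁻¹ᵁ V.1),
      P (openIncl Z W ≫ g) ↔ ∀ r ∈ Iv V, g.left.appLE V.1 W e r = 0 := by
    intro V W hW e
    haveI : IsAffine (openTest X V.1).left := V.2
    haveI : IsAffine (openTest Z W).left := hW
    let w : openTest Z W ⟶ openTest X V.1 := Over.homMk (g.left.resLE V.1 W e) (by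
      show _ ≫ V.1.ι ≫ X.hom = W.ι ≫ Z.hom
      rw [Scheme.Hom.resLE_comp_ι_assoc, Over.w g])
    have hw : w ≫ openIncl X V.1 = openIncl Z W ≫ g :=
      Over.OverMorphism.ext (Scheme.Hom.resLE_comp_ι _ _)
    have happ : w.left.appTop = V.1.topIso.hom ≫ g.left.appLE V.1 W e ≫ W.topIso.inv :=
      Scheme.Hom.resLE_app_top g.left e
    rw [← hw, hK _ _ (openIncl X V.1) w]
    constructor
    · intro h r hr
      obtain ⟨r₀, hr₀, rfl⟩ := (Ideal.mem_map_iff_of_surjective _
        (ConcreteCategory.bijective_of_isIso V.1.topIso.hom).2).mp hr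
      have e1 := h r₀ hr₀
      rw [happ] at e1
      apply (ConcreteCategory.bijective_of_isIso W.topIso.inv).1
      rw [map_zero]
      exact e1
    · intro h r hr
      have e1 := h _ (Ideal.mem_map_of_mem _ hr)
      rw [happ]
      show W.topIso.inv (g.left.appLE V.1 W e (V.1.topIso.hom r)) = 0
      rw [show g.left.appLE V.1 W e (V.1.topIso.hom r) = 0 from e1, map_zero]
  constructor
  · rintro ⟨z, rfl⟩
    -- cover by affine pieces
    have hch : ∀ x : Z.left, ∃ (V : X.left.affineOpens) (W : Z.left.Opens),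
        IsAffineOpen W ∧ x ∈ W ∧ W ≤ (z ≫ j).left ⁻¹ᵁ V.1 := fun x ↦ by
      obtain ⟨V, hV, hxV, -⟩ := exists_isAffineOpen_mem_and_subset
        (U := (⊤ : X.left.Opens)) (show (z ≫ j).left x ∈ (⊤ : X.left.Opens) from trivial)
      obtain ⟨W, hW, hxW, hWV⟩ := exists_isAffineOpen_mem_and_subset
        (U := (z ≫ j).left ⁻¹ᵁ V) (show x ∈ (z ≫ j).left ⁻¹ᵁ V from hxV)
      exact ⟨⟨V, hV⟩, W, hW, hxW, hWV⟩
    choose V W hW hxW hWV using hch
    have hagree : ∀ x, P (openIncl Z (W x) ≫ z ≫ j) := fun x ↦ by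
      rw [piece (V x) (W x) (hW x) (hWV x)]
      intro r hr
      have hker : I.subschemeι.app (V x).1 r = 0 := by
        have hle : I.ideal (V x) ≤ RingHom.ker (I.subschemeι.app (V x).1).hom := by
          conv_lhs => rw [← I.ker_subschemeι]
          exact Scheme.Hom.ideal_ker_le _ _
        exact hle hr
      show ((z ≫ j).left.app (V x).1 ≫ Z.left.presheaf.map (homOfLE (hWV x)).op) r = 0
      have e : (z ≫ j).left.app (V x).1 = I.subschemeι.app (V x).1 ≫ z.left.app _ :=
        Scheme.Hom.comp_app z.left I.subschemeι (V x).1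
      rw [CommRingCat.comp_apply, e]
      exact (congrArg (Z.left.presheaf.map (homOfLE (hWV x)).op)
        ((congrArg (z.left.app _) hker).trans (map_zero _))).trans (map_zero _)
    exact hlocal _ fun x ↦ ⟨W x, hxW x, hagree x⟩
  · intro h
    have hker : I.subschemeι.ker ≤ g.left.ker := by
      rw [I.ker_subschemeι]
      refine Scheme.IdealSheafData.le_ofIdeals_iff.mpr fun V r hr ↦ ?_
      show g.left.app V.1 r = 0
      choose W hW hxW hWV using fun x : (g.left ⁻¹ᵁ V.1 : Z.left.Opens) ↦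
        exists_isAffineOpen_mem_and_subset x.2
      refine Z.left.sheaf.eq_of_locally_eq' W (g.left ⁻¹ᵁ V.1) (fun x ↦ homOfLE (hWV x))
        (fun x hx ↦ TopologicalSpace.Opens.mem_iSup.mpr ⟨⟨x, hx⟩, hxW _⟩) _ _ fun x ↦ ?_
      exact ((piece V (W x) (hW x) (hWV x)).mp (hcomp _ _ h) r hr).trans
        (map_zero (Z.left.presheaf.map (homOfLE (hWV x)).op).hom).symm
    exact ⟨Over.homMk (IsClosedImmersion.lift I.subschemeι g.left hker) (by
        show _ ≫ I.subschemeι ≫ X.hom = Z.hom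
        rw [IsClosedImmersion.lift_fac_assoc, Over.w g]),
      Over.OverMorphism.ext (IsClosedImmersion.lift_fac _ _ _)⟩


lemma exists_glue_of_mono {A B C : Scheme.{u}} (𝒰 : A.OpenCover) (i : B ⟶ C) [Mono i] (t : A ⟶ C)
    (h : ∀ x, ∃ q : 𝒰.X x ⟶ B, q ≫ i = 𝒰.f x ≫ t) : ∃ l : A ⟶ B, l ≫ i = t := by
  choose q hq using h
  refine ⟨𝒰.glueMorphisms q fun x x' ↦ ?_, Scheme.Cover.hom_ext 𝒰 _ _ fun x ↦ ?_⟩
  · rw [← cancel_mono i, Category.assoc, Category.assoc, hq, hq, pullback.condition_assoc]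
  · rw [← Category.assoc, Scheme.Cover.ι_glueMorphisms, hq]

variable {G H H₂ : Over S} [GrpObj H] [GrpObj G]

/-- The family factors through `i₂`. -/
def Factors (i₂ : H₂ ⟶ G) (c : H ⊗ X ⟶ G) {Y : Over S} (y : Y ⟶ X) : Prop :=
  ∃ w : H ⊗ Y ⟶ H₂, w ≫ i₂ = (H ◁ y) ≫ c

omit [GrpObj H] [GrpObj G] in
lemma isAffine_prod' {A : Over S} (hA : IsAffineHom A.hom) (Y : Over S) [IsAffine Y.left] :
    IsAffine (A ⊗ Y).left := by
  haveI := hA
  exact inferInstanceAs (IsAffine (pullback A.hom Y.hom))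

variable (i₂ : H₂ ⟶ G)

omit [GrpObj H] [GrpObj G] in
lemma appTop_surjective_of_closed {A B : Over S} [IsAffine B.left] (f : A ⟶ B)
    [IsClosedImmersion f.left] : Function.Surjective f.left.appTop := by
  exact (IsClosedImmersion.isAffine_surjective_of_isAffine f.left).2

omit [GrpObj H] [GrpObj G] in
lemma isClosedImmersion_whiskerRight [hi : IsClosedImmersion i₂.left] (Y : Over S) :
    IsClosedImmersion (i₂ ▷ Y).left := by
  exact MorphismProperty.of_isPullback (P := @IsClosedImmersion)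
    (Groth.AlgGrp1.isPullback_whiskerRight i₂ Y) hi

/-- The ideal of a closed subgroup in the functions of `G × Y`. -/
abbrev subKer (Y : Over S) : Ideal (AY G Y) := RingHom.ker (i₂ ▷ Y).left.appTop.hom

theorem factors_iff (hG : IsAffineHom G.hom) (hH : IsAffineHom H.hom) [IsClosedImmersion i₂.left]
    (c : H ⊗ X ⟶ G) {Y Y' : Over S} [IsAffine Y.left] [IsAffine Y'.left] (y : Y ⟶ X) (g : Y' ⟶ Y) :
    Factors i₂ c (g ≫ y) ↔
      ∀ z ∈ dA ((H ◁ y) ≫ c) '' (subKer i₂ Y : Set (AY G Y)), gA H g z = 0 := by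
  haveI := hG
  haveI hH₂ : IsAffineHom H₂.hom := by rw [← Over.w i₂]; infer_instance
  haveI := isAffine_prod hG Y
  haveI := isAffine_prod hG Y'
  haveI := isAffine_prod' hH₂ Y
  haveI := isAffine_prod' hH₂ Y'
  haveI := isAffine_prod hH Y'
  haveI := isClosedImmersion_whiskerRight i₂ Y
  haveI := isClosedImmersion_whiskerRight i₂ Y'
  have hw : (H ◁ (g ≫ y)) ≫ c = (H ◁ g) ≫ (H ◁ y) ≫ c := by
    rw [whiskerLeft_comp, Category.assoc]
  constructor
  · rintro ⟨w, hw'⟩ _ ⟨f, hf, rfl⟩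
    rw [← dA_gA, ← hw, ← hw']
    show (famGraph (w ≫ i₂)).left.appTop ((G ◁ g).left.appTop f) = 0
    rw [← appTop_comp_apply,
      show famGraph (w ≫ i₂) ≫ G ◁ g = lift w (snd H Y' ≫ g) ≫ (i₂ ▷ Y) by ext1 <;> simp,
      appTop_comp_apply, show (i₂ ▷ Y).left.appTop f = 0 from hf, map_zero]
  · intro h
    set d' := (H ◁ g) ≫ (H ◁ y) ≫ c
    have hker : RingHom.ker (i₂ ▷ Y').left.appTop.hom ≤ RingHom.ker (dA d') := by
      have hp := isPushout_appTop_of_isPullback (Groth.AlgGrp1.isPullback_whiskerLeft H₂ g)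
      let Kg := (subKer i₂ Y).map (gA G g)
      have hKg : Kg ≤ RingHom.ker (dA d') := by
        rw [Ideal.map_le_iff_le_comap]
        intro f hf
        show dA d' (gA G g f) = 0
        rw [dA_gA]
        exact h _ ⟨f, hf, rfl⟩
      refine le_trans ?_ hKg
      intro a ha
      let q₂ : AY H₂ Y →+* AY G Y' ⧸ Kg :=
        ((i₂ ▷ Y).left.appTop.hom).liftOfSurjective (appTop_surjective_of_closed _)
          ⟨(Ideal.Quotient.mk Kg).comp (gA G g), fun r hr ↦
            Ideal.Quotient.eq_zero_iff_mem.mpr (Ideal.mem_map_of_mem _ hr)⟩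
      have hq₂ : ∀ f, q₂ ((i₂ ▷ Y).left.appTop f) = Ideal.Quotient.mk Kg (gA G g f) := fun f ↦
        RingHom.liftOfSurjective_comp_apply _ _ ⟨(Ideal.Quotient.mk Kg).comp (gA G g), fun r hr ↦
            Ideal.Quotient.eq_zero_iff_mem.mpr (Ideal.mem_map_of_mem _ hr)⟩ f
      let q₁ : Γ(Y'.left, ⊤) →+* AY G Y' ⧸ Kg := (Ideal.Quotient.mk Kg).comp (sY G Y')
      have w : g.left.appTop ≫ CommRingCat.ofHom q₁ =
          (snd H₂ Y).left.appTop ≫ CommRingCat.ofHom q₂ := CommRingCat.hom_ext (RingHom.ext fun r ↦ by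
        show q₁ (g.left.appTop r) = q₂ ((snd H₂ Y).left.appTop r)
        rw [← whiskerRight_snd i₂ Y, appTop_comp_apply, hq₂]
        show Ideal.Quotient.mk Kg (sY G Y' (g.left.appTop r)) = Ideal.Quotient.mk Kg (gA G g (sY G Y r))
        rw [gA_sY])
      have key : ∀ x, hp.desc _ _ w ((i₂ ▷ Y').left.appTop x) = Ideal.Quotient.mk Kg x := by
        intro x
        refine AY_ext hG g (P := fun x ↦ hp.desc _ _ w ((i₂ ▷ Y').left.appTop x) =
          Ideal.Quotient.mk Kg x) (fun p q hp' hq' ↦ by simp only [map_add, hp', hq']) (fun r f ↦ ?_) x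
        rw [map_mul, map_mul, map_mul]
        congr 1
        · rw [show (i₂ ▷ Y').left.appTop (sY G Y' r) = sY H₂ Y' r by
            show (i₂ ▷ Y').left.appTop ((snd G Y').left.appTop r) = _
            rw [← appTop_comp_apply, whiskerRight_snd]]
          exact ConcreteCategory.congr_hom (hp.inl_desc _ _ w) r
        · rw [show (i₂ ▷ Y').left.appTop (gA G g f) = gA H₂ g ((i₂ ▷ Y).left.appTop f) by
            show (i₂ ▷ Y').left.appTop ((G ◁ g).left.appTop f) = (H₂ ◁ g).left.appTop _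
            rw [← appTop_comp_apply, ← appTop_comp_apply, whisker_exchange]]
          exact (ConcreteCategory.congr_hom (hp.inr_desc _ _ w) _).trans (hq₂ f)
      refine Ideal.Quotient.eq_zero_iff_mem.mp ?_
      rw [← key a, show (i₂ ▷ Y').left.appTop a = 0 from ha, map_zero]
    let φ : AY H₂ Y' →+* AY H Y' := ((i₂ ▷ Y').left.appTop.hom).liftOfSurjective
      (appTop_surjective_of_closed _) ⟨dA d', hker⟩
    have hφ : ∀ x, φ ((i₂ ▷ Y').left.appTop x) = dA d' x := fun x ↦
      RingHom.liftOfSurjective_comp_apply _ _ ⟨dA d', hker⟩ x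
    let q : (H ⊗ Y').left ⟶ (H₂ ⊗ Y').left :=
      (H ⊗ Y').left.isoSpec.hom ≫ Spec.map (CommRingCat.ofHom φ) ≫ (H₂ ⊗ Y').left.isoSpec.inv
    have hqapp : ∀ x, q.appTop x = φ x := fun x ↦ by
      have e := ConcreteCategory.congr_hom (Scheme.ΓSpecIso_inv_naturality (CommRingCat.ofHom φ)) x
      have h1 : (H₂ ⊗ Y').left.isoSpec.inv.appTop = (Scheme.ΓSpecIso Γ((H₂ ⊗ Y').left, ⊤)).inv := by
        rw [← cancel_epi (Scheme.ΓSpecIso Γ((H₂ ⊗ Y').left, ⊤)).hom, Iso.hom_inv_id,
          ← Scheme.toSpecΓ_appTop, ← Scheme.isoSpec_hom, ← Scheme.Hom.comp_appTop, Iso.inv_hom_id]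
        rfl
      show (H ⊗ Y').left.isoSpec.hom.appTop ((Spec.map (CommRingCat.ofHom φ)).appTop
        ((H₂ ⊗ Y').left.isoSpec.inv.appTop x)) = φ x
      rw [h1, Scheme.isoSpec_hom, Scheme.toSpecΓ_appTop]
      refine (congrArg (Scheme.ΓSpecIso Γ((H ⊗ Y').left, ⊤)).hom e.symm).trans ?_
      exact ConcreteCategory.congr_hom (Scheme.ΓSpecIso _).inv_hom_id (φ x)
    have hq : q ≫ (i₂ ▷ Y').left = (famGraph d').left := by
      refine ext_of_isAffine (CommRingCat.hom_ext (RingHom.ext fun x ↦ ?_))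
      show q.appTop ((i₂ ▷ Y').left.appTop x) = _
      rw [hqapp, hφ]
    let qo : H ⊗ Y' ⟶ H₂ ⊗ Y' := Over.homMk q (by
      rw [← Over.w (i₂ ▷ Y'), ← Category.assoc, hq]
      exact Over.w (famGraph d'))
    refine ⟨qo ≫ fst H₂ Y', ?_⟩
    have e : qo ≫ (i₂ ▷ Y') = famGraph d' := Over.OverMorphism.ext hq
    have e' := congrArg (fun z ↦ z ≫ fst G Y') e
    simp only [Category.assoc, whiskerRight_fst, lift_fst] at e'
    rw [Category.assoc, e']
    exact hw.symm

/-- The closed locus where a family factors through a closed subscheme. -/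
theorem exists_factorLocus (hH : LocTriv H) (hG : IsAffineHom G.hom) [IsClosedImmersion i₂.left]
    (c : H ⊗ X ⟶ G) :
    ∃ (E : Over S) (j : E ⟶ X), IsClosedImmersion j.left ∧
      (LocallyOfFinitePresentation H₂.hom → LocallyOfFiniteType G.hom →
        LocallyOfFinitePresentation j.left) ∧
      ∀ (Z : Over S) (g : Z ⟶ X), (∃ z : Z ⟶ E, z ≫ j = g) ↔ Factors i₂ c g := by
  haveI : Mono i₂ := (Over.forget S).mono_of_mono_map (inferInstanceAs (Mono i₂.left))
  obtain ⟨E, j, h1, h2, h3⟩ := exists_closed_of_local (X := X) (fun g ↦ Factors i₂ c g)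
    (fun g a ⟨w, hw⟩ ↦ ⟨(H ◁ a) ≫ w, by rw [Category.assoc, hw, whiskerLeft_comp, Category.assoc]⟩)
    (fun {Z} g hloc ↦ by
      choose W hxW w hw using hloc
      let 𝒲 : Z.left.OpenCover :=
        Scheme.openCoverOfIsOpenCover _ W (.mk (top_unique fun x _ ↦
          TopologicalSpace.Opens.mem_iSup.mpr ⟨x, hxW x⟩))
      let 𝒰 := 𝒲.pullback₁ (snd H Z).left
      have sq := fun x ↦ Groth.AlgGrp1.isPullback_whiskerLeft H (openIncl Z (W x))
      let m : ∀ x, pullback (snd H Z).left (W x).ι ⟶ (H ⊗ openTest Z (W x)).left := fun x ↦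
        (sq x).flip.lift (pullback.fst (snd H Z).left (W x).ι)
          (pullback.snd (snd H Z).left (W x).ι) pullback.condition
      have hm : ∀ x, m x ≫ (H ◁ openIncl Z (W x)).left = pullback.fst (snd H Z).left (W x).ι :=
        fun x ↦ (sq x).flip.lift_fst _ _ _
      have hfac : ∀ x, (m x ≫ (w x).left) ≫ i₂.left =
          pullback.fst (snd H Z).left (W x).ι ≫ ((H ◁ g) ≫ c).left := fun x ↦ by
        rw [Category.assoc, ← Over.comp_left, hw x, whiskerLeft_comp, Category.assoc, ← hm x,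
          Over.comp_left, Category.assoc]
      obtain ⟨l, hl⟩ := exists_glue_of_mono 𝒰 i₂.left ((H ◁ g) ≫ c).left
        fun x ↦ ⟨m x ≫ (w x).left, hfac x⟩
      exact ⟨Over.homMk l (by rw [← Over.w i₂, ← Category.assoc, hl]; exact Over.w _),
        Over.OverMorphism.ext hl⟩)
    (fun Y _ y ↦ coeffIdeal hH (dA ((H ◁ y) ≫ c) '' (subKer i₂ Y : Set (AY G Y))))
    (fun Y Y' _ _ y g ↦ (factors_iff i₂ hG hH.1 c y g).trans (forall_gA_eq_zero_iff hH _ g))
  · refine ⟨E, j, h1, fun hfp hft ↦ h2 fun Y _ y ↦ ?_, h3⟩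
    classical
    haveI := hfp
    haveI := hft
    haveI := hG
    haveI hH₂ : IsAffineHom H₂.hom := by rw [← Over.w i₂]; infer_instance
    haveI := isAffine_prod hG Y
    haveI := isAffine_prod' hH₂ Y
    haveI := isClosedImmersion_whiskerRight i₂ Y
    haveI : LocallyOfFinitePresentation (i₂.left ≫ G.hom) := by rw [Over.w]; infer_instance
    haveI : LocallyOfFinitePresentation i₂.left := Groth.PropsBasic2.lfp_of_comp i₂.left G.hom
    haveI : LocallyOfFinitePresentation (i₂ ▷ Y).left := MorphismProperty.of_isPullback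
      (P := @LocallyOfFinitePresentation) (Groth.AlgGrp1.isPullback_whiskerRight i₂ Y) inferInstance
    obtain ⟨T, hT⟩ : (subKer i₂ Y).FG := by
      have := Groth.Flatmor4.ker_fg_of_lfp (i₂ ▷ Y).left ⟨⊤, isAffineOpen_top _⟩
      rwa [Scheme.Hom.ker_apply] at this
    suffices e : coeffIdeal hH (dA ((H ◁ y) ≫ c) '' (subKer i₂ Y : Set (AY G Y))) =
        coeffIdeal hH ((T.image (dA ((H ◁ y) ≫ c)) : Finset (AY H Y)) : Set (AY H Y)) by
      rw [e]; exact coeffIdeal_fg hH _
    refine ideal_eq_of_test fun Y' _ g ↦ ?_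
    rw [← forall_gA_eq_zero_iff, ← forall_gA_eq_zero_iff]
    constructor
    · intro h w hw
      obtain ⟨f, hf, rfl⟩ := Finset.mem_image.mp hw
      exact h _ ⟨f, hT ▸ Ideal.subset_span hf, rfl⟩
    · rintro h _ ⟨f, hf, rfl⟩
      have : subKer i₂ Y ≤ RingHom.ker ((gA H g).comp (dA ((H ◁ y) ≫ c))) := by
        rw [← hT, Ideal.span_le]
        exact fun t ht ↦ h _ (Finset.mem_image_of_mem _ ht)
      exact this hf

end Groth.Reductive.MTInt
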