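import Groth.Agent.Reductive.HomDiag
import Mathlib.RingTheory.Idempotents

/-!
Lifting group-like elements and homomorphisms of diagonalisable groups modulo a nilpotent ideal.
-/

set_option autoImplicit false
universe u v

open CategoryTheory MonoidalCategory CartesianMonoidalCategory MonObj GrpObj AlgebraicGeometry

noncomputable section

namespace Groth.Reductive.FreeDiag

section Algebra

open MonoidAlgebra

/-- A family of group-like elements multiplicative in the index lifts along a nil extension. -/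
theorem exists_groupLike_lift {R R₀ : Type u} [CommRing R] [CommRing R₀] (q : R →+* R₀)
    (hq : Function.Surjective q) (hnil : ∀ x ∈ RingHom.ker q, IsNilpotent x)
    {G : Type v} [CommGroup G] {N : Type} [CommMonoid N] (u₀ : N →* MonoidAlgebra R₀ G)
    (hx : ∀ n (C : Type max u v) [CommRing C] (jc : R₀ →+* C) (χ χ' : G →* C),
      ev jc χ (u₀ n) * ev jc χ' (u₀ n) = ev jc (χ * χ') (u₀ n))
    (hone : ∀ n, ev (RingHom.id R₀) 1 (u₀ n) = 1) :
    ∃ u : N →* MonoidAlgebra R G,
      (∀ n (C : Type u) [CommRing C] (jc : R →+* C) (χ χ' : G →* C),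
        ev jc χ (u n) * ev jc χ' (u n) = ev jc (χ * χ') (u n)) ∧
      ∀ n, MonoidAlgebra.mapRingHom G q (u n) = u₀ n := by
  classical
  have huniq : ∀ e e' : R, IsIdempotentElem e → IsIdempotentElem e' → q e = q e' → e = e' :=
    fun e e' he he' h ↦ eq_of_isNilpotent_sub_of_isIdempotentElem he he'
      (hnil _ (by rw [RingHom.mem_ker, map_sub, h, sub_self]))
  have hgl : ∀ n g h, (u₀ n).coeff g * (u₀ n).coeff h = if g = h then (u₀ n).coeff g else 0 :=
    fun n g h ↦ groupLike_coeff_mul (u₀ n) (hx n) g h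
  choose ê hêi hêq using fun n g ↦ exists_isIdempotentElem_eq_of_ker_isNilpotent q hnil
    ((u₀ n).coeff g) (hq _) (show IsIdempotentElem ((u₀ n).coeff g) by
      show _ * _ = _
      rw [hgl, if_pos rfl])
  have hê0 : ∀ n g, (u₀ n).coeff g = 0 → ê n g = 0 := fun n g h ↦
    huniq _ _ (hêi n g) IsIdempotentElem.zero (by rw [hêq, h, map_zero])
  have horth : ∀ n g h, g ≠ h → ê n g * ê n h = 0 := fun n g h hgh ↦
    huniq _ _ ((hêi n g).mul (hêi n h)) IsIdempotentElem.zero
      (by rw [map_mul, map_zero, hêq, hêq, hgl, if_neg hgh])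
  let U : N → MonoidAlgebra R G := fun n ↦
    ∑ g ∈ (u₀ n).coeff.support, single g (ê n g)
  have hU : ∀ n g, (U n).coeff g = ê n g := fun n g ↦ by
    simp only [U, coeff_sum, coeff_single, Finset.sum_apply', Finsupp.single_apply,
      Finset.sum_ite_eq', Finsupp.mem_support_iff]
    split_ifs with h
    · rfl
    · exact (hê0 n g (by simpa using h)).symm
  have hUq : ∀ n, MonoidAlgebra.mapRingHom G q (U n) = u₀ n := fun n ↦
    MonoidAlgebra.ext <| Finsupp.ext fun g ↦ by rw [coeff_mapRingHom, hU, hêq]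
  have hUg : ∀ n (C : Type u) [CommRing C] (jc : R →+* C) (χ χ' : G →* C),
      ev jc χ (U n) * ev jc χ' (U n) = ev jc (χ * χ') (U n) := fun n C _ jc χ χ' ↦ by
    simp only [U, map_sum, ev_single, Finset.sum_mul_sum, MonoidHom.mul_apply]
    refine Finset.sum_congr rfl fun g hg ↦ ?_
    rw [Finset.sum_eq_single g]
    · rw [show jc (ê n g) * χ g * (jc (ê n g) * χ' g) = jc (ê n g * ê n g) * (χ g * χ' g) by
        rw [map_mul]; ring, (hêi n g).eq]
    · intro h _ hne
      rw [show jc (ê n g) * χ g * (jc (ê n h) * χ' h) = jc (ê n g * ê n h) * (χ g * χ' h) by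
        rw [map_mul]; ring, horth n g h (Ne.symm hne), map_zero, MulZeroClass.zero_mul]
    · intro h; exact absurd hg h
  -- multiplicativity by uniqueness of the lifted idempotents
  have hmul : ∀ a b, U (a * b) = U a * U b := fun a b ↦ MonoidAlgebra.ext <| Finsupp.ext fun c ↦ by
    refine huniq _ _ (by rw [hU]; exact hêi _ _) ?_ ?_
    · have key : ((U a * U b).coeff c) * ((U a * U b).coeff c) = (U a * U b).coeff c := by
        have e : U a * U b = ∑ g ∈ (u₀ a).coeff.support, ∑ h ∈ (u₀ b).coeff.support,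
            single (g * h) (ê a g * ê b h) := by
          simp only [U, Finset.sum_mul_sum, single_mul_single]
        rw [e]
        simp only [coeff_sum, coeff_single, Finset.sum_apply', Finsupp.single_apply]
        rw [Finset.sum_mul]
        refine Finset.sum_congr rfl fun g hg ↦ ?_
        rw [Finset.sum_mul]
        refine Finset.sum_congr rfl fun h hh ↦ ?_
        rw [Finset.mul_sum, Finset.sum_eq_single g]
        · rw [Finset.mul_sum, Finset.sum_eq_single h]
          · split_ifs with hc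
            · rw [show ê a g * ê b h * (ê a g * ê b h) = ê a g * ê a g * (ê b h * ê b h) by ring,
                (hêi a g).eq, (hêi b h).eq]
            · simp
          · intro h' _ hne
            split_ifs
            · rw [show ê a g * ê b h * (ê a g * ê b h') = ê a g * ê a g * (ê b h * ê b h') by ring,
                horth b h h' (Ne.symm hne), MulZeroClass.mul_zero]
            all_goals simp
          · intro h'; exact absurd hh h'
        · intro g' _ hne
          rw [Finset.mul_sum]
          refine Finset.sum_eq_zero fun h' _ ↦ ?_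
          split_ifs
          · rw [show ê a g * ê b h * (ê a g' * ê b h') = ê a g * ê a g' * (ê b h * ê b h') by ring,
              horth a g g' (Ne.symm hne), MulZeroClass.zero_mul]
          all_goals simp
        · intro h'; exact absurd hg h'
      exact key
    · rw [← coeff_mapRingHom, ← coeff_mapRingHom, hUq, map_mul u₀, map_mul (MonoidAlgebra.mapRingHom G q),
        hUq, hUq]
  refine ⟨{ toFun := U, map_one' := ?_, map_mul' := hmul }, hUg, hUq⟩
  refine MonoidAlgebra.ext <| Finsupp.ext fun c ↦ huniq _ _ (by rw [hU]; exact hêi _ _) ?_ ?_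
  · rw [MonoidAlgebra.one_def, coeff_single, Finsupp.single_apply]
    split_ifs
    · exact IsIdempotentElem.one
    · exact IsIdempotentElem.zero
  · rw [← coeff_mapRingHom, ← coeff_mapRingHom, hUq, map_one, map_one]

end Algebra

attribute [local instance] algΓ'

variable {T : Scheme.{u}} [IsAffine T] {M N : Type} [AddCommGroup M] [AddCommGroup N]

instance isAffine_unit_left : IsAffine (𝟙_ (Over T)).left := inferInstanceAs (IsAffine T)

/-- The test object killing an ideal of the base. -/
abbrev modObj (I : Ideal Γ(T, ⊤)) : Over T :=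
  mkT (T := T) (Y := 𝟙_ (Over T)) (Γ(T, ⊤) ⧸ I) (Ideal.Quotient.mk I)

/-- A family of homomorphisms over `T` modulo a nilpotent ideal lifts to a homomorphism. -/
theorem exists_hom_lift (I : Ideal Γ(T, ⊤)) (hI : IsNilpotent I)
    (φ₀ : Red.DS T M ⊗ modObj I ⟶ Red.DS T N) (hφ₀ : IsHom φ₀) :
    ∃ φ : Red.DS T M ⟶ Red.DS T N,
      (∀ (Z : Over T) (h h' : Z ⟶ Red.DS T M), (h * h') ≫ φ = (h ≫ φ) * (h' ≫ φ)) ∧
      fst (Red.DS T M) (modObj I) ≫ φ = φ₀ := by
  haveI : IsAffine (modObj I).left :=
    inferInstanceAs (IsAffine (Spec (CommRingCat.of (Γ(T, ⊤) ⧸ I))))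
  let y₀ : modObj I ⟶ 𝟙_ (Over T) := yT _ _
  let q : Γ(T, ⊤) →+* Γ((modObj I).left, ⊤) := y₀.left.appTop.hom
  have hqe : q = (ΓT (T := T) (Y := 𝟙_ (Over T)) _ (Ideal.Quotient.mk I)).comp (Ideal.Quotient.mk I) :=
    yT_appTop _ _
  have hbij := ΓT_bijective (T := T) (Y := 𝟙_ (Over T)) (Γ(T, ⊤) ⧸ I) (Ideal.Quotient.mk I)
  have hsurj : Function.Surjective q := by
    rw [hqe]
    exact hbij.2.comp Ideal.Quotient.mk_surjective
  have hnil : ∀ x ∈ RingHom.ker q, IsNilpotent x := fun x hx ↦ by
    rw [RingHom.mem_ker, hqe, RingHom.comp_apply] at hx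
    have hx' : x ∈ I := Ideal.Quotient.eq_zero_iff_mem.mp (hbij.1 (hx.trans (map_zero _).symm))
    obtain ⟨n, hn⟩ := hI
    refine ⟨n, ?_⟩
    have := Ideal.pow_mem_pow hx' n
    rwa [hn] at this
  have hgl := fun n ↦ famU_groupLike φ₀ hφ₀ n
  obtain ⟨u, hu, huq⟩ := exists_groupLike_lift q hsurj hnil (famU φ₀) (fun n ↦ (hgl n).1)
    fun n ↦ (hgl n).2
  let Φ : Red.DS T M ⊗ 𝟙_ (Over T) ⟶ Red.DS T N :=
    dsMk _ ((κ₀ (T := T) (M := M) (Y := 𝟙_ (Over T))).toMonoidHom.comp u)
  have hΦ : ∀ n, famU Φ n = u n := fun n ↦ κ₀_bijective.1 (by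
    rw [κ₀_famU]; exact dsVal_dsMk _ _ n)
  refine ⟨lift (𝟙 _) (toUnit _) ≫ Φ, fun Z h h' ↦ ?_, ?_⟩
  · simp only [← Category.assoc, comp_lift, Category.comp_id]
    refine dsVal_ext fun n ↦ ?_
    rw [dsVal_mul, dsVal_lift_fam, dsVal_lift_fam, dsVal_lift_fam, hΦ]
    simp only [ptEv, dsValHom_mul_hT, toUnit_unique (h ≫ toUnit _) (toUnit Z),
      toUnit_unique (h' ≫ toUnit _) (toUnit Z), toUnit_unique ((h * h') ≫ toUnit _) (toUnit Z)]
    exact (hu n _ _ _ _).symm
  · have e : fst (Red.DS T M) (modObj I) ≫ lift (𝟙 _) (toUnit _) = Red.DS T M ◁ y₀ := by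
      apply CartesianMonoidalCategory.hom_ext
      · simp
      · exact toUnit_unique _ _
    rw [reassoc_of% e]
    exact famU_ext fun n ↦ by rw [famU_comp, hΦ]; exact huq n

end Groth.Reductive.FreeDiag
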