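import Groth.Agent.Reductive.MTImm
import Groth.Agent.Reductive.HomDiagLift

/-!
Homomorphisms between groups of multiplicative type lift uniquely along an ideal of square zero.
-/

set_option autoImplicit false
universe u

open CategoryTheory MonoidalCategory CartesianMonoidalCategory MonObj AlgebraicGeometry Limits
open scoped TensorProduct

noncomputable section

namespace Groth.Reductive.MTInt

open Groth.Reductive.FreeDiag (ev ev_single)

variable {S : Scheme.{u}}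

lemma exists_specHom {A B : Scheme.{u}} [IsAffine A] [IsAffine B] (φ : Γ(B, ⊤) →+* Γ(A, ⊤)) :
    ∃ q : A ⟶ B, ∀ x, q.appTop x = φ x := by
  refine ⟨A.isoSpec.hom ≫ Spec.map (CommRingCat.ofHom φ) ≫ B.isoSpec.inv, fun x ↦ ?_⟩
  have e := ConcreteCategory.congr_hom (Scheme.ΓSpecIso_inv_naturality (CommRingCat.ofHom φ)) x
  have h1 : B.isoSpec.inv.appTop = (Scheme.ΓSpecIso Γ(B, ⊤)).inv := by
    rw [← cancel_epi (Scheme.ΓSpecIso Γ(B, ⊤)).hom, Iso.hom_inv_id,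
      ← Scheme.toSpecΓ_appTop, ← Scheme.isoSpec_hom, ← Scheme.Hom.comp_appTop, Iso.inv_hom_id]
    rfl
  show A.isoSpec.hom.appTop ((Spec.map (CommRingCat.ofHom φ)).appTop (B.isoSpec.inv.appTop x)) = φ x
  rw [h1, Scheme.isoSpec_hom, Scheme.toSpecΓ_appTop]
  refine (congrArg (Scheme.ΓSpecIso Γ(A, ⊤)).hom e.symm).trans ?_
  exact ConcreteCategory.congr_hom (Scheme.ΓSpecIso _).inv_hom_id (φ x)

/-- A test scheme from an algebra. -/
lemma exists_testObj {Y : Over S} [IsAffine Y.left] {C : Type u} [CommRing C]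
    (jC : Γ(Y.left, ⊤) →+* C) : ∃ (Z : Over S) (_ : IsAffine Z.left) (y : Z ⟶ Y)
      (γC : C →+* Γ(Z.left, ⊤)), Function.Bijective γC ∧ ∀ r, y.left.appTop r = γC (jC r) := by
  obtain ⟨q, hq⟩ := exists_specHom (A := Spec (CommRingCat.of C)) (B := Y.left)
    ((Scheme.ΓSpecIso (CommRingCat.of C)).inv.hom.comp jC)
  exact ⟨Over.mk (q ≫ Y.hom), inferInstanceAs (IsAffine (Spec _)), Over.homMk q rfl,
    (Scheme.ΓSpecIso (CommRingCat.of C)).inv.hom,
    ConcreteCategory.bijective_of_isIso (Scheme.ΓSpecIso (CommRingCat.of C)).inv, hq⟩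

/-- Base change of an extension by a square-zero ideal. -/
lemma exists_thickening {Y Y₀ W : Over S} [IsAffine Y.left] [IsAffine Y₀.left] [IsAffine W.left]
    (i₀ : Y₀ ⟶ Y) (hi : Function.Surjective i₀.left.appTop)
    (hJ : RingHom.ker i₀.left.appTop.hom * RingHom.ker i₀.left.appTop.hom = ⊥) (z : W ⟶ Y) :
    ∃ (W₀ : Over S) (_ : IsAffine W₀.left) (j₀ : W₀ ⟶ W) (t : W₀ ⟶ Y₀),
      t ≫ i₀ = j₀ ≫ z ∧ Function.Surjective j₀.left.appTop ∧
      RingHom.ker j₀.left.appTop.hom ≤ (RingHom.ker i₀.left.appTop.hom).map z.left.appTop.hom ∧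
      RingHom.ker j₀.left.appTop.hom * RingHom.ker j₀.left.appTop.hom = ⊥ := by
  set K := (RingHom.ker i₀.left.appTop.hom).map z.left.appTop.hom with hKdef
  obtain ⟨W₀, _, j₀, γC, hγC, hj⟩ := exists_testObj (Y := W) (Ideal.Quotient.mk K)
  let ψ : Γ(Y₀.left, ⊤) →+* Γ(W₀.left, ⊤) := (i₀.left.appTop.hom).liftOfSurjective hi
    ⟨j₀.left.appTop.hom.comp z.left.appTop.hom, fun r hr ↦ by
      show j₀.left.appTop (z.left.appTop r) = 0
      rw [hj, show Ideal.Quotient.mk K (z.left.appTop r) = 0 from Ideal.Quotient.eq_zero_iff_mem.mpr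
        (Ideal.mem_map_of_mem _ hr), map_zero]⟩
  have hψ : ∀ r, ψ (i₀.left.appTop r) = j₀.left.appTop (z.left.appTop r) := fun r ↦
    RingHom.liftOfSurjective_comp_apply i₀.left.appTop.hom hi
      ⟨j₀.left.appTop.hom.comp z.left.appTop.hom, _⟩ r
  obtain ⟨q, hq⟩ := exists_specHom ψ
  have e : q ≫ i₀.left = (j₀ ≫ z).left := by
    refine ext_of_isAffine (CommRingCat.hom_ext (RingHom.ext fun r ↦ ?_))
    show q.appTop (i₀.left.appTop r) = _
    rw [hq, hψ, Over.comp_left, Scheme.Hom.comp_appTop]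
    rfl
  refine ⟨W₀, inferInstance, j₀, Over.homMk q (by rw [← Over.w i₀, ← Category.assoc, e]; exact Over.w _),
    Over.OverMorphism.ext e, fun x ↦ ?_, fun x hx ↦ ?_, ?_⟩
  · obtain ⟨c, rfl⟩ := hγC.2 x
    obtain ⟨w, rfl⟩ := Ideal.Quotient.mk_surjective c
    exact ⟨w, hj w⟩
  · rw [RingHom.mem_ker, hj, ← map_zero γC] at hx
    exact Ideal.Quotient.eq_zero_iff_mem.mp (hγC.1 hx)
  · refine le_bot_iff.mp (Ideal.mul_le.mpr fun r hr r' hr' ↦ ?_)
    have hmem : ∀ x, j₀.left.appTop x = 0 → x ∈ K := fun x hx ↦ by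
      rw [hj, ← map_zero γC] at hx
      exact Ideal.Quotient.eq_zero_iff_mem.mp (hγC.1 hx)
    have := Ideal.mul_mem_mul (hmem r hr) (hmem r' hr')
    rwa [hKdef, ← Ideal.map_mul, hJ, Ideal.map_bot] at this

variable {H K : Over S} [GrpObj H] [GrpObj K] {Y : Over S}

section Descend

variable [IsAffine Y.left] (hK : IsAffineHom K.hom) (c : Cover Y)

include hK in
omit [GrpObj H] in
lemma Cover.hom_ext {x x' : Y ⟶ K} (h : ∀ i, c.g i ≫ x = c.g i ≫ x') : x = x' := by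
  refine point_ext hK fun f ↦ sub_eq_zero.mp (c.eq_zero fun i ↦ ?_)
  rw [map_sub, sub_eq_zero, ← appTop_comp_apply, ← appTop_comp_apply, comp_lift, comp_lift, h i]

include hK in
omit [GrpObj H] in
/-- Descent of points of an affine group along a cover. -/
lemma Cover.descend (x : ∀ i, c.Z i ⟶ K)
    (hx : ∀ (i j : c.ι) (W : Over S), IsAffine W.left → ∀ (w₁ : W ⟶ c.Z i) (w₂ : W ⟶ c.Z j),
      w₁ ≫ c.g i = w₂ ≫ c.g j → w₁ ≫ x i = w₂ ≫ x j) :
    ∃ y : Y ⟶ K, ∀ i, c.g i ≫ y = x i := by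
  classical
  haveI := isAffine_prod hK Y
  let B := Γ(Y.left, ⊤)
  letI algC : ∀ i, Algebra B Γ((c.Z i).left, ⊤) := fun i ↦
    (c.g i).left.appTop.hom.toAlgebra
  haveI := c.faithfullyFlat
  let C : c.ι → Type u := fun i ↦ Γ((c.Z i).left, ⊤)
  let val : ∀ i, AY K Y →+* C i := fun i ↦ (lift (x i) (c.g i)).left.appTop.hom
  have key : ∀ f i j, val i f ⊗ₜ[B] (1 : C j) = (1 : C i) ⊗ₜ[B] val j f := by
    intro f i j
    let T := C i ⊗[B] C j
    let jT : B →+* T := algebraMap B T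
    obtain ⟨W, _, w, γC, hγC, hw⟩ := exists_testObj (Y := Y) jT
    obtain ⟨q₁, hq₁⟩ := exists_specHom (A := W.left) (B := (c.Z i).left)
      (γC.comp (Algebra.TensorProduct.includeLeftRingHom : C i →+* T))
    obtain ⟨q₂, hq₂⟩ := exists_specHom (A := W.left) (B := (c.Z j).left)
      (γC.comp (Algebra.TensorProduct.includeRight : C j →ₐ[B] T).toRingHom)
    have e₁ : q₁ ≫ (c.g i).left = w.left := by
      refine ext_of_isAffine (CommRingCat.hom_ext (RingHom.ext fun r ↦ ?_))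
      show q₁.appTop ((c.g i).left.appTop r) = w.left.appTop r
      rw [hq₁, hw]
      rfl
    have e₂ : q₂ ≫ (c.g j).left = w.left := by
      refine ext_of_isAffine (CommRingCat.hom_ext (RingHom.ext fun r ↦ ?_))
      show q₂.appTop ((c.g j).left.appTop r) = w.left.appTop r
      rw [hq₂, hw]
      show γC ((1 : C i) ⊗ₜ[B] algebraMap B (C j) r) = γC (algebraMap B T r)
      exact congrArg γC ((Algebra.TensorProduct.includeRight : C j →ₐ[B] T).commutes r)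
    let w₁ : W ⟶ c.Z i := Over.homMk q₁ (by rw [← Over.w (c.g i), ← Category.assoc, e₁]; exact Over.w w)
    let w₂ : W ⟶ c.Z j := Over.homMk q₂ (by rw [← Over.w (c.g j), ← Category.assoc, e₂]; exact Over.w w)
    have hww : w₁ ≫ c.g i = w₂ ≫ c.g j := Over.OverMorphism.ext (e₁.trans e₂.symm)
    have e : w₁ ≫ lift (x i) (c.g i) = w₂ ≫ lift (x j) (c.g j) := by
      rw [comp_lift, comp_lift, hx i j W ‹_› w₁ w₂ hww, hww]
    have e' := congrArg (fun z : W ⟶ K ⊗ Y ↦ z.left.appTop f) e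
    rw [appTop_comp_apply, appTop_comp_apply] at e'
    change q₁.appTop (val i f) = q₂.appTop (val j f) at e'
    rw [hq₁, hq₂] at e'
    exact hγC.1 e'
  choose φ hφ using fun f ↦ Groth.Sga3.MultType.exists_of_components C (fun i ↦ val i f) (key f)
  have hext : ∀ r r', (∀ i, algebraMap B (C i) r = algebraMap B (C i) r') → r = r' := fun r r' h ↦
    sub_eq_zero.mp (c.eq_zero fun i ↦ by
      show algebraMap B (C i) (r - r') = 0
      rw [map_sub, h i, sub_self])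
  let Φ : AY K Y →+* B :=
    { toFun := φ
      map_one' := hext _ _ fun i ↦ by rw [hφ, map_one, map_one]
      map_zero' := hext _ _ fun i ↦ by rw [hφ, map_zero, map_zero]
      map_add' := fun a b ↦ hext _ _ fun i ↦ by rw [map_add (algebraMap B (C i)), hφ, hφ, hφ, map_add]
      map_mul' := fun a b ↦ hext _ _ fun i ↦ by rw [map_mul (algebraMap B (C i)), hφ, hφ, hφ, map_mul] }
  obtain ⟨y, hy⟩ := exists_point hK Φ fun r ↦ hext _ _ fun i ↦ by
    show algebraMap B (C i) (φ (sY K Y r)) = _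
    rw [hφ]
    show (lift (x i) (c.g i)).left.appTop ((snd K Y).left.appTop r) = _
    rw [← appTop_comp_apply, lift_snd]
    rfl
  refine ⟨y, fun i ↦ ?_⟩
  have e : c.g i ≫ lift y (𝟙 Y) = lift (x i) (c.g i) := hom_ext_appTop fun f ↦ by
    rw [appTop_comp_apply, hy]
    exact hφ f i
  simpa using congrArg (fun z ↦ z ≫ fst K Y) e

end Descend

section Lift

variable {H₁ H₂ : Over S} [GrpObj H₁] [GrpObj H₂]

/-- Uniqueness. -/
theorem homFam_ext (hH₁ : LocTriv H₁) (hH₂ : LocTriv H₂)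
    (hcomm : ∀ (X : Over S) (a b : X ⟶ H₂), a * b = b * a) {Y Y₀ : Over S} [IsAffine Y.left]
    [IsAffine Y₀.left] (i₀ : Y₀ ⟶ Y) (hi : Function.Surjective i₀.left.appTop)
    (hJ : RingHom.ker i₀.left.appTop.hom * RingHom.ker i₀.left.appTop.hom = ⊥)
    {u v : H₁ ⊗ Y ⟶ H₂} (hu : IsHomFam u) (hv : IsHomFam v)
    (h0 : (H₁ ◁ i₀) ≫ u = (H₁ ◁ i₀) ≫ v) : u = v := by
  obtain ⟨k, -, hk⟩ := exists_conj hH₁ hH₂.1 i₀ hi hJ u v hu hv h0
  rw [hk, hcomm _ (snd H₁ Y ≫ k) u, mul_inv_cancel_right]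

/-- Existence for trivial groups. -/
theorem exists_homFam_lift_of_triv {Y Y₀ : Over S} [IsAffine Y.left] [IsAffine Y₀.left]
    (hH₁ : IsAffineHom H₁.hom) (τ₁ : Triv H₁ Y) (τ₂ : Triv H₂ Y) (i₀ : Y₀ ⟶ Y)
    (hi : Function.Surjective i₀.left.appTop)
    (hJ : RingHom.ker i₀.left.appTop.hom * RingHom.ker i₀.left.appTop.hom = ⊥)
    (φ₀ : H₁ ⊗ Y₀ ⟶ H₂) (hφ₀ : IsHomFam φ₀) :
    ∃ φ : H₁ ⊗ Y ⟶ H₂, IsHomFam φ ∧ (H₁ ◁ i₀) ≫ φ = φ₀ := by
  haveI := isAffine_prod hH₁ Y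
  haveI := isAffine_prod hH₁ Y₀
  let τ₀ := τ₁.restrict i₀
  let u₀ : Multiplicative τ₂.M →* MonoidAlgebra Γ(Y₀.left, ⊤) (Multiplicative τ₁.M) :=
    τ₀.κE.symm.toMonoidHom.comp (τ₂.val (snd H₁ Y₀ ≫ i₀) φ₀)
  have hval : ∀ {Z : Over S} (h : Z ⟶ H₁) (y : Z ⟶ Y₀) (n : Multiplicative τ₂.M),
      ev y.left.appTop.hom (τ₀.val y h) (u₀ n) = τ₂.val (y ≫ i₀) (lift h y ≫ φ₀) n := by
    intro Z h y n
    rw [← τ₀.appTop_κ, show τ₀.κ (u₀ n) = τ₂.val (snd H₁ Y₀ ≫ i₀) φ₀ n from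
      τ₀.κE.apply_symm_apply _]
    have e := DFunLike.congr_fun (τ₂.nat (lift h y) (snd H₁ Y₀ ≫ i₀) φ₀) n
    rw [lift_snd_assoc] at e
    exact e.symm
  have hnil : ∀ x ∈ RingHom.ker i₀.left.appTop.hom, IsNilpotent x := fun x hx ↦ ⟨2, by
    have := Ideal.mul_mem_mul hx hx
    rw [hJ, Ideal.mem_bot] at this
    rw [pow_two, this]⟩
  obtain ⟨u, hu, huq⟩ := Groth.Reductive.FreeDiag.exists_groupLike_lift i₀.left.appTop.hom hi hnil
    u₀ (fun n C _ jc χ χ' ↦ by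
      obtain ⟨Z, _, y, γC, hγC, hy⟩ := exists_testObj (Y := Y₀) jc
      apply hγC.1
      have hev : ∀ (ψ : Multiplicative τ₁.M →* C) (x : MonoidAlgebra Γ(Y₀.left, ⊤) (Multiplicative τ₁.M)),
          γC (ev jc ψ x) = ev y.left.appTop.hom (γC.toMonoidHom.comp ψ) x := fun ψ x ↦ by
        refine RingHom.congr_fun (f := γC.comp (ev jc ψ)) ?_ x
        exact MonoidAlgebra.ringHom_ext (fun r ↦ by simp [ev_single, hy])
          (fun a ↦ by simp [ev_single])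
      rw [map_mul, hev, hev, hev,
        ← (τ₀.val y).apply_symm_apply (γC.toMonoidHom.comp χ),
        ← (τ₀.val y).apply_symm_apply (γC.toMonoidHom.comp χ'),
        show γC.toMonoidHom.comp (χ * χ') = γC.toMonoidHom.comp χ * γC.toMonoidHom.comp χ' from
          MonoidHom.ext fun a ↦ map_mul γC _ _,
        ← (τ₀.val y).apply_symm_apply (γC.toMonoidHom.comp χ * γC.toMonoidHom.comp χ'),
        map_mul (τ₀.val y).symm, hval, hval, hval, hφ₀, map_mul, MonoidHom.mul_apply])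
    (fun n ↦ by
      have e := hval (1 : Y₀ ⟶ H₁) (𝟙 Y₀) n
      rw [map_one] at e
      have h1 : lift (1 : Y₀ ⟶ H₁) (𝟙 Y₀) ≫ φ₀ = 1 := by
        have := hφ₀ Y₀ 1 1 (𝟙 Y₀)
        rw [_root_.one_mul] at this
        exact left_eq_mul.mp this
      rw [h1, map_one, MonoidHom.one_apply] at e
      simpa using e)
  let φ : H₁ ⊗ Y ⟶ H₂ := (τ₂.val (snd H₁ Y)).symm (τ₁.κ.toMonoidHom.comp u)
  have hval' : ∀ {Z : Over S} (h : Z ⟶ H₁) (y : Z ⟶ Y) (n : Multiplicative τ₂.M),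
      τ₂.val y (lift h y ≫ φ) n = ev y.left.appTop.hom (τ₁.val y h) (u n) := by
    intro Z h y n
    have e := DFunLike.congr_fun (τ₂.nat (lift h y) (snd H₁ Y) φ) n
    rw [lift_snd] at e
    rw [e, MulEquiv.apply_symm_apply]
    show (lift h y).left.appTop (τ₁.κ (u n)) = _
    exact τ₁.appTop_κ h y _
  refine ⟨φ, fun Z h h' y ↦ ?_, ?_⟩
  · apply (τ₂.val y).injective
    refine MonoidHom.ext fun n ↦ ?_
    rw [map_mul, MonoidHom.mul_apply, hval', hval', hval', map_mul]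
    exact (hu n _ _ _ _).symm
  · apply (τ₂.val (snd H₁ Y₀ ≫ i₀)).injective
    refine MonoidHom.ext fun n ↦ ?_
    have e := DFunLike.congr_fun (τ₂.nat (H₁ ◁ i₀) (snd H₁ Y) φ) n
    rw [whiskerLeft_snd] at e
    rw [e, MulEquiv.apply_symm_apply]
    show gA H₁ i₀ (τ₁.κ (u n)) = _
    rw [show τ₂.val (snd H₁ Y₀ ≫ i₀) φ₀ n = τ₀.κ (u₀ n) from (τ₀.κE.apply_symm_apply _).symm,
      ← huq n]
    refine RingHom.congr_fun (f := (gA H₁ i₀).comp τ₁.κ)
      (g := τ₀.κ.comp (MonoidAlgebra.mapRingHom (Multiplicative τ₁.M) i₀.left.appTop.hom)) ?_ (u n)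
    refine MonoidAlgebra.ringHom_ext (fun r ↦ ?_) (fun a ↦ ?_) <;>
    · rw [RingHom.comp_apply, RingHom.comp_apply, τ₁.gA_κ_single]
      congr 1
      simp

/-- A common trivialising cover. -/
lemma exists_cover₂ (hH₁ : LocTriv H₁) (hH₂ : LocTriv H₂) (Y : Over S) [IsAffine Y.left] :
    ∃ c : Cover Y, ∀ i, Nonempty (Triv H₁ (c.Z i)) ∧ Nonempty (Triv H₂ (c.Z i)) := by
  obtain ⟨c, hc⟩ := hH₁.2 Y ‹_›
  choose d hd using fun i ↦ hH₂.2 (c.Z i) inferInstance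
  refine ⟨@Cover.mk S Y (Σ i, (d i).ι) inferInstance (fun p ↦ (d p.1).Z p.2)
    (fun p ↦ (d p.1).g p.2 ≫ c.g p.1) (fun p ↦ inferInstance) (fun p ↦ ?_) (fun y ↦ ?_),
    fun p ↦ ⟨?_, hd p.1 p.2⟩⟩
  · haveI := (d p.1).flat p.2
    haveI := c.flat p.1
    exact inferInstanceAs (Flat (((d p.1).g p.2).left ≫ (c.g p.1).left))
  · obtain ⟨i, z, hz⟩ := c.surj y
    obtain ⟨j, w, hw⟩ := (d i).surj z
    exact ⟨⟨i, j⟩, w, by rw [← hz, ← hw]; rfl⟩
  · obtain ⟨τ⟩ := hc p.1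
    exact ⟨τ.restrict ((d p.1).g p.2)⟩

/-- Homomorphisms of groups of multiplicative type lift along an ideal of square zero. -/
theorem exists_homFam_lift (hH₁ : LocTriv H₁) (hH₂ : LocTriv H₂)
    (hcomm : ∀ (X : Over S) (a b : X ⟶ H₂), a * b = b * a) {Y Y₀ : Over S} [IsAffine Y.left]
    [IsAffine Y₀.left] (i₀ : Y₀ ⟶ Y) (hi : Function.Surjective i₀.left.appTop)
    (hJ : RingHom.ker i₀.left.appTop.hom * RingHom.ker i₀.left.appTop.hom = ⊥)
    (φ₀ : H₁ ⊗ Y₀ ⟶ H₂) (hφ₀ : IsHomFam φ₀) :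
    ∃ φ : H₁ ⊗ Y ⟶ H₂, IsHomFam φ ∧ (H₁ ◁ i₀) ≫ φ = φ₀ := by
  obtain ⟨c, hc⟩ := exists_cover₂ hH₁ hH₂ Y
  choose W₀ haff j₀ t hsq hsurj hle hker using fun i ↦ exists_thickening i₀ hi hJ (c.g i)
  have hloc : ∀ i, ∃ φ : H₁ ⊗ c.Z i ⟶ H₂, IsHomFam φ ∧
      (H₁ ◁ j₀ i) ≫ φ = (H₁ ◁ t i) ≫ φ₀ := fun i ↦ by
    obtain ⟨⟨τ₁⟩, ⟨τ₂⟩⟩ := hc i
    haveI := haff i
    exact exists_homFam_lift_of_triv hH₁.1 τ₁ τ₂ (j₀ i) (hsurj i) (hker i) _ (hφ₀.comp (t i))
  choose φ hφ hφ0 using hloc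
  haveI := isAffine_prod hH₁.1 Y
  -- reduction on test schemes over `Y₀`
  have hred : ∀ (V : Over S) [IsAffine V.left] (k : c.ι) (a : V ⟶ Y₀) (w : V ⟶ c.Z k),
      a ≫ i₀ = w ≫ c.g k → (H₁ ◁ w) ≫ φ k = (H₁ ◁ a) ≫ φ₀ := by
    intro V _ k a w haw
    haveI := haff k
    have hk : RingHom.ker (j₀ k).left.appTop.hom ≤ RingHom.ker w.left.appTop.hom := by
      refine (hle k).trans (Ideal.map_le_iff_le_comap.mpr fun r hr ↦ ?_)
      show w.left.appTop ((c.g k).left.appTop r) = 0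
      rw [← appTop_comp_apply, ← haw, appTop_comp_apply, show i₀.left.appTop r = 0 from hr, map_zero]
    let ψ := ((j₀ k).left.appTop.hom).liftOfSurjective (hsurj k) ⟨w.left.appTop.hom, hk⟩
    obtain ⟨q, hq⟩ := exists_specHom (A := V.left) (B := (W₀ k).left) ψ
    have e : q ≫ (j₀ k).left = w.left := by
      refine ext_of_isAffine (CommRingCat.hom_ext (RingHom.ext fun r ↦ ?_))
      show q.appTop ((j₀ k).left.appTop r) = _
      rw [hq]
      exact RingHom.liftOfSurjective_comp_apply (j₀ k).left.appTop.hom (hsurj k) ⟨_, hk⟩ r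
    let s : V ⟶ W₀ k := Over.homMk q (by rw [← Over.w (j₀ k), ← Category.assoc, e]; exact Over.w w)
    have hs : s ≫ j₀ k = w := Over.OverMorphism.ext e
    have hst : s ≫ t k = a := hom_ext_appTop fun r ↦ by
      obtain ⟨r', rfl⟩ := hi r
      rw [← appTop_comp_apply, ← appTop_comp_apply, Category.assoc, hsq, ← Category.assoc, hs, haw]
    rw [← hs, ← hst, whiskerLeft_comp, whiskerLeft_comp, Category.assoc, Category.assoc, hφ0]
  have hagree : ∀ (W : Over S) [IsAffine W.left] (i j : c.ι) (z : W ⟶ c.Z i) (z' : W ⟶ c.Z j),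
      z ≫ c.g i = z' ≫ c.g j → (H₁ ◁ z) ≫ φ i = (H₁ ◁ z') ≫ φ j := by
    intro W _ i j z z' hzz
    obtain ⟨V, _, q, r, hqr, hqs, -, hqk⟩ := exists_thickening i₀ hi hJ (z ≫ c.g i)
    refine homFam_ext hH₁ hH₂ hcomm q hqs hqk ((hφ i).comp z) ((hφ j).comp z') ?_
    rw [← Category.assoc, ← whiskerLeft_comp, ← Category.assoc, ← whiskerLeft_comp,
      hred V i r (q ≫ z) (by rw [hqr, Category.assoc]),
      hred V j r (q ≫ z') (by rw [hqr, Category.assoc, hzz])]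
  obtain ⟨Φ, hΦ⟩ := (c.prod H₁ hH₁.1).descend hH₂.1 φ fun i j W hW w₁ w₂ hww ↦ by
    have h1 : ∀ k (w : W ⟶ H₁ ⊗ c.Z k),
        w ≫ φ k = lift (w ≫ fst _ _) (𝟙 W) ≫ (H₁ ◁ (w ≫ snd _ _)) ≫ φ k := fun k w ↦ by
      rw [← Category.assoc, lift_whiskerLeft, Category.id_comp]
      congr 1
      ext1 <;> simp
    have hf : w₁ ≫ fst _ _ = w₂ ≫ fst _ _ := by
      simpa using congrArg (fun z ↦ z ≫ fst H₁ Y) hww
    have hz : (w₁ ≫ snd _ _) ≫ c.g i = (w₂ ≫ snd _ _) ≫ c.g j := by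
      simpa using congrArg (fun z ↦ z ≫ snd H₁ Y) hww
    rw [h1 i w₁, h1 j w₂, hf, hagree W i j _ _ hz]
  refine ⟨Φ, ?_, ?_⟩
  · haveI := isAffine_prod hH₁.1 (H₁ ⊗ Y)
    let p : H₁ ⊗ (H₁ ⊗ Y) ⟶ H₁ := fst _ _
    let q : H₁ ⊗ (H₁ ⊗ Y) ⟶ H₁ := snd _ _ ≫ fst _ _
    let y : H₁ ⊗ (H₁ ⊗ Y) ⟶ Y := snd _ _ ≫ snd _ _
    have key : lift (p * q) y ≫ Φ = (lift p y ≫ Φ) * (lift q y ≫ Φ) := by
      refine ((c.prod H₁ hH₁.1).prod H₁ hH₁.1).hom_ext hH₂.1 fun k ↦ ?_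
      have hk : ∀ h : H₁ ⊗ (H₁ ⊗ Y) ⟶ H₁, (H₁ ◁ (H₁ ◁ c.g k)) ≫ lift h y ≫ Φ =
          lift ((H₁ ◁ (H₁ ◁ c.g k)) ≫ h) (snd _ _ ≫ snd _ _) ≫ φ k := fun h ↦ by
        rw [← hΦ k, ← Category.assoc, ← Category.assoc, comp_lift]
        congr 1
        rw [lift_whiskerLeft]
        congr 1
        simp [y]
      show (H₁ ◁ (H₁ ◁ c.g k)) ≫ _ = (H₁ ◁ (H₁ ◁ c.g k)) ≫ _
      rw [MonObj.comp_mul, hk, hk, hk, MonObj.comp_mul]
      exact hφ k _ _ _ _
    intro Z h h' y'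
    have e := congrArg (fun z ↦ lift h (lift h' y') ≫ z) key
    simp only [MonObj.comp_mul, p, q, y, comp_lift_assoc, lift_fst, lift_snd,
      lift_fst_assoc, lift_snd_assoc] at e
    simpa [MonObj.comp_mul] using e
  · haveI := isAffine_prod hH₁.1 Y₀
    haveI := fun k ↦ c.flat k
    let P : c.ι → Over S := fun k ↦ Over.mk (pullback.fst i₀.left (c.g k).left ≫ Y₀.hom)
    let c₀ : Cover Y₀ := @Cover.mk S Y₀ c.ι inferInstance P
      (fun k ↦ Over.homMk (pullback.fst i₀.left (c.g k).left) rfl)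
      (fun k ↦ inferInstanceAs (IsAffine (pullback i₀.left (c.g k).left)))
      (fun k ↦ MorphismProperty.pullback_fst _ _ (c.flat k))
      (fun y ↦ by
        obtain ⟨k, z, hz⟩ := c.surj (i₀.left.base y)
        obtain ⟨w, hw, -⟩ := Scheme.Pullback.exists_preimage_pullback (f := i₀.left)
          (g := (c.g k).left) y z hz.symm
        exact ⟨k, w, hw⟩)
    refine (c₀.prod H₁ hH₁.1).hom_ext hH₂.1 fun k ↦ ?_
    let w : P k ⟶ c.Z k := Over.homMk (pullback.snd i₀.left (c.g k).left) (by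
      show _ ≫ (c.Z k).hom = pullback.fst _ _ ≫ Y₀.hom
      rw [← Over.w (c.g k), ← pullback.condition_assoc, Over.w i₀])
    haveI : IsAffine (P k).left := inferInstanceAs (IsAffine (pullback i₀.left (c.g k).left))
    have e : c₀.g k ≫ i₀ = w ≫ c.g k := Over.OverMorphism.ext pullback.condition
    have h1 := hred (P k) k (c₀.g k) w e
    rw [← hΦ k] at h1
    show (H₁ ◁ c₀.g k) ≫ (H₁ ◁ i₀) ≫ Φ = (H₁ ◁ c₀.g k) ≫ φ₀
    rw [← h1, ← Category.assoc, ← Category.assoc, ← whiskerLeft_comp, ← whiskerLeft_comp, e]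

end Lift

end Groth.Reductive.MTInt
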