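import Groth.Agent.Reductive.MTFactor
import Groth.Agent.Reductive.MTHomLift
import Groth.Agent.Reductive.MTTransporter
import Groth.Agent.Reductive.MultTypeComm
import Groth.Agent.Reductive.FpqcLocal
import Groth.Agent.AlgSp2.SmoothDescent

/-!
Transporters and normalizers of subgroups of multiplicative type of smooth affine groups.
-/

set_option autoImplicit false
universe u

open CategoryTheory MonoidalCategory CartesianMonoidalCategory MonObj AlgebraicGeometry Limits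

noncomputable section

namespace Groth.Reductive.MTInt

variable {S : Scheme.{u}} {G H₁ H₂ : Over S} [GrpObj G] [GrpObj H₁] [GrpObj H₂]

/-- The family `h ↦ g⁻¹ h g`. -/
abbrev conjFamInv (i : H₂ ⟶ G) : H₂ ⊗ G ⟶ G := (snd H₂ G)⁻¹ * (fst H₂ G ≫ i) * snd H₂ G

lemma whisker_conjFamInv (i : H₂ ⟶ G) {Y : Over S} (g : Y ⟶ G) :
    (H₂ ◁ g) ≫ conjFamInv i = (snd H₂ Y ≫ g)⁻¹ * (fst H₂ Y ≫ i) * (snd H₂ Y ≫ g) := by
  simp [conjFamInv, MonObj.comp_mul, GrpObj.comp_inv]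

lemma factors_conj_iff (i₁ : H₁ ⟶ G) (i₂ : H₂ ⟶ G) {X : Over S} (g : X ⟶ G) :
    Factors i₂ (conjFam i₁) g ↔ ∀ (X' : Over S) (x : X' ⟶ X) (h : X' ⟶ H₁),
      ∃ h' : X' ⟶ H₂, (x ≫ g) * (h ≫ i₁) * (x ≫ g)⁻¹ = h' ≫ i₂ := by
  unfold Factors
  rw [whisker_conjFam]
  constructor
  · rintro ⟨w, hw⟩ X' x h
    refine ⟨lift h x ≫ w, ?_⟩
    rw [Category.assoc, hw]
    simp [MonObj.comp_mul, GrpObj.comp_inv]
  · intro e
    obtain ⟨w, hw⟩ := e _ (snd H₁ X) (fst H₁ X)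
    exact ⟨w, hw.symm⟩

lemma factors_conjInv_iff (i₁ : H₁ ⟶ G) (i₂ : H₂ ⟶ G) {X : Over S} (g : X ⟶ G) :
    Factors i₁ (conjFamInv i₂) g ↔ ∀ (X' : Over S) (x : X' ⟶ X) (h : X' ⟶ H₂),
      ∃ h' : X' ⟶ H₁, (x ≫ g)⁻¹ * (h ≫ i₂) * (x ≫ g) = h' ≫ i₁ := by
  unfold Factors
  rw [whisker_conjFamInv]
  constructor
  · rintro ⟨w, hw⟩ X' x h
    refine ⟨lift h x ≫ w, ?_⟩
    rw [Category.assoc, hw]
    simp [MonObj.comp_mul, GrpObj.comp_inv]
  · intro e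
    obtain ⟨w, hw⟩ := e _ (snd H₂ X) (fst H₂ X)
    exact ⟨w, hw.symm⟩

lemma isHomFam_conj (u : H₁ ⟶ G) [IsMonHom u] {Y : Over S} (g : Y ⟶ G) :
    IsHomFam ((H₁ ◁ g) ≫ conjFam u) := fun Z h h' y ↦ by
  simp only [conjFam, MonObj.comp_mul, GrpObj.comp_inv, whiskerLeft_fst_assoc,
    whiskerLeft_snd, lift_snd_assoc, lift_fst_assoc, MonObj.mul_comp]
  group

lemma isHomFam_conjInv (u : H₂ ⟶ G) [IsMonHom u] {Y : Over S} (g : Y ⟶ G) :
    IsHomFam ((H₂ ◁ g) ≫ conjFamInv u) := fun Z h h' y ↦ by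
  simp only [conjFamInv, MonObj.comp_mul, GrpObj.comp_inv, whiskerLeft_fst_assoc,
    whiskerLeft_snd, lift_snd_assoc, lift_fst_assoc, MonObj.mul_comp]
  group

omit [GrpObj H₁] in
lemma isHomFam_of_comp [GrpObj H₁] (i₂ : H₂ ⟶ G) [IsMonHom i₂] [Mono i₂] {Y : Over S}
    {φ : H₁ ⊗ Y ⟶ H₂} (h : IsHomFam (φ ≫ i₂)) : IsHomFam φ := fun Z a b y ↦ by
  rw [← cancel_mono i₂, MonObj.mul_comp, Category.assoc, Category.assoc, Category.assoc]
  exact h Z a b y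

/-- The hypotheses of an extension by an ideal of square zero. -/
structure SqZero {Y₀ Y : Over S} (i₀ : Y₀ ⟶ Y) : Prop where
  /-- surjective on functions -/
  surj : Function.Surjective i₀.left.appTop
  /-- square-zero kernel -/
  sq : RingHom.ker i₀.left.appTop.hom * RingHom.ker i₀.left.appTop.hom = ⊥

/-- Infinitesimal lifting of points transporting one subgroup into another. -/
theorem exists_lift_transporter (hH₁ : LocTriv H₁) (hH₂ : LocTriv H₂) (hG : IsAffineHom G.hom)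
    (hcomm : ∀ (X : Over S) (a b : X ⟶ H₂), a * b = b * a)
    (i₁ : H₁ ⟶ G) [IsMonHom i₁] (i₂ : H₂ ⟶ G) [IsMonHom i₂] [Mono i₂]
    {Y₀ Y : Over S} [IsAffine Y₀.left] [IsAffine Y.left] (i₀ : Y₀ ⟶ Y) (h : SqZero i₀)
    (g : Y ⟶ G) (h0 : Factors i₂ (conjFam i₁) (i₀ ≫ g)) :
    ∃ g' : Y ⟶ G, i₀ ≫ g' = i₀ ≫ g ∧ Factors i₂ (conjFam i₁) g' ∧
      (Factors i₁ (conjFamInv i₂) (i₀ ≫ g) → Mono i₁ →
        (∀ (X : Over S) (a b : X ⟶ H₁), a * b = b * a) → Factors i₁ (conjFamInv i₂) g') := by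
  obtain ⟨φ₀, hφ₀⟩ := h0
  have hφ₀h : IsHomFam φ₀ := isHomFam_of_comp i₂ (by rw [hφ₀]; exact isHomFam_conj i₁ _)
  obtain ⟨φ, hφ, hφ0⟩ := exists_homFam_lift hH₁ hH₂ hcomm i₀ h.surj h.sq φ₀ hφ₀h
  have hv : IsHomFam (φ ≫ i₂) := fun Z a b y ↦ by
    rw [← Category.assoc, hφ, MonObj.mul_comp, Category.assoc, Category.assoc]
  obtain ⟨k, hk0, hk⟩ := exists_conj hH₁ hG i₀ h.surj h.sq ((H₁ ◁ g) ≫ conjFam i₁) (φ ≫ i₂)
    (isHomFam_conj i₁ g) hv (by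
      rw [← Category.assoc, ← whiskerLeft_comp, ← hφ₀, ← hφ0, Category.assoc])
  have hconj : φ ≫ i₂ = (H₁ ◁ (k * g)) ≫ conjFam i₁ := by
    rw [hk, whisker_conjFam, whisker_conjFam, MonObj.comp_mul]
    group
  have hg' : i₀ ≫ (k * g) = i₀ ≫ g := by rw [MonObj.comp_mul, hk0, _root_.one_mul]
  refine ⟨k * g, hg', ⟨φ, hconj⟩, fun h1 hmono hcomm₁ ↦ ?_⟩
  obtain ⟨ψ₀, hψ₀⟩ := h1
  have hψ₀h : IsHomFam ψ₀ := isHomFam_of_comp i₁ (by rw [hψ₀]; exact isHomFam_conjInv i₂ _)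
  obtain ⟨ψ, hψ, hψ0⟩ := exists_homFam_lift hH₂ hH₁ hcomm₁ i₀ h.surj h.sq ψ₀ hψ₀h
  let comp : H₂ ⊗ Y ⟶ H₂ := lift ψ (snd H₂ Y) ≫ φ
  have hcomp : IsHomFam comp := fun Z a b y ↦ by
    simp only [comp, comp_lift_assoc, lift_snd]
    rw [hψ]
    exact hφ Z _ _ y
  have e : comp = fst H₂ Y := by
    refine homFam_ext hH₂ hH₂ hcomm i₀ h.surj h.sq hcomp
      (fun Z a b y ↦ by rw [lift_fst, lift_fst, lift_fst]) ?_
    rw [← cancel_mono i₂]
    simp only [comp, Category.assoc, hconj, whisker_conjFam]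
    simp only [MonObj.comp_mul, GrpObj.comp_inv, whiskerLeft_fst_assoc, whiskerLeft_snd_assoc,
      lift_fst_assoc, lift_snd_assoc, hk0, MonObj.comp_one, _root_.one_mul]
    rw [← Category.assoc (H₂ ◁ i₀) ψ, hψ0, hψ₀, whisker_conjFamInv]
    group
  refine ⟨ψ, ?_⟩
  have e' := congrArg (fun z ↦ z ≫ i₂) e
  simp only [comp, Category.assoc, hconj, whisker_conjFam] at e'
  simp only [MonObj.comp_mul, GrpObj.comp_inv, lift_fst_assoc, lift_snd_assoc] at e'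
  rw [whisker_conjFamInv, ← e', MonObj.comp_mul]
  group

/-- Lifting data from the definition of formal smoothness. -/
lemma exists_sqZero (A : Type u) [CommRing A] (I : Ideal A) (hI : I ^ 2 = ⊥)
    (b : Spec (CommRingCat.of A) ⟶ S) :
    ∃ h : (Over.mk (Spec.map (CommRingCat.ofHom (Ideal.Quotient.mk I)) ≫ b) : Over S) ⟶ Over.mk b,
      h.left = Spec.map (CommRingCat.ofHom (Ideal.Quotient.mk I)) ∧ SqZero h := by
  refine ⟨Over.homMk (Spec.map (CommRingCat.ofHom (Ideal.Quotient.mk I))) rfl, rfl, ?_⟩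
  let mk := Ideal.Quotient.mk I
  have happ : ∀ x, (Spec.map (CommRingCat.ofHom mk)).appTop
      ((Scheme.ΓSpecIso (CommRingCat.of A)).inv x) =
      (Scheme.ΓSpecIso (CommRingCat.of (A ⧸ I))).inv (mk x) := fun x ↦
    (ConcreteCategory.congr_hom (Scheme.ΓSpecIso_inv_naturality (CommRingCat.ofHom mk)) x).symm
  have hA := ConcreteCategory.bijective_of_isIso (Scheme.ΓSpecIso (CommRingCat.of A)).inv
  have hAI := ConcreteCategory.bijective_of_isIso (Scheme.ΓSpecIso (CommRingCat.of (A ⧸ I))).inv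
  constructor
  · intro z
    obtain ⟨z', rfl⟩ := hAI.2 z
    obtain ⟨x, rfl⟩ := Ideal.Quotient.mk_surjective z'
    exact ⟨_, happ x⟩
  · refine le_bot_iff.mp (Ideal.mul_le.mpr fun r hr r' hr' ↦ ?_)
    obtain ⟨x, rfl⟩ := hA.2 r
    obtain ⟨x', rfl⟩ := hA.2 r'
    have hmem : ∀ y, (Spec.map (CommRingCat.ofHom mk)).appTop
        ((Scheme.ΓSpecIso (CommRingCat.of A)).inv y) = 0 → y ∈ I := by
      intro y hy
      rw [happ, ← map_zero ((Scheme.ΓSpecIso (CommRingCat.of (A ⧸ I))).inv).hom] at hy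
      exact Ideal.Quotient.eq_zero_iff_mem.mp (hAI.1 hy)
    have hxx : x * x' = 0 :=
      Ideal.mem_bot.mp (hI ▸ pow_two I ▸ Ideal.mul_mem_mul (hmem x hr) (hmem x' hr'))
    rw [← map_mul, hxx, map_zero]
    exact Ideal.zero_mem _

set_option maxHeartbeats 1000000 in
/-- A closed subscheme of a smooth group satisfying the infinitesimal lifting property is smooth. -/
theorem smooth_of_lift (hG : Smooth G.hom) {T : Over S} (j : T ⟶ G) [IsClosedImmersion j.left]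
    [LocallyOfFinitePresentation j.left] (P : ∀ {Y : Over S}, (Y ⟶ G) → Prop)
    (hP : ∀ (Y : Over S) (g : Y ⟶ G), (∃ t : Y ⟶ T, t ≫ j = g) ↔ P g)
    (hlift : ∀ (Y₀ Y : Over S) [IsAffine Y₀.left] [IsAffine Y.left] (i₀ : Y₀ ⟶ Y), SqZero i₀ →
      ∀ g : Y ⟶ G, P (i₀ ≫ g) → ∃ g' : Y ⟶ G, i₀ ≫ g' = i₀ ≫ g ∧ P g') :
    Smooth T.hom := by
  haveI : LocallyOfFinitePresentation T.hom := by rw [← Over.w j]; infer_instance
  refine smooth_of_isFormallySmoothHom _ fun A _ I hI a b w ↦ ?_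
  obtain ⟨l, hl1, hl2⟩ := isFormallySmoothHom_of_smooth' G.hom A I hI (a ≫ j.left) b
    (by rw [w, Category.assoc, Over.w])
  obtain ⟨i₀, hi₀, hsq⟩ := exists_sqZero A I hI b
  let g : Over.mk b ⟶ G := Over.homMk l hl2
  let a₀ : (Over.mk (Spec.map (CommRingCat.ofHom (Ideal.Quotient.mk I)) ≫ b) : Over S) ⟶ T :=
    Over.homMk a w.symm
  have hg₀ : i₀ ≫ g = a₀ ≫ j := Over.OverMorphism.ext (by
    rw [Over.comp_left, hi₀]; exact hl1)
  haveI : IsAffine (Over.mk b : Over S).left := inferInstanceAs (IsAffine (Spec _))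
  haveI : IsAffine (Over.mk (Spec.map (CommRingCat.ofHom (Ideal.Quotient.mk I)) ≫ b) : Over S).left :=
    inferInstanceAs (IsAffine (Spec _))
  obtain ⟨g', hg', hPg'⟩ := hlift _ _ i₀ hsq g (by rw [hg₀]; exact (hP _ _).mp ⟨a₀, rfl⟩)
  obtain ⟨z, hz⟩ := (hP _ g').mpr hPg'
  haveI : Mono j := (Over.forget S).mono_of_mono_map (inferInstanceAs (Mono j.left))
  refine ⟨z.left, ?_, Over.w z⟩
  have e : i₀ ≫ z = a₀ := by rw [← cancel_mono j, Category.assoc, hz, hg', hg₀]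
  exact (congrArg (· ≫ z.left) hi₀.symm).trans (congrArg (fun z ↦ z.left) e)

/-- Transporter, containment form. -/
theorem exists_transporterLE (hH₁ : SGA3x.IsMultTypeFT H₁) (hH₂ : SGA3x.IsMultTypeFT H₂)
    (hG : Smooth G.hom) (hGa : IsAffineHom G.hom)
    (i₁ : H₁ ⟶ G) [IsMonHom i₁] (i₂ : H₂ ⟶ G) [IsMonHom i₂] [Mono i₂] :
    ∃ (C : Over S) (c : C ⟶ G), IsClosedImmersion c.left ∧ Smooth C.hom ∧
      ∀ (X : Over S) (g : X ⟶ G), (∃ z : X ⟶ C, z ≫ c = g) ↔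
        ∀ (X' : Over S) (x : X' ⟶ X) (h : X' ⟶ H₁),
          ∃ h' : X' ⟶ H₂, (x ≫ g) * (h ≫ i₁) * (x ≫ g)⁻¹ = h' ≫ i₂ := by
  have l₁ := locTriv_of_multTypeFT hH₁
  have l₂ := locTriv_of_multTypeFT hH₂
  haveI := isClosedImmersion_of_mono l₂ hGa i₂
  obtain ⟨C, c, hc, hcfp, hC⟩ := exists_factorLocus i₂ l₁ hGa (conjFam i₁)
  haveI := hc
  haveI := hcfp (Groth.Reductive.flat_lfp_of_multTypeFT H₂ hH₂ Groth.AlgSp2.flat_descendsAlong
    inferInstance).2 inferInstance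
  refine ⟨C, c, hc, smooth_of_lift hG c (fun g ↦ Factors i₂ (conjFam i₁) g) hC
    (fun Y₀ Y _ _ i₀ hsq g h0 ↦ ?_), fun X g ↦ (hC X g).trans (factors_conj_iff i₁ i₂ g)⟩
  obtain ⟨g', h1, h2, -⟩ := exists_lift_transporter l₁ l₂ hGa
    (fun X a b ↦ Groth.Reductive.FreeDiag.comm_of_multTypeFT hH₂ X a b) i₁ i₂ i₀ hsq g h0
  exact ⟨g', h1, h2⟩

/-- Transporter, equality form. -/
theorem exists_subTransporter (hH₁ : SGA3x.IsMultTypeFT H₁) (hH₂ : SGA3x.IsMultTypeFT H₂)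
    (hG : Smooth G.hom) (hGa : IsAffineHom G.hom)
    (i₁ : H₁ ⟶ G) [IsMonHom i₁] [Mono i₁] (i₂ : H₂ ⟶ G) [IsMonHom i₂] [Mono i₂] :
    ∃ (T : Over S) (j : T ⟶ G), IsClosedImmersion j.left ∧ Smooth T.hom ∧
      ∀ (X : Over S) (g : X ⟶ G), (∃ t : X ⟶ T, t ≫ j = g) ↔ ∀ (X' : Over S) (x : X' ⟶ X),
        (∀ h₁ : X' ⟶ H₁, ∃ h₂ : X' ⟶ H₂, (x ≫ g) * (h₁ ≫ i₁) * (x ≫ g)⁻¹ = h₂ ≫ i₂) ∧
        (∀ h₂ : X' ⟶ H₂, ∃ h₁ : X' ⟶ H₁, (x ≫ g)⁻¹ * (h₂ ≫ i₂) * (x ≫ g) = h₁ ≫ i₁) := by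
  have l₁ := locTriv_of_multTypeFT hH₁
  have l₂ := locTriv_of_multTypeFT hH₂
  haveI := isClosedImmersion_of_mono l₁ hGa i₁
  haveI := isClosedImmersion_of_mono l₂ hGa i₂
  have hfp : ∀ {H : Over S} [GrpObj H], SGA3x.IsMultTypeFT H → LocallyOfFinitePresentation H.hom :=
    fun {H} _ hH ↦ (Groth.Reductive.flat_lfp_of_multTypeFT H hH Groth.AlgSp2.flat_descendsAlong
      inferInstance).2
  obtain ⟨A, a, ha, hafp, hA⟩ := exists_factorLocus i₂ l₁ hGa (conjFam i₁)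
  obtain ⟨B, b, hb, hbfp, hB⟩ := exists_factorLocus i₁ l₂ hGa (conjFamInv i₂)
  haveI := ha
  haveI := hb
  haveI := hafp (hfp hH₂) inferInstance
  haveI := hbfp (hfp hH₁) inferInstance
  let T : Over S := Over.mk (pullback.fst a.left b.left ≫ A.hom)
  let pA : T ⟶ A := Over.homMk (pullback.fst a.left b.left) rfl
  let pB : T ⟶ B := Over.homMk (pullback.snd a.left b.left) (by
    show _ = pullback.fst a.left b.left ≫ A.hom
    rw [← Over.w a, pullback.condition_assoc, Over.w b])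
  let j : T ⟶ G := pA ≫ a
  haveI hj : IsClosedImmersion j.left :=
    inferInstanceAs (IsClosedImmersion (pullback.fst a.left b.left ≫ a.left))
  haveI : LocallyOfFinitePresentation j.left :=
    inferInstanceAs (LocallyOfFinitePresentation (pullback.fst a.left b.left ≫ a.left))
  have hT : ∀ (X : Over S) (g : X ⟶ G), (∃ t : X ⟶ T, t ≫ j = g) ↔
      Factors i₂ (conjFam i₁) g ∧ Factors i₁ (conjFamInv i₂) g := fun X g ↦ by
    constructor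
    · rintro ⟨t, rfl⟩
      refine ⟨(hA X _).mp ⟨t ≫ pA, Category.assoc _ _ _⟩, (hB X _).mp ⟨t ≫ pB, ?_⟩⟩
      rw [Category.assoc]
      congr 1
      exact Over.OverMorphism.ext pullback.condition.symm
    · rintro ⟨h1, h2⟩
      obtain ⟨x, hx⟩ := (hA X g).mpr h1
      obtain ⟨y, hy⟩ := (hB X g).mpr h2
      exact ⟨Over.homMk (pullback.lift x.left y.left
          (congrArg (fun z ↦ z.left) (hx.trans hy.symm))) (by
          show _ ≫ pullback.fst a.left b.left ≫ A.hom = _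
          rw [pullback.lift_fst_assoc, Over.w x]),
        Over.OverMorphism.ext (by
          show pullback.lift _ _ _ ≫ pullback.fst a.left b.left ≫ a.left = g.left
          rw [pullback.lift_fst_assoc, ← Over.comp_left, hx])⟩
  refine ⟨T, j, hj, smooth_of_lift hG j
    (fun g ↦ Factors i₂ (conjFam i₁) g ∧ Factors i₁ (conjFamInv i₂) g) hT
    (fun Y₀ Y _ _ i₀ hsq g h0 ↦ ?_), fun X g ↦ (hT X g).trans ?_⟩
  · obtain ⟨g', h1, h2, h3⟩ := exists_lift_transporter l₁ l₂ hGa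
      (fun X a b ↦ Groth.Reductive.FreeDiag.comm_of_multTypeFT hH₂ X a b) i₁ i₂ i₀ hsq g h0.1
    exact ⟨g', h1, h2, h3 h0.2 inferInstance
      fun X a b ↦ Groth.Reductive.FreeDiag.comm_of_multTypeFT hH₁ X a b⟩
  · rw [factors_conj_iff, factors_conjInv_iff]
    exact ⟨fun h X' x ↦ ⟨h.1 X' x, h.2 X' x⟩, fun h ↦ ⟨fun X' x ↦ (h X' x).1, fun X' x ↦ (h X' x).2⟩⟩

/-- Normalizer of a subgroup of multiplicative type. -/
theorem exists_normalizer (hH₁ : SGA3x.IsMultTypeFT H₁) (hG : Smooth G.hom) (hGa : IsAffineHom G.hom)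
    (i : H₁ ⟶ G) [IsMonHom i] [Mono i] :
    ∃ (N : Over S) (_ : GrpObj N) (j : N ⟶ G), Red.IsNormalizerOf i j ∧
      IsClosedImmersion j.left ∧ Smooth N.hom := by
  obtain ⟨N, j, hj, hN, hiff⟩ := exists_subTransporter hH₁ hH₁ hG hGa i i
  have hiff' : ∀ (X : Over S) (g : X ⟶ G), (∃ z : X ⟶ N, z ≫ j = g) ↔
      ∀ (X' : Over S) (x : X' ⟶ X) (h : X' ⟶ H₁),
        (∃ h' : X' ⟶ H₁, (x ≫ g) * (h ≫ i) * (x ≫ g)⁻¹ = h' ≫ i) ∧
        (∃ h' : X' ⟶ H₁, (x ≫ g)⁻¹ * (h ≫ i) * (x ≫ g) = h' ≫ i) := fun X g ↦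
    (hiff X g).trans (forall_congr' fun X' ↦ forall_congr' fun x ↦ forall_and.symm)
  haveI := hj
  haveI : Mono j := (Over.forget S).mono_of_mono_map (inferInstanceAs (Mono j.left))
  have hmem := fun (X : Over S) (z : X ⟶ N) ↦ (hiff' X (z ≫ j)).mp ⟨z, rfl⟩
  obtain ⟨inst, hmon⟩ := exists_grpObj_of_mono j ((hiff' _ 1).mpr fun X' x h ↦ by
      simp only [MonObj.comp_one, _root_.one_mul, inv_one, _root_.mul_one]
      exact ⟨⟨h, rfl⟩, ⟨h, rfl⟩⟩)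
    ((hiff' _ _).mpr fun X' x h ↦ by
      rw [MonObj.comp_mul]
      obtain ⟨p1, hp1⟩ := (hmem _ (snd N N) X' x h).1
      obtain ⟨p2, hp2⟩ := (hmem _ (fst N N) X' x p1).1
      obtain ⟨q1, hq1⟩ := (hmem _ (fst N N) X' x h).2
      obtain ⟨q2, hq2⟩ := (hmem _ (snd N N) X' x q1).2
      refine ⟨⟨p2, ?_⟩, ⟨q2, ?_⟩⟩
      · rw [← hp2, ← hp1]; group
      · rw [← hq2, ← hq1]; group)
    ((hiff' _ _).mpr fun X' x h ↦ by
      rw [GrpObj.comp_inv, inv_inv]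
      have := hmem _ (𝟙 N) X' x h
      rw [Category.id_comp] at this
      exact ⟨this.2, this.1⟩)
  exact ⟨N, inst, j, ⟨hmon, inferInstance, hiff'⟩, hj, hN⟩

end Groth.Reductive.MTInt
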