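import Groth.Agent.Reductive.TorusClosed
import Groth.Agent.Reductive.MTClosedLocus
import Groth.Agent.Reductive.TorusMT
import Groth.Agent.AlgGrp1.TorusConjGeneral
import Groth.Agent.GrpschAbsch.NeutralSet
import Groth.Agent.GrpschAbsch.TorusToAbelianSheaf
import Groth.Agent.SmoothSlice.Sections
import Groth.Agent.Reductive.MultGa

/-!
# Maximal tori are conjugate etale locally
-/

set_option autoImplicit false

universe u

open CategoryTheory Limits MonoidalCategory CartesianMonoidalCategory MonObj GrpObj AlgebraicGeometry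

noncomputable section

namespace Groth.Reductive.TorusConjEtale

/-- Maximal tori of a smooth group of finite type over an algebraically closed field are conjugate. -/
theorem exists_conj {K : Type u} [Field K] [IsAlgClosed K] {G T₁ T₂ : Over (Spec (CommRingCat.of K))}
    [GrpObj G] [GrpObj T₁] [GrpObj T₂] [Smooth G.hom] [QuasiCompact G.hom] {i₁ : T₁ ⟶ G} {i₂ : T₂ ⟶ G}
    (h₁ : AGF.IsMaxTorus i₁) (h₂ : AGF.IsMaxTorus i₂) :
    ∃ (g : 𝟙_ (Over (Spec (CommRingCat.of K))) ⟶ G) (f : T₁ ≅ T₂),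
      f.hom ≫ i₂ = (toUnit T₁ ≫ g) * i₁ * (toUnit T₁ ≫ g)⁻¹ := by
  obtain ⟨H, _, i, hi, hopen, hr, hc⟩ := Groth.GrpschAbsch.NeutralSet.exists_neutral_openSubgroup G
  haveI := hi; haveI := hopen; haveI := hc
  haveI hcl : IsClosedImmersion i.left :=
    IsClosedImmersion.of_isPreimmersion i.left (by rw [hr]; exact isClosed_connectedComponent)
  haveI : Smooth H.hom := by rw [← Over.w i]; infer_instance
  haveI : QuasiCompact H.hom := by rw [← Over.w i]; infer_instance
  haveI : Mono i := Over.mono_of_mono_left i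
  have lft : ∀ {T : Over (Spec (CommRingCat.of K))} [GrpObj T] (j : T ⟶ G), AGF.IsMaxTorus j →
      ∃ j₀ : T ⟶ H, j₀ ≫ i = j ∧ AGF.IsMaxTorus j₀ := by
    intro T _ j hj
    obtain ⟨hm, hmono, hT, hmax⟩ := hj
    haveI := hm; haveI := hmono
    obtain ⟨_, _, hconn⟩ := Groth.AlgGrp1.isAffine_smooth_connected_of_isTorus hT
    have hsub : Set.range j.left ⊆ Set.range i.left := by
      rw [hr]
      refine (isPreconnected_range j.left.continuous).subset_connectedComponent
        ⟨η[T].left (IsLocalRing.closedPoint K), ?_⟩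
      exact congr(($(IsMonHom.one_hom j)).left.base (IsLocalRing.closedPoint K))
    let j₀ : T ⟶ H := Over.homMk (IsOpenImmersion.lift i.left j.left hsub) (by
      rw [← Over.w i, IsOpenImmersion.lift_fac_assoc, Over.w j])
    have hf : j₀ ≫ i = j := Over.OverMorphism.ext (IsOpenImmersion.lift_fac _ _ _)
    haveI : IsMonHom j₀ := Groth.AlgGrp1.isMonHom_of_points _ fun X a b => by
      rw [← cancel_mono i, Category.assoc, hf, MonObj.mul_comp, MonObj.mul_comp, Category.assoc, hf,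
        Category.assoc, hf]
    haveI : Mono j₀ := mono_of_mono_fac hf
    refine ⟨j₀, hf, inferInstance, inferInstance, hT, fun T' _ k _ _ f hT' hfk => ?_⟩
    haveI : IsMonHom (k ≫ i) := Groth.Abvar.isMonHom_comp inferInstance inferInstance
    exact hmax T' (k ≫ i) f hT' (by rw [← Category.assoc, hfk, hf])
  obtain ⟨j₁, e₁, hj₁⟩ := lft i₁ h₁
  obtain ⟨j₂, e₂, hj₂⟩ := lft i₂ h₂
  obtain ⟨g, f, hf⟩ := Groth.AlgGrp1.maxTorus_conj_general hj₁ hj₂
  refine ⟨g ≫ i, f, ?_⟩
  rw [← e₂, ← Category.assoc, hf, ← e₁]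
  simp only [AGF.conjBy, MonObj.mul_comp, GrpObj.inv_comp, Category.assoc]

variable {S : Scheme.{u}} {G T₁ T₂ : Over S} [GrpObj G] [GrpObj T₁] [GrpObj T₂]

theorem bcPt_map {W : Scheme.{u}} (p : W ⟶ S) {A B : Over S} [GrpObj A] [GrpObj B] (m : A ⟶ B)
    {X : Over W} (x : X ⟶ Red.bc p A) :
    Groth.Reductive.bcPointEquiv p B X (x ≫ (Over.pullback p).map m) =
      Groth.Reductive.bcPointEquiv p A X x ≫ m :=
  Adjunction.homEquiv_naturality_right_symm _ _ _

/-- The points of a subgroup transporter. -/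
abbrev Transp (i₁ : T₁ ⟶ G) (i₂ : T₂ ⟶ G) (X : Over S) (g : X ⟶ G) : Prop :=
  ∀ (X' : Over S) (x : X' ⟶ X),
    (∀ h₁ : X' ⟶ T₁, ∃ h₂ : X' ⟶ T₂, (x ≫ g) * (h₁ ≫ i₁) * (x ≫ g)⁻¹ = h₂ ≫ i₂) ∧
    (∀ h₂ : X' ⟶ T₂, ∃ h₁ : X' ⟶ T₁, (x ≫ g)⁻¹ * (h₂ ≫ i₂) * (x ≫ g) = h₁ ≫ i₁)

/-- A point of the transporter gives an isomorphism of the tori over it. -/
theorem conjBy_of_transp (i₁ : T₁ ⟶ G) (i₂ : T₂ ⟶ G) [Mono i₁] [Mono i₂] {W : Scheme.{u}} (p : W ⟶ S)
    (a : Over.mk p ⟶ G) (ha : Transp i₁ i₂ (Over.mk p) a) :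
    ∃ g : 𝟙_ (Over W) ⟶ Red.bc p G, SGA3x.ConjBy ((Over.pullback p).map i₁) ((Over.pullback p).map i₂) g := by
  let P : Over W := 𝟙_ (Over W)
  let c : (Over.map p).obj P ⟶ Over.mk p := Over.homMk (𝟙 _) (by
    show 𝟙 _ ≫ p = 𝟙 _ ≫ p
    rfl)
  let g : P ⟶ Red.bc p G := (Groth.Reductive.bcPointEquiv p G P).symm (c ≫ a)
  have hg : ∀ (X : Over W), Groth.Reductive.bcPointEquiv p G X (toUnit X ≫ g) =
      ((Over.map p).map (toUnit X) ≫ c) ≫ a := fun X => by
    rw [Groth.Reductive.bcPointEquiv_comp, MulEquiv.apply_symm_apply, Category.assoc]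
  refine ⟨g, ?_⟩
  obtain ⟨h₂, e₂⟩ := (ha _ ((Over.map p).map (toUnit (Red.bc p T₁)) ≫ c)).1
    (Groth.Reductive.bcPointEquiv p T₁ _ (𝟙 _))
  obtain ⟨h₁, e₁⟩ := (ha _ ((Over.map p).map (toUnit (Red.bc p T₂)) ≫ c)).2
    (Groth.Reductive.bcPointEquiv p T₂ _ (𝟙 _))
  let φ : Red.bc p T₁ ⟶ Red.bc p T₂ := (Groth.Reductive.bcPointEquiv p T₂ _).symm h₂
  let ψ : Red.bc p T₂ ⟶ Red.bc p T₁ := (Groth.Reductive.bcPointEquiv p T₁ _).symm h₁
  have hφ : (toUnit _ ≫ g) * (Over.pullback p).map i₁ * (toUnit _ ≫ g)⁻¹ = φ ≫ (Over.pullback p).map i₂ := by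
    apply (Groth.Reductive.bcPointEquiv p G _).injective
    rw [map_mul, map_mul, map_inv, hg, bcPt_map, MulEquiv.apply_symm_apply, ← e₂]
    congr 2
    rw [← bcPt_map, Category.id_comp]
  have hψ : (toUnit _ ≫ g)⁻¹ * (Over.pullback p).map i₂ * (toUnit _ ≫ g) = ψ ≫ (Over.pullback p).map i₁ := by
    apply (Groth.Reductive.bcPointEquiv p G _).injective
    rw [map_mul, map_mul, map_inv, hg, bcPt_map, MulEquiv.apply_symm_apply, ← e₁]
    congr 2
    rw [← bcPt_map, Category.id_comp]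
  refine ⟨⟨φ, ψ, ?_, ?_⟩, hφ⟩
  · rw [← cancel_mono ((Over.pullback p).map i₁), Category.assoc, ← hψ, Category.id_comp, MonObj.comp_mul,
      MonObj.comp_mul, GrpObj.comp_inv, ← Category.assoc, toUnit_unique (φ ≫ toUnit _) (toUnit _), ← hφ]
    simp [_root_.mul_assoc]
  · rw [← cancel_mono ((Over.pullback p).map i₂), Category.assoc, ← hφ, Category.id_comp, MonObj.comp_mul,
      MonObj.comp_mul, GrpObj.comp_inv, ← Category.assoc, toUnit_unique (ψ ≫ toUnit _) (toUnit _), ← hψ]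
    simp [_root_.mul_assoc]

variable [Smooth G.hom] [IsSeparated G.hom] [QuasiCompact G.hom]

/-- Maximal tori are conjugate after an etale surjective base change. -/
theorem exists_conj_etale (i₁ : T₁ ⟶ G) (i₂ : T₂ ⟶ G) (h₁ : Red.IsMaximalTorus i₁) (h₂ : Red.IsMaximalTorus i₂) :
    ∃ (S' : Scheme.{u}) (f : S' ⟶ S), Etale f ∧ Surjective f ∧
      ∃ g : 𝟙_ (Over S') ⟶ Red.bc f G, SGA3x.ConjBy ((Over.pullback f).map i₁) ((Over.pullback f).map i₂) g := by
  haveI := h₁.1; haveI := h₁.2.1; haveI := h₂.1; haveI := h₂.2.1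
  have hm₁ := Groth.Reductive.FreeDiag.isMultTypeFT_of_isTorus h₁.2.2.1
  have hm₂ := Groth.Reductive.FreeDiag.isMultTypeFT_of_isTorus h₂.2.2.1
  haveI := Groth.Reductive.TorusClosed.isClosedImmersion_of_mono hm₁ i₁
  haveI := Groth.Reductive.TorusClosed.isClosedImmersion_of_mono hm₂ i₂
  have lfp : ∀ {T : Over S} [GrpObj T] (i : T ⟶ G), SGA3x.IsMultTypeFT T →
      LocallyOfFinitePresentation i.left := fun {T} _ i hT => by
    haveI := (Groth.Reductive.flat_lfp_of_multTypeFT T hT Groth.AlgSp2.flat_descendsAlong inferInstance).2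
    haveI : LocallyOfFinitePresentation (i.left ≫ G.hom) := by rw [Over.w]; infer_instance
    exact Groth.PropsBasic2.lfp_of_comp i.left G.hom
  haveI := lfp i₁ hm₁; haveI := lfp i₂ hm₂
  obtain ⟨Tr, j, hjc, hTrs, hiff⟩ := Groth.Reductive.MTInt.exists_subTransporterSep
    (Groth.Reductive.MTInt.locTriv_of_multTypeFT hm₁) (Groth.Reductive.MTInt.locTriv_of_multTypeFT hm₂)
    inferInstance i₁ i₂
  haveI := hTrs
  have hsurj : ∀ s : S, ∃ x : Tr.left, Tr.hom x = s := fun s => by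
    let q := Red.geomPt s
    let G₀ := Red.geomFibre s G
    haveI : Smooth G₀.hom := MorphismProperty.pullback_snd (P := @Smooth) _ _ inferInstance
    haveI : QuasiCompact G₀.hom := MorphismProperty.pullback_snd (P := @QuasiCompact) _ _ inferInstance
    have mx : ∀ {T : Over S} [GrpObj T] (i : T ⟶ G), Red.IsMaximalTorus i →
        AGF.IsMaxTorus ((Over.pullback q).map i) := fun {T} _ i hi => by
      haveI := hi.1; haveI := hi.2.1
      exact ⟨Groth.Abvar.isMonHom_map (f := q) i, inferInstance,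
        Groth.GrpschAbsch.TorusToAbelian.isTorus_bc hi.2.2.1 _, fun T' _ j _ _ v hT' hv => hi.2.2.2 s T' j v hT' hv⟩
    obtain ⟨g, φ, hφ⟩ := exists_conj (mx i₁ h₁) (mx i₂ h₂)
    let P : Over (Spec (CommRingCat.of (AlgebraicClosure (S.residueField s)))) := 𝟙_ _
    let a : (Over.map q).obj P ⟶ G := Groth.Reductive.bcPointEquiv q G P g
    obtain ⟨t, -⟩ := (hiff _ a).2 fun X' x => by
      let Z : Over (Spec (CommRingCat.of (AlgebraicClosure (S.residueField s)))) := Over.mk x.left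
      have hx : x.left ≫ q = X'.hom := by
        have := Over.w x
        simpa [P] using this
      let c : X' ⟶ (Over.map q).obj Z := Over.homMk (𝟙 _) ((Category.id_comp _).trans hx)
      let c' : (Over.map q).obj Z ⟶ X' := Over.homMk (𝟙 _) ((Category.id_comp _).trans hx.symm)
      have hcc : c ≫ c' = 𝟙 X' := Over.OverMorphism.ext (Category.id_comp _)
      have hxa : x ≫ a = c ≫ Groth.Reductive.bcPointEquiv q G Z (toUnit Z ≫ g) := by
        rw [Groth.Reductive.bcPointEquiv_comp, ← Category.assoc]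
        congr 1
      constructor
      · intro h
        refine ⟨c ≫ Groth.Reductive.bcPointEquiv q T₂ Z
          ((Groth.Reductive.bcPointEquiv q T₁ Z).symm (c' ≫ h) ≫ φ.hom), ?_⟩
        rw [Category.assoc, ← bcPt_map, Category.assoc, hφ, MonObj.comp_mul, MonObj.comp_mul, GrpObj.comp_inv,
          ← Category.assoc _ (toUnit _), toUnit_unique (_ ≫ toUnit _) (toUnit Z), map_mul, map_mul, map_inv,
          bcPt_map, MulEquiv.apply_symm_apply, MonObj.comp_mul, MonObj.comp_mul, GrpObj.comp_inv, ← hxa,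
          ← Category.assoc c, ← Category.assoc c, hcc, Category.id_comp]
      · intro h
        refine ⟨c ≫ Groth.Reductive.bcPointEquiv q T₁ Z
          ((Groth.Reductive.bcPointEquiv q T₂ Z).symm (c' ≫ h) ≫ φ.inv), ?_⟩
        have h' : φ.inv ≫ (Over.pullback q).map i₁ =
            (toUnit _ ≫ g)⁻¹ * (Over.pullback q).map i₂ * (toUnit _ ≫ g) := by
          have := congrArg (φ.inv ≫ ·) hφ
          simp only [Iso.inv_hom_id_assoc, MonObj.comp_mul, GrpObj.comp_inv] at this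
          rw [← Category.assoc, toUnit_unique (φ.inv ≫ toUnit _) (toUnit _)] at this
          rw [this]
          simp [_root_.mul_assoc]
        rw [Category.assoc, ← bcPt_map, Category.assoc, h', MonObj.comp_mul, MonObj.comp_mul, GrpObj.comp_inv,
          ← Category.assoc _ (toUnit _), toUnit_unique (_ ≫ toUnit _) (toUnit Z), map_mul, map_mul, map_inv,
          bcPt_map, MulEquiv.apply_symm_apply, MonObj.comp_mul, MonObj.comp_mul, GrpObj.comp_inv, ← hxa,
          ← Category.assoc c, ← Category.assoc c, hcc, Category.id_comp]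
    refine ⟨t.left (IsLocalRing.closedPoint _), ?_⟩
    rw [← Scheme.Hom.comp_apply, Over.w t]
    show (Red.geomPt s).base _ = s
    rw [Scheme.Hom.comp_apply, Scheme.fromSpecResidueField_apply]
  choose x hx using hsurj
  choose W h w het hw using fun s => Groth.SmoothSlice.exists_etale_section Tr.hom (x s)
  let p := fun s => h s ≫ Tr.hom
  let f : (∐ W) ⟶ S := Sigma.desc p
  haveI : Etale f := IsZariskiLocalAtSource.sigmaDesc het
  haveI : Surjective f := ⟨fun s => ⟨Sigma.ι W s (w s), by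
    rw [← Scheme.Hom.comp_apply, colimit.ι_desc]; exact (hw s).trans (hx s)⟩⟩
  let a : Over.mk f ⟶ Tr := Over.homMk (Sigma.desc h) (by
    refine Sigma.hom_ext _ _ fun s => ?_
    erw [colimit.ι_desc_assoc, colimit.ι_desc]
    rfl)
  exact ⟨∐ W, f, inferInstance, inferInstance,
    conjBy_of_transp i₁ i₂ f (a ≫ j) ((hiff _ (a ≫ j)).1 ⟨a, rfl⟩)⟩

end Groth.Reductive.TorusConjEtale

end
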