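import Groth.Agent.Reductive.TrivialLocus
import Groth.Agent.Reductive.BaseChangeMT
import Groth.Agent.Flatmor4.GeomDescent
import Groth.Agent.VarietyBC.Components
import Groth.Agent.AlgGrp1.Basic

/-!
Descent of central homomorphisms out of a group of multiplicative type along fpqc coverings with
geometrically connected fibres.
-/

set_option autoImplicit false
universe u

open CategoryTheory MonoidalCategory CartesianMonoidalCategory MonObj GrpObj AlgebraicGeometry

noncomputable section

namespace Groth.Reductive.FreeDiag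

variable {S S' : Scheme.{u}}

/-- A morphism with connected geometric fibres is geometrically connected. -/
theorem geometricallyConnected_of_geomPt (π : S' ⟶ S)
    (hconn : ∀ s : S, ConnectedSpace ↥(Limits.pullback π (Red.geomPt s))) :
    GeometricallyConnected π := by
  haveI : ObjectProperty.IsClosedUnderIsomorphisms (fun X : Scheme.{u} ↦ ConnectedSpace X) :=
    ⟨fun e h ↦ e.hom.homeomorph.connectedSpace_iff.mp h⟩
  rw [GeometricallyConnected.eq_geometrically, geometrically_iff_forall_fiberToSpecResidueField]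
  intro s
  let k := AlgebraicClosure (S.residueField s)
  let X := Limits.pullback π (Red.geomPt s)
  letI : X.Over (Spec (CommRingCat.of k)) := ⟨Limits.pullback.snd π (Red.geomPt s)⟩
  haveI : ConnectedSpace X := hconn s
  haveI : ConnectedSpace (Curv2.bc k X k) := by
    haveI : IsIso (Spec.map (CommRingCat.ofHom (algebraMap k k))) := by
      rw [Algebra.algebraMap_self]
      show IsIso (Spec.map (𝟙 (CommRingCat.of k)))
      infer_instance
    exact (asIso (Curv2.bcFst k X k)).hom.homeomorph.connectedSpace_iff.mpr ‹_›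
  have hk := Groth.VarietyBC.geometricallyConnected_of_connectedSpace_bc (k := k) (X := X) k
  have hk' := hk.geometrically_connectedSpace
  let h : Spec (CommRingCat.of k) ⟶ Spec (S.residueField s) :=
    Spec.map (CommRingCat.ofHom (algebraMap (S.residueField s) k))
  haveI : Surjective h := ⟨fun y ↦ ⟨IsLocalRing.closedPoint k,
    Subsingleton.elim (α := (Spec (S.residueField s) : Scheme.{u})) _ _⟩⟩
  let h' : X ⟶ Limits.pullback π (S.fromSpecResidueField s) :=
    Limits.pullback.lift (Limits.pullback.fst _ _) (Limits.pullback.snd _ _ ≫ h) (by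
      rw [Category.assoc]
      exact Limits.pullback.condition)
  refine Groth.Flatmor4.geometrically_of_surjective_base_change
    Groth.Flatmor4.connectedSpace_of_surjective (h := h) (h' := h') ?_ hk'
  refine IsPullback.of_right ?_ (Limits.pullback.lift_snd _ _ _)
    (IsPullback.of_hasPullback π (S.fromSpecResidueField s))
  simp only [h']
  erw [Limits.pullback.lift_fst]
  exact IsPullback.of_hasPullback _ _

variable (π : S' ⟶ S) {H G : Over S} [GrpObj H] [GrpObj G]

/-- A point over `S'` from a point over `S` with a lift to `S'`. -/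
abbrev toMapPt {Z : Over S} (a : Z ⟶ Over.mk π) : Z ⟶ (Over.map π).obj (Over.mk a.left) :=
  Over.homMk (𝟙 _) ((Category.id_comp _).trans (Over.w a))

/-- The inverse of `toMapPt`. -/
abbrev ofMapPt {Z : Over S} (a : Z ⟶ Over.mk π) : (Over.map π).obj (Over.mk a.left) ⟶ Z :=
  Over.homMk (𝟙 _) ((Category.id_comp _).trans (Over.w a).symm)

@[reassoc]
lemma toMapPt_ofMapPt {Z : Over S} (a : Z ⟶ Over.mk π) : toMapPt π a ≫ ofMapPt π a = 𝟙 Z :=
  Over.OverMorphism.ext (Category.id_comp _)

/-- The value of a homomorphism over `S'` at a point with a lift to `S'`. -/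
def valAt (u' : Red.bc π H ⟶ Red.bc π G) {Z : Over S} (a : Z ⟶ Over.mk π) (x : Z ⟶ H) : Z ⟶ G :=
  toMapPt π a ≫
    qPt π ((Over.mapPullbackAdj π).homEquiv (Over.mk a.left) H (ofMapPt π a ≫ x) ≫ u')

variable {π} (u' : Red.bc π H ⟶ Red.bc π G)

lemma comp_valAt {Z W : Over S} (h : W ⟶ Z) (a : Z ⟶ Over.mk π) (x : Z ⟶ H) :
    h ≫ valAt π u' a x = valAt π u' (h ≫ a) (h ≫ x) := by
  let h' : Over.mk (h ≫ a).left ⟶ Over.mk a.left := Over.homMk h.left rfl
  have e1 : h ≫ toMapPt π a = toMapPt π (h ≫ a) ≫ (Over.map π).map h' :=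
    Over.OverMorphism.ext ((Category.comp_id _).trans (Category.id_comp _).symm)
  have e2 : (Over.map π).map h' ≫ ofMapPt π a = ofMapPt π (h ≫ a) ≫ h :=
    Over.OverMorphism.ext ((Category.comp_id _).trans (Category.id_comp _).symm)
  unfold valAt
  rw [← Category.assoc, e1, Category.assoc]
  congr 1
  refine ((Over.mapPullbackAdj π).homEquiv_naturality_left_symm h' _).symm.trans ?_
  show qPt π _ = qPt π _
  rw [← Category.assoc, ← (Over.mapPullbackAdj π).homEquiv_naturality_left, ← Category.assoc, e2,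
    Category.assoc]

lemma valAt_mul [IsMonHom u'] {Z : Over S} (a : Z ⟶ Over.mk π) (x y : Z ⟶ H) :
    valAt π u' a (x * y) = valAt π u' a x * valAt π u' a y := by
  unfold valAt
  rw [MonObj.comp_mul,
    show (Over.mapPullbackAdj π).homEquiv (Over.mk a.left) H (ofMapPt π a ≫ x * ofMapPt π a ≫ y) =
      (bcPointEquiv π H (Over.mk a.left)).symm (ofMapPt π a ≫ x * ofMapPt π a ≫ y) from rfl,
    map_mul, MonObj.mul_comp]
  show toMapPt π a ≫ bcPointEquiv π G _ _ = _
  rw [map_mul, MonObj.comp_mul]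
  rfl

lemma valAt_central (hc : ∀ (X : Over S') (g : X ⟶ Red.bc π G) (h : X ⟶ Red.bc π H),
      g * (h ≫ u') = (h ≫ u') * g) {Z : Over S} (a : Z ⟶ Over.mk π) (x : Z ⟶ H) (g : Z ⟶ G) :
    g * valAt π u' a x = valAt π u' a x * g := by
  have h := congrArg (fun z ↦ toMapPt π a ≫ bcPointEquiv π G (Over.mk a.left) z)
    (hc _ ((bcPointEquiv π G (Over.mk a.left)).symm (ofMapPt π a ≫ g))
      ((Over.mapPullbackAdj π).homEquiv (Over.mk a.left) H (ofMapPt π a ≫ x)))
  simp only [map_mul, MulEquiv.apply_symm_apply, MonObj.comp_mul, toMapPt_ofMapPt_assoc] at h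
  exact h

/-- If the base change of `u` is `u'`, its values are those of `u'`. -/
lemma comp_eq_valAt (u : H ⟶ G) (hu : (Over.pullback π).map u = u') {Z : Over S}
    (a : Z ⟶ Over.mk π) (x : Z ⟶ H) : x ≫ u = valAt π u' a x := by
  unfold valAt
  rw [← hu, qPt_map, ← Category.assoc]
  congr 1
  show x = toMapPt π a ≫ qPt π _
  rw [show qPt π ((Over.mapPullbackAdj π).homEquiv (Over.mk a.left) H (ofMapPt π a ≫ x)) =
    ofMapPt π a ≫ x from Equiv.symm_apply_apply _ _, toMapPt_ofMapPt_assoc]

lemma qPt_comp_eq_valAt {Z : Over S'} (y : Z ⟶ Red.bc π H) :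
    qPt π (y ≫ u') =
      valAt π u' (Over.homMk Z.hom rfl : (Over.map π).obj Z ⟶ Over.mk π) (qPt π y) := by
  have e1 : toMapPt π (Over.homMk Z.hom rfl : (Over.map π).obj Z ⟶ Over.mk π) =
      𝟙 ((Over.map π).obj Z) := Over.OverMorphism.ext rfl
  have e2 : ofMapPt π (Over.homMk Z.hom rfl : (Over.map π).obj Z ⟶ Over.mk π) =
      𝟙 ((Over.map π).obj Z) := Over.OverMorphism.ext rfl
  unfold valAt
  rw [e1, e2]
  erw [Category.id_comp, Category.id_comp, Equiv.apply_symm_apply]
  rfl

set_option maxHeartbeats 1000000 in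
/-- The two values of a central homomorphism at a pair of lifts agree. -/
theorem valAt_eq [Flat π] [IsSeparated G.hom] [LocallyOfFinitePresentation G.hom]
    [GeometricallyConnected π] (hH : SGA3x.IsMultTypeFT H) [IsMonHom u']
    (hc : ∀ (X : Over S') (g : X ⟶ Red.bc π G) (h : X ⟶ Red.bc π H),
      g * (h ≫ u') = (h ≫ u') * g)
    {Z : Over S} (a b : Z ⟶ Over.mk π) (x : Z ⟶ H) : valAt π u' a x = valAt π u' b x := by
  let r : Limits.pullback π π ⟶ S := Limits.pullback.fst π π ≫ π
  let A : Over.mk r ⟶ Over.mk π := Over.homMk (Limits.pullback.fst π π) rfl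
  let B : Over.mk r ⟶ Over.mk π :=
    Over.homMk (Limits.pullback.snd π π) Limits.pullback.condition.symm
  let pz : ∀ Y : Over (Limits.pullback π π), (Over.map r).obj Y ⟶ Over.mk r :=
    fun Y ↦ Over.homMk Y.hom rfl
  let v : Red.bc r H ⟶ Red.bc r G := (Over.mapPullbackAdj r).homEquiv (Red.bc r H) G
    (valAt π u' (pz _ ≫ A) (qPt r (𝟙 _)) * (valAt π u' (pz _ ≫ B) (qPt r (𝟙 _)))⁻¹)
  have hv : ∀ (Y : Over (Limits.pullback π π)) (y : Y ⟶ Red.bc r H), qPt r (y ≫ v) =
      valAt π u' (pz Y ≫ A) (qPt r y) * (valAt π u' (pz Y ≫ B) (qPt r y))⁻¹ := fun Y y ↦ by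
    have e1 : qPt r (y ≫ v) = (Over.map r).map y ≫ qPt r v :=
      (Over.mapPullbackAdj r).homEquiv_naturality_left_symm y v
    have e2 : (Over.map r).map y ≫ qPt r (𝟙 (Red.bc r H)) = qPt r y :=
      ((Over.mapPullbackAdj r).homEquiv_naturality_left_symm y (𝟙 _)).symm.trans
        (congrArg _ (Category.comp_id _))
    have e3 : (Over.map r).map y ≫ pz (Red.bc r H) = pz Y := Over.OverMorphism.ext (Over.w y)
    have e4 : qPt r v = valAt π u' (pz _ ≫ A) (qPt r (𝟙 _)) *
        (valAt π u' (pz _ ≫ B) (qPt r (𝟙 _)))⁻¹ := Equiv.symm_apply_apply _ _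
    rw [e1, e4, MonObj.comp_mul, GrpObj.comp_inv, comp_valAt, comp_valAt, e2, ← Category.assoc,
      ← Category.assoc, e3]
  haveI : IsMonHom v := Groth.AlgGrp1.isMonHom_of_points v fun Y y y' ↦ by
    apply qPt_injective r
    show qPt r ((y * y') ≫ v) = bcPointEquiv r G Y (y ≫ v * (y' ≫ v))
    rw [map_mul, hv,
      show bcPointEquiv r G Y (y ≫ v) = qPt r (y ≫ v) from rfl,
      show bcPointEquiv r G Y (y' ≫ v) = qPt r (y' ≫ v) from rfl, hv, hv,
      show qPt r (y * y') = qPt r y * qPt r y' from map_mul (bcPointEquiv r H Y) y y',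
      valAt_mul, valAt_mul, _root_.mul_inv_rev, _root_.mul_assoc, _root_.mul_assoc]
    congr 1
    rw [← _root_.mul_assoc]
    exact ((Commute.symm (valAt_central u' hc _ _ _)).mul_left
      (Commute.symm (valAt_central u' hc _ _ _)).inv_left).eq
  haveI : IsSeparated (Red.bc r G).hom := MorphismProperty.pullback_snd _ _ ‹_›
  haveI : LocallyOfFinitePresentation (Red.bc r G).hom := MorphismProperty.pullback_snd _ _ ‹_›
  obtain ⟨U, hUc, hUiff, hUtriv⟩ :=
    exists_clopen_trivLocus' v (isMultTypeFT_bc hH r) (Or.inr inferInstance)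
  have hU : ∀ z, z ∈ U := by
    intro z
    let pt := (Limits.pullback π π).fromSpecResidueField z
    let x₀ := pt ≫ Limits.pullback.fst π π
    let F := Limits.pullback π (x₀ ≫ π)
    haveI : ConnectedSpace F :=
      GeometricallyConnected.geometrically_connectedSpace (f := π) _ _ _ (.of_hasPullback _ _)
    let φF : F ⟶ Limits.pullback π π := Limits.pullback.lift (Limits.pullback.snd _ _ ≫ x₀)
      (Limits.pullback.fst _ _) (by rw [Category.assoc]; exact Limits.pullback.condition.symm)
    let δ : _ ⟶ F := Limits.pullback.lift x₀ (𝟙 _) (Category.id_comp _).symm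
    let β : _ ⟶ F := Limits.pullback.lift (pt ≫ Limits.pullback.snd π π) (𝟙 _) (by
      rw [Category.id_comp, Category.assoc, Category.assoc, ← Limits.pullback.condition])
    let q : Spec ((Limits.pullback π π).residueField z) := IsLocalRing.closedPoint _
    have hd₁ : δ ≫ φF ≫ Limits.pullback.fst π π = x₀ := by
      simp only [δ, φF, Limits.pullback.lift_fst, Limits.pullback.lift_snd_assoc, Category.id_comp]
    have hd₂ : δ ≫ φF ≫ Limits.pullback.snd π π = x₀ := by
      simp only [δ, φF, Limits.pullback.lift_snd, Limits.pullback.lift_fst]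
    have hdiag : (δ ≫ φF).base q ∈ U := by
      rw [hUiff, pullback_map_eq_one_iff]
      refine (trivOn_fieldPoint_iff v _ (δ ≫ φF)).mp fun W w y ↦ ?_
      apply qPt_injective r
      have e : pz W ≫ A = pz W ≫ B := by
        refine Over.OverMorphism.ext ?_
        show W.hom ≫ Limits.pullback.fst π π = W.hom ≫ Limits.pullback.snd π π
        rw [← Over.w w]
        show (w.left ≫ δ ≫ φF) ≫ _ = (w.left ≫ δ ≫ φF) ≫ _
        simp only [Category.assoc]
        exact congrArg (fun t ↦ w.left ≫ t) (hd₁.trans hd₂.symm)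
      rw [hv, e, mul_inv_cancel]
      exact (map_one (bcPointEquiv r G W)).symm
    have hpre : φF.base ⁻¹' (U : Set (Limits.pullback π π : Scheme.{u})) = Set.univ :=
      IsClopen.eq_univ ⟨hUc.preimage φF.continuous, U.isOpen.preimage φF.continuous⟩
        ⟨δ.base q, by simpa using hdiag⟩
    have hβ : β ≫ φF = pt := by
      apply Limits.pullback.hom_ext
      · simp only [β, φF, x₀, Category.assoc, Limits.pullback.lift_fst,
          Limits.pullback.lift_snd_assoc, Category.id_comp]
      · simp only [β, φF, Category.assoc, Limits.pullback.lift_snd, Limits.pullback.lift_fst]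
    have h : β.base q ∈ φF.base ⁻¹' (U : Set (Limits.pullback π π : Scheme.{u})) :=
      hpre ▸ Set.mem_univ _
    rw [Set.mem_preimage, ← Scheme.Hom.comp_apply, hβ, Scheme.fromSpecResidueField_apply] at h
    exact h
  let l : Z ⟶ Over.mk r := Over.homMk
    (Limits.pullback.lift a.left b.left ((Over.w a).trans (Over.w b).symm)) (by
      show _ ≫ _ ≫ π = _
      rw [Limits.pullback.lift_fst_assoc]
      exact Over.w a)
  have hlA : l ≫ A = a := Over.OverMorphism.ext (Limits.pullback.lift_fst _ _ _)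
  have hlB : l ≫ B = b := Over.OverMorphism.ext (Limits.pullback.lift_snd _ _ _)
  have hr : Set.range l.left ⊆ Set.range U.ι := by
    rw [Scheme.Opens.range_ι]
    exact fun z _ ↦ hU z
  let y := (Over.mapPullbackAdj r).homEquiv (Over.mk l.left) H (ofMapPt r l ≫ x)
  have h1 := congrArg (qPt r) (hUtriv (Over.mk l.left)
    (Over.homMk (IsOpenImmersion.lift U.ι l.left hr) (IsOpenImmersion.lift_fac _ _ _)) y)
  rw [hv, show qPt r y = ofMapPt r l ≫ x from Equiv.symm_apply_apply _ _,
    show qPt r (1 : Over.mk l.left ⟶ Red.bc r G) = 1 from map_one (bcPointEquiv r G _),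
    mul_inv_eq_one] at h1
  have h2 := toMapPt r l ≫= h1
  have e : toMapPt r l ≫ pz (Over.mk l.left) = l := Over.OverMorphism.ext (Category.id_comp _)
  rwa [comp_valAt, comp_valAt, toMapPt_ofMapPt_assoc, ← Category.assoc, ← Category.assoc, e, hlA,
    hlB] at h2

/-- Descent of central homomorphisms. -/
theorem existsUnique_descent [Flat π] [Surjective π] [IsSeparated G.hom]
    [LocallyOfFinitePresentation G.hom] [GeometricallyConnected π]
    (hcov : ∀ V : S.Opens, IsAffineOpen V → ∃ W : S'.Opens, IsCompact (W : Set S') ∧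
      π.base '' (W : Set S') = (V : Set S))
    (hH : SGA3x.IsMultTypeFT H) [IsMonHom u']
    (hc : ∀ (X : Over S') (g : X ⟶ Red.bc π G) (h : X ⟶ Red.bc π H),
      g * (h ≫ u') = (h ≫ u') * g) :
    ∃! u : H ⟶ G, IsMonHom u ∧ (Over.pullback π).map u = u' := by
  let Z₀ : Over S := (Over.map π).obj (Red.bc π H)
  let q₀ : Z₀ ⟶ H := qPt π (𝟙 _)
  let p := Limits.pullback.fst H.hom π
  have hq₀ : q₀.left = p := by
    simp [q₀, qPt, p, Adjunction.homEquiv_counit]
  let a₀ : Z₀ ⟶ Over.mk π := Over.homMk (Red.bc π H).hom rfl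
  let φ : Z₀ ⟶ G := qPt π u'
  have hφ : φ = valAt π u' a₀ q₀ := by
    have h := qPt_comp_eq_valAt u' (𝟙 (Red.bc π H))
    rwa [Category.id_comp] at h
  haveI : Flat p := MorphismProperty.pullback_fst _ _ ‹_›
  haveI : Surjective p := MorphismProperty.pullback_fst _ _ ‹_›
  haveI : EffectiveEpi p := effectiveEpi_of_qcCover p (qcCover_pullback_fst π hcov H.hom)
  have hsame : ∀ {R : Scheme.{u}} (g₁ g₂ : R ⟶ _), g₁ ≫ p = g₂ ≫ p →
      g₁ ≫ φ.left = g₂ ≫ φ.left := by
    intro R g₁ g₂ h
    let W : Over S := Over.mk (g₁ ≫ Z₀.hom)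
    let w₁ : W ⟶ Z₀ := Over.homMk g₁ rfl
    let w₂ : W ⟶ Z₀ := Over.homMk g₂ (by
      show g₂ ≫ Z₀.hom = g₁ ≫ Z₀.hom
      rw [← Over.w q₀, hq₀, ← Category.assoc, ← h, Category.assoc])
    have e : w₁ ≫ φ = w₂ ≫ φ := by
      have e1 : w₁ ≫ q₀ = w₂ ≫ q₀ := Over.OverMorphism.ext (by
        show g₁ ≫ q₀.left = g₂ ≫ q₀.left
        rw [hq₀, h])
      rw [hφ, comp_valAt, comp_valAt, e1]
      exact valAt_eq u' hH hc _ _ _
    exact congrArg (fun z ↦ z.left) e
  let uL := EffectiveEpi.desc p φ.left hsame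
  have huL : p ≫ uL = φ.left := EffectiveEpi.fac p φ.left hsame
  let u : H ⟶ G := Over.homMk uL (by
    rw [← cancel_epi p, ← Category.assoc, huL, Over.w φ, ← Over.w q₀, hq₀])
  have hu : (Over.pullback π).map u = u' := by
    apply qPt_injective π
    rw [← Category.id_comp ((Over.pullback π).map u), qPt_map]
    refine Over.OverMorphism.ext ?_
    rw [Over.comp_left]
    show q₀.left ≫ uL = φ.left
    rw [hq₀, huL]
  refine ⟨u, ⟨Groth.AlgGrp1.isMonHom_of_points u fun Z x y ↦ ?_, hu⟩, fun v hv ↦ ?_⟩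
  · let k := Limits.pullback.fst Z.hom π
    haveI : Flat k := MorphismProperty.pullback_fst _ _ ‹_›
    haveI : Surjective k := MorphismProperty.pullback_fst _ _ ‹_›
    haveI : Epi k := Flat.epi_of_flat_of_surjective k
    let W : Over S := Over.mk (k ≫ Z.hom)
    let kk : W ⟶ Z := Over.homMk k rfl
    haveI : Epi kk.left := ‹Epi k›
    haveI : Epi kk := (Over.forget S).epi_of_epi_map ‹Epi kk.left›
    let a : W ⟶ Over.mk π :=
      Over.homMk (Limits.pullback.snd Z.hom π) Limits.pullback.condition.symm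
    rw [← cancel_epi kk, ← Category.assoc, MonObj.comp_mul, MonObj.comp_mul, ← Category.assoc,
      ← Category.assoc, comp_eq_valAt u' u hu a, comp_eq_valAt u' u hu a,
      comp_eq_valAt u' u hu a, valAt_mul]
  · refine Over.OverMorphism.ext ((cancel_epi p).mp ?_)
    have e : q₀ ≫ v = q₀ ≫ u := by rw [← qPt_map, ← qPt_map, hv.2, hu]
    have e' := congrArg (fun z ↦ z.left) e
    simp only [Over.comp_left, hq₀] at e'
    exact e'

end Groth.Reductive.FreeDiag
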