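import Groth.Agent.Reductive.FpqcLocal

/-!
Properties checked on affine charts lying over two given fpqc coverings at once.
-/

set_option autoImplicit false
universe u

open CategoryTheory CategoryTheory.Limits AlgebraicGeometry MorphismProperty

namespace Groth.Reductive

/-- A property local on the target which descends along surjective flat quasi-compact morphisms can be
checked on affine schemes mapping compatibly into given opens of two fpqc covers. -/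
theorem of_fpqc_locally₂ (P : MorphismProperty Scheme.{u}) [IsZariskiLocalAtTarget P]
    (hP : P.DescendsAlong Groth.DescentBase.SFQ) {X S S₁ S₂ : Scheme.{u}} (h : X ⟶ S)
    (f₁ : S₁ ⟶ S) (f₂ : S₂ ⟶ S) (hflat₁ : Flat f₁) (hflat₂ : Flat f₂)
    (hqc₁ : ∀ V : S.Opens, IsAffineOpen V → ∃ W : S₁.Opens, IsCompact (W : Set S₁) ∧
      f₁.base '' (W : Set S₁) = (V : Set S))
    (hqc₂ : ∀ V : S.Opens, IsAffineOpen V → ∃ W : S₂.Opens, IsCompact (W : Set S₂) ∧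
      f₂.base '' (W : Set S₂) = (V : Set S))
    (U₁ : S₁ → S₁.Opens) (hU₁ : ∀ a, a ∈ U₁ a) (U₂ : S₂ → S₂.Opens) (hU₂ : ∀ b, b ∈ U₂ b)
    (hloc : ∀ (T : Scheme.{u}), IsAffine T → ∀ (a : S₁) (b : S₂) (j₁ : T ⟶ U₁ a) (j₂ : T ⟶ U₂ b),
      j₁ ≫ (U₁ a).ι ≫ f₁ = j₂ ≫ (U₂ b).ι ≫ f₂ → P (pullback.snd h (j₁ ≫ (U₁ a).ι ≫ f₁))) :
    P h := by
  refine of_fpqc_locally P hP h f₁ hflat₁ hqc₁ fun a ↦ ?_
  obtain ⟨V, hV, haV, -⟩ := exists_isAffineOpen_mem_and_subset (x := f₁.base a) (U := (⊤ : S.Opens))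
    trivial
  obtain ⟨T₁, hT₁, haT, hTle⟩ := exists_isAffineOpen_mem_and_subset (x := a) (U := U₁ a ⊓ f₁ ⁻¹ᵁ V)
    ⟨hU₁ a, haV⟩
  refine ⟨T₁, haT, ?_⟩
  obtain ⟨W, hWc, hW⟩ := hqc₂ V hV
  have hle₁ : Set.range (T₁.ι ≫ f₁) ⊆ Set.range V.ι := by
    rintro _ ⟨w, rfl⟩
    rw [Scheme.Opens.range_ι]
    exact (hTle w.2).2
  have hle₂ : Set.range (W.ι ≫ f₂) ⊆ Set.range V.ι := by
    rintro _ ⟨w, rfl⟩
    rw [Scheme.Opens.range_ι]
    exact hW.subset ⟨w.1, w.2, rfl⟩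
  let g₁ := IsOpenImmersion.lift V.ι (T₁.ι ≫ f₁) hle₁
  let g₂ := IsOpenImmersion.lift V.ι (W.ι ≫ f₂) hle₂
  have hg₁ : g₁ ≫ V.ι = T₁.ι ≫ f₁ := IsOpenImmersion.lift_fac _ _ _
  have hg₂ : g₂ ≫ V.ι = W.ι ≫ f₂ := IsOpenImmersion.lift_fac _ _ _
  have : Surjective g₂ := by
    refine ⟨fun v ↦ ?_⟩
    obtain ⟨w, hw, e⟩ := hW.superset v.2
    refine ⟨⟨w, hw⟩, V.ι.isOpenEmbedding.injective ?_⟩
    rw [← Scheme.Hom.comp_apply, hg₂]
    exact e
  have : Flat g₂ := by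
    haveI := hflat₂
    haveI : Flat (g₂ ≫ V.ι) := by rw [hg₂]; infer_instance
    exact MorphismProperty.of_postcomp (W := @Flat) (W' := @IsOpenImmersion) g₂ V.ι
      inferInstance inferInstance
  have : CompactSpace (W : Scheme.{u}) := isCompact_iff_compactSpace.mp hWc
  have : IsAffine (V : Scheme.{u}) := hV
  have : QuasiCompact g₂ := quasiCompact_iff_compactSpace g₂ |>.mpr inferInstance
  let k := pullback.fst g₁ g₂
  haveI : Surjective k := MorphismProperty.pullback_fst _ _ ‹_›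
  haveI : Flat k := MorphismProperty.pullback_fst _ _ ‹_›
  haveI : QuasiCompact k := MorphismProperty.pullback_fst _ _ ‹_›
  refine hP.of_isPullback (IsPullback.of_hasPullback (pullback.snd h (T₁.ι ≫ f₁)) k).flip
    (Groth.DescentBase.sfq k) ?_
  rw [← P.cancel_left_of_respectsIso (pullbackLeftPullbackSndIso h _ k).inv,
    pullbackLeftPullbackSndIso_inv_snd_snd]
  -- Zariski locally on the fibre product
  let b : ↥(pullback g₁ g₂) → S₂ := fun r ↦ ((pullback.snd g₁ g₂).base r).1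
  choose R hR hrR hRle using fun r : ↥(pullback g₁ g₂) ↦
    exists_isAffineOpen_mem_and_subset (x := r) (U := (pullback.snd g₁ g₂ ≫ W.ι) ⁻¹ᵁ U₂ (b r))
      (hU₂ (b r))
  let 𝒲 : (pullback g₁ g₂ : Scheme.{u}).OpenCover := Scheme.openCoverOfIsOpenCover _ R
    (.mk (top_unique fun r _ ↦ TopologicalSpace.Opens.mem_iSup.mpr ⟨r, hrR r⟩))
  rw [IsZariskiLocalAtTarget.iff_of_openCover (P := P) 𝒲]
  intro r
  change P (pullback.snd (pullback.snd h (k ≫ T₁.ι ≫ f₁)) (R r).ι)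
  rw [← P.cancel_left_of_respectsIso (pullbackLeftPullbackSndIso h _ _).inv,
    pullbackLeftPullbackSndIso_inv_snd_snd]
  let j₁ : (R r : Scheme.{u}) ⟶ U₁ a := (R r).ι ≫ k ≫ S₁.homOfLE (hTle.trans inf_le_left)
  have hle : Set.range ((R r).ι ≫ pullback.snd g₁ g₂ ≫ W.ι) ⊆ Set.range (U₂ (b r)).ι := by
    rintro _ ⟨x, rfl⟩
    rw [Scheme.Opens.range_ι]
    exact hRle r x.2
  let j₂ := IsOpenImmersion.lift (U₂ (b r)).ι _ hle
  have e₁ : j₁ ≫ (U₁ a).ι ≫ f₁ = (R r).ι ≫ k ≫ T₁.ι ≫ f₁ := by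
    simp [j₁]
  have e₂ : j₁ ≫ (U₁ a).ι ≫ f₁ = j₂ ≫ (U₂ (b r)).ι ≫ f₂ := by
    rw [e₁, IsOpenImmersion.lift_fac_assoc, Category.assoc, Category.assoc, ← hg₁, ← hg₂]
    simp only [k]
    rw [pullback.condition_assoc]
  exact snd_of_eq P h e₁ (hloc _ (hR r) a (b r) j₁ j₂ e₂)

end Groth.Reductive
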