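import Groth.Agent.Reductive.HomDiag
import Groth.Agent.Reductive.FreeDiagDescent
import Groth.Prelude.Def_AutFam

/-!
The scheme of homomorphisms after a base change trivialising source and target.
-/

set_option autoImplicit false
universe u

open CategoryTheory MonoidalCategory CartesianMonoidalCategory MonObj GrpObj AlgebraicGeometry

noncomputable section

namespace Groth.Reductive.FreeDiag

attribute [local instance] algΓ'

variable {S T : Scheme.{u}}

lemma qPt_comp (g : T ⟶ S) {W Z : Over T} {A : Over S} (z : W ⟶ Z)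
    (x : Z ⟶ (Over.pullback g).obj A) : qPt g (z ≫ x) = (Over.map g).map z ≫ qPt g x :=
  Adjunction.homEquiv_naturality_left_symm _ _ _

/-- A finite diagonalisable group over a nonempty base has finitely many characters. -/
theorem finite_of_isFinite_DS [IsAffine T] [Nonempty T] {M : Type} [AddCommGroup M]
    (h : IsFinite (Red.DS T M).hom) : Finite M := by
  haveI : IsAffine (𝟙_ (Over T)).left := inferInstanceAs (IsAffine T)
  let P := Red.DS T M ⊗ 𝟙_ (Over T)
  have hP : IsFinite P.hom := by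
    rw [← Over.w (fst (Red.DS T M) (𝟙_ (Over T)))]
    haveI := h
    haveI : IsIso (fst (Red.DS T M) (𝟙_ (Over T))) :=
      ⟨lift (𝟙 _) (toUnit _), by
        apply CartesianMonoidalCategory.hom_ext
        · simp
        · exact toUnit_unique _ _, by simp⟩
    haveI : IsIso (fst (Red.DS T M) (𝟙_ (Over T))).left :=
      (Over.forget T).map_isIso (fst (Red.DS T M) (𝟙_ (Over T)))
    infer_instance
  rw [HasAffineProperty.iff_of_isAffine (P := @IsFinite)] at hP
  let c : Γ(T, ⊤) →+* MonoidAlgebra Γ(T, ⊤) (Multiplicative M) := MonoidAlgebra.singleOneRingHom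
  have hc : (κ₀ (T := T) (M := M) (Y := 𝟙_ (Over T))).comp c = P.hom.appTop.hom := by
    refine RingHom.ext fun r ↦ ?_
    show κ₀ (T := T) (M := M) (Y := 𝟙_ (Over T)) (MonoidAlgebra.single (1 : Multiplicative M) r) = _
    rw [κ₀, ptEv_single, ← dsValHom_apply, map_one, _root_.mul_one,
      ← Over.w (snd (Red.DS T M) (𝟙_ (Over T))), Scheme.Hom.comp_appTop]
    simp
  have hfin : c.Finite := by
    let e := RingEquiv.ofBijective _ (κ₀_bijective (T := T) (M := M) (Y := 𝟙_ (Over T)))
    have : c = e.symm.toRingHom.comp P.hom.appTop.hom := by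
      rw [← hc]
      exact RingHom.ext fun r ↦ (e.symm_apply_apply _).symm
    rw [this]
    exact RingHom.Finite.comp (RingHom.Finite.of_surjective _ e.symm.surjective) hP.2
  haveI : Nonempty (⊤ : T.Opens) := ⟨⟨Classical.arbitrary _, trivial⟩⟩
  haveI : Nontrivial Γ(T, ⊤) := inferInstance
  haveI : Module.Finite Γ(T, ⊤) (MonoidAlgebra Γ(T, ⊤) (Multiplicative M)) := by
    rw [← RingHom.finite_algebraMap]
    exact hfin
  haveI := Module.Finite.finite_basis (MonoidAlgebra.basis (Multiplicative M) Γ(T, ⊤))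
  exact Finite.of_equiv (Multiplicative M) Multiplicative.toAdd

variable {G H A : Over S} [GrpObj G] [GrpObj H]

/-- The representing scheme is finite étale over an affine chart trivialising source and target. -/
theorem finite_etale_pullback_homScheme (υ : G ⊗ A ⟶ H) (hυ : AutFam.RepresentsHom G H A υ)
    [IsAffine T] (g : T ⟶ S) [IsAffine ((Over.pullback g).obj A).left] {M N : Type} [AddCommGroup M]
    [AddCommGroup N] [Finite M] [Finite N] (iG : Red.DS T M ≅ Red.bc g G) [IsMonHom iG.hom]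
    (iH : Red.DS T N ≅ Red.bc g H) [IsMonHom iH.hom] :
    IsFinite ((Over.pullback g).obj A).hom ∧ Etale ((Over.pullback g).obj A).hom := by
  let F := Over.pullback g
  haveI : IsMonHom iH.inv := inferInstance
  haveI : IsMonHom iG.inv := inferInstance
  let φ : Red.DS T M ⊗ F.obj A ⟶ Red.DS T N :=
    pLift g (fst (Red.DS T M) (F.obj A) ≫ iG.hom) (snd (Red.DS T M) (F.obj A)) ≫ F.map υ ≫ iH.inv
  have hp : ∀ (Z : Over T) (h : Z ⟶ Red.DS T M) (y : Z ⟶ F.obj A),
      qPt g ((lift h y ≫ φ) ≫ iH.hom) = lift (bcPointEquiv g G Z (h ≫ iG.hom)) (qPt g y) ≫ υ :=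
    fun Z h y ↦ by
    have e : lift h y ≫ pLift g (fst (Red.DS T M) (F.obj A) ≫ iG.hom) (snd (Red.DS T M) (F.obj A)) =
        pLift g (h ≫ iG.hom) y := by
      refine pullback_hom_ext g ?_ ?_
      · rw [Category.assoc, pLift_fst, pLift_fst, lift_fst_assoc]
      · rw [Category.assoc, pLift_snd, pLift_snd, lift_snd]
    simp only [φ, Category.assoc, Iso.inv_hom_id, Category.comp_id]
    rw [← Category.assoc, e, qPt_map, qPt_pLift]
    rfl
  refine finite_etale_of_universal φ (fun Z h h' y ↦ ?_) fun Z ψ hψ ↦ ?_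
  · rw [← cancel_mono iH.hom, MonObj.mul_comp]
    refine (bcPointEquiv g H Z).injective ?_
    rw [map_mul]
    show qPt g _ = qPt g _ * qPt g _
    rw [hp, hp, hp, MonObj.mul_comp, map_mul]
    exact hυ.1 _ _ _ _
  -- the family over `S` attached to `ψ`
  let Z' := (Over.map g).obj Z
  let nT : ∀ {X : Over S} (_ : X ⟶ Z'), Over T := fun t ↦ Over.mk (t.left ≫ Z.hom)
  have hn : ∀ {X : Over S} (t : X ⟶ Z'), (t.left ≫ Z.hom) ≫ g = X.hom := fun t ↦ by
    rw [Category.assoc]; exact Over.w t
  let c : ∀ {X : Over S} (t : X ⟶ Z'), (Over.map g).obj (nT t) ≅ X :=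
    fun t ↦ Over.isoMk (Iso.refl _) (by
      rw [Iso.refl_hom, Category.id_comp]
      exact (hn t).symm)
  let pY : ∀ {X : Over S} (t : X ⟶ Z'), nT t ⟶ Z := fun t ↦ Over.homMk t.left rfl
  let pH : ∀ {X : Over S} (t : X ⟶ Z') (_ : X ⟶ G), nT t ⟶ Red.DS T M := fun t h ↦
    (bcPointEquiv g G (nT t)).symm ((c t).hom ≫ h) ≫ iG.inv
  let val : ∀ {X : Over S} (_ : X ⟶ G) (_ : X ⟶ Z'), X ⟶ H := fun h t ↦
    (c t).inv ≫ bcPointEquiv g H (nT t) (lift (pH t h) (pY t) ≫ ψ ≫ iH.hom)
  let X₁ := G ⊗ Z'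
  let ψ₀ : X₁ ⟶ H := val (fst G Z') (snd G Z')
  have hval : ∀ {X : Over S} (h : X ⟶ G) (t : X ⟶ Z'), lift h t ≫ ψ₀ = val h t := fun {X} h t ↦ by
    let k : nT t ⟶ nT (snd G Z') := Over.homMk (lift h t).left (by
      show (lift h t).left ≫ (snd G Z').left ≫ Z.hom = t.left ≫ Z.hom
      rw [← Category.assoc, ← Over.comp_left, lift_snd])
    have hk : lift h t ≫ (c (snd G Z')).inv = (c t).inv ≫ (Over.map g).map k :=
      Over.OverMorphism.ext ((Category.comp_id _).trans (Category.id_comp _).symm)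
    have hk' : (Over.map g).map k ≫ (c (snd G Z')).hom = (c t).hom ≫ lift h t :=
      Over.OverMorphism.ext (by simp [c, k])
    show lift h t ≫ (c (snd G Z')).inv ≫ _ = _
    rw [reassoc_of% hk, ← bcPointEquiv_comp]
    congr 2
    rw [← Category.assoc k, comp_lift]
    congr 2
    · show k ≫ _ ≫ iG.inv = _ ≫ iG.inv
      rw [← Category.assoc]
      congr 1
      refine (bcPointEquiv g G (nT t)).injective ?_
      rw [bcPointEquiv_comp, MulEquiv.apply_symm_apply, MulEquiv.apply_symm_apply,
        reassoc_of% hk', lift_fst]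
    · refine Over.OverMorphism.ext ?_
      show (lift h t).left ≫ (snd G Z').left = t.left
      rw [← Over.comp_left, lift_snd]
  have hψ₀ : AutFam.IsHomFamily G H ψ₀ := fun X g₁ g₂ t ↦ by
    rw [hval, hval, hval]
    show (c t).inv ≫ _ = ((c t).inv ≫ _) * ((c t).inv ≫ _)
    rw [← MonObj.comp_mul, ← map_mul]
    congr 2
    have e : pH t (g₁ * g₂) = pH t g₁ * pH t g₂ := by
      simp only [pH, MonObj.comp_mul, map_mul, MonObj.mul_comp]
    rw [e, ← Category.assoc, hψ, MonObj.mul_comp, Category.assoc, Category.assoc]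
  obtain ⟨a, ha, huniq⟩ := hυ.2 Z' ψ₀ hψ₀
  -- translation of the equations
  let D := Red.DS T M
  have key : ∀ v : Z ⟶ F.obj A, (D ◁ v) ≫ φ = ψ ↔ (G ◁ qPt g v) ≫ υ = ψ₀ := by
    intro v
    have e1 : ∀ (W : Over T) (h : W ⟶ D) (y : W ⟶ Z),
        qPt g ((lift h y ≫ (D ◁ v) ≫ φ) ≫ iH.hom) =
          lift (bcPointEquiv g G W (h ≫ iG.hom)) ((Over.map g).map y) ≫ (G ◁ qPt g v) ≫ υ :=
      fun W h y ↦ by
      rw [lift_whiskerLeft_assoc, hp, lift_whiskerLeft_assoc, qPt_comp]
    have e2 : ∀ (W : Over T) (h : W ⟶ D) (y : W ⟶ Z),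
        qPt g ((lift h y ≫ ψ) ≫ iH.hom) =
          lift (bcPointEquiv g G W (h ≫ iG.hom)) ((Over.map g).map y) ≫ ψ₀ := fun W h y ↦ by
      let t := (Over.map g).map y
      let x := bcPointEquiv g G W (h ≫ iG.hom)
      let k : W ⟶ nT t := Over.homMk (𝟙 _) (by
        show 𝟙 _ ≫ y.left ≫ Z.hom = W.hom
        rw [Category.id_comp]; exact Over.w y)
      rw [hval]
      show qPt g _ = (c t).inv ≫ _
      have hk : (c t).inv = (Over.map g).map k := Over.OverMorphism.ext (by simp [c, k] <;> rfl)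
      have hk2 : (Over.map g).map k ≫ (c t).hom = 𝟙 _ := Over.OverMorphism.ext (by simp [c, k] <;> rfl)
      rw [hk, ← bcPointEquiv_comp, ← Category.assoc k, comp_lift]
      show _ = qPt g _
      congr 1
      rw [Category.assoc]
      congr 2
      · show h = k ≫ _ ≫ iG.inv
        rw [← Category.assoc, Iso.eq_comp_inv]
        refine (bcPointEquiv g G W).injective ?_
        conv_rhs => rw [bcPointEquiv_comp, MulEquiv.apply_symm_apply, reassoc_of% hk2]
    constructor
    · intro h
      have h1 := e2 (nT (snd G Z')) (pH (snd G Z') (fst G Z')) (pY (snd G Z'))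
      have h2 := e1 (nT (snd G Z')) (pH (snd G Z') (fst G Z')) (pY (snd G Z'))
      rw [h] at h2
      rw [h2] at h1
      have e3 : lift (bcPointEquiv g G _ (pH (snd G Z') (fst G Z') ≫ iG.hom))
          ((Over.map g).map (pY (snd G Z'))) = (c (snd G Z')).hom := by
        apply CartesianMonoidalCategory.hom_ext
        · simp only [pH, Category.assoc, Iso.inv_hom_id, Category.comp_id, lift_fst,
            MulEquiv.apply_symm_apply]
          rfl
        · rw [lift_snd]
          exact Over.OverMorphism.ext (by simp [pY, c]; rfl)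
      rw [e3] at h1
      exact (cancel_epi _).mp h1
    · intro h
      have h1 := e1 _ (fst D Z) (snd D Z)
      rw [h, ← e2, lift_fst_snd, Category.id_comp, Category.id_comp] at h1
      exact (cancel_mono iH.hom).mp (qPt_injective g h1)
  refine ⟨(Over.mapPullbackAdj g).homEquiv Z A a, (key _).mpr ?_, fun v hv ↦ ?_⟩
  · rw [show qPt g ((Over.mapPullbackAdj g).homEquiv Z A a) = a from Equiv.symm_apply_apply _ _]
    exact ha
  · apply qPt_injective g
    rw [show qPt g ((Over.mapPullbackAdj g).homEquiv Z A a) = a from Equiv.symm_apply_apply _ _]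
    exact huniq _ ((key v).mp hv)

end Groth.Reductive.FreeDiag
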