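import Groth.Agent.Reductive.TrivialActionDescent
import Groth.Agent.Reductive.HomDiagLift
import Groth.Agent.Reductive.HomDiagDescent
import Groth.Agent.Reductive.FpqcLocalTwo
import Mathlib.AlgebraicGeometry.Morphisms.FlatDescent

/-!
Central subgroups of multiplicative type which agree modulo a nilpotent ideal agree.
-/

set_option autoImplicit false
universe u

open CategoryTheory MonoidalCategory CartesianMonoidalCategory MonObj GrpObj AlgebraicGeometry

noncomputable section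

namespace Groth.Reductive.FreeDiag

attribute [local instance] algΓ'

/-- A homomorphism of a group of multiplicative type which is central modulo a locally nilpotent
ideal is central. -/
theorem central_of_central_mod {S S₀ : Scheme.{u}} (i₀ : S₀ ⟶ S) [IsClosedImmersion i₀]
    (hnil : ∀ x : S, ∃ U : S.affineOpens, x ∈ (U : S.Opens) ∧ IsNilpotent (i₀.ker.ideal U))
    (G H : Over S) [GrpObj G] [GrpObj H]
    (hG : TwC.Locally S TwC.Topology.fpqc (fun S' f => ∃ (M : Type) (_ : AddCommGroup M),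
      Nonempty (Grp.mk (Red.bc f G) ≅ Grp.mk (Red.DS S' M))))
    (u : G ⟶ H) [IsMonHom u]
    (h0 : ∀ (Y : Over S) (_ : Y ⟶ Over.mk i₀) (g : Y ⟶ G) (h : Y ⟶ H),
      (g ≫ u) * h = h * (g ≫ u)) :
    ∀ (Y : Over S) (g : Y ⟶ G) (h : Y ⟶ H), (g ≫ u) * h = h * (g ≫ u) := by
  -- `G` acts on `H` by conjugation through `u`
  let act : G ⊗ H ⟶ H := (fst G H ≫ u) * snd G H * (fst G H ≫ u)⁻¹
  have hact : ∀ (Z : Over S) (g : Z ⟶ G) (h : Z ⟶ H),
      lift g h ≫ act = (g ≫ u) * h * (g ≫ u)⁻¹ := fun Z g h ↦ by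
    simp only [act, MonObj.comp_mul, GrpObj.comp_inv, lift_fst_assoc, lift_snd]
  let a : AlgGrp.Action G H :=
    { act := act
      one_act := by
        have e : η[G] ▷ H = lift (1 : 𝟙_ (Over S) ⊗ H ⟶ G) (snd _ _) := by
          apply CartesianMonoidalCategory.hom_ext
          · simp [Hom.one_def, CartesianMonoidalCategory.toUnit_unique (fst (𝟙_ (Over S)) H) (toUnit _)]
          · simp
        rw [e, hact, MonObj.one_comp]
        simp [CartesianMonoidalCategory.leftUnitor_hom]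
      mul_act := by
        have e1 : μ[G] ▷ H = lift ((fst (G ⊗ G) H ≫ fst G G) * (fst (G ⊗ G) H ≫ snd G G))
            (snd (G ⊗ G) H) := by
          apply CartesianMonoidalCategory.hom_ext
          · rw [lift_fst, ← MonObj.comp_mul, Hom.mul_def, lift_fst_snd, Category.id_comp]
            simp
          · simp
        have e2 : (α_ G G H).hom ≫ (G ◁ act) =
            lift (fst (G ⊗ G) H ≫ fst G G) (lift (fst (G ⊗ G) H ≫ snd G G) (snd (G ⊗ G) H) ≫ act) := by
          apply CartesianMonoidalCategory.hom_ext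
          · simp
          · rw [lift_snd, Category.assoc, whiskerLeft_snd, ← Category.assoc]
            congr 1
            apply CartesianMonoidalCategory.hom_ext <;> simp
        rw [e1, ← Category.assoc (α_ G G H).hom, e2, hact, hact, hact, MonObj.mul_comp]
        group }
  intro Y g h
  have key : a.act = snd G H := Groth.Reductive.FreeDiag.action_eq_snd i₀ hnil hG a
    fun Z p g' h' ↦ by
      show lift g' h' ≫ act = h'
      rw [hact, h0 Z p g' h', mul_inv_cancel_right]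
  have e : (g ≫ u) * h * (g ≫ u)⁻¹ = h := by
    rw [← hact]
    show lift g h ≫ a.act = h
    rw [key, lift_snd]
  exact mul_inv_eq_iff_eq_mul.mp e


variable {R : Type u} [CommRing R] (J : Ideal R)


instance isClosedImmersion_specMk : IsClosedImmersion (Spec.map (CommRingCat.ofHom (Ideal.Quotient.mk J))) :=
  IsClosedImmersion.spec_of_surjective _ Ideal.Quotient.mk_surjective

variable {G H H' : Over (Spec (CommRingCat.of R))} [GrpObj G] [GrpObj H] [GrpObj H']

/-- The factorisation over an affine chart on which both groups are diagonalisable. -/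
theorem exists_factor_chart (hJ : IsNilpotent J) (i : H ⟶ G) [IsMonHom i] (i' : H' ⟶ G)
    [IsMonHom i'] [Mono i']
    (hc : ∀ (X : Over (Spec (CommRingCat.of R))) (g : X ⟶ G) (h : X ⟶ H), g * (h ≫ i) = (h ≫ i) * g)
    (h0 : ∀ (Z : Over (Spec (CommRingCat.of R))) (_ : Z ⟶ Over.mk (Spec.map (CommRingCat.ofHom (Ideal.Quotient.mk J)))) (h : Z ⟶ H), ∃ h' : Z ⟶ H', h' ≫ i' = h ≫ i)
    {T : Scheme.{u}} [IsAffine T] (g : T ⟶ (Spec (CommRingCat.of R))) {M N : Type} [AddCommGroup M] [AddCommGroup N]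
    (eH : Red.DS T M ≅ Red.bc g H) [IsMonHom eH.hom] (eH' : Red.DS T N ≅ Red.bc g H')
    [IsMonHom eH'.hom] :
    ∃ φ : (Over.pullback g).obj H ⟶ (Over.pullback g).obj H',
      φ ≫ (Over.pullback g).map i' = (Over.pullback g).map i := by
  haveI : IsMonHom eH'.inv := inferInstance
  let I : Ideal Γ(T, ⊤) :=
    J.map (((Scheme.ΓSpecIso (CommRingCat.of R)).inv ≫ g.appTop).hom)
  have hI : IsNilpotent I := by
    obtain ⟨n, hn⟩ := hJ
    exact ⟨n, by rw [← Ideal.map_pow, hn, Ideal.zero_eq_bot, Ideal.map_bot, Ideal.zero_eq_bot]⟩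
  -- objects killing `I` lie over the reduction
  have hfac : ∀ Z : Over T, (∀ r ∈ I, Z.hom.appTop r = 0) →
      Nonempty ((Over.map g).obj Z ⟶ Over.mk (Spec.map (CommRingCat.ofHom (Ideal.Quotient.mk J)))) := fun Z hZ ↦ by
    obtain ⟨l, hl⟩ := exists_lift_of_appTop_ker (Spec.map (CommRingCat.ofHom (Ideal.Quotient.mk J))) (Z.hom ≫ g) (fun r hr ↦ by
      rw [Scheme.Hom.comp_appTop, CommRingCat.comp_apply]
      let σ := Scheme.ΓSpecIso (CommRingCat.of R)
      have e := ConcreteCategory.congr_hom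
        (Scheme.ΓSpecIso_naturality (CommRingCat.ofHom (Ideal.Quotient.mk J))) r
      have hr' : σ.hom r ∈ J := by
        rw [← Ideal.Quotient.eq_zero_iff_mem]
        refine Eq.trans e.symm ?_
        show (Scheme.ΓSpecIso (CommRingCat.of (R ⧸ J))).hom (Scheme.Hom.appTop (Spec.map (CommRingCat.ofHom (Ideal.Quotient.mk J))) r) = 0
        rw [hr, map_zero]
      have h1 := hZ _ (Ideal.mem_map_of_mem _ hr')
      rw [CommRingCat.hom_comp, RingHom.comp_apply] at h1
      have e2 : σ.inv.hom (σ.hom r) = r := ConcreteCategory.congr_hom σ.hom_inv_id r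
      rw [e2] at h1
      exact h1)
    exact ⟨Over.homMk l hl⟩
  haveI : IsAffine (modObj I).left :=
    inferInstanceAs (IsAffine (Spec (CommRingCat.of (Γ(T, ⊤) ⧸ I))))
  have hy : (modObj I).hom.appTop.hom =
      (ΓT (T := T) (Y := 𝟙_ (Over T)) _ (Ideal.Quotient.mk I)).comp (Ideal.Quotient.mk I) := by
    rw [← yT_appTop]
    congr 2
  have hkill : ∀ r ∈ I, (modObj I).hom.appTop r = 0 := fun r hr ↦ by
    show (modObj I).hom.appTop.hom r = 0
    rw [hy, RingHom.comp_apply, Ideal.Quotient.eq_zero_iff_mem.mpr hr, map_zero]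
  haveI : IsClosedImmersion (modObj I).hom := by
    haveI : IsClosedImmersion (Spec.map (CommRingCat.ofHom (Ideal.Quotient.mk I))) :=
      IsClosedImmersion.spec_of_surjective _ Ideal.Quotient.mk_surjective
    haveI : IsClosedImmersion (𝟙_ (Over T)).hom := inferInstanceAs (IsClosedImmersion (𝟙 T))
    exact inferInstanceAs (IsClosedImmersion (Spec.map (CommRingCat.ofHom (Ideal.Quotient.mk I)) ≫
      (𝟙_ (Over T)).left.isoSpec.inv ≫ (𝟙_ (Over T)).hom))
  let D := Red.DS T M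
  let X := D ⊗ modObj I
  have hX : ∀ r ∈ I, X.hom.appTop r = 0 := fun r hr ↦ by
    rw [← Over.w (snd D (modObj I)), Scheme.Hom.comp_appTop, CommRingCat.comp_apply, hkill r hr,
      map_zero]
  obtain ⟨p⟩ := hfac X hX
  obtain ⟨x', hx'⟩ := h0 _ p (bcPointEquiv g H X (fst D (modObj I) ≫ eH.hom))
  let φ₀ : X ⟶ Red.DS T N := (bcPointEquiv g H' X).symm x' ≫ eH'.inv
  have hval : ∀ (Z : Over T) (a : Z ⟶ D) (y : Z ⟶ modObj I),
      bcPointEquiv g H' Z ((lift a y ≫ φ₀) ≫ eH'.hom) ≫ i' =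
        bcPointEquiv g H Z (a ≫ eH.hom) ≫ i := fun Z a y ↦ by
    simp only [φ₀, Category.assoc, Iso.inv_hom_id, Category.comp_id]
    rw [bcPointEquiv_comp, MulEquiv.apply_symm_apply, Category.assoc, hx', ← Category.assoc,
      ← bcPointEquiv_comp, lift_fst_assoc]
  obtain ⟨φ, hφ, hφ₀⟩ := exists_hom_lift I hI φ₀ (fun Z a b y ↦ by
    rw [← cancel_mono eH'.hom, MonObj.mul_comp]
    apply (bcPointEquiv g H' Z).injective
    rw [← cancel_mono i', map_mul, MonObj.mul_comp, hval, hval, hval, MonObj.mul_comp, map_mul,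
      MonObj.mul_comp])
  -- the difference is a homomorphism which is trivial modulo `I`
  let F := Over.pullback g
  let A : ∀ {Z : Over T}, (Z ⟶ D) → ((Over.map g).obj Z ⟶ G) := fun {Z} a ↦
    bcPointEquiv g H' Z ((a ≫ φ) ≫ eH'.hom) ≫ i'
  let C : ∀ {Z : Over T}, (Z ⟶ D) → ((Over.map g).obj Z ⟶ G) := fun {Z} a ↦
    bcPointEquiv g H Z (a ≫ eH.hom) ≫ i
  let ω : D ⟶ Red.bc g G := (bcPointEquiv g G D).symm (A (𝟙 D) * (C (𝟙 D))⁻¹)
  have hω : ∀ {Z : Over T} (a : Z ⟶ D), bcPointEquiv g G Z (a ≫ ω) = A a * (C a)⁻¹ := fun {Z} a ↦ by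
    simp only [ω, A, C, Category.id_comp, Category.assoc]
    rw [bcPointEquiv_comp g G a, MulEquiv.apply_symm_apply, MonObj.comp_mul, GrpObj.comp_inv,
      ← Category.assoc ((Over.map g).map a), ← bcPointEquiv_comp,
      ← Category.assoc ((Over.map g).map a), ← bcPointEquiv_comp]
  have hωmul : ∀ {Z : Over T} (a b : Z ⟶ D), (a * b) ≫ ω = (a ≫ ω) * (b ≫ ω) := fun {Z} a b ↦ by
    apply (bcPointEquiv g G Z).injective
    rw [map_mul, hω, hω, hω]
    have e1 : A (a * b) = A a * A b := by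
      simp only [A, hφ, MonObj.mul_comp, map_mul]
    have e2 : C (a * b) = C a * C b := by
      simp only [C, MonObj.mul_comp, map_mul]
    have hcomm : ∀ x, Commute (C a)⁻¹ x := fun x ↦
      Commute.inv_left (hc _ x (bcPointEquiv g H Z (a ≫ eH.hom))).symm
    rw [e1, e2, _root_.mul_inv_rev, _root_.mul_assoc (A a) (C a)⁻¹, (hcomm (A b * (C b)⁻¹)).eq,
      _root_.mul_assoc, _root_.mul_assoc]
  let act : D ⊗ Red.bc g G ⟶ Red.bc g G := (fst _ _ ≫ ω) * snd _ _
  have hact : ∀ (Z : Over T) (a : Z ⟶ D) (y : Z ⟶ Red.bc g G),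
      lift a y ≫ act = (a ≫ ω) * y := fun Z a y ↦ by
    simp only [act, MonObj.comp_mul, lift_fst_assoc, lift_snd]
  have hsnd : act = snd _ _ := by
    refine eq_snd_of_diag act ?_ ?_ I hI ?_
    · intro Z a b y
      rw [hact, hact, hact, hωmul, _root_.mul_assoc]
    · intro Z y
      have h1 : (1 : Z ⟶ D) ≫ ω = 1 := by
        have h := hωmul (1 : Z ⟶ D) 1
        rw [_root_.one_mul (1 : Z ⟶ D)] at h
        exact left_eq_mul.mp h
      rw [hact, h1, _root_.one_mul]
    · intro Z hZ a y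
      suffices a ≫ ω = 1 by rw [hact, this, _root_.one_mul]
      apply (bcPointEquiv g G Z).injective
      rw [hω, map_one, mul_inv_eq_one]
      obtain ⟨l, hl⟩ := exists_lift_of_appTop_ker (modObj I).hom Z.hom (fun r hr ↦ hZ r (by
        have hr' : (modObj I).hom.appTop.hom r = 0 := hr
        rw [hy, RingHom.comp_apply] at hr'
        exact Ideal.Quotient.eq_zero_iff_mem.mp
          ((ΓT_bijective (T := T) (Y := 𝟙_ (Over T)) _ (Ideal.Quotient.mk I)).1
            (hr'.trans (map_zero _).symm))))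
      let z : Z ⟶ modObj I := Over.homMk l hl
      have hz : a ≫ φ = lift a z ≫ φ₀ := by rw [← hφ₀, lift_fst_assoc]
      simp only [A, C, hz, hval]
  have key : ω = 1 := by
    have h := hact _ (𝟙 D) 1
    rw [hsnd, lift_snd, Category.id_comp, _root_.mul_one] at h
    exact h.symm
  refine ⟨eH.inv ≫ φ ≫ eH'.hom, ?_⟩
  have h1 := hω eH.inv
  rw [key, MonObj.comp_one, map_one, eq_comm, mul_inv_eq_one] at h1
  apply qPt_injective g
  rw [qPt_map]
  refine (show bcPointEquiv g H' _ (eH.inv ≫ φ ≫ eH'.hom) ≫ i' = A eH.inv by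
    simp only [A, Category.assoc]).trans (h1.trans ?_)
  show bcPointEquiv g H _ (eH.inv ≫ eH.hom) ≫ i = qPt g ((Over.pullback g).map i)
  rw [Iso.inv_hom_id, ← Category.id_comp ((Over.pullback g).map i), qPt_map]
  rfl

open Limits in
/-- A central subgroup of multiplicative type which is contained in another one modulo a nilpotent
ideal is contained in it. -/
theorem exists_factor (hJ : IsNilpotent J)
    (hH : TwC.Locally (Spec (CommRingCat.of R)) TwC.Topology.fpqc (fun S' f => ∃ (M : Type) (_ : AddCommGroup M),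
      Nonempty (Grp.mk (Red.bc f H) ≅ Grp.mk (Red.DS S' M))))
    (hH' : TwC.Locally (Spec (CommRingCat.of R)) TwC.Topology.fpqc (fun S' f => ∃ (M : Type) (_ : AddCommGroup M),
      Nonempty (Grp.mk (Red.bc f H') ≅ Grp.mk (Red.DS S' M))))
    (i : H ⟶ G) [IsMonHom i] (i' : H' ⟶ G) [IsMonHom i'] [IsImmersion i'.left]
    (hc : ∀ (X : Over (Spec (CommRingCat.of R))) (g : X ⟶ G) (h : X ⟶ H), g * (h ≫ i) = (h ≫ i) * g)
    (h0 : ∀ (Z : Over (Spec (CommRingCat.of R))) (_ : Z ⟶ Over.mk (Spec.map (CommRingCat.ofHom (Ideal.Quotient.mk J)))) (h : Z ⟶ H), ∃ h' : Z ⟶ H', h' ≫ i' = h ≫ i) :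
    ∃ φ : H ⟶ H', φ ≫ i' = i := by
  haveI : Mono i' := (Over.forget (Spec (CommRingCat.of R))).mono_of_mono_map (inferInstanceAs (Mono i'.left))
  let q := pullback.fst i.left i'.left
  suffices hq : IsIso q by
    have e : (inv q ≫ pullback.snd i.left i'.left) ≫ i'.left = i.left := by
      rw [Category.assoc, ← pullback.condition, IsIso.inv_hom_id_assoc]
    exact ⟨Over.homMk (inv q ≫ pullback.snd i.left i'.left) (by
      rw [← Over.w i', ← Category.assoc, e]; exact Over.w i), Over.OverMorphism.ext e⟩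
  obtain ⟨S₁, f₁, hf₁, -, hqc₁, hloc₁⟩ := hH
  obtain ⟨S₂, f₂, hf₂, -, hqc₂, hloc₂⟩ := hH'
  choose U₁ hU₁ M hM e₁ using hloc₁
  choose U₂ hU₂ N hN e₂ using hloc₂
  obtain ⟨W₁, hW₁c, hW₁⟩ := hqc₁ ⊤ (isAffineOpen_top _)
  obtain ⟨W₂, hW₂c, hW₂⟩ := hqc₂ ⊤ (isAffineOpen_top _)
  have hsurj : ∀ {S' : Scheme.{u}} (f : S' ⟶ (Spec (CommRingCat.of R))) (W : S'.Opens),
      f.base '' (W : Set S') = ((⊤ : ((Spec (CommRingCat.of R))).Opens) : Set (Spec (CommRingCat.of R))) → Surjective (W.ι ≫ f) := fun f W hW ↦ ⟨fun v ↦ by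
    obtain ⟨w, hw, e⟩ := hW.superset (Set.mem_univ v)
    exact ⟨⟨w, hw⟩, e⟩⟩
  haveI := hsurj f₁ W₁ hW₁
  haveI := hsurj f₂ W₂ hW₂
  haveI := hf₁
  haveI := hf₂
  haveI : CompactSpace (W₁ : Scheme.{u}) := isCompact_iff_compactSpace.mp hW₁c
  haveI : CompactSpace (W₂ : Scheme.{u}) := isCompact_iff_compactSpace.mp hW₂c
  haveI : QuasiCompact (W₁.ι ≫ f₁) := quasiCompact_iff_compactSpace _ |>.mpr inferInstance
  haveI : QuasiCompact (W₂.ι ≫ f₂) := quasiCompact_iff_compactSpace _ |>.mpr inferInstance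
  let P := pullback (W₁.ι ≫ f₁) (W₂.ι ≫ f₂)
  let ρ : P ⟶ (Spec (CommRingCat.of R)) := pullback.fst (W₁.ι ≫ f₁) (W₂.ι ≫ f₂) ≫ W₁.ι ≫ f₁
  haveI : Surjective (pullback.fst (W₁.ι ≫ f₁) (W₂.ι ≫ f₂)) :=
    MorphismProperty.pullback_fst _ _ inferInstance
  haveI : Flat (pullback.fst (W₁.ι ≫ f₁) (W₂.ι ≫ f₂)) :=
    MorphismProperty.pullback_fst _ _ inferInstance
  haveI : QuasiCompact (pullback.fst (W₁.ι ≫ f₁) (W₂.ι ≫ f₂)) :=
    MorphismProperty.pullback_fst _ _ inferInstance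
  haveI : Surjective ρ := inferInstance
  haveI : Flat ρ := inferInstance
  haveI : QuasiCompact ρ := inferInstance
  let k := pullback.fst H.hom ρ
  haveI : Surjective k := MorphismProperty.pullback_fst _ _ inferInstance
  haveI : Flat k := MorphismProperty.pullback_fst _ _ inferInstance
  haveI : QuasiCompact k := MorphismProperty.pullback_fst _ _ inferInstance
  refine MorphismProperty.of_isPullback_of_descendsAlong (P := MorphismProperty.isomorphisms Scheme.{u})
    (Q := @Surjective ⊓ @Flat ⊓ @QuasiCompact)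
    (IsPullback.of_hasPullback q k).flip ⟨⟨inferInstance, inferInstance⟩, inferInstance⟩ ?_
  -- Zariski locally on the cover
  let a : P → S₁ := fun r ↦ ((pullback.fst (W₁.ι ≫ f₁) (W₂.ι ≫ f₂)).base r).1
  let b : P → S₂ := fun r ↦ ((pullback.snd (W₁.ι ≫ f₁) (W₂.ι ≫ f₂)).base r).1
  choose O hO hrO hOle using fun r : ↥P ↦
    exists_isAffineOpen_mem_and_subset (x := r)
      (U := (pullback.fst (W₁.ι ≫ f₁) (W₂.ι ≫ f₂) ≫ W₁.ι) ⁻¹ᵁ U₁ (a r) ⊓
        (pullback.snd (W₁.ι ≫ f₁) (W₂.ι ≫ f₂) ≫ W₂.ι) ⁻¹ᵁ U₂ (b r))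
      ⟨hU₁ (a r), hU₂ (b r)⟩
  let 𝒲 : P.OpenCover := Scheme.openCoverOfIsOpenCover _ O
    (.mk (top_unique fun r _ ↦ TopologicalSpace.Opens.mem_iSup.mpr ⟨r, hrO r⟩))
  show IsIso (pullback.snd q k)
  apply (IsZariskiLocalAtTarget.iff_of_openCover (P := MorphismProperty.isomorphisms Scheme.{u})
    (𝒲.pullback₁ (pullback.snd H.hom ρ))).mpr
  intro r
  haveI : IsAffine (O r : Scheme.{u}) := hO r
  have hle₁ : Set.range ((O r).ι ≫ pullback.fst (W₁.ι ≫ f₁) (W₂.ι ≫ f₂) ≫ W₁.ι) ⊆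
      Set.range (U₁ (a r)).ι := by
    rintro _ ⟨x, rfl⟩
    rw [Scheme.Opens.range_ι]
    exact (hOle r x.2).1
  have hle₂ : Set.range ((O r).ι ≫ pullback.snd (W₁.ι ≫ f₁) (W₂.ι ≫ f₂) ≫ W₂.ι) ⊆
      Set.range (U₂ (b r)).ι := by
    rintro _ ⟨x, rfl⟩
    rw [Scheme.Opens.range_ι]
    exact (hOle r x.2).2
  let t₁ := IsOpenImmersion.lift (U₁ (a r)).ι _ hle₁
  let t₂ := IsOpenImmersion.lift (U₂ (b r)).ι _ hle₂
  set g := (O r).ι ≫ ρ with hg
  have hg₁ : t₁ ≫ (U₁ (a r)).ι ≫ f₁ = g := by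
    simp [t₁, g, ρ]
  have hg₂ : t₂ ≫ (U₂ (b r)).ι ≫ f₂ = g := by
    simp [t₂, g, ρ, pullback.condition]
  letI := hM (a r)
  letI := hN (b r)
  let eH₁ : Red.DS (U₁ (a r) : Scheme.{u}) (M (a r)) ≅ Red.bc ((U₁ (a r)).ι ≫ f₁) H :=
    ⟨(e₁ (a r)).some.inv.hom.hom, (e₁ (a r)).some.hom.hom.hom,
      congrArg (fun z => z.hom.hom) (e₁ (a r)).some.inv_hom_id,
      congrArg (fun z => z.hom.hom) (e₁ (a r)).some.hom_inv_id⟩
  haveI : IsMonHom eH₁.hom := inferInstanceAs (IsMonHom (e₁ (a r)).some.inv.hom.hom)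
  let eH₂ : Red.DS (U₂ (b r) : Scheme.{u}) (N (b r)) ≅ Red.bc ((U₂ (b r)).ι ≫ f₂) H' :=
    ⟨(e₂ (b r)).some.inv.hom.hom, (e₂ (b r)).some.hom.hom.hom,
      congrArg (fun z => z.hom.hom) (e₂ (b r)).some.inv_hom_id,
      congrArg (fun z => z.hom.hom) (e₂ (b r)).some.hom_inv_id⟩
  haveI : IsMonHom eH₂.hom := inferInstanceAs (IsMonHom (e₂ (b r)).some.inv.hom.hom)
  have h1 := exists_trivialisation_comp H t₁ ((U₁ (a r)).ι ≫ f₁) eH₁
  have h2 := exists_trivialisation_comp H' t₂ ((U₂ (b r)).ι ≫ f₂) eH₂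
  rw [hg₁] at h1
  rw [hg₂] at h2
  obtain ⟨iH, hiH⟩ := h1
  obtain ⟨iH', hiH'⟩ := h2
  obtain ⟨φ, hφ⟩ := exists_factor_chart J hJ i i' hc h0 g iH iH'
  -- the projection has a section there
  show IsIso (pullback.snd (pullback.snd q k) (pullback.fst (pullback.snd H.hom ρ) (O r).ι))
  rw [← isIso_comp_left_iff (pullbackLeftPullbackSndIso q k _).inv,
    pullbackLeftPullbackSndIso_inv_snd_snd]
  set β := pullback.fst (pullback.snd H.hom ρ) (O r).ι ≫ k
  haveI : Mono q := pullback.fst_of_mono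
  haveI : Mono (pullback.snd q β) := pullback.snd_of_mono
  let c : pullback (pullback.snd H.hom ρ) (O r).ι ⟶ ((Over.pullback g).obj H).left :=
    pullback.lift β (pullback.snd _ _) (by
      simp only [β, k, g, Category.assoc, pullback.condition]
      rw [← pullback.condition_assoc])
  have hb : c ≫ φ.left ≫ pullback.fst H'.hom g ≫ i'.left = β ≫ i.left := by
    have e : ((Over.pullback g).map i').left ≫ pullback.fst G.hom g =
        pullback.fst H'.hom g ≫ i'.left := pullback.lift_fst _ _ _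
    have e' : ((Over.pullback g).map i).left ≫ pullback.fst G.hom g =
        pullback.fst H.hom g ≫ i.left := pullback.lift_fst _ _ _
    have h := congrArg (fun z ↦ c ≫ z.left ≫ pullback.fst G.hom g) hφ
    simp only [Over.comp_left, Category.assoc] at h
    refine ((congrArg (c ≫ φ.left ≫ ·) e).symm.trans h).trans ?_
    refine (congrArg (c ≫ ·) e').trans ?_
    simp [c, pullback.lift_fst_assoc]
  let s : pullback (pullback.snd H.hom ρ) (O r).ι ⟶ pullback q β :=
    pullback.lift (pullback.lift β (c ≫ φ.left ≫ pullback.fst H'.hom g) (by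
      simpa only [Category.assoc] using hb.symm)) (𝟙 _) (by rw [Category.id_comp]; exact pullback.lift_fst _ _ _)
  haveI : IsSplitEpi (pullback.snd q β) := ⟨⟨⟨s, pullback.lift_snd _ _ _⟩⟩⟩
  exact isIso_of_mono_of_isSplitEpi _

end Groth.Reductive.FreeDiag
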