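import Groth.Agent.Reductive.TrivialActionDescent
import Mathlib.RingTheory.Nakayama
import Mathlib.RingTheory.Localization.Ideal
import Mathlib.RingTheory.LocalProperties.Basic
import Mathlib.AlgebraicGeometry.Morphisms.FiniteType
import Mathlib.AlgebraicGeometry.ResidueField

/-!
An action of a group of multiplicative type on a scheme locally of finite type which is trivial on
all fibres is trivial.
-/

set_option autoImplicit false
universe u v

open CategoryTheory MonoidalCategory CartesianMonoidalCategory MonObj GrpObj AlgebraicGeometry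

noncomputable section

namespace Groth.Reductive.FreeDiag

section Algebra

open MonoidAlgebra

variable {R : Type*} [CommRing R] {B : Type u} [CommRing B] {G : Type v} [CommGroup G]

/-- A coaction of a group algebra, linear over `R`, on an algebra of finite type which is trivial on
the fibres over `R` is trivial. -/
theorem coaction_eq_single_of_fibres (ψ : B →+* MonoidAlgebra B G)
    (hco : ∀ (C : Type max u v) [CommRing C] (jc : B →+* C) (χ χ' : G →* C) (b : B),
      ev ((ev jc χ).comp ψ) χ' (ψ b) = ev jc (χ' * χ) (ψ b))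
    (hone : (ev (RingHom.id B) 1).comp ψ = RingHom.id B)
    (j : R →+* B) (hj : ∀ r, ψ (j r) = single 1 (j r)) (hft : j.FiniteType)
    (hmod : ∀ q : Ideal B, q.IsPrime → ∀ b g, g ≠ 1 →
      ∃ s, j s ∉ q ∧ j s * (ψ b).coeff g ∈ (q.comap j).map j)
    (b : B) : ψ b = single 1 b := by
  classical
  let T : Set B := {x | ∃ b g, g ≠ 1 ∧ x = (ψ b).coeff g}
  let 𝔞 : Ideal B := Ideal.span T
  have hscal : ∀ c r g, (ψ (c * j r)).coeff g = (ψ c).coeff g * j r := fun c r g ↦ by
    rw [map_mul, hj, mul_comm (ψ c), mul_comm ((ψ c).coeff g)]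
    exact coeff_single_one_mul (ψ c) (j r) g
  -- finitely many components generate
  letI := j.toAlgebra
  haveI : Algebra.FiniteType R B := hft
  obtain ⟨gens, hgens⟩ := ‹Algebra.FiniteType R B›.out
  let t₀ : Finset B := gens.biUnion fun x ↦ ((ψ x).coeff.support.erase 1).image fun g ↦ (ψ x).coeff g
  have hfg : 𝔞.FG := by
    refine ⟨t₀, le_antisymm (Ideal.span_mono ?_) (Ideal.span_le.mpr ?_)⟩
    · intro y hy
      obtain ⟨x, -, hy⟩ := Finset.mem_biUnion.mp hy
      obtain ⟨g, hg, rfl⟩ := Finset.mem_image.mp hy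
      exact ⟨x, g, (Finset.mem_erase.mp hg).1, rfl⟩
    · rintro _ ⟨c, g, hg, rfl⟩
      let P : Ideal B := Ideal.span t₀
      let θ : B →+* MonoidAlgebra (B ⧸ P) G := (mapRingHom G (Ideal.Quotient.mk P)).comp ψ
      let A : Subalgebra R B :=
        { carrier := {x | ∀ g, g ≠ 1 → (θ x).coeff g = 0}
          add_mem' := fun {x y} hx hy g hg ↦ by simp [hx g hg, hy g hg]
          mul_mem' := fun {x y} hx hy g hg ↦ by
            have e : θ x = single 1 ((θ x).coeff 1) := MonoidAlgebra.ext <| Finsupp.ext fun g' ↦ by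
              by_cases h : g' = 1
              · subst h; simp
              · simp [hx g' h, h]
            rw [map_mul, e, coeff_single_one_mul, hy g hg, MulZeroClass.mul_zero]
          algebraMap_mem' := fun r g hg ↦ by
            show ((mapRingHom G (Ideal.Quotient.mk P)) (ψ (j r))).coeff g = 0
            rw [hj, coeff_mapRingHom, coeff_single, Finsupp.single_apply, if_neg (Ne.symm hg), map_zero] }
      have hA : A = ⊤ := by
        rw [eq_top_iff, ← hgens]
        refine Algebra.adjoin_le fun x hx g hg ↦ ?_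
        show ((mapRingHom G (Ideal.Quotient.mk P)) (ψ x)).coeff g = 0
        rw [coeff_mapRingHom, Ideal.Quotient.eq_zero_iff_mem]
        by_cases h : (ψ x).coeff g = 0
        · rw [h]; exact P.zero_mem
        · exact Ideal.subset_span (Finset.mem_biUnion.mpr ⟨x, hx, Finset.mem_image.mpr
            ⟨g, Finset.mem_erase.mpr ⟨hg, Finsupp.mem_support_iff.mpr h⟩, rfl⟩⟩)
      have h := (hA ▸ Algebra.mem_top : c ∈ A) g hg
      rw [SetLike.mem_coe, ← Ideal.Quotient.eq_zero_iff_mem]
      refine Eq.trans ?_ h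
      exact (coeff_mapRingHom _ _ _).symm
  have Hmul : ∀ (I : Ideal R) (g : G), g ≠ 1 → ∀ y ∈ Ideal.map j I, ∀ c,
      (ψ (c * y)).coeff g ∈ Ideal.map j I * 𝔞 := by
    intro I g hg y hy
    induction hy using Submodule.span_induction with
    | mem x hx =>
      obtain ⟨r, hr, rfl⟩ := hx
      intro c
      rw [hscal, mul_comm ((ψ c).coeff g)]
      have e1 : j r ∈ Ideal.map j I := Submodule.subset_span ⟨r, hr, rfl⟩
      have e2 : (ψ c).coeff g ∈ 𝔞 := Submodule.subset_span (show (ψ c).coeff g ∈ T from ⟨c, g, hg, rfl⟩)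
      exact Ideal.mul_mem_mul e1 e2
    | zero => intro c; simp
    | add x z _ _ hx hz =>
      intro c
      rw [mul_add, map_add, coeff_add, Finsupp.add_apply]
      exact add_mem (hx c) (hz c)
    | smul a x _ hx =>
      intro c
      rw [smul_eq_mul, ← _root_.mul_assoc]
      exact hx (c * a)
  have key : ∀ x ∈ T, x = 0 := by
    intro x hx
    refine eq_zero_of_localization x fun q _ ↦ ?_
    let f := algebraMap B (Localization.AtPrime q)
    let P : Ideal B := (q.comap j).map j
    have hb : ∀ y ∈ T, ∃ s, j s ∉ q ∧ j s * y ∈ P * 𝔞 := by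
      rintro _ ⟨b, g, hg, rfl⟩
      obtain ⟨s, hs, hmem⟩ := hmod q inferInstance b g hg
      refine ⟨s, hs, ?_⟩
      have h := Hmul (q.comap j) g hg _ hmem 1
      rw [_root_.one_mul, mul_comm (j s), hscal, coaction_coeff ψ hco, coeff_single,
        Finsupp.single_eq_same, mul_comm ((ψ b).coeff g)] at h
      exact h
    have hle : 𝔞.map f ≤ IsLocalRing.maximalIdeal (Localization.AtPrime q) • 𝔞.map f := by
      rw [smul_eq_mul, Ideal.map_span, Ideal.span_le]
      rintro _ ⟨y, hy, rfl⟩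
      obtain ⟨s, hs, hmem⟩ := hb y hy
      have h := Ideal.mem_map_of_mem f hmem
      rw [Ideal.map_mul, map_mul] at h
      have hu : IsUnit (f (j s)) := IsLocalization.map_units _ (⟨j s, hs⟩ : q.primeCompl)
      have hP : P.map f ≤ IsLocalRing.maximalIdeal (Localization.AtPrime q) := by
        rw [← Localization.AtPrime.map_eq_maximalIdeal]
        exact Ideal.map_mono Ideal.map_comap_le
      rw [Ideal.map_span] at h
      exact Ideal.mul_mono_left hP ((Ideal.unit_mul_mem_iff_mem _ hu).mp h)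
    have h0 := Submodule.eq_bot_of_le_smul_of_le_jacobson_bot _ _ (hfg.map f) hle
      (IsLocalRing.maximalIdeal_le_jacobson _)
    have hxm := Ideal.mem_map_of_mem f (Ideal.subset_span hx : x ∈ 𝔞)
    rw [h0] at hxm
    exact hxm
  have h1 : ψ b = single 1 ((ψ b).coeff 1) := MonoidAlgebra.ext <| Finsupp.ext fun g ↦ by
    by_cases hg : g = 1
    · subst hg; simp
    · simp [key _ ⟨b, g, hg, rfl⟩, hg]
  have h2 : (ψ b).coeff 1 = b := by
    have h := RingHom.congr_fun hone b
    rw [RingHom.comp_apply, h1, ev_single] at h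
    simpa using h
  rw [h1, h2]

/-- A map killing a prime and inverting its complement factors through a field. -/
lemma exists_field_factor {R C : Type u} [CommRing R] [CommRing C] (φ : R →+* C) (p : Ideal R)
    [p.IsPrime] (h0 : ∀ r ∈ p, φ r = 0) (h1 : ∀ r, r ∉ p → IsUnit (φ r)) :
    ∃ (K : Type u) (_ : Field K) (ιF : R →+* K) (φK : K →+* C), φK.comp ιF = φ := by
  let φ' : R ⧸ p →+* C := Ideal.Quotient.lift p φ h0
  have hunit : ∀ y : nonZeroDivisors (R ⧸ p), IsUnit (φ' y) := fun y ↦ by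
    obtain ⟨r, hr⟩ := Ideal.Quotient.mk_surjective (y : R ⧸ p)
    rw [← hr, Ideal.Quotient.lift_mk]
    exact h1 r fun h ↦ nonZeroDivisors.coe_ne_zero y
      (by rw [← hr, Ideal.Quotient.eq_zero_iff_mem.mpr h])
  exact ⟨FractionRing (R ⧸ p), inferInstance, (algebraMap _ _).comp (Ideal.Quotient.mk p),
    IsLocalization.lift hunit, RingHom.ext fun r ↦ IsLocalization.lift_eq hunit _⟩

/-- The fibre of an algebra at a prime of the base. -/
lemma exists_fibre_ring {R B : Type u} [CommRing R] [CommRing B] (j : R →+* B) (p : Ideal R)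
    [p.IsPrime] :
    ∃ (L : Type u) (_ : CommRing L) (π : B →+* L), (∀ r ∈ p, π (j r) = 0) ∧
      (∀ r, r ∉ p → IsUnit (π (j r))) ∧
      ∀ c, π c = 0 → ∃ s, s ∉ p ∧ j s * c ∈ p.map j := by
  let Sm : Submonoid B := p.primeCompl.map j.toMonoidHom
  let P : Ideal (Localization Sm) := (p.map j).map (algebraMap B (Localization Sm))
  refine ⟨Localization Sm ⧸ P, inferInstance, (Ideal.Quotient.mk P).comp (algebraMap _ _),
    fun r hr ↦ ?_, fun r hr ↦ ?_, fun c hc ↦ ?_⟩
  · exact Ideal.Quotient.eq_zero_iff_mem.mpr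
      (Ideal.mem_map_of_mem _ (Ideal.mem_map_of_mem j hr))
  · exact (IsLocalization.map_units (Localization Sm) (⟨j r, r, hr, rfl⟩ : Sm)).map
      (Ideal.Quotient.mk P)
  · obtain ⟨_, ⟨s, hs, rfl⟩, hmem⟩ :=
      (IsLocalization.algebraMap_mem_map_algebraMap_iff Sm (Localization Sm) _ _).mp
        (Ideal.Quotient.eq_zero_iff_mem.mp hc)
    exact ⟨s, hs, hmem⟩

end Algebra

attribute [local instance] algΓ'

variable {T : Scheme.{u}} {M : Type} [AddCommGroup M]

section Affine

variable {Y : Over T} [IsAffine T] [IsAffine Y.left]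

/-- An action of `D(M)` on an affine scheme which is trivial on the fibres is trivial. -/
theorem eq_snd_of_affine_fibres (act : Red.DS T M ⊗ Y ⟶ Y)
    (hassoc : ∀ (Z : Over T) (h h' : Z ⟶ Red.DS T M) (y : Z ⟶ Y),
      lift h (lift h' y ≫ act) ≫ act = lift (h * h') y ≫ act)
    (hone : ∀ (Z : Over T) (y : Z ⟶ Y), lift 1 y ≫ act = y) (hY : LocallyOfFiniteType Y.hom)
    (h0 : ∀ (K : Type u) [Field K] (x : Spec (CommRingCat.of K) ⟶ T) (Z : Over T)
        (l : Z.left ⟶ Spec (CommRingCat.of K)), l ≫ x = Z.hom →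
      ∀ (h : Z ⟶ Red.DS T M) (y : Z ⟶ Y), lift h y ≫ act = y) :
    act = snd (Red.DS T M) Y := by
  let e := RingEquiv.ofBijective _ (κ₀_bijective (T := T) (M := M) (Y := Y))
  let ψ : Γ(Y.left, ⊤) →+* MonoidAlgebra Γ(Y.left, ⊤) (Multiplicative M) :=
    e.symm.toRingHom.comp act.left.appTop.hom
  have hψ : ∀ (Z : Over T) (h : Z ⟶ Red.DS T M) (y : Z ⟶ Y),
      (lift h y ≫ act).left.appTop.hom = (ptEv h y).comp ψ := by
    intro Z h y
    refine RingHom.ext fun b ↦ ?_
    have h1 := ptEv_comp (lift h y) (fst (Red.DS T M) Y) (snd (Red.DS T M) Y)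
    rw [lift_fst, lift_snd] at h1
    rw [h1, Over.comp_left, Scheme.Hom.comp_appTop]
    exact congrArg (lift h y).left.appTop.hom (e.apply_symm_apply _).symm
  have hκ : ∀ b, κ₀ (T := T) (M := M) (MonoidAlgebra.single 1 b) =
      (snd (Red.DS T M) Y).left.appTop b := fun b ↦ by
    rw [κ₀, ptEv_single, ← dsValHom_apply, map_one, _root_.mul_one]
  let jY : Γ(T, ⊤) →+* Γ(Y.left, ⊤) := Y.hom.appTop.hom
  have hmain : ∀ b, ψ b = MonoidAlgebra.single 1 b := by
    refine coaction_eq_single_of_fibres ψ ?_ ?_ jY ?_ ?_ ?_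
    · intro C _ jC χ χ' b
      apply (ΓT_bijective C jC).1
      have h := congrArg (fun g : mkT C jC ⟶ Y ↦ g.left.appTop.hom b)
        (hassoc _ (hT C jC χ') (hT C jC χ) (yT C jC))
      simp only [hψ, RingHom.comp_apply] at h
      have e1 : ptEv (hT C jC χ') (lift (hT C jC χ) (yT C jC) ≫ act) =
          (ΓT C jC).comp (ev ((ev jC χ).comp ψ) χ') := by
        rw [← ev_eq, ptEv, hψ, ptEv_hT]
        congr 1
        exact MonoidHom.ext fun m ↦ dsVal_hT C jC χ' m
      have e2 : ptEv (hT C jC χ' * hT C jC χ) (yT C jC) = (ΓT C jC).comp (ev jC (χ' * χ)) := by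
        rw [← ev_eq, ptEv, yT_appTop]
        congr 1
        rw [dsValHom_mul_hT]
        refine MonoidHom.ext fun m ↦ ?_
        rw [MonoidHom.mul_apply, dsValHom_apply, dsValHom_apply, dsVal_hT, dsVal_hT,
          MonoidHom.comp_apply, MonoidHom.mul_apply, map_mul]
        rfl
      rw [e1, e2] at h
      exact h
    · have h := hψ Y 1 (𝟙 Y)
      rw [hone, ptEv, dsValHom_one] at h
      simpa using h.symm
    · intro r
      refine e.injective (Eq.trans (e.apply_symm_apply _) ?_)
      show act.left.appTop (Y.hom.appTop r) = κ₀ (MonoidAlgebra.single 1 _)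
      rw [hκ]
      show (Y.hom.appTop ≫ act.left.appTop) r = (Y.hom.appTop ≫ (snd (Red.DS T M) Y).left.appTop) r
      rw [← Scheme.Hom.comp_appTop, ← Scheme.Hom.comp_appTop, Over.w act,
        Over.w (snd (Red.DS T M) Y)]
    · haveI := hY
      exact (HasRingHomProperty.iff_of_isAffine (P := @LocallyOfFiniteType)).mp hY
    · intro q _ b g hg
      let p := q.comap jY
      obtain ⟨L, _, π, hπ0, hπ1, hπker⟩ := exists_fibre_ring jY p
      let C := MonoidAlgebra L (Multiplicative M)
      let jC : Γ(Y.left, ⊤) →+* C := MonoidAlgebra.singleOneRingHom.comp π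
      let χ : Multiplicative M →* C := MonoidAlgebra.of _ _
      obtain ⟨K, _, ιK, φK, hφK⟩ := exists_field_factor (jC.comp jY) p
        (fun r hr ↦ by
          show MonoidAlgebra.singleOneRingHom (π (jY r)) = 0
          rw [hπ0 r hr, map_zero])
        (fun r hr ↦ (hπ1 r hr).map MonoidAlgebra.singleOneRingHom)
      have hw : Spec.map (CommRingCat.ofHom φK) ≫
          Spec.map (CommRingCat.ofHom ιK) ≫ T.isoSpec.inv = (mkT C jC).hom := by
        rw [← Spec.map_comp_assoc, ← CommRingCat.ofHom_comp, hφK, CommRingCat.ofHom_comp,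
          Spec.map_comp_assoc]
        show _ = Spec.map (CommRingCat.ofHom jC) ≫ Y.left.isoSpec.inv ≫ Y.hom
        rw [← Scheme.isoSpec_inv_naturality]
        rfl
      have h := hψ _ (hT C jC χ) (yT C jC)
      rw [h0 K _ _ (Spec.map (CommRingCat.ofHom φK)) hw, ptEv_hT, yT_appTop] at h
      have h' : jC b = ev jC χ (ψ b) := (ΓT_bijective C jC).1 (RingHom.congr_fun h b)
      have hmap : ev jC χ = MonoidAlgebra.mapRingHom _ π := by
        refine MonoidAlgebra.ringHom_ext (fun r ↦ ?_) (fun a ↦ ?_)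
        · simp [ev_single, jC, χ, MonoidAlgebra.single_mul_single]
          exact (MonoidAlgebra.mapRingHom_single _ _ _).symm
        · simp [ev_single, jC, χ, MonoidAlgebra.single_mul_single]
          rw [MonoidAlgebra.mapRingHom_single, map_one, MonoidAlgebra.of_apply, MonoidAlgebra.single_mul_single, _root_.one_mul, _root_.one_mul]
      rw [hmap] at h'
      have h2 : π ((ψ b).coeff g) = 0 := by
        rw [← MonoidAlgebra.coeff_mapRingHom, ← h']
        show (MonoidAlgebra.single (1 : Multiplicative M) (π b) : C).coeff g = 0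
        simp [MonoidAlgebra.coeff_single, hg]
      obtain ⟨s, hs, hmem⟩ := hπker _ h2
      exact ⟨s, hs, hmem⟩
  refine Over.OverMorphism.ext (ext_of_isAffine (CommRingCat.hom_ext (RingHom.ext fun b ↦ ?_)))
  show act.left.appTop b = _
  rw [← hκ, ← hmain b]
  exact (e.apply_symm_apply _).symm

end Affine

/-- An action of `D(M)` on a scheme over an affine base which is trivial on the fibres is
trivial. -/
theorem eq_snd_of_diag_fibres [IsAffine T] {X : Over T} (act : Red.DS T M ⊗ X ⟶ X)
    (hassoc : ∀ (Z : Over T) (h h' : Z ⟶ Red.DS T M) (y : Z ⟶ X),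
      lift h (lift h' y ≫ act) ≫ act = lift (h * h') y ≫ act)
    (hone : ∀ (Z : Over T) (y : Z ⟶ X), lift 1 y ≫ act = y) (hXft : LocallyOfFiniteType X.hom)
    (h0 : ∀ (K : Type u) [Field K] (x : Spec (CommRingCat.of K) ⟶ T) (Z : Over T)
        (l : Z.left ⟶ Spec (CommRingCat.of K)), l ≫ x = Z.hom →
      ∀ (h : Z ⟶ Red.DS T M) (y : Z ⟶ X), lift h y ≫ act = y) :
    act = snd (Red.DS T M) X := by
  -- the two maps agree on points
  have hbase : ∀ z, act.left.base z = (snd (Red.DS T M) X).left.base z := by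
    intro z
    let P := (Red.DS T M ⊗ X).left
    let Z : Over T := Over.mk (P.fromSpecResidueField z ≫ (Red.DS T M ⊗ X).hom)
    let p : Z ⟶ Red.DS T M ⊗ X := Over.homMk (P.fromSpecResidueField z) rfl
    have hk : 𝟙 _ ≫ (P.fromSpecResidueField z ≫ (Red.DS T M ⊗ X).hom) = Z.hom := Category.id_comp _
    have h : p ≫ act = p ≫ snd (Red.DS T M) X := by
      have h1 := h0 _ _ Z (𝟙 _) hk (p ≫ fst _ _) (p ≫ snd _ _)
      rwa [← comp_lift, lift_fst_snd, Category.comp_id] at h1
    let q : (Spec (P.residueField z) : Scheme.{u}) := default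
    have hq := congrArg (fun f : Z ⟶ X ↦ f.left.base q) h
    simp only [Over.comp_left, Scheme.Hom.comp_apply] at hq
    rwa [show p.left.base q = z from Scheme.fromSpecResidueField_apply z q] at hq
  -- locally on the target
  refine Over.OverMorphism.ext (Scheme.Cover.hom_ext
    (X.left.affineCover.pullback₁ (snd (Red.DS T M) X).left) _ _ fun i ↦ ?_)
  let u := X.left.affineCover.f i
  let Y : Over T := Over.mk (u ≫ X.hom)
  let j : Y ⟶ X := Over.homMk u rfl
  haveI : IsAffine Y.left := inferInstanceAs (IsAffine (Spec _))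
  haveI : IsOpenImmersion j.left := inferInstanceAs (IsOpenImmersion u)
  haveI : Mono j.left := inferInstance
  haveI : Mono j := (Over.forget T).mono_of_mono_map (inferInstanceAs (Mono j.left))
  let m := (Red.DS T M ◁ j) ≫ act
  have hrange : Set.range m.left.base ⊆ Set.range j.left.base := by
    rintro _ ⟨z, rfl⟩
    refine ⟨(snd (Red.DS T M) Y).left.base z, ?_⟩
    have e1 := congrArg (fun f : Red.DS T M ⊗ Y ⟶ X ↦ f.left.base z) (whiskerLeft_snd (Red.DS T M) j)
    simp only [Over.comp_left, Scheme.Hom.comp_apply] at e1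
    show _ = ((Red.DS T M ◁ j) ≫ act).left.base z
    rw [Over.comp_left, Scheme.Hom.comp_apply, hbase, e1]
  let actY : Red.DS T M ⊗ Y ⟶ Y := Over.homMk (IsOpenImmersion.lift j.left m.left hrange) (by
    rw [← Over.w j, IsOpenImmersion.lift_fac_assoc]
    exact Over.w m)
  have hactY : actY ≫ j = m := Over.OverMorphism.ext (IsOpenImmersion.lift_fac _ _ _)
  have hpt : ∀ (Z : Over T) (h : Z ⟶ Red.DS T M) (y : Z ⟶ Y),
      (lift h y ≫ actY) ≫ j = lift h (y ≫ j) ≫ act := fun Z h y ↦ by
    rw [Category.assoc, hactY, lift_whiskerLeft_assoc]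
  have hY : actY = snd (Red.DS T M) Y := by
    refine eq_snd_of_affine_fibres actY ?_ ?_ ?_ ?_
    · intro Z h h' y
      rw [← cancel_mono j, hpt, hpt, hpt, hassoc]
    · intro Z y
      rw [← cancel_mono j, hpt, hone]
    · haveI := hXft
      exact MorphismProperty.comp_mem _ u X.hom inferInstance hXft
    · intro K _ x Z l hl h y
      rw [← cancel_mono j, hpt, h0 K x Z l hl]
  -- conclude on the chart
  let V := Limits.pullback (snd (Red.DS T M) X).left u
  let c : Over T := Over.mk (Limits.pullback.fst (snd (Red.DS T M) X).left u ≫ (Red.DS T M ⊗ X).hom)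
  let p : c ⟶ Red.DS T M ⊗ X := Over.homMk (Limits.pullback.fst (snd (Red.DS T M) X).left u) rfl
  let y : c ⟶ Y := Over.homMk (Limits.pullback.snd (snd (Red.DS T M) X).left u) (by
    show _ ≫ u ≫ X.hom = _
    rw [← Limits.pullback.condition_assoc, Over.w (snd (Red.DS T M) X)]
    rfl)
  have hy : y ≫ j = p ≫ snd (Red.DS T M) X := Over.OverMorphism.ext Limits.pullback.condition.symm
  have hp : p ≫ act = p ≫ snd (Red.DS T M) X := by
    have h1 := hpt c (p ≫ fst _ _) y
    rw [hY, lift_snd, hy, ← comp_lift, lift_fst_snd, Category.comp_id] at h1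
    exact h1.symm
  exact congrArg (fun f : c ⟶ X ↦ f.left) hp

variable {S : Scheme.{u}}

variable {G X : Over S} [GrpObj G]

/-- Over an affine chart on which the group is diagonalisable, the action is trivial. -/
theorem pullback_act_eq_of_fibres {T : Scheme.{u}} [IsAffine T] (g : T ⟶ S) (a : AlgGrp.Action G X)
    {M : Type} [AddCommGroup M] (i : Red.DS T M ≅ Red.bc g G) [IsMonHom i.hom]
    (hX : LocallyOfFiniteType X.hom)
    (h0 : ∀ (K : Type u) [Field K] (p : Spec (CommRingCat.of K) ⟶ S) (Z : Over S)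
        (l : Z.left ⟶ Spec (CommRingCat.of K)), l ≫ p = Z.hom →
      ∀ (x : Z ⟶ G) (y : Z ⟶ X), lift x y ≫ a.act = y) :
    (Over.pullback g).map a.act = (Over.pullback g).map (snd G X) := by
  let F := Over.pullback g
  let act' : Red.DS T M ⊗ F.obj X ⟶ F.obj X :=
    pLift g (fst (Red.DS T M) (F.obj X) ≫ i.hom) (snd (Red.DS T M) (F.obj X)) ≫ F.map a.act
  have hact : ∀ (Z : Over T) (h : Z ⟶ Red.DS T M) (y : Z ⟶ F.obj X),
      lift h y ≫ act' = pLift g (h ≫ i.hom) y ≫ F.map a.act := fun Z h y ↦ by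
    rw [← Category.assoc]
    congr 1
    refine pullback_hom_ext g ?_ ?_
    · rw [Category.assoc, pLift_fst, pLift_fst, lift_fst_assoc]
    · rw [Category.assoc, pLift_snd, pLift_snd, lift_snd]
  have hq : ∀ (Z : Over T) (h : Z ⟶ Red.DS T M) (y : Z ⟶ F.obj X),
      qPt g (lift h y ≫ act') = lift (bcPointEquiv g G Z (h ≫ i.hom)) (qPt g y) ≫ a.act :=
    fun Z h y ↦ by rw [hact, qPt_map, qPt_pLift]; rfl
  have hsnd : act' = snd (Red.DS T M) (F.obj X) := by
    refine eq_snd_of_diag_fibres act' ?_ ?_ (MorphismProperty.pullback_snd _ _ hX) ?_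
    · intro Z h h' y
      apply qPt_injective g
      rw [hq, hq, hq, act_assoc, ← map_mul, MonObj.mul_comp]
    · intro Z y
      apply qPt_injective g
      rw [hq, MonObj.one_comp, map_one, act_one']
    · intro K _ p Z l hl h y
      apply qPt_injective g
      rw [hq, h0 K (p ≫ g) ((Over.map g).obj Z) l
        ((Category.assoc _ _ _).symm.trans (congrArg (fun z ↦ z ≫ g) hl))]
  let P := F.obj (G ⊗ X)
  have key : pLift g ((F.map (fst G X) ≫ i.inv) ≫ i.hom) (F.map (snd G X)) = 𝟙 P := by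
    refine pullback_hom_ext g ?_ ?_
    · rw [pLift_fst, Category.assoc, Iso.inv_hom_id, Category.comp_id]
      exact (Category.id_comp _).symm
    · rw [pLift_snd]
      exact (Category.id_comp _).symm
  have h := hact P (F.map (fst G X) ≫ i.inv) (F.map (snd G X))
  rw [hsnd, lift_snd, key, Category.id_comp] at h
  exact h.symm

open Limits in
/-- An action of a group of multiplicative type on a scheme locally of finite type which is trivial on
the fibres is trivial. -/
theorem action_eq_snd_of_fibres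
    (hG : TwC.Locally S TwC.Topology.fpqc (fun S' f => ∃ (M : Type) (_ : AddCommGroup M),
      Nonempty (Grp.mk (Red.bc f G) ≅ Grp.mk (Red.DS S' M))))
    (a : AlgGrp.Action G X) (hX : LocallyOfFiniteType X.hom)
    (h0 : ∀ (K : Type u) [Field K] (p : Spec (CommRingCat.of K) ⟶ S) (Z : Over S)
        (l : Z.left ⟶ Spec (CommRingCat.of K)), l ≫ p = Z.hom →
      ∀ (x : Z ⟶ G) (y : Z ⟶ X), lift x y ≫ a.act = y) :
    a.act = snd G X := by
  obtain ⟨S', f, hflat, -, hqc, hloc⟩ := hG
  choose U hU hxU hUle using fun x : S ↦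
    exists_isAffineOpen_mem_and_subset (x := x) (U := (⊤ : S.Opens)) trivial
  let 𝒰 : S.OpenCover := Scheme.openCoverOfIsOpenCover _ U
    (.mk (top_unique fun x _ ↦ TopologicalSpace.Opens.mem_iSup.mpr ⟨x, hxU x⟩))
  refine Over.OverMorphism.ext (Scheme.Cover.hom_ext (𝒰.pullback₁ (G ⊗ X).hom) _ _ fun x ↦ ?_)
  let V := U x
  haveI : IsAffine (V : Scheme.{u}) := hU x
  show pullback.fst (G ⊗ X).hom V.ι ≫ _ = pullback.fst (G ⊗ X).hom V.ι ≫ _
  obtain ⟨W, hWc, hW⟩ := hqc V (hU x)
  have hle : Set.range (W.ι ≫ f) ⊆ Set.range V.ι := by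
    rintro _ ⟨w, rfl⟩
    rw [Scheme.Opens.range_ι]
    exact hW.subset ⟨w.1, w.2, rfl⟩
  let g := IsOpenImmersion.lift V.ι (W.ι ≫ f) hle
  have hg : g ≫ V.ι = W.ι ≫ f := IsOpenImmersion.lift_fac _ _ _
  have : Surjective g := by
    refine ⟨fun v ↦ ?_⟩
    obtain ⟨w, hw, e⟩ := hW.superset v.2
    refine ⟨⟨w, hw⟩, V.ι.isOpenEmbedding.injective ?_⟩
    rw [← Scheme.Hom.comp_apply, hg]
    exact e
  have : Flat g := by
    haveI := hflat
    haveI : Flat (g ≫ V.ι) := by rw [hg]; infer_instance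
    exact MorphismProperty.of_postcomp (W := @Flat) (W' := @IsOpenImmersion) g V.ι
      inferInstance inferInstance
  let k := pullback.fst (pullback.snd (G ⊗ X).hom V.ι) g
  haveI : Surjective k := MorphismProperty.pullback_fst _ _ ‹_›
  haveI : Flat k := MorphismProperty.pullback_fst _ _ ‹_›
  haveI : Epi k := Flat.epi_of_flat_of_surjective k
  rw [← cancel_epi k]
  -- locally on the cover
  have hA : ∀ w : (W : Scheme.{u}), ∃ (T : Scheme.{u}) (t : T ⟶ W), IsOpenImmersion t ∧ IsAffine T ∧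
      w ∈ Set.range t ∧ ∃ (M : Type) (_ : AddCommGroup M)
        (i : Red.DS T M ≅ Red.bc (t ≫ W.ι ≫ f) G), IsMonHom i.hom := by
    intro w
    obtain ⟨U', hwU, M, _, ⟨e⟩⟩ := hloc w.1
    obtain ⟨V', hV, hwV, hVU⟩ := exists_isAffineOpen_mem_and_subset (x := (w.1 : S')) (U := W ⊓ U')
      ⟨w.2, hwU⟩
    refine ⟨V', S'.homOfLE (hVU.trans inf_le_left), inferInstance, hV, ⟨⟨w.1, hwV⟩, ?_⟩, M, ‹_›, ?_⟩
    · exact Subtype.ext (by simp)
    · let e' : Red.DS (U' : Scheme.{u}) M ≅ Red.bc (U'.ι ≫ f) G :=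
        ⟨e.inv.hom.hom, e.hom.hom.hom, congrArg (fun z ↦ z.hom.hom) e.inv_hom_id,
          congrArg (fun z ↦ z.hom.hom) e.hom_inv_id⟩
      haveI : IsMonHom e'.hom := inferInstanceAs (IsMonHom e.inv.hom.hom)
      obtain ⟨i, hi⟩ := exists_trivialisation_comp G (S'.homOfLE (hVU.trans inf_le_right)) (U'.ι ≫ f)
        e'
      revert i hi
      rw [Scheme.homOfLE_ι_assoc, Scheme.homOfLE_ι_assoc]
      intro i hi
      exact ⟨i, hi⟩
  choose T t ht hTaff hwt M hM i hi using hA
  let 𝒲 : (W : Scheme.{u}).OpenCover := Scheme.Cover.mkOfCovers (W : Scheme.{u}) T t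
    (fun w ↦ ⟨w, hwt w⟩) ht
  refine Scheme.Cover.hom_ext (𝒲.pullback₁ (pullback.snd (pullback.snd (G ⊗ X).hom V.ι) g)) _ _
    fun w ↦ ?_
  show pullback.fst _ (t w) ≫ _ = pullback.fst _ (t w) ≫ _
  haveI := hTaff w
  haveI := hi w
  have hbc := pullback_act_eq_of_fibres (t w ≫ W.ι ≫ f) a (i w) hX h0
  let b : _ ⟶ (G ⊗ X).left :=
    pullback.fst (pullback.snd (pullback.snd (G ⊗ X).hom V.ι) g) (t w) ≫ k ≫
      pullback.fst (G ⊗ X).hom V.ι
  let c := pullback.snd (pullback.snd (pullback.snd (G ⊗ X).hom V.ι) g) (t w)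
  have hbc' : b ≫ (G ⊗ X).hom = c ≫ t w ≫ W.ι ≫ f := by
    simp only [b, c, k, Category.assoc]
    rw [pullback.condition, pullback.condition_assoc, hg, ← pullback.condition_assoc]
  let d := pullback.lift b c hbc'
  have hw : ∀ φ : G ⊗ X ⟶ X, ((Over.pullback (t w ≫ W.ι ≫ f)).map φ).left ≫
      pullback.fst X.hom (t w ≫ W.ι ≫ f) = pullback.fst (G ⊗ X).hom (t w ≫ W.ι ≫ f) ≫ φ.left :=
    fun φ ↦ pullback.lift_fst _ _ _
  have h := congrArg (fun φ ↦ d ≫ φ.left ≫ pullback.fst X.hom (t w ≫ W.ι ≫ f)) hbc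
  simp only [hw] at h
  simp only [d, pullback.lift_fst_assoc] at h
  simpa only [b, Category.assoc] using h

end Groth.Reductive.FreeDiag
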