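import Groth.Agent.Reductive.CentralDescent
import Groth.Agent.Reductive.SubgroupEq
import Groth.Agent.MiscGeom97.ClosedDescent
import Groth.Agent.S1124
import Groth.Agent.Agf.SubobjGrp

/-!
Descent of central subgroups of multiplicative type along fpqc coverings with geometrically connected
fibres.
-/

set_option autoImplicit false
universe u

open CategoryTheory MonoidalCategory CartesianMonoidalCategory MonObj GrpObj AlgebraicGeometry
open Groth.Pi1Desc

noncomputable section

namespace Groth.Reductive.FreeDiag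

variable {S S' : Scheme.{u}}

/-- A qc-covering flat surjection is a cover. -/
theorem isCover_of_qcCover {X Y : Scheme.{u}} (f : X ⟶ Y) [Flat f] [Surjective f]
    (hcov : ∀ V : Y.Opens, IsAffineOpen V → ∃ W : X.Opens, IsCompact (W : Set X) ∧
      f.base '' (W : Set X) = (V : Set Y)) : IsCover f := by
  refine ⟨inferInstance, inferInstance, ?_⟩
  haveI := (qcCover_singleton_iff f).mpr hcov
  rw [← PreZeroHypercover.presieve₀_singleton.{u} f, Scheme.presieve₀_mem_qcPrecoverage_iff]
  infer_instance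

/-- Being a quasi-compact immersion may be checked after base change along a cover. -/
theorem isImmersion_of_isPullback_cover {X Y Y' Z : Scheme.{u}} {q : Y' ⟶ Y} {i : Y' ⟶ X} {j : Y ⟶ Z}
    {p : X ⟶ Z} [IsCover p] (sq : IsPullback q i j p) [IsImmersion i] [QuasiCompact i] :
    IsImmersion j := by
  haveI := Groth.Agent.S1124.result.{u}
  refine (?_ : (@IsImmersion ⊓ @QuasiCompact : MorphismProperty Scheme.{u}) j).1
  refine IsZariskiLocalAtTarget.of_iSup_eq_top (P := @IsImmersion ⊓ @QuasiCompact)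
    (fun O : Z.affineOpens => O.1) (iSup_affineOpens_eq_top Z) fun O => ?_
  obtain ⟨X', f, _, hfl, hsu, hqc⟩ := exists_affine_over p O.2
  refine MorphismProperty.of_pullback_fst_of_descendsAlong (Q := (@Surjective ⊓ @Flat ⊓ @QuasiCompact :
    MorphismProperty Scheme.{u})) (f := f ≫ p ∣_ O.1) (g := j ∣_ O.1) ⟨⟨hsu, hfl⟩, hqc⟩ ?_
  let k : X' ⟶ X := f ≫ (p ⁻¹ᵁ O.1).ι
  have hk : (f ≫ p ∣_ O.1) ≫ O.1.ι = k ≫ p := by simp [k]
  have big := (IsPullback.of_hasPullback (f ≫ p ∣_ O.1) (j ∣_ O.1)).flip.paste_horiz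
    (isPullback_morphismRestrict j O.1).flip
  rw [hk] at big
  have hw : (Limits.pullback.snd (f ≫ p ∣_ O.1) (j ∣_ O.1) ≫ (j ⁻¹ᵁ O.1).ι) ≫ j =
      (Limits.pullback.fst (f ≫ p ∣_ O.1) (j ∣_ O.1) ≫ k) ≫ p := by
    rw [big.w]; simp [k]
  have top := IsPullback.of_right (h₁₁ := sq.lift _ _ hw) (h₁₂ := q) (v₁₂ := i) (h₂₁ := k) (h₂₂ := p)
    (v₁₁ := Limits.pullback.fst (f ≫ p ∣_ O.1) (j ∣_ O.1)) (v₁₃ := j)
    (by rw [sq.lift_fst]; exact big) (sq.lift_snd _ _ _) sq
  exact MorphismProperty.of_isPullback (P := @IsImmersion ⊓ @QuasiCompact) top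
    ⟨‹IsImmersion i›, ‹QuasiCompact i›⟩

lemma qPt_left {T : Scheme.{u}} (g : T ⟶ S) {X : Over T} {A : Over S} (y : X ⟶ Red.bc g A) :
    (qPt g y).left = y.left ≫ Limits.pullback.fst A.hom g := by
  simp [qPt, Adjunction.homEquiv_counit]

variable {G : Over S} [GrpObj G] {π : S' ⟶ S} {H' : Over S'} [GrpObj H'] (j' : H' ⟶ Red.bc π G)
variable {T : Scheme.{u}} (p : T ⟶ S') (r : T ⟶ S)

/-- The base change of a subgroup over `S'`, inside the base change of `G`. -/
def iC (h : p ≫ π = r) : Red.bc p H' ⟶ Red.bc r G :=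
  Over.homMk (Limits.pullback.lift
    (Limits.pullback.fst H'.hom p ≫ j'.left ≫ Limits.pullback.fst G.hom π)
    (Limits.pullback.snd H'.hom p) (by
      rw [← h, Category.assoc, Category.assoc, Limits.pullback.condition,
        ← Category.assoc j'.left]
      rw [show j'.left ≫ Limits.pullback.snd G.hom π = H'.hom from Over.w j']
      exact Limits.pullback.condition_assoc π))
    (Limits.pullback.lift_snd _ _ _)

lemma iC_fst (h : p ≫ π = r) : (iC j' p r h).left ≫ Limits.pullback.fst G.hom r =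
    Limits.pullback.fst H'.hom p ≫ j'.left ≫ Limits.pullback.fst G.hom π :=
  Limits.pullback.lift_fst _ _ _

/-- Points of `G_T` as points of `G_{S'}`. -/
def ptEquiv (h : p ≫ π = r) (X : Over T) :
    (X ⟶ Red.bc r G) ≃* ((Over.map p).obj X ⟶ Red.bc π G) :=
  let c : (Over.map r).obj X ≅ (Over.map π).obj ((Over.map p).obj X) :=
    Over.isoMk (Iso.refl X.left) (by
      show 𝟙 _ ≫ (X.hom ≫ p) ≫ π = X.hom ≫ r
      rw [Category.id_comp, Category.assoc, h])
  (bcPointEquiv r G X).trans (({
    toFun := fun x ↦ c.inv ≫ x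
    invFun := fun x ↦ c.hom ≫ x
    left_inv := fun x ↦ by simp
    right_inv := fun x ↦ by simp
    map_mul' := fun a b ↦ MonObj.comp_mul _ a b } :
      ((Over.map r).obj X ⟶ G) ≃* ((Over.map π).obj ((Over.map p).obj X) ⟶ G)).trans
    (bcPointEquiv π G ((Over.map p).obj X)).symm)

lemma ptEquiv_comp_iC (h : p ≫ π = r) (X : Over T) (x : X ⟶ Red.bc p H') :
    ptEquiv p r h X (x ≫ iC j' p r h) = bcPointEquiv p H' X x ≫ j' := by
  apply (bcPointEquiv π G _).injective
  simp only [ptEquiv, MulEquiv.trans_apply, MulEquiv.apply_symm_apply]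
  show _ ≫ qPt r (x ≫ iC j' p r h) = qPt π (qPt p x ≫ j')
  refine Over.OverMorphism.ext ?_
  simp only [Over.comp_left, qPt_left, Category.assoc, iC_fst]
  exact Category.id_comp _

lemma isMonHom_iC [IsMonHom j'] (h : p ≫ π = r) : IsMonHom (iC j' p r h) :=
  Groth.AlgGrp1.isMonHom_of_points _ fun X a b ↦ by
    apply (ptEquiv p r h X).injective
    rw [map_mul, ptEquiv_comp_iC, ptEquiv_comp_iC, ptEquiv_comp_iC, map_mul, MonObj.mul_comp]

lemma iC_central (hc : ∀ (X : Over S') (g : X ⟶ Red.bc π G) (h : X ⟶ H'), g * (h ≫ j') = (h ≫ j') * g)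
    (h : p ≫ π = r) (X : Over T) (g : X ⟶ Red.bc r G) (x : X ⟶ Red.bc p H') :
    g * (x ≫ iC j' p r h) = (x ≫ iC j' p r h) * g := by
  apply (ptEquiv p r h X).injective
  rw [map_mul, map_mul, ptEquiv_comp_iC]
  exact hc _ _ _

lemma isImmersion_iC [IsImmersion j'.left] (h : p ≫ π = r) : IsImmersion (iC j' p r h).left := by
  let g : (Red.bc r G).left ⟶ (Red.bc π G).left :=
    Limits.pullback.lift (Limits.pullback.fst G.hom r) (Limits.pullback.snd G.hom r ≫ p)
      (by rw [Category.assoc, h, Limits.pullback.condition])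
  have hg₁ : g ≫ Limits.pullback.fst G.hom π = Limits.pullback.fst G.hom r :=
    Limits.pullback.lift_fst _ _ _
  have hg₂ : g ≫ Limits.pullback.snd G.hom π = Limits.pullback.snd G.hom r ≫ p :=
    Limits.pullback.lift_snd _ _ _
  have sq₀ : IsPullback g (Limits.pullback.snd G.hom r) (Limits.pullback.snd G.hom π) p := by
    refine IsPullback.of_right ?_ hg₂ (IsPullback.of_hasPullback G.hom π)
    rw [hg₁, h]
    exact IsPullback.of_hasPullback G.hom r
  have e₁ : (iC j' p r h).left ≫ Limits.pullback.snd G.hom r = Limits.pullback.snd H'.hom p :=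
    Limits.pullback.lift_snd _ _ _
  have e₂ : j'.left ≫ Limits.pullback.snd G.hom π = H'.hom := Over.w j'
  have sq : IsPullback (Limits.pullback.fst H'.hom p) (iC j' p r h).left j'.left g := by
    refine IsPullback.of_bot ?_ ?_ sq₀
    · rw [e₁, e₂]
      exact IsPullback.of_hasPullback H'.hom p
    · apply Limits.pullback.hom_ext
      · rw [Category.assoc, Category.assoc, hg₁, iC_fst]
      · rw [Category.assoc, Category.assoc, hg₂, e₂, reassoc_of% e₁, Limits.pullback.condition]
  exact MorphismProperty.of_isPullback (P := @IsImmersion) sq ‹_›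

set_option maxHeartbeats 1000000 in
/-- The locus of a central subgroup over `S'` is stable under the relation of `G_{S'}` over `G`. -/
theorem exists_lift_stable [Flat π] [GeometricallyConnected π] [IsSeparated G.hom]
    [LocallyOfFinitePresentation G.hom] (hH' : SGA3x.IsMultTypeFT H') [IsMonHom j'] [IsImmersion j'.left]
    (hc : ∀ (X : Over S') (g : X ⟶ Red.bc π G) (h : X ⟶ H'), g * (h ≫ j') = (h ≫ j') * g)
    {W : Scheme.{u}} (v : W ⟶ H'.left) (x : W ⟶ (Red.bc π G).left)
    (e : v ≫ j'.left ≫ Limits.pullback.fst G.hom π = x ≫ Limits.pullback.fst G.hom π) :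
    ∃ v' : W ⟶ H'.left, v' ≫ j'.left = x := by
  let P := Limits.pullback π π
  let p₁ : P ⟶ S' := Limits.pullback.fst π π
  let p₂ : P ⟶ S' := Limits.pullback.snd π π
  let r : P ⟶ S := p₁ ≫ π
  have h₁ : p₁ ≫ π = r := rfl
  have h₂ : p₂ ≫ π = r := Limits.pullback.condition.symm
  let iA := iC j' p₁ r h₁
  let iB := iC j' p₂ r h₂
  haveI : IsMonHom iA := isMonHom_iC j' p₁ r h₁
  haveI : IsMonHom iB := isMonHom_iC j' p₂ r h₂
  haveI : IsImmersion iA.left := isImmersion_iC j' p₁ r h₁
  haveI : IsImmersion iB.left := isImmersion_iC j' p₂ r h₂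
  haveI : Mono iA := Over.mono_of_mono_left iA
  haveI : Mono iB := Over.mono_of_mono_left iB
  haveI : IsSeparated (Red.bc r G).hom := MorphismProperty.pullback_snd _ _ ‹_›
  haveI : LocallyOfFinitePresentation (Red.bc r G).hom := MorphismProperty.pullback_snd _ _ ‹_›
  haveI := lfp_pullback_fst_eta (isMultTypeFT_bc hH' p₁) (isMultTypeFT_bc hH' p₂)
    (Or.inr ‹LocallyOfFinitePresentation (Red.bc r G).hom›)
    ((fst (Red.bc p₁ H') (Red.bc p₂ H') ≫ iA) * (snd (Red.bc p₁ H') (Red.bc p₂ H') ≫ iB)⁻¹)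
  obtain ⟨U, hUc, hU, hUiff⟩ := exists_clopen_facOn iA iB
    (fun X a b ↦ (iC_central j' p₁ r hc h₁ X (b ≫ iB) a).symm)
    (isMultTypeFT_bc hH' p₁) (isMultTypeFT_bc hH' p₂)
  have hall : ∀ z, z ∈ U := by
    intro z
    let pt := P.fromSpecResidueField z
    let x₀ := pt ≫ p₁
    let F := Limits.pullback π (x₀ ≫ π)
    haveI : ConnectedSpace F :=
      GeometricallyConnected.geometrically_connectedSpace (f := π) _ _ _ (.of_hasPullback _ _)
    let φF : F ⟶ P := Limits.pullback.lift (Limits.pullback.snd _ _ ≫ x₀)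
      (Limits.pullback.fst _ _) (by rw [Category.assoc]; exact Limits.pullback.condition.symm)
    let δ : _ ⟶ F := Limits.pullback.lift x₀ (𝟙 _) (Category.id_comp _).symm
    let β : _ ⟶ F := Limits.pullback.lift (pt ≫ p₂) (𝟙 _) (by
      rw [Category.id_comp, Category.assoc, Category.assoc, h₂])
    let q : Spec (P.residueField z) := IsLocalRing.closedPoint _
    have hd : (δ ≫ φF) ≫ p₁ = (δ ≫ φF) ≫ p₂ := by
      simp only [δ, φF, p₁, p₂, Category.assoc, Limits.pullback.lift_fst, Limits.pullback.lift_snd,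
        Limits.pullback.lift_snd_assoc, Category.id_comp]
    have hdiag : (δ ≫ φF).base q ∈ U := by
      rw [hUiff]
      refine (facOn_fieldPoint_iff _ (δ ≫ φF)).mp fun W w a ↦ ?_
      have hW : W.hom ≫ p₁ = W.hom ≫ p₂ := by
        rw [← Over.w w]
        exact (Category.assoc _ _ _).trans ((congrArg (fun t ↦ w.left ≫ t) hd).trans
          (Category.assoc _ _ _).symm)
      have ha : (a.left ≫ Limits.pullback.fst H'.hom p₁) ≫ H'.hom = W.hom ≫ p₂ := by
        rw [← hW, ← Over.w a, Category.assoc, Category.assoc, Limits.pullback.condition]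
        rfl
      let b : W ⟶ Red.bc p₂ H' := Over.homMk
        (Limits.pullback.lift (a.left ≫ Limits.pullback.fst H'.hom p₁) W.hom ha)
        (Limits.pullback.lift_snd _ _ _)
      refine ⟨b, Over.OverMorphism.ext (Limits.pullback.hom_ext ?_ ?_)⟩
      · simp only [Over.comp_left, Category.assoc, iA, iB, iC_fst]
        exact Limits.pullback.lift_fst_assoc _ _ _ _ |>.trans (Category.assoc _ _ _)
      · exact (Over.w (b ≫ iB)).trans (Over.w (a ≫ iA)).symm
    have hpre : φF.base ⁻¹' (U : Set P) = Set.univ :=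
      IsClopen.eq_univ ⟨hUc.preimage φF.continuous, U.isOpen.preimage φF.continuous⟩
        ⟨δ.base q, by simpa using hdiag⟩
    have hβ : β ≫ φF = pt := by
      apply Limits.pullback.hom_ext
      · simp only [β, φF, x₀, p₁, Category.assoc, Limits.pullback.lift_fst,
          Limits.pullback.lift_snd_assoc, Category.id_comp]
      · simp only [β, φF, p₂, Category.assoc, Limits.pullback.lift_snd, Limits.pullback.lift_fst]
    have h : β.base q ∈ φF.base ⁻¹' (U : Set P) := hpre ▸ Set.mem_univ _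
    rw [Set.mem_preimage, ← Scheme.Hom.comp_apply, hβ, Scheme.fromSpecResidueField_apply] at h
    exact h
  -- the point of `P`
  let q := Limits.pullback.fst G.hom π
  have hl : (v ≫ H'.hom) ≫ π = (x ≫ Limits.pullback.snd G.hom π) ≫ π := by
    rw [← Over.w j']
    show (v ≫ j'.left ≫ Limits.pullback.snd G.hom π) ≫ π = _
    simp only [Category.assoc]
    rw [← Limits.pullback.condition, reassoc_of% e]
  let l : W ⟶ P := Limits.pullback.lift (v ≫ H'.hom) (x ≫ Limits.pullback.snd G.hom π) hl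
  let Z : Over P := Over.mk l
  let a : Z ⟶ Red.bc p₁ H' := Over.homMk
    (Limits.pullback.lift v l (Limits.pullback.lift_fst _ _ _).symm) (Limits.pullback.lift_snd _ _ _)
  have hr : Set.range l ⊆ Set.range U.ι := by
    rw [Scheme.Opens.range_ι]
    exact fun w _ ↦ hall w
  obtain ⟨b, hb⟩ := hU Z (Over.homMk (IsOpenImmersion.lift U.ι l hr) (IsOpenImmersion.lift_fac _ _ _)) a
  refine ⟨b.left ≫ Limits.pullback.fst H'.hom p₂, Limits.pullback.hom_ext ?_ ?_⟩
  · have h := congrArg (fun t : Z ⟶ Red.bc r G ↦ t.left ≫ Limits.pullback.fst G.hom r) hb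
    simp only [Over.comp_left, Category.assoc, iA, iB, iC_fst] at h
    rw [Category.assoc, Category.assoc, h]
    show Limits.pullback.lift v l _ ≫ _ = _
    rw [Limits.pullback.lift_fst_assoc, e]
  · rw [Category.assoc, Category.assoc,
      show j'.left ≫ Limits.pullback.snd G.hom π = H'.hom from Over.w j',
      Limits.pullback.condition, ← Category.assoc,
      show b.left ≫ Limits.pullback.snd H'.hom p₂ = l from Over.w b]
    exact Limits.pullback.lift_snd _ _ _

end Groth.Reductive.FreeDiag
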