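import Groth.Agent.Reductive.RigidNhd
import Groth.Agent.Reductive.SubgroupEq

/-!
For tori in a group scheme which need not be separated, an inclusion on all fibres is an inclusion.
-/

set_option autoImplicit false
universe u

open CategoryTheory MonoidalCategory CartesianMonoidalCategory MonObj GrpObj AlgebraicGeometry

noncomputable section

namespace Groth.Reductive.RigidNhd

open Groth.Reductive.FreeDiag

attribute [local instance] algΓ'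

variable {S : Scheme.{u}} {G H₁ H₂ : Over S} [GrpObj G] [GrpObj H₁] [GrpObj H₂]

/-- An inclusion of commuting tori which holds on every fibre holds globally. -/
theorem facOn_of_fibres [LocallyOfFinitePresentation G.hom] (i₁ : H₁ ⟶ G) (i₂ : H₂ ⟶ G)
    [IsMonHom i₁] [IsMonHom i₂] [Mono i₂]
    (hcomm : ∀ (X : Over S) (x : X ⟶ H₁) (y : X ⟶ H₂),
      (x ≫ i₁) * (y ≫ i₂) = (y ≫ i₂) * (x ≫ i₁))
    (h₁ : Red.IsTorus H₁) (h₂ : Red.IsTorus H₂)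
    (h : ∀ s : S, FacOn i₁ i₂ (Over.mk (S.fromSpecResidueField s))) :
    FacOn i₁ i₂ (Over.mk (𝟙 S)) := by
  obtain ⟨S₁, f₁, hflat₁, hsurj₁, hqc₁, hloc₁⟩ := h₁
  obtain ⟨S₂, f₂, hflat₂, hsurj₂, hqc₂, hloc₂⟩ := h₂
  haveI := hflat₁
  haveI := hsurj₁
  haveI := hflat₂
  haveI := hsurj₂
  let p₁ := Limits.pullback.fst f₁ f₂
  let p₂ := Limits.pullback.snd f₁ f₂
  let f := p₁ ≫ f₁
  have hqc := qcCover_comp p₁ f₁ (qcCover_pullback_fst f₂ hqc₂ f₁) hqc₁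
  haveI : Mono i₂.left := inferInstance
  have hchart : ∀ x, ∃ V : (Limits.pullback f₁ f₂).Opens, x ∈ V ∧
      FacOn i₁ i₂ (Over.mk (V.ι ≫ f)) := by
    intro x
    obtain ⟨U₁, hxU₁, r₁, ⟨e₁⟩⟩ := hloc₁ (p₁ x)
    obtain ⟨U₂, hxU₂, r₂, ⟨e₂⟩⟩ := hloc₂ (p₂ x)
    obtain ⟨T, hT, hxT, hTU⟩ := exists_isAffineOpen_mem_and_subset
      (U := p₁ ⁻¹ᵁ U₁ ⊓ p₂ ⁻¹ᵁ U₂) (show x ∈ p₁ ⁻¹ᵁ U₁ ⊓ p₂ ⁻¹ᵁ U₂ from ⟨hxU₁, hxU₂⟩)
    haveI : IsAffine (T : Scheme.{u}) := hT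
    let e₁' : Red.DS (U₁ : Scheme.{u}) (Fin r₁ → ℤ) ≅ Red.bc (U₁.ι ≫ f₁) H₁ :=
      ⟨e₁.inv.hom.hom, e₁.hom.hom.hom, congrArg (fun z ↦ z.hom.hom) e₁.inv_hom_id,
        congrArg (fun z ↦ z.hom.hom) e₁.hom_inv_id⟩
    haveI : IsMonHom e₁'.hom := inferInstanceAs (IsMonHom e₁.inv.hom.hom)
    let e₂' : Red.DS (U₂ : Scheme.{u}) (Fin r₂ → ℤ) ≅ Red.bc (U₂.ι ≫ f₂) H₂ :=
      ⟨e₂.inv.hom.hom, e₂.hom.hom.hom, congrArg (fun z ↦ z.hom.hom) e₂.inv_hom_id,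
        congrArg (fun z ↦ z.hom.hom) e₂.hom_inv_id⟩
    haveI : IsMonHom e₂'.hom := inferInstanceAs (IsMonHom e₂.inv.hom.hom)
    have hTU₁ : T ≤ p₁ ⁻¹ᵁ U₁ := hTU.trans inf_le_left
    have hTU₂ : T ≤ p₂ ⁻¹ᵁ U₂ := hTU.trans inf_le_right
    obtain ⟨j₁, hj₁⟩ := exists_trivialisation_comp H₁
      ((Limits.pullback f₁ f₂).homOfLE hTU₁ ≫ p₁ ∣_ U₁) (U₁.ι ≫ f₁) e₁'
    obtain ⟨j₂, hj₂⟩ := exists_trivialisation_comp H₂
      ((Limits.pullback f₁ f₂).homOfLE hTU₂ ≫ p₂ ∣_ U₂) (U₂.ι ≫ f₂) e₂'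
    revert j₁ hj₁ j₂ hj₂
    rw [Category.assoc, morphismRestrict_ι_assoc, Scheme.homOfLE_ι_assoc, Category.assoc,
      morphismRestrict_ι_assoc, Scheme.homOfLE_ι_assoc,
      show p₂ ≫ f₂ = f from Limits.pullback.condition.symm]
    intro j₁ hj₁ j₂ hj₂
    haveI := hj₁
    haveI := hj₂
    let t : (T : Scheme.{u}) := ⟨x, hxT⟩
    let g := T.ι ≫ f
    have ht : FacOn i₁ i₂ (Over.mk ((T : Scheme.{u}).fromSpecResidueField t ≫ g)) :=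
      (facOn_fieldPoint_iff _ _).mpr (h _)
    obtain ⟨a, ha⟩ := exists_trivOn_of_facOn g j₁ j₂ _ _ ht
    haveI := isMonHom_diffHom g j₁ j₂ hcomm (AddMonoidHom.id (Fin r₁ → ℤ)) a
    haveI : LocallyOfFinitePresentation (Red.bc g G).hom :=
      MorphismProperty.pullback_snd _ _ ‹_›
    obtain ⟨V, htV, hV⟩ := exists_nhd_trivOn (diffHom i₁ i₂ g j₁ j₂ (AddMonoidHom.id _) a) t ha
    have hfac := facOn_of_trivOn g j₁ j₂ a hV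
    refine ⟨T.ι ''ᵁ V, ⟨t, htV, rfl⟩, hfac.of_hom
      (Over.homMk (T.ι.isoImage V).inv ?_)⟩
    show (T.ι.isoImage V).inv ≫ V.ι ≫ T.ι ≫ f = (T.ι ''ᵁ V).ι ≫ f
    rw [← Scheme.Hom.isoImage_inv_ι_assoc T.ι V f]
  choose V hxV hV using hchart
  let Z : Over S := Over.mk f
  have hZ : FacOn i₁ i₂ Z := FacOn.of_openCover (Z := Z) V hxV hV
  let p : Z ⟶ Over.mk (𝟙 S) := Over.homMk f (Category.comp_id _)
  haveI : Flat p.left := inferInstanceAs (Flat (p₁ ≫ f₁))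
  haveI : Surjective p.left := inferInstanceAs (Surjective (p₁ ≫ f₁))
  exact FacOn.descend p hqc hZ

end Groth.Reductive.RigidNhd
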