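import Groth.Agent.AlgGrp1.FrobPow
import Groth.Agent.Misc8.QuietComp
import Groth.Agent.Agf.SubobjGrp
import Groth.Prelude.Def_Red
import Mathlib.FieldTheory.PurelyInseparable.Exponent

/-!
# Descent of subgroups along purely inseparable extensions by a Frobenius pull-back
-/

set_option autoImplicit false
set_option backward.isDefEq.respectTransparency false

universe u

open CategoryTheory MonoidalCategory CartesianMonoidalCategory MonObj AlgebraicGeometry Limits

noncomputable section

namespace Groth.Reductive.FrobSub

variable {S T : Scheme.{u}} (i : T ⟶ S) (φ : S ⟶ T) (Φ : ∀ X : Over S, X.left ⟶ X.left)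

/-- `G ↦ (G_T)_S` along `φ`. -/
abbrev Tw : Over S ⥤ Over S := Over.pullback i ⋙ Over.pullback φ

variable {i φ Φ} (hnat : ∀ ⦃X Y : Over S⦄ (f : X ⟶ Y), Φ X ≫ f.left = f.left ≫ Φ Y)
  (hS : Φ (Over.mk (𝟙 S)) = φ ≫ i)

include hnat hS in
theorem hom_comp (X : Over S) : Φ X ≫ X.hom = X.hom ≫ φ ≫ i := by
  rw [← hS]
  exact hnat (Over.homMk X.hom (Category.comp_id _) : X ⟶ Over.mk (𝟙 S))

/-- The relative endomorphism `X ⟶ (X_T)_S`. -/
def rel (X : Over S) : X ⟶ (Tw i φ).obj X :=
  Over.homMk (pullback.lift (pullback.lift (Φ X) (X.hom ≫ φ)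
    ((hom_comp hnat hS X).trans (Category.assoc _ _ _).symm)) X.hom (pullback.lift_snd _ _ _))
    (pullback.lift_snd _ _ _)

theorem rel_fst (X : Over S) :
    (rel hnat hS X).left ≫ pullback.fst ((Over.pullback i).obj X).hom φ ≫ pullback.fst X.hom i = Φ X := by
  simp [rel]

theorem rel_naturality {X Y : Over S} (f : X ⟶ Y) :
    f ≫ rel hnat hS Y = rel hnat hS X ≫ (Tw i φ).map f := by
  apply Over.OverMorphism.ext
  apply pullback.hom_ext
  · apply pullback.hom_ext <;>
      simp [rel, ← hnat f]
  · simp [rel]

/-- The natural transformation given by `rel`. -/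
def relNat : 𝟭 (Over S) ⟶ Tw i φ where
  app X := rel hnat hS X
  naturality _ _ f := rel_naturality hnat hS f

theorem rel_tensor (X Y : Over S) :
    rel hnat hS (X ⊗ Y) = (rel hnat hS X ⊗ₘ rel hnat hS Y) ≫ Functor.LaxMonoidal.μ (Tw i φ) X Y := by
  rw [← cancel_mono (Functor.OplaxMonoidal.δ (Tw i φ) X Y), Category.assoc, Functor.Monoidal.μ_δ,
    Category.comp_id]
  apply CartesianMonoidalCategory.hom_ext
  · rw [Category.assoc, Functor.OplaxMonoidal.δ_fst, ← rel_naturality, tensorHom_fst]
  · rw [Category.assoc, Functor.OplaxMonoidal.δ_snd, ← rel_naturality, tensorHom_snd]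

theorem rel_unit : rel hnat hS (𝟙_ (Over S)) = Functor.LaxMonoidal.ε (Tw i φ) := by
  rw [← cancel_mono (Functor.OplaxMonoidal.η (Tw i φ))]
  exact toUnit_unique _ _

/-- `rel`, with values in the iterated base change. -/
abbrev relG (G : Over S) : G ⟶ Red.bc φ (Red.bc i G) := rel hnat hS G

theorem isMonHom_rel (G : Over S) [GrpObj G] : IsMonHom (relG hnat hS G) where
  one_hom := by
    show _ = Functor.LaxMonoidal.ε (Over.pullback φ) ≫ (Over.pullback φ).map
      (Functor.LaxMonoidal.ε (Over.pullback i) ≫ (Over.pullback i).map η[G])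
    dsimp only [relG]
    rw [rel_naturality, rel_unit, Functor.LaxMonoidal.comp_ε, Functor.map_comp, Category.assoc]
    rfl
  mul_hom := by
    show _ = (rel hnat hS G ⊗ₘ rel hnat hS G) ≫
      Functor.LaxMonoidal.μ (Over.pullback φ) _ _ ≫ (Over.pullback φ).map
        (Functor.LaxMonoidal.μ (Over.pullback i) G G ≫ (Over.pullback i).map μ[G])
    dsimp only [relG]
    rw [rel_naturality, rel_tensor, Functor.LaxMonoidal.comp_μ, Functor.map_comp]
    simp only [Category.assoc]
    rfl

include hnat hS in
set_option synthInstance.maxHeartbeats 400000 in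
/-- The pull-back of a twisted closed subgroup along the relative endomorphism. -/
theorem exists_subgroup (hT : Φ (Over.mk i) = i ≫ φ) (hpt : ∀ (X : Over S) (x : X.left), Φ X x = x)
    (hinj : UniversallyInjective i) (G : Over S) [GrpObj G] (H' : Over T) [GrpObj H']
    (h' : H' ⟶ Red.bc i G) [IsMonHom h'] [IsClosedImmersion h'.left] :
    ∃ (H : Over S) (_ : GrpObj H) (h : H ⟶ G), IsMonHom h ∧ IsClosedImmersion h.left ∧
      ∃ g : H' ⟶ Red.bc i H, g ≫ (Over.pullback i).map h = h' ∧ Surjective g.left := by
  haveI := isMonHom_rel (i := i) (φ := φ) (Φ := Φ) hnat hS G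
  haveI : Mono h' := by
    haveI : Mono ((Over.forget T).map h') := inferInstanceAs (Mono h'.left)
    exact Functor.mono_of_mono_map (Over.forget T) inferInstance
  let c : Red.bc φ H' ⟶ Red.bc φ (Red.bc i G) := (Over.pullback φ).map h'
  haveI : IsMonHom c := by dsimp only [c]; infer_instance
  haveI : IsClosedImmersion c.left := by
    dsimp only [c]
    have hp : IsPullback (pullback.lift (pullback.fst H'.hom φ ≫ h'.left) (pullback.snd H'.hom φ)
        (by rw [Category.assoc, Over.w h']; exact pullback.condition) :
        pullback H'.hom φ ⟶ pullback ((Over.pullback i).obj G).hom φ)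
        (pullback.fst H'.hom φ) (pullback.fst ((Over.pullback i).obj G).hom φ) h'.left := by
      refine IsPullback.flip ?_
      refine IsPullback.of_bot ?_ (pullback.lift_fst _ _ _).symm (IsPullback.of_hasPullback _ φ)
      rw [pullback.lift_snd, Over.w h']
      exact IsPullback.of_hasPullback _ _
    exact MorphismProperty.of_isPullback (P := @IsClosedImmersion) hp.flip inferInstance
  let Hs : Over S := Over.mk (pullback.fst (rel hnat hS G).left c.left ≫ G.hom)
  let h : Hs ⟶ G := Over.homMk (pullback.fst (rel hnat hS G).left c.left)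
  haveI hcl : IsClosedImmersion h.left :=
    inferInstanceAs (IsClosedImmersion (pullback.fst (rel hnat hS G).left c.left))
  haveI : Mono h := Functor.mono_of_mono_map (Over.forget S) (inferInstanceAs (Mono h.left))
  obtain ⟨instH, hh⟩ : ∃ _ : GrpObj Hs, IsMonHom h := by
    refine Groth.Agf.exists_grpObj_of_subgroup h
      (fun X g => ∃ z : X ⟶ Red.bc φ H', z ≫ c = g ≫ relG hnat hS G) ?_
      (fun X => ⟨1, by rw [MonObj.one_comp, MonObj.one_comp]⟩) ?_ ?_
    · intro X g
      constructor
      · rintro ⟨w, rfl⟩
        refine ⟨Over.homMk (w.left ≫ pullback.snd (rel hnat hS G).left c.left) ?_,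
          Over.OverMorphism.ext ?_⟩
        · have e : pullback.snd (rel hnat hS G).left c.left ≫ (Red.bc φ H').hom = Hs.hom := by
            rw [← Over.w c, ← Category.assoc, ← pullback.condition, Category.assoc]
            exact congrArg (pullback.fst (rel hnat hS G).left c.left ≫ ·) (Over.w (relG hnat hS G))
          exact (Category.assoc _ _ _).trans ((congrArg (w.left ≫ ·) e).trans (Over.w w))
        · simp only [Over.comp_left, Over.homMk_left, Category.assoc, h]
          rw [pullback.condition]
      · rintro ⟨z, hz⟩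
        refine ⟨Over.homMk (pullback.lift g.left z.left
          (congrArg CommaMorphism.left hz).symm) ?_, Over.OverMorphism.ext ?_⟩
        · simp [Hs]
        · simp [h]
    · rintro X a b ⟨za, hza⟩ ⟨zb, hzb⟩
      exact ⟨za * zb, by rw [MonObj.mul_comp, MonObj.mul_comp, hza, hzb]⟩
    · rintro X a ⟨za, hza⟩
      exact ⟨za⁻¹, by rw [GrpObj.inv_comp, GrpObj.inv_comp, hza]⟩
  refine ⟨Hs, instH, h, hh, hcl, ?_⟩
  let H'S : Over S := Over.mk (H'.hom ≫ i)
  let a : H'.left ⟶ G.left := h'.left ≫ pullback.fst G.hom i
  let aS : H'S ⟶ G := Over.homMk a (by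
    show (h'.left ≫ pullback.fst G.hom i) ≫ G.hom = H'.hom ≫ i
    rw [Category.assoc, pullback.condition, ← Over.w h', Category.assoc]
    rfl)
  have hΦH : Φ H'S ≫ H'.hom = (H'.hom ≫ i) ≫ φ := by
    have := hnat (Over.homMk H'.hom rfl : H'S ⟶ Over.mk i)
    simp only [Over.homMk_left] at this
    rw [this, hT, Category.assoc]
  let b : H'.left ⟶ ((Over.pullback φ).obj H').left :=
    pullback.lift (Φ H'S) (H'.hom ≫ i) hΦH
  have hab : a ≫ (rel hnat hS G).left = b ≫ c.left := by
    apply pullback.hom_ext
    · apply pullback.hom_ext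
      · simp [rel, c, b]
        exact (hnat aS).symm
      · simp [rel, c, b]
        rw [show h'.left ≫ pullback.snd G.hom i = H'.hom from Over.w h', hΦH, ← Category.assoc,
          show a ≫ G.hom = H'.hom ≫ i from Over.w aS]
    · simp [rel, c, b]
      exact Over.w aS
  let w : H'.left ⟶ Hs.left := pullback.lift a b hab
  have hw : w ≫ Hs.hom = H'.hom ≫ i := by
    show w ≫ pullback.fst _ _ ≫ G.hom = _
    rw [pullback.lift_fst_assoc]
    exact Over.w aS
  let g : H' ⟶ Red.bc i Hs := Over.homMk (pullback.lift w H'.hom hw) (pullback.lift_snd _ _ _)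
  have hg : g ≫ (Over.pullback i).map h = h' := by
    apply Over.OverMorphism.ext
    apply pullback.hom_ext
    · simp [g, h, w, a]
    · simp [g]
      exact (Over.w h').symm
  refine ⟨g, hg, ⟨fun z => ?_⟩⟩
  let y := ((Over.pullback i).map h).left z
  obtain ⟨x, hx⟩ : ∃ x : H'.left, a x = pullback.fst G.hom i y := by
    have h1 : pullback.fst G.hom i y =
        pullback.fst (rel hnat hS G).left c.left (pullback.fst Hs.hom i z) := by
      have e : ((Over.pullback i).map h).left ≫ pullback.fst G.hom i =
          pullback.fst Hs.hom i ≫ pullback.fst (rel hnat hS G).left c.left := by simp [h]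
      exact congrArg (fun m => m z) e
    rw [h1]
    generalize (pullback.fst Hs.hom i z) = q
    refine ⟨pullback.fst H'.hom φ (pullback.snd (rel hnat hS G).left c.left q), ?_⟩
    have e1 := congrArg (fun m => m q) (pullback.condition (f := (rel hnat hS G).left) (g := c.left))
    simp only [Scheme.Hom.comp_apply] at e1
    rw [← hpt G (pullback.fst (rel hnat hS G).left c.left q)]
    have e3 : pullback.fst H'.hom φ ≫ a = c.left ≫
        pullback.fst ((Over.pullback i).obj G).hom φ ≫ pullback.fst G.hom i := by simp [a, c]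
    have e4 := congrArg (fun m => m (pullback.snd (rel hnat hS G).left c.left q)) e3
    simp only [Scheme.Hom.comp_apply] at e4
    refine e4.trans ((congrArg (fun w => pullback.fst G.hom i (pullback.fst ((Over.pullback i).obj G).hom φ w)) e1).symm.trans ?_)
    rw [← rel_fst hnat hS G]
    rfl
  refine ⟨x, ?_⟩
  haveI : IsClosedImmersion ((Over.pullback i).map h).left := by
    have : IsClosedImmersion (((Over.pullback i).map h).left ≫ 𝟙 _) := by
      rw [Category.comp_id]
      have hp : IsPullback (pullback.fst Hs.hom i) ((Over.pullback i).map h).left h.left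
          (pullback.fst G.hom i) := by
        refine IsPullback.of_bot ?_ (pullback.lift_fst _ _ _).symm (IsPullback.of_hasPullback _ i)
        have hl : ((Over.pullback i).map h).left ≫ pullback.snd G.hom i = pullback.snd Hs.hom i :=
          Over.w ((Over.pullback i).map h)
        rw [hl, Over.w h]
        exact IsPullback.of_hasPullback _ _
      exact MorphismProperty.of_isPullback (P := @IsClosedImmersion) hp inferInstance
    simpa using this
  haveI : UniversallyInjective (pullback.fst G.hom i) :=
    MorphismProperty.pullback_fst (P := @UniversallyInjective) _ _ hinj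
  apply ((Over.pullback i).map h).left.injective
  apply (pullback.fst G.hom i).injective
  rw [← Scheme.Hom.comp_apply, ← Over.comp_left, hg]
  exact hx

/-- The data for a finite purely inseparable extension. -/
theorem exists_data (k K : Type u) [Field k] [Field K] [Algebra k K]
    [Module.Finite k K] [IsPurelyInseparable k K] :
    ∃ (φ : K →+* k) (Φ : ∀ X : Over (Spec (CommRingCat.of k)), X.left ⟶ X.left),
      (∀ {X Y : Over (Spec (CommRingCat.of k))} (f : X ⟶ Y), Φ X ≫ f.left = f.left ≫ Φ Y) ∧
      Φ (Over.mk (𝟙 _)) = Spec.map (CommRingCat.ofHom φ) ≫ Spec.map (CommRingCat.ofHom (algebraMap k K)) ∧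
      Φ (Over.mk (Spec.map (CommRingCat.ofHom (algebraMap k K)))) =
        Spec.map (CommRingCat.ofHom (algebraMap k K)) ≫ Spec.map (CommRingCat.ofHom φ) ∧
      ∀ (X : Over (Spec (CommRingCat.of k))) (x : X.left), Φ X x = x := by
  obtain ⟨p, hp⟩ := ExpChar.exists k
  rcases hp with _ | ⟨hp⟩
  · let e := RingEquiv.ofBijective (algebraMap k K)
      ⟨(algebraMap k K).injective, IsPurelyInseparable.surjective_algebraMap_of_isSeparable k K⟩
    refine ⟨e.symm.toRingHom, fun X => 𝟙 _, fun f => by simp, ?_, ?_, fun X x => rfl⟩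
    · rw [← Spec.map_comp, ← CommRingCat.ofHom_comp, show e.symm.toRingHom.comp (algebraMap k K) =
        RingHom.id k from RingHom.ext fun x => e.symm_apply_apply x, CommRingCat.ofHom_id, Spec.map_id]
      rfl
    · rw [← Spec.map_comp, ← CommRingCat.ofHom_comp, show (algebraMap k K).comp e.symm.toRingHom =
        RingHom.id K from RingHom.ext fun x => e.apply_symm_apply x, CommRingCat.ofHom_id, Spec.map_id]
      rfl
  · haveI : Fact p.Prime := ⟨hp⟩
    haveI : CharP K p := charP_of_injective_algebraMap (algebraMap k K).injective p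
    haveI : ExpChar k p := ExpChar.prime hp
    haveI : ExpChar K p := ExpChar.prime hp
    let n := IsPurelyInseparable.exponent k K
    let φ : K →+* k := IsPurelyInseparable.iterateFrobenius k K p (le_refl n)
    have hφ : ∀ x, algebraMap k K (φ x) = x ^ p ^ n := fun x =>
      IsPurelyInseparable.algebraMap_iterateFrobenius k p (le_refl n) x
    have hφ' : ∀ x, φ (algebraMap k K x) = x ^ p ^ n := fun x =>
      (algebraMap k K).injective (by rw [hφ, map_pow])
    have hX : ∀ X : Over (Spec (CommRingCat.of k)), FrobSch.IsCharP X.left p :=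
      fun X => FrobSch.IsCharP.of_hom X.hom p
    let Φ : ∀ X : Over (Spec (CommRingCat.of k)), X.left ⟶ X.left := fun X =>
      letI := hX X
      Groth.AlgGrp1.FrobPow.Fp X.left p n
    have key : ∀ (R : CommRingCat.{u}) [FrobSch.IsCharP (Spec R) p] (F : R →+* R) (m : ℕ),
        (p : R) = 0 → (∀ x, F x = x ^ p ^ m) →
        Groth.AlgGrp1.FrobPow.Fp (Spec R) p m = Spec.map (CommRingCat.ofHom F) := by
      intro R _ F m hR hF
      induction m generalizing F with
      | zero =>
        obtain rfl : F = RingHom.id R := RingHom.ext fun x => by simp [hF]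
        simp
        rfl
      | succ m ih =>
        let F₀ : R →+* R :=
          { toFun := fun x => x ^ p ^ m
            map_one' := one_pow _
            map_mul' := fun x y => mul_pow x y _
            map_zero' := zero_pow (pow_ne_zero _ hp.ne_zero)
            map_add' := fun x y => by
              rcases subsingleton_or_nontrivial R with hs | hs
              · exact Subsingleton.elim _ _
              · haveI : CharP R p := (CharP.charP_iff_prime_eq_zero hp).2 hR
                haveI : ExpChar R p := ExpChar.prime hp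
                exact add_pow_expChar_pow x y p m }
        rw [Groth.AlgGrp1.FrobPow.Fp_succ, ih F₀ (fun x => rfl),
          ← Groth.Misc8.QuietComp.specMap_powHom R hR, ← Spec.map_comp, ← CommRingCat.ofHom_comp]
        congr 2
        ext x
        simp [F₀, hF, ← pow_mul, pow_succ']
    refine ⟨φ, Φ, fun {X Y} f => ?_, ?_, ?_, fun X x => ?_⟩
    · letI := hX X; letI := hX Y
      exact Groth.AlgGrp1.FrobPow.Fp_comp p f.left n
    · rw [← Spec.map_comp, ← CommRingCat.ofHom_comp]
      exact key _ _ n (CharP.cast_eq_zero k p) hφ'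
    · rw [← Spec.map_comp, ← CommRingCat.ofHom_comp]
      exact key _ _ n (CharP.cast_eq_zero K p) hφ
    · letI := hX X
      exact Groth.AlgGrp1.FrobPow.Fp_apply X.left p n x

end Groth.Reductive.FrobSub

end
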