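import Groth.Agent.EssFree.Basic
import Groth.Agent.GenericFree.Basic
import Groth.Prelude.Def_Red

/-!
# A morphism of finite type to an integral scheme is essentially free over a nonempty open
-/

set_option autoImplicit false
universe u

open CategoryTheory CategoryTheory.Limits AlgebraicGeometry TensorProduct TopologicalSpace

noncomputable section

namespace Groth.Reductive.GenEssFree

/-- A generically free module is free after any flat base change inverting the relevant element. -/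
theorem free_baseChange_of_gf {R M B : Type u} [CommRing R] [AddCommGroup M] [Module R M] [CommRing B] [Algebra R B]
    [Module.Flat R B] {f : R} {ι : Type u} (φ : (ι →₀ R) →ₗ[R] M) (hφ : Function.Injective φ)
    (hs : ∀ m, ∃ k : ℕ, f ^ k • m ∈ LinearMap.range φ) (hf : IsUnit (algebraMap R B f)) :
    Module.Free B (B ⊗[R] M) := by
  let ψ := φ.baseChange B
  have hinj : Function.Injective ψ := by
    have h := Module.Flat.lTensor_preserves_injective_linearMap (M := B) φ hφ
    intro x y e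
    exact h e
  have hsurj : Function.Surjective ψ := by
    intro z
    induction z using TensorProduct.induction_on with
    | zero => exact ⟨0, map_zero _⟩
    | add a b ha hb =>
      obtain ⟨x, rfl⟩ := ha; obtain ⟨y, rfl⟩ := hb
      exact ⟨x + y, map_add _ _ _⟩
    | tmul b m =>
      obtain ⟨k, x, hx⟩ := hs m
      obtain ⟨u, hu⟩ := hf.pow k
      refine ⟨(b * ↑u⁻¹) ⊗ₜ x, ?_⟩
      rw [LinearMap.baseChange_tmul, hx, ← TensorProduct.smul_tmul, Algebra.smul_def, map_pow, ← hu,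
        mul_comm b, ← mul_assoc, Units.mul_inv, one_mul]
  exact Module.Free.of_equiv (LinearEquiv.ofBijective ψ ⟨hinj, hsurj⟩)

/-- Global functions of a base change are projective if the corresponding tensor product is. -/
theorem projective_of_isPullback' {V V' S' S'' : Scheme.{u}} [IsAffine V] [IsAffine S'] [IsAffine S'']
    {vs : V ⟶ S'} {a : S'' ⟶ S'} {m : V' ⟶ V} {w : V' ⟶ S''} (h : IsPullback m w vs a)
    (hP : letI := vs.appTop.hom.toAlgebra; letI := a.appTop.hom.toAlgebra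
      Module.Projective Γ(S'', ⊤) (Γ(S'', ⊤) ⊗[Γ(S', ⊤)] Γ(V, ⊤))) :
    letI := w.appTop.hom.toAlgebra; Module.Projective Γ(S'', ⊤) Γ(V', ⊤) := by
  have H := (isPushout_appTop_of_isPullback h).flip
  algebraize [vs.appTop.hom, a.appTop.hom, m.appTop.hom, w.appTop.hom, (vs.appTop ≫ m.appTop).hom]
  haveI : IsScalarTower Γ(S', ⊤) Γ(V, ⊤) Γ(V', ⊤) := IsScalarTower.of_algebraMap_eq fun x => rfl
  haveI : IsScalarTower Γ(S', ⊤) Γ(S'', ⊤) Γ(V', ⊤) := IsScalarTower.of_algebraMap_eq fun x => by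
    change (vs.appTop ≫ m.appTop) x = (a.appTop ≫ w.appTop) x
    rw [← Scheme.Hom.comp_appTop, ← Scheme.Hom.comp_appTop, h.w]
  haveI : Algebra.IsPushout Γ(S', ⊤) Γ(S'', ⊤) Γ(V, ⊤) Γ(V', ⊤) := CommRingCat.isPushout_iff_isPushout.1 H
  exact Module.Projective.of_equiv (Algebra.IsPushout.equiv Γ(S', ⊤) Γ(S'', ⊤) Γ(V, ⊤) Γ(V', ⊤)).toLinearEquiv

/-- Over some nonempty open of an integral base, a morphism of finite type is essentially free. -/
theorem exists_open_essFree {Y S : Scheme.{u}} [IsIntegral S] (f : Y ⟶ S) [LocallyOfFiniteType f] [QuasiCompact f] :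
    ∃ U : S.Opens, (U : Set S).Nonempty ∧ ∀ (U' : S.Opens), U' ≤ U → SGA3x.IsEssentiallyFree (pullback.snd f U'.ι) := by
  classical
  obtain ⟨W, hW, hxW, -⟩ := exists_isAffineOpen_mem_and_subset (X := S) (x := genericPoint S) (U := ⊤) trivial
  haveI : IsAffine (W : Scheme.{u}) := hW
  haveI : Nonempty (W : Scheme.{u}) := ⟨⟨_, hxW⟩⟩
  haveI : IsIntegral (W : Scheme.{u}) := isIntegral_of_isOpenImmersion W.ι
  let P₁ := pullback f W.ι
  let π₁ : P₁ ⟶ (W : Scheme.{u}) := pullback.snd f W.ι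
  haveI : CompactSpace P₁ := QuasiCompact.compactSpace_of_compactSpace π₁
  let 𝒰 := P₁.affineCover.finiteSubcover
  let R := Γ((W : Scheme.{u}), ⊤)
  have key : ∀ i, ∃ g : R, g ≠ 0 ∧
      (letI := (𝒰.f i ≫ π₁).appTop.hom.toAlgebra
      ∃ (ι : Type u) (φ : (ι →₀ R) →ₗ[R] Γ(𝒰.X i, ⊤)), Function.Injective φ ∧
        ∀ m : Γ(𝒰.X i, ⊤), ∃ k : ℕ, g ^ k • m ∈ LinearMap.range φ) := by
    intro i
    letI := (𝒰.f i ≫ π₁).appTop.hom.toAlgebra
    haveI : Algebra.FiniteType R Γ(𝒰.X i, ⊤) :=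
      (HasRingHomProperty.iff_of_isAffine (P := @LocallyOfFiniteType)).1 (inferInstance : LocallyOfFiniteType (𝒰.f i ≫ π₁))
    exact Groth.GenericFree.gf_of_finiteType (R := R) Γ(𝒰.X i, ⊤) Γ(𝒰.X i, ⊤)
  choose g hg hgf using key
  letI : Fintype 𝒰.I₀ := Fintype.ofFinite _
  let G : R := ∏ i, g i
  have hG : G ≠ 0 := Finset.prod_ne_zero_iff.mpr fun i _ => hg i
  let U : S.Opens := W.ι ''ᵁ (W : Scheme.{u}).basicOpen G
  refine ⟨U, ?_, fun U' hU' => ?_⟩
  · have hne : ((W : Scheme.{u}).basicOpen G : Set ↥(W : Scheme.{u})).Nonempty := by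
      rw [Set.nonempty_iff_ne_empty]
      intro h
      exact hG ((basicOpen_eq_bot_iff G).mp (TopologicalSpace.Opens.ext h))
    exact hne.image _
  intro s
  obtain ⟨A, hA, hsA, -⟩ := exists_isAffineOpen_mem_and_subset (X := (U' : Scheme.{u})) (x := s) (U := ⊤) trivial
  haveI : IsAffine (A : Scheme.{u}) := hA
  refine ⟨A, hsA, hA, (A : Scheme.{u}), hA, 𝟙 _, inferInstance, inferInstance, fun x => ?_⟩
  let b : (A : Scheme.{u}) ⟶ (W : Scheme.{u}) := IsOpenImmersion.lift W.ι (A.ι ≫ U'.ι) (by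
    rintro _ ⟨p, rfl⟩
    rw [Scheme.Opens.range_ι, Scheme.Hom.comp_apply]
    obtain ⟨w, -, hw⟩ := hU' (A.ι p).2
    show U'.ι (A.ι p) ∈ W
    rw [show U'.ι (A.ι p) = W.ι w from hw.symm]
    exact w.2)
  have hb : b ≫ W.ι = A.ι ≫ U'.ι := IsOpenImmersion.lift_fac _ _ _
  haveI : IsOpenImmersion (b ≫ W.ι) := hb ▸ inferInstance
  haveI : IsOpenImmersion b := IsOpenImmersion.of_comp b W.ι
  have hbU : ∀ p, b p ∈ (W : Scheme.{u}).basicOpen G := fun p => by
    obtain ⟨w, hw, hwp⟩ := hU' (A.ι p).2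
    have : W.ι (b p) = U'.ι (A.ι p) := by
      rw [← Scheme.Hom.comp_apply, hb]; rfl
    rw [← W.ι.isOpenEmbedding.injective (hwp.trans this.symm)]
    exact hw
  let h₂ := 𝟙 (A : Scheme.{u}) ≫ A.ι
  let P₂ := pullback (pullback.snd f U'.ι) h₂
  have sq : IsPullback (pullback.fst (pullback.snd f U'.ι) h₂ ≫ pullback.fst f U'.ι)
      (pullback.snd (pullback.snd f U'.ι) h₂) f (b ≫ W.ι) := by
    rw [hb]
    have := (IsPullback.of_hasPullback (pullback.snd f U'.ι) h₂).paste_horiz (IsPullback.of_hasPullback f U'.ι)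
    simpa [h₂] using this
  let m : P₂ ⟶ P₁ := pullback.lift (pullback.fst (pullback.snd f U'.ι) h₂ ≫ pullback.fst f U'.ι)
    (pullback.snd (pullback.snd f U'.ι) h₂ ≫ b) (by rw [sq.w, Category.assoc])
  have hm : IsPullback m (pullback.snd (pullback.snd f U'.ι) h₂) π₁ b := by
    refine IsPullback.of_right ?_ (pullback.lift_snd _ _ _) (IsPullback.of_hasPullback f W.ι)
    rw [pullback.lift_fst]
    exact sq
  obtain ⟨i, y, hy⟩ := 𝒰.exists_eq (m x)
  have hV := (IsPullback.of_hasPullback (𝒰.f i) m).paste_vert hm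
  let j := pullback.snd (𝒰.f i) m
  refine ⟨j.opensRange, ?_, ?_, ?_⟩
  · obtain ⟨z, -, hz⟩ := Scheme.Pullback.exists_preimage_pullback (f := 𝒰.f i) (g := m) y x hy
    exact ⟨z, hz⟩
  · haveI : IsAffine (pullback (𝒰.f i) m) :=
      by
      haveI : IsAffineHom (pullback.fst (𝒰.f i) m) := MorphismProperty.of_isPullback hV.flip (inferInstanceAs (IsAffineHom b))
      exact isAffine_of_isAffineHom (pullback.fst (𝒰.f i) m)
    exact isAffineOpen_opensRange j
  · have hV' : IsPullback (j.isoOpensRange.inv ≫ pullback.fst (𝒰.f i) m)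
        (j.opensRange.ι ≫ pullback.snd (pullback.snd f U'.ι) h₂) (𝒰.f i ≫ π₁) b := by
      refine hV.of_iso j.isoOpensRange (Iso.refl _) (Iso.refl _) (Iso.refl _) (by simp) ?_ (by simp) (by simp)
      simp [j]
    refine projective_of_isPullback' hV' ?_
    letI := (𝒰.f i ≫ π₁).appTop.hom.toAlgebra
    letI := b.appTop.hom.toAlgebra
    haveI : Module.Flat Γ((W : Scheme.{u}), ⊤) Γ((A : Scheme.{u}), ⊤) :=
      (HasRingHomProperty.iff_of_isAffine (P := @Flat)).1 (inferInstance : Flat b)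
    have hunit : IsUnit (algebraMap R Γ((A : Scheme.{u}), ⊤) (g i)) := by
      show IsUnit (b.appTop (g i))
      refine isUnit_of_mul_isUnit_left (y := b.appTop (∏ l ∈ Finset.univ.erase i, g l)) ?_
      rw [← map_mul, Finset.mul_prod_erase _ g (Finset.mem_univ i)]
      refine RingedSpace.isUnit_of_isUnit_germ (A : Scheme.{u}).toRingedSpace ⊤ _ fun p hp => (Scheme.mem_basicOpen _ _ p hp).1 ?_
      rw [← Scheme.preimage_basicOpen_top]
      exact hbU p
    obtain ⟨ι, φ, hφ, hs⟩ := hgf i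
    haveI := free_baseChange_of_gf (B := Γ((A : Scheme.{u}), ⊤)) φ hφ hs hunit
    infer_instance

end Groth.Reductive.GenEssFree
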