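import Groth.Agent.Reductive.GenSpread
import Groth.Agent.AlgGrp1.MonoHom
import Groth.Prelude.Def_Red2

/-!
# Monomorphisms of group schemes over an integral base are closed immersions over a nonempty open
-/

set_option autoImplicit false
universe u

open CategoryTheory CategoryTheory.Limits MonoidalCategory CartesianMonoidalCategory MonObj GrpObj AlgebraicGeometry

noncomputable section

namespace Groth.Reductive.GenGroup

/-- The map on base changes is a base change of the map. -/
theorem isPullback_map_left {S S' : Scheme.{u}} (φ : S' ⟶ S) {H G : Over S} (i : H ⟶ G) :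
    IsPullback (pullback.fst H.hom φ) ((Over.pullback φ).map i).left i.left (pullback.fst G.hom φ) := by
  refine IsPullback.of_bot ?_ ?_ (IsPullback.of_hasPullback G.hom φ)
  · rw [Over.w i, show ((Over.pullback φ).map i).left ≫ pullback.snd G.hom φ = pullback.snd H.hom φ from
      pullback.lift_snd _ _ _]
    exact IsPullback.of_hasPullback H.hom φ
  · exact (pullback.lift_fst _ _ _).symm

theorem isClosedImmersion_map_iff {S S' : Scheme.{u}} (φ : S' ⟶ S) {H G : Over S} (i : H ⟶ G) :
    IsClosedImmersion ((Over.pullback φ).map i).left ↔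
      IsClosedImmersion (pullback.snd i.left (pullback.fst G.hom φ)) := by
  rw [← (isPullback_map_left φ i).isoPullback_hom_snd]
  exact MorphismProperty.cancel_left_of_respectsIso (P := @IsClosedImmersion) _ _

theorem isClosedImmersion_map_mono {S : Scheme.{u}} {H G : Over S} (i : H ⟶ G) {U V : S.Opens} (h : U ≤ V)
    (hV : IsClosedImmersion ((Over.pullback V.ι).map i).left) :
    IsClosedImmersion ((Over.pullback U.ι).map i).left := by
  rw [isClosedImmersion_map_iff] at hV ⊢
  let m : pullback G.hom U.ι ⟶ pullback G.hom V.ι :=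
    pullback.lift (pullback.fst _ _) (pullback.snd G.hom U.ι ≫ S.homOfLE h) (by
      rw [Category.assoc, S.homOfLE_ι]; exact pullback.condition)
  have hm : m ≫ pullback.fst G.hom V.ι = pullback.fst G.hom U.ι := pullback.lift_fst _ _ _
  let l : pullback i.left (pullback.fst G.hom U.ι) ⟶ pullback i.left (pullback.fst G.hom V.ι) :=
    pullback.lift (pullback.fst _ _) (pullback.snd i.left (pullback.fst G.hom U.ι) ≫ m) (by
      rw [Category.assoc, hm]; exact pullback.condition)
  refine MorphismProperty.of_isPullback (P := @IsClosedImmersion) (f' := l) (f := m) ?_ hV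
  refine IsPullback.of_right ?_ (pullback.lift_snd _ _ _) (IsPullback.of_hasPullback i.left (pullback.fst G.hom V.ι))
  rw [pullback.lift_fst, hm]
  exact IsPullback.of_hasPullback i.left (pullback.fst G.hom U.ι)

/-- A monomorphism of group schemes of finite presentation over an integral base is a closed immersion
over a nonempty open. -/
theorem exists_open_isClosedImmersion {S : Scheme.{u}} [IsIntegral S] {H G : Over S} [GrpObj H] [GrpObj G]
    [LocallyOfFiniteType H.hom] [QuasiCompact H.hom] [QuasiSeparated H.hom]
    [LocallyOfFiniteType G.hom] [QuasiCompact G.hom] [QuasiSeparated G.hom] (i : H ⟶ G) [IsMonHom i] [Mono i] :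
    ∃ V : S.Opens, (V : Set S).Nonempty ∧ ∀ U : S.Opens, U ≤ V → IsClosedImmersion ((Over.pullback U.ι).map i).left := by
  let φ : Spec (CommRingCat.of S.functionField) ⟶ S := S.fromSpecStalk (genericPoint S)
  haveI : QuasiCompact i.left := by
    haveI : QuasiCompact (i.left ≫ G.hom) := by rw [Over.w i]; infer_instance
    exact QuasiCompact.of_comp i.left G.hom
  haveI : QuasiSeparated i.left := by
    haveI : QuasiSeparated (i.left ≫ G.hom) := by rw [Over.w i]; infer_instance
    exact QuasiSeparated.of_comp i.left G.hom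
  haveI : LocallyOfFiniteType i.left := by
    haveI : LocallyOfFiniteType (i.left ≫ G.hom) := by rw [Over.w i]; infer_instance
    exact locallyOfFiniteType_of_comp i.left G.hom
  let Hk := (Over.pullback φ).obj H
  let Gk := (Over.pullback φ).obj G
  haveI : LocallyOfFiniteType Hk.hom := MorphismProperty.pullback_snd (P := @LocallyOfFiniteType) _ _ ‹_›
  haveI : LocallyOfFiniteType Gk.hom := MorphismProperty.pullback_snd (P := @LocallyOfFiniteType) _ _ ‹_›
  haveI : QuasiCompact Hk.hom := MorphismProperty.pullback_snd (P := @QuasiCompact) _ _ ‹_›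
  haveI : QuasiCompact Gk.hom := MorphismProperty.pullback_snd (P := @QuasiCompact) _ _ ‹_›
  haveI : IsMonHom ((Over.pullback φ).map i) := inferInstance
  haveI : Mono ((Over.pullback φ).map i) := inferInstance
  have h := (isClosedImmersion_map_iff φ i).mp (Groth.AlgGrp1.isClosedImmersion_of_mono_hom ((Over.pullback φ).map i))
  obtain ⟨V, hV, -, hc⟩ := Groth.Reductive.GenSpread.exists_nhd_isClosedImmersion i.left G.hom (genericPoint S) h
  exact ⟨V, ⟨_, hV⟩, fun U hU => isClosedImmersion_map_mono i hU ((isClosedImmersion_map_iff V.ι i).mpr hc)⟩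

/-- A group scheme with closed unit section is separated. -/
theorem isSeparated_of_one {S : Scheme.{u}} (G : Over S) [GrpObj G] [IsClosedImmersion η[G].left] :
    IsSeparated G.hom := by
  let D : G ⊗ G ⟶ G := (snd G G)⁻¹ * fst G G
  have hD : ∀ {T : Over S} (a b : T ⟶ G), lift a b ≫ D = b⁻¹ * a := by
    intro T a b
    simp [D, MonObj.comp_mul, GrpObj.comp_inv]
  have w : (lift (𝟙 G) (𝟙 G)) ≫ D = toUnit G ≫ η[G] := by
    rw [hD, _root_.inv_mul_cancel]; rfl
  have hp : IsPullback (lift (𝟙 G) (𝟙 G)) (toUnit G) D η[G] := by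
    refine ⟨⟨w⟩, ⟨PullbackCone.IsLimit.mk _ (fun s => s.fst ≫ fst G G) ?_ ?_ ?_⟩⟩
    · intro s
      have hs := s.condition
      rw [← lift_comp_fst_snd s.fst, hD, toUnit_unique s.snd (toUnit _)] at hs
      have : s.fst ≫ fst G G = s.fst ≫ snd G G := eq_of_inv_mul_eq_one hs.symm.symm |>.symm
      apply CartesianMonoidalCategory.hom_ext <;> simp [this]
    · intro s; exact toUnit_unique _ _
    · intro s m hm _
      simp [← hm]
  have hl := hp.map (Over.forget _)
  have : IsClosedImmersion ((Over.forget S).map η[G]) := ‹IsClosedImmersion η[G].left›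
  have : IsClosedImmersion (lift (𝟙 G) (𝟙 G)).left := MorphismProperty.of_isPullback hl.flip this
  exact ⟨this⟩

/-- A group scheme of finite presentation over an integral base is separated over a nonempty open. -/
theorem exists_open_isSeparated {S : Scheme.{u}} [IsIntegral S] (G : Over S) [GrpObj G]
    [LocallyOfFiniteType G.hom] [QuasiCompact G.hom] [QuasiSeparated G.hom] :
    ∃ V : S.Opens, (V : Set S).Nonempty ∧ ∀ U : S.Opens, U ≤ V → IsSeparated (Red.bc U.ι G).hom := by
  haveI : LocallyOfFiniteType (𝟙_ (Over S)).hom := inferInstanceAs (LocallyOfFiniteType (𝟙 S))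
  haveI : QuasiCompact (𝟙_ (Over S)).hom := inferInstanceAs (QuasiCompact (𝟙 S))
  haveI : QuasiSeparated (𝟙_ (Over S)).hom := inferInstanceAs (QuasiSeparated (𝟙 S))
  haveI : Mono η[G] := ⟨fun g h _ => toUnit_unique g h⟩
  obtain ⟨V, hV, h⟩ := exists_open_isClosedImmersion η[G]
  refine ⟨V, hV, fun U hU => ?_⟩
  haveI := h U hU
  haveI : IsClosedImmersion η[Red.bc U.ι G].left := by
    have e : η[Red.bc U.ι G] = Functor.LaxMonoidal.ε (Over.pullback U.ι) ≫ (Over.pullback U.ι).map η[G] :=
      rfl
    rw [e, Over.comp_left]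
    haveI : IsIso (Functor.LaxMonoidal.ε (Over.pullback U.ι)).left :=
      inferInstanceAs (IsIso ((Over.forget _).map (Functor.LaxMonoidal.ε (Over.pullback U.ι))))
    infer_instance
  exact isSeparated_of_one _

end Groth.Reductive.GenGroup
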