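import Groth.Agent.Limits.DescentStage
import Groth.Agent.Limits.GlueLocal
import Groth.Agent.Limits.LocalLimit

/-!
# Closed immersions spread out from the spectrum of a local ring of the base
-/

set_option autoImplicit false
set_option backward.isDefEq.respectTransparency false

universe u

open CategoryTheory CategoryTheory.Limits AlgebraicGeometry TopologicalSpace

namespace Groth.Reductive.GenSpread

open Groth.Limits

/-- A morphism of schemes of finite presentation over `S` which is a closed immersion over the local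
scheme at `x` is one over an open neighbourhood of `x`. -/
theorem exists_nhd_isClosedImmersion {X Y S : Scheme.{u}} (f : X ⟶ Y) (g : Y ⟶ S)
    [QuasiCompact g] [QuasiCompact f] [QuasiSeparated f] [LocallyOfFiniteType f] (x : S)
    (h : IsClosedImmersion (pullback.snd f (pullback.fst g (S.fromSpecStalk x)))) :
    ∃ V : S.Opens, x ∈ V ∧ IsAffineOpen V ∧ IsClosedImmersion (pullback.snd f (pullback.fst g V.ι)) := by
  obtain ⟨W, hW, hx, -⟩ := exists_isAffineOpen_mem_and_subset (X := S) (x := x) (U := ⊤) trivial
  have := nonempty_basicNhd (W := W) hx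
  have (V : BasicNhd W x) := isAffine_nhdDiagram hW V
  have : ∀ {V V' : BasicNhd W x} (m : V ⟶ V'), IsAffineHom ((nhdDiagram W x).map m) :=
    fun m ↦ isAffineHom_nhdDiagram hW m
  obtain ⟨lim⟩ := nonempty_isLimit_nhdCone hW hx
  let V₀ : BasicNhd W x := BasicNhd.top hx
  let g₀ : pullback g V₀.1.ι ⟶ (V₀.1 : Scheme.{u}) := pullback.snd g V₀.1.ι
  haveI : IsAffine (V₀.1 : Scheme.{u}) := isAffineOpen_nhd hW V₀
  haveI : CompactSpace ↥(pullback g V₀.1.ι) := QuasiCompact.compactSpace_of_compactSpace g₀
  let f₀ := pullback.snd f (pullback.fst g V₀.1.ι)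
  have hπ : (nhdCone W x).π.app V₀ ≫ V₀.1.ι = S.fromSpecStalk x :=
    Scheme.Opens.fromSpecStalkOfMem_ι _ _ _
  let qY : pullback g (S.fromSpecStalk x) ⟶ pullback g V₀.1.ι :=
    pullback.lift (pullback.fst g (S.fromSpecStalk x)) (pullback.snd g (S.fromSpecStalk x) ≫ (nhdCone W x).π.app V₀)
      (by rw [Category.assoc, hπ]; exact pullback.condition)
  have hqY : qY ≫ pullback.fst g V₀.1.ι = pullback.fst g (S.fromSpecStalk x) := pullback.lift_fst _ _ _
  have hY : IsPullback qY (pullback.snd g (S.fromSpecStalk x)) g₀ ((nhdCone W x).π.app V₀) := by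
    refine IsPullback.of_right ?_ (pullback.lift_snd _ _ _) (IsPullback.of_hasPullback g V₀.1.ι)
    rw [hqY, hπ]
    exact IsPullback.of_hasPullback g (S.fromSpecStalk x)
  let qX : pullback f (pullback.fst g (S.fromSpecStalk x)) ⟶ pullback f (pullback.fst g V₀.1.ι) :=
    pullback.lift (pullback.fst _ _) (pullback.snd f (pullback.fst g (S.fromSpecStalk x)) ≫ qY)
      (by rw [Category.assoc, hqY]; exact pullback.condition)
  have hX : IsPullback qX (pullback.snd f (pullback.fst g (S.fromSpecStalk x))) f₀ qY := by
    refine IsPullback.of_right ?_ (pullback.lift_snd _ _ _) (IsPullback.of_hasPullback f (pullback.fst g V₀.1.ι))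
    rw [pullback.lift_fst, hqY]
    exact IsPullback.of_hasPullback f (pullback.fst g (S.fromSpecStalk x))
  haveI := h
  obtain ⟨j, hj⟩ := exists_isClosedImmersion_stage (D := nhdDiagram W x) lim hY hX
  refine ⟨j.left.1, j.left.2.1, isAffineOpen_nhd hW j.left, ?_⟩
  let m := (nhdDiagram W x).map j.hom
  have hm : m ≫ V₀.1.ι = j.left.1.ι := S.homOfLE_ι (leOfHom j.hom)
  let e : pullback g j.left.1.ι ⟶ pullback m g₀ :=
    pullback.lift (pullback.snd g j.left.1.ι) (pullback.lift (pullback.fst g j.left.1.ι) (pullback.snd g j.left.1.ι ≫ m)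
      (by rw [Category.assoc, hm]; exact pullback.condition)) (by
        simp only [g₀, pullback.lift_snd])
  have he : e ≫ pullback.snd m g₀ ≫ pullback.fst g V₀.1.ι = pullback.fst g j.left.1.ι := by
    simp only [e, pullback.lift_snd_assoc, pullback.lift_fst]
  let l : pullback f (pullback.fst g j.left.1.ι) ⟶ pullback f₀ (pullback.snd m g₀) :=
    pullback.lift
      (pullback.lift (pullback.fst _ _) (pullback.snd f (pullback.fst g j.left.1.ι) ≫ e ≫ pullback.snd m g₀)
        (by rw [Category.assoc, Category.assoc, he]; exact pullback.condition))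
      (pullback.snd f (pullback.fst g j.left.1.ι) ≫ e) (by simp only [f₀, pullback.lift_snd, Category.assoc])
  refine MorphismProperty.of_isPullback (P := @IsClosedImmersion) (f' := l) (g := pullback.snd f₀ (pullback.snd m g₀))
    (f := e) ?_ hj
  refine IsPullback.of_right ?_ (pullback.lift_snd _ _ _)
    ((IsPullback.of_hasPullback f₀ (pullback.snd m g₀)).paste_horiz (IsPullback.of_hasPullback f (pullback.fst g V₀.1.ι)))
  rw [he]
  simp only [l, pullback.lift_fst_assoc, pullback.lift_fst]
  exact IsPullback.of_hasPullback f (pullback.fst g j.left.1.ι)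

end Groth.Reductive.GenSpread
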