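import Groth.Agent.Reductive.MTLocTriv

/-!
Homomorphisms from a group of multiplicative type to an affine group which agree modulo an ideal
of square zero are conjugate by a point congruent to one.
-/

set_option autoImplicit false
universe u

open CategoryTheory MonoidalCategory CartesianMonoidalCategory MonObj AlgebraicGeometry Limits

noncomputable section

namespace Groth.Reductive.MTInt

variable {S : Scheme.{u}} {G H : Over S} [GrpObj H] [GrpObj G] {Y Y' : Over S}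

/-- A family of maps as a map to `G × Y`. -/
abbrev famGraph (d : H ⊗ Y ⟶ G) : H ⊗ Y ⟶ G ⊗ Y := lift d (snd H Y)

/-- The comorphism of a family. -/
abbrev dA (d : H ⊗ Y ⟶ G) : AY G Y →+* AY H Y := (famGraph d).left.appTop.hom

omit [GrpObj H] [GrpObj G] in
lemma appTop_comp_apply {A B C : Over S} (f : A ⟶ B) (g : B ⟶ C) (x : Γ(C.left, ⊤)) :
    (f ≫ g).left.appTop x = f.left.appTop (g.left.appTop x) := by
  rw [Over.comp_left, Scheme.Hom.comp_appTop]; rfl

omit [GrpObj H] [GrpObj G] in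
lemma hom_ext_appTop {A B : Over S} [IsAffine B.left] {f g : A ⟶ B}
    (h : ∀ x, f.left.appTop x = g.left.appTop x) : f = g :=
  Over.OverMorphism.ext (ext_of_isAffine (CommRingCat.hom_ext (RingHom.ext h)))

omit [GrpObj H] [GrpObj G] in
lemma dA_sY (d : H ⊗ Y ⟶ G) (r : Γ(Y.left, ⊤)) : dA d (sY G Y r) = sY H Y r := by
  show (famGraph d).left.appTop ((snd G Y).left.appTop r) = _
  rw [← appTop_comp_apply, lift_snd]

omit [GrpObj H] [GrpObj G] in
lemma dA_gA (d : H ⊗ Y ⟶ G) (g : Y' ⟶ Y) (f : AY G Y) :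
    dA ((H ◁ g) ≫ d) (gA G g f) = gA H g (dA d f) := by
  show (famGraph ((H ◁ g) ≫ d)).left.appTop ((G ◁ g).left.appTop f) =
    (H ◁ g).left.appTop ((famGraph d).left.appTop f)
  rw [← appTop_comp_apply, ← appTop_comp_apply]
  congr 4
  ext1
  · simp
  · simp

attribute [local irreducible] L

section Point

variable [IsAffine Y.left]

omit [GrpObj H] in
/-- Points from comorphisms. -/
lemma exists_point (hG : IsAffineHom G.hom) (φ : AY G Y →+* Γ(Y.left, ⊤))
    (hφ : ∀ r, φ (sY G Y r) = r) : ∃ k : Y ⟶ G, ∀ f, (lift k (𝟙 Y)).left.appTop f = φ f := by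
  haveI := isAffine_prod hG Y
  let q : Y.left ⟶ (G ⊗ Y).left :=
    Y.left.isoSpec.hom ≫ Spec.map (CommRingCat.ofHom φ) ≫ (G ⊗ Y).left.isoSpec.inv
  have happ : ∀ f, q.appTop f = φ f := fun f ↦ by
    have e := ConcreteCategory.congr_hom (Scheme.ΓSpecIso_inv_naturality (CommRingCat.ofHom φ)) f
    have h1 : (G ⊗ Y).left.isoSpec.inv.appTop = (Scheme.ΓSpecIso Γ((G ⊗ Y).left, ⊤)).inv := by
      rw [← cancel_epi (Scheme.ΓSpecIso Γ((G ⊗ Y).left, ⊤)).hom, Iso.hom_inv_id,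
        ← Scheme.toSpecΓ_appTop, ← Scheme.isoSpec_hom, ← Scheme.Hom.comp_appTop, Iso.inv_hom_id]
      rfl
    show Y.left.isoSpec.hom.appTop ((Spec.map (CommRingCat.ofHom φ)).appTop
      ((G ⊗ Y).left.isoSpec.inv.appTop f)) = φ f
    rw [h1, Scheme.isoSpec_hom, Scheme.toSpecΓ_appTop]
    refine (congrArg (Scheme.ΓSpecIso Γ(Y.left, ⊤)).hom e.symm).trans ?_
    exact ConcreteCategory.congr_hom (Scheme.ΓSpecIso _).inv_hom_id (φ f)
  have hsnd : q ≫ (snd G Y).left = 𝟙 Y.left := by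
    refine ext_of_isAffine (CommRingCat.hom_ext (RingHom.ext fun r ↦ ?_))
    show q.appTop ((snd G Y).left.appTop r) = _
    rw [happ, hφ]
    simp
  let qo : Y ⟶ G ⊗ Y := Over.homMk q (by
    rw [← Over.w (snd G Y), ← Category.assoc, hsnd]; exact Category.id_comp _)
  refine ⟨qo ≫ fst G Y, fun f ↦ ?_⟩
  rw [show lift (qo ≫ fst G Y) (𝟙 Y) = qo from CartesianMonoidalCategory.hom_ext _ _
    (lift_fst _ _) ((lift_snd _ _).trans (Over.OverMorphism.ext hsnd).symm)]
  exact happ f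

omit [GrpObj H] in
lemma point_ext (hG : IsAffineHom G.hom) {a b : Y ⟶ G}
    (h : ∀ f, (lift a (𝟙 Y)).left.appTop f = (lift b (𝟙 Y)).left.appTop f) : a = b := by
  haveI := isAffine_prod hG Y
  simpa using congrArg (fun z ↦ z ≫ fst G Y) (hom_ext_appTop (B := G ⊗ Y) h)

omit [GrpObj G] in
lemma ker_gA_le (hH : IsAffineHom H.hom) [IsAffine Y'.left] (g : Y' ⟶ Y)
    (hg : Function.Surjective g.left.appTop) :
    RingHom.ker (gA H g) ≤ (RingHom.ker g.left.appTop.hom).map (sY H Y) := by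
  haveI := isAffine_prod hH Y
  set J := (RingHom.ker g.left.appTop.hom).map (sY H Y)
  have hp := isPushout_appTop_of_isPullback (Groth.AlgGrp1.isPullback_whiskerLeft H g)
  let ψ : {f : Γ(Y.left, ⊤) →+* AY H Y ⧸ J // RingHom.ker g.left.appTop.hom ≤ RingHom.ker f} :=
    ⟨(Ideal.Quotient.mk J).comp (sY H Y), fun r hr ↦
      Ideal.Quotient.eq_zero_iff_mem.mpr (Ideal.mem_map_of_mem _ hr)⟩
  let q : Γ(Y'.left, ⊤) →+* AY H Y ⧸ J := (g.left.appTop.hom).liftOfSurjective hg ψ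
  have w : g.left.appTop ≫ CommRingCat.ofHom q =
      (snd H Y).left.appTop ≫ CommRingCat.ofHom (Ideal.Quotient.mk J) :=
    CommRingCat.hom_ext (RingHom.ext fun r ↦
      RingHom.liftOfSurjective_comp_apply g.left.appTop.hom hg ψ r)
  intro a ha
  refine Ideal.Quotient.eq_zero_iff_mem.mp ?_
  have e := ConcreteCategory.congr_hom (hp.inr_desc _ _ w) a
  refine e.symm.trans ?_
  show hp.desc _ _ w ((H ◁ g).left.appTop a) = 0
  rw [show (H ◁ g).left.appTop a = 0 from ha, map_zero]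

omit [GrpObj G] in
lemma L_mem_of_mem_map (hH : LocTriv H) (J : Ideal Γ(Y.left, ⊤)) {a : AY H Y}
    (ha : a ∈ J.map (sY H Y)) : L hH a ∈ J := by
  suffices h : ∀ b, L hH (b * a) ∈ J by simpa using h 1
  refine Submodule.span_induction ?_ ?_ ?_ ?_ ha
  · rintro _ ⟨j, hj, rfl⟩ b
    rw [mul_comm, L_sY_mul]
    exact J.mul_mem_right _ hj
  · intro b; rw [MulZeroClass.mul_zero, L_zero]; exact J.zero_mem
  · intro x y _ _ hx hy b; rw [_root_.mul_add, L_add]; exact J.add_mem (hx b) (hy b)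
  · intro r x _ hx b
    rw [smul_eq_mul, ← _root_.mul_assoc]
    exact hx _

omit [GrpObj G] in
lemma mul_eq_zero_of_mem_map {J : Ideal Γ(Y.left, ⊤)} (hJ : J * J = ⊥) {a b : AY H Y}
    (ha : a ∈ J.map (sY H Y)) (hb : b ∈ J.map (sY H Y)) : a * b = 0 := by
  have := Ideal.mul_mem_mul ha hb
  rwa [← Ideal.map_mul, hJ, Ideal.map_bot, Ideal.mem_bot] at this

variable (hH : LocTriv H)

/-- A family congruent to a constant one gives a point, its average. -/
lemma exists_average (hG : IsAffineHom G.hom) (J : Ideal Γ(Y.left, ⊤)) (hJ : J * J = ⊥)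
    (d : H ⊗ Y ⟶ G) (ε : AY G Y →+* Γ(Y.left, ⊤))
    (hd : ∀ f, dA d f - sY H Y (ε f) ∈ J.map (sY H Y)) :
    ∃ k : Y ⟶ G, ∀ f, (lift k (𝟙 Y)).left.appTop f = L hH (dA d f) := by
  have hsplit : ∀ f, L hH (dA d f) = ε f + L hH (dA d f - sY H Y (ε f)) := fun f ↦ by
    conv_lhs => rw [← add_sub_cancel (sY H Y (ε f)) (dA d f)]
    rw [L_add, L_sY]
  let φ : AY G Y →+* Γ(Y.left, ⊤) :=
    { toFun := fun f ↦ L hH (dA d f)
      map_one' := by rw [map_one, ← map_one (sY H Y), L_sY]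
      map_zero' := by rw [map_zero, L_zero]
      map_add' := fun x y ↦ by rw [map_add, L_add]
      map_mul' := fun x y ↦ by
        set δx := dA d x - sY H Y (ε x) with hx
        set δy := dA d y - sY H Y (ε y) with hy
        have h1 : dA d (x * y) =
            (sY H Y (ε x * ε y) + sY H Y (ε x) * δy) + sY H Y (ε y) * δx := by
          have h0 := mul_eq_zero_of_mem_map hJ (hd x) (hd y)
          rw [← hx, ← hy] at h0
          rw [map_mul (dA d), map_mul (sY H Y),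
            show dA d x = sY H Y (ε x) + δx from (add_sub_cancel _ _).symm,
            show dA d y = sY H Y (ε y) + δy from (add_sub_cancel _ _).symm]
          linear_combination h0
        have h2 : L hH δx * L hH δy = 0 := by
          have := Ideal.mul_mem_mul (L_mem_of_mem_map hH J (hd x)) (L_mem_of_mem_map hH J (hd y))
          rwa [hJ, Ideal.mem_bot] at this
        rw [h1, L_add, L_add, L_sY, L_sY_mul, L_sY_mul, hsplit x, hsplit y, ← hx, ← hy]
        linear_combination -h2 }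
  exact exists_point hG φ fun r ↦ (congrArg (L hH) (dA_sY d r)).trans (L_sY hH r)

/-- A family of homomorphisms, on points. -/
def IsHomFam (u : H ⊗ Y ⟶ G) : Prop :=
  ∀ (Z : Over S) (h h' : Z ⟶ H) (y : Z ⟶ Y),
    lift (h * h') y ≫ u = (lift h y ≫ u) * (lift h' y ≫ u)

omit [IsAffine Y.left] in
lemma IsHomFam.comp {u : H ⊗ Y ⟶ G} (hu : IsHomFam u) (g : Y' ⟶ Y) : IsHomFam ((H ◁ g) ≫ u) :=
  fun Z h h' y ↦ by
    simp only [lift_whiskerLeft_assoc]
    exact hu Z h h' (y ≫ g)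

set_option maxHeartbeats 1000000 in
include hH in
/-- Homomorphisms agreeing modulo an ideal of square zero are conjugate. -/
theorem exists_conj (hG : IsAffineHom G.hom) [IsAffine Y'.left] (i₀ : Y' ⟶ Y)
    (hi : Function.Surjective i₀.left.appTop)
    (hJ : RingHom.ker i₀.left.appTop.hom * RingHom.ker i₀.left.appTop.hom = ⊥)
    (u v : H ⊗ Y ⟶ G) (hu : IsHomFam u) (hv : IsHomFam v)
    (h0 : (H ◁ i₀) ≫ u = (H ◁ i₀) ≫ v) :
    ∃ k : Y ⟶ G, i₀ ≫ k = 1 ∧ v = (snd H Y ≫ k) * u * (snd H Y ≫ k)⁻¹ := by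
  let d : H ⊗ Y ⟶ G := v * u⁻¹
  have hd0 : (H ◁ i₀) ≫ d = 1 := by
    rw [MonObj.comp_mul, GrpObj.comp_inv, h0, mul_inv_cancel]
  let ε : AY G Y →+* Γ(Y.left, ⊤) := (lift (1 : Y ⟶ G) (𝟙 Y)).left.appTop.hom
  have hε : ∀ f, gA H i₀ (dA d f) = gA H i₀ (sY H Y (ε f)) := fun f ↦ by
    show (H ◁ i₀).left.appTop ((famGraph d).left.appTop f) =
      (H ◁ i₀).left.appTop ((snd H Y).left.appTop ((lift (1 : Y ⟶ G) (𝟙 Y)).left.appTop f))
    rw [← appTop_comp_apply, ← appTop_comp_apply, ← appTop_comp_apply]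
    congr 4
    apply CartesianMonoidalCategory.hom_ext
    · simp only [Category.assoc, lift_fst, hd0, MonObj.comp_one]
    · simp
  obtain ⟨k, hk⟩ := exists_average hH hG _ hJ d ε fun f ↦
    ker_gA_le hH.1 i₀ hi (by rw [RingHom.mem_ker, map_sub, hε, sub_self])
  refine ⟨k, ?_, ?_⟩
  · refine point_ext hG fun f' ↦ ?_
    refine AY_ext hG i₀ (P := fun f ↦ (lift (i₀ ≫ k) (𝟙 Y')).left.appTop f =
      (lift (1 : Y' ⟶ G) (𝟙 Y')).left.appTop f) (fun x y hx hy ↦ by simp only [map_add, hx, hy])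
      (fun r f ↦ ?_) f'
    rw [map_mul, map_mul]
    congr 1
    · show (lift (i₀ ≫ k) (𝟙 Y')).left.appTop ((snd G Y').left.appTop r) =
        (lift (1 : Y' ⟶ G) (𝟙 Y')).left.appTop ((snd G Y').left.appTop r)
      rw [← appTop_comp_apply, ← appTop_comp_apply, lift_snd, lift_snd]
    · show (lift (i₀ ≫ k) (𝟙 Y')).left.appTop ((G ◁ i₀).left.appTop f) =
        (lift (1 : Y' ⟶ G) (𝟙 Y')).left.appTop ((G ◁ i₀).left.appTop f)
      rw [← appTop_comp_apply, ← appTop_comp_apply,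
        show lift (i₀ ≫ k) (𝟙 Y') ≫ G ◁ i₀ = i₀ ≫ lift k (𝟙 Y) by ext1 <;> simp,
        show lift (1 : Y' ⟶ G) (𝟙 Y') ≫ G ◁ i₀ = i₀ ≫ lift (1 : Y ⟶ G) (𝟙 Y) by
          ext1 <;> simp [MonObj.comp_one],
        appTop_comp_apply, appTop_comp_apply, hk, ← L_nat hH, hε, L_nat hH, L_sY]
  · haveI := isAffine_prod hH.1 Y
    haveI := isAffine_prod hG (H ⊗ Y)
    let g : H ⊗ Y ⟶ Y := snd H Y
    let d' : H ⊗ (H ⊗ Y) ⟶ G := (H ◁ g) ≫ d
    let k' : H ⊗ Y ⟶ G := g ≫ k
    have hk' : ∀ f, (lift k' (𝟙 (H ⊗ Y))).left.appTop f = L hH (dA d' f) := by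
      intro f'
      refine AY_ext hG g (P := fun f ↦ (lift k' (𝟙 (H ⊗ Y))).left.appTop f = L hH (dA d' f))
        (fun x y hx hy ↦ ?_) (fun r f ↦ ?_) f'
      · exact (map_add _ x y).trans ((congrArg₂ (· + ·) hx hy).trans
          ((L_add hH _ _).symm.trans (congrArg (L hH) (map_add (dA d') x y).symm)))
      rw [map_mul, map_mul, dA_sY d' r]
      rw [show d' = (H ◁ g) ≫ d from rfl, dA_gA]
      rw [L_sY_mul hH]
      rw [L_nat hH g (dA d f)]
      rw [← hk f]
      congr 1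
      · show (lift k' (𝟙 _)).left.appTop ((snd G (H ⊗ Y)).left.appTop r) = r
        rw [← appTop_comp_apply, lift_snd]
        simp
      · show (lift k' (𝟙 _)).left.appTop ((G ◁ g).left.appTop f) =
          g.left.appTop ((lift k (𝟙 Y)).left.appTop f)
        rw [← appTop_comp_apply, ← appTop_comp_apply,
          show lift k' (𝟙 _) ≫ G ◁ g = g ≫ lift k (𝟙 Y) by ext1 <;> simp [k']]
    let b : G ⊗ (H ⊗ Y) ⟶ G := snd G (H ⊗ Y) ≫ u
    let Ψ : G ⊗ (H ⊗ Y) ⟶ G ⊗ (H ⊗ Y) :=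
      lift ((snd G (H ⊗ Y) ≫ d) * b * fst G (H ⊗ Y) * b⁻¹) (snd G (H ⊗ Y))
    have key : ∀ (Z : Over S) (p q : Z ⟶ H) (y : Z ⟶ Y),
        (lift p y ≫ d) * (lift p y ≫ u) * (lift q y ≫ d) * (lift p y ≫ u)⁻¹ =
          lift (p * q) y ≫ d := fun Z p q y ↦ by
      simp only [d, MonObj.comp_mul, GrpObj.comp_inv, hu Z p q y, hv Z p q y]
      group
    have hcocycle : famGraph d' ≫ Ψ = Triv.th (fst H Y) ≫ famGraph d' := by
      let p : H ⊗ (H ⊗ Y) ⟶ H := snd H (H ⊗ Y) ≫ fst H Y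
      let q : H ⊗ (H ⊗ Y) ⟶ H := fst H (H ⊗ Y)
      let y : H ⊗ (H ⊗ Y) ⟶ Y := snd H (H ⊗ Y) ≫ g
      have e1 : lift p y = snd H (H ⊗ Y) := by ext1 <;> simp [p, y, g]
      have e2 : lift q y = H ◁ g := by ext1 <;> simp [q, y]
      have e3 : lift (p * q) y = Triv.th (fst H Y) ≫ H ◁ g := by
        rw [Triv.th, lift_whiskerLeft]
      have e := key _ p q y
      rw [e1, e2, e3, Category.assoc] at e
      apply CartesianMonoidalCategory.hom_ext
      · rw [Category.assoc, Category.assoc, lift_fst, lift_fst, MonObj.comp_mul, MonObj.comp_mul,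
          MonObj.comp_mul, GrpObj.comp_inv, lift_fst, lift_snd_assoc, lift_snd_assoc]
        exact e
      · rw [Category.assoc, Category.assoc, lift_snd, lift_snd]
        exact (lift_snd _ _).symm
    have hfix : lift k' (𝟙 _) ≫ Ψ = lift k' (𝟙 _) := by
      refine hom_ext_appTop fun f ↦ ?_
      rw [appTop_comp_apply, hk', hk']
      show L hH ((famGraph d').left.appTop (Ψ.left.appTop f)) = L hH ((famGraph d').left.appTop f)
      rw [← appTop_comp_apply, hcocycle, appTop_comp_apply, L_th]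
    have e := congrArg (fun z ↦ z ≫ fst G (H ⊗ Y)) hfix
    simp only [Ψ, b, Category.assoc, lift_fst, lift_snd_assoc, Category.id_comp, MonObj.comp_mul,
      GrpObj.comp_inv] at e
    simp only [d, inv_mul_cancel_right] at e
    calc v = (v * k' * u⁻¹) * u * k'⁻¹ := by group
      _ = k' * u * k'⁻¹ := by rw [e]

end Point

end Groth.Reductive.MTInt
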