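import Groth.Agent.Reductive.MTTriv
import Groth.Agent.Reductive.BaseChangeMT
import Groth.Agent.Sga3.CoverDescent
import Groth.Agent.AlgGrp1.Blanchard

/-!
The invariant integral of a group of multiplicative type, on affine test schemes.
-/

set_option autoImplicit false
universe u

open CategoryTheory MonoidalCategory CartesianMonoidalCategory AlgebraicGeometry Limits
open scoped TensorProduct

noncomputable section

namespace Groth.Reductive.MTInt

variable {S : Scheme.{u}} {H : Over S} [GrpObj H]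

/-! ### Families of flat algebras -/

section Algebra

variable {B : Type u} [CommRing B] {ι : Type u} [Fintype ι] {C : ι → Type u} [∀ i, CommRing (C i)]
  [∀ i, Algebra B (C i)]

lemma faithfullyFlat_pi (hflat : ∀ i, Module.Flat B (C i))
    (hsurj : ∀ p : PrimeSpectrum B, ∃ i q, PrimeSpectrum.comap (algebraMap B (C i)) q = p) :
    Module.FaithfullyFlat B (∀ i, C i) := by
  classical
  haveI : Module.Flat B (∀ i, C i) :=
    Module.Flat.of_linearEquiv (DFinsupp.linearEquivFunOnFintype (R := B) (M := C)).symm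
  refine Module.FaithfullyFlat.of_comap_surjective fun p ↦ ?_
  obtain ⟨i, q, hq⟩ := hsurj p
  refine ⟨PrimeSpectrum.comap (Pi.evalRingHom C i) q, ?_⟩
  rw [← PrimeSpectrum.comap_comp_apply]
  exact hq

/-- An element of an ideal extension is a combination of images. -/
lemma tmul_mk_eq_zero (i : ι) (J : Ideal B) {x : B}
    (hx : algebraMap B (C i) x ∈ J.map (algebraMap B (C i))) :
    (1 : C i) ⊗ₜ[B] (Ideal.Quotient.mk J x) = (0 : C i ⊗[B] (B ⧸ J)) := by
  let ψ : C i →ₗ[B] C i ⊗[B] (B ⧸ J) := (TensorProduct.mk B (C i) (B ⧸ J)).flip 1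
  have key : ∀ c ∈ J.map (algebraMap B (C i)), ψ c = 0 := by
    intro c hc
    refine Submodule.span_induction ?_ ?_ ?_ ?_ hc
    · rintro _ ⟨j, hj, rfl⟩
      show algebraMap B (C i) j ⊗ₜ[B] (1 : B ⧸ J) = 0
      rw [Algebra.algebraMap_eq_smul_one, TensorProduct.smul_tmul, Algebra.smul_def,
        Ideal.Quotient.algebraMap_eq, Ideal.Quotient.eq_zero_iff_mem.mpr hj, MulZeroClass.zero_mul,
        TensorProduct.tmul_zero]
    · exact map_zero ψ
    · intro a b _ _ ha hb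
      rw [map_add, ha, hb, _root_.add_zero]
    · intro r a _ ha
      show (r • a) ⊗ₜ[B] (1 : B ⧸ J) = 0
      rw [← TensorProduct.smul_tmul']
      exact (congrArg (r • ·) ha).trans (smul_zero r)
  have h2 := key _ hx
  have h3 : (1 : C i) ⊗ₜ[B] (Ideal.Quotient.mk J x) = algebraMap B (C i) x ⊗ₜ[B] (1 : B ⧸ J) := by
    rw [Algebra.algebraMap_eq_smul_one, TensorProduct.smul_tmul, Algebra.smul_def,
      Ideal.Quotient.algebraMap_eq, _root_.mul_one]
  rw [h3]
  exact h2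

/-- An ideal is finitely generated if its extensions to a faithfully flat family are. -/
lemma fg_of_cover [Module.FaithfullyFlat B (∀ i, C i)] (I : Ideal B)
    (hI : ∀ i, (I.map (algebraMap B (C i))).FG) : I.FG := by
  classical
  have hsub : ∀ i, ∃ s : Finset B, (∀ x ∈ s, x ∈ I) ∧
      I.map (algebraMap B (C i)) ≤ (Ideal.span (s : Set B)).map (algebraMap B (C i)) := by
    intro i
    obtain ⟨t, ht⟩ := hI i
    have key : ∀ c ∈ I.map (algebraMap B (C i)), ∃ s : Finset B, (∀ x ∈ s, x ∈ I) ∧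
        c ∈ (Ideal.span (s : Set B)).map (algebraMap B (C i)) := by
      intro c hc
      refine Submodule.span_induction ?_ ?_ ?_ ?_ hc
      · rintro _ ⟨x, hx, rfl⟩
        exact ⟨{x}, fun y hy ↦ Finset.mem_singleton.mp hy ▸ hx,
          Ideal.mem_map_of_mem _ (Ideal.subset_span (by simp))⟩
      · exact ⟨∅, by simp, zero_mem _⟩
      · rintro a b - - ⟨sa, ha, ha'⟩ ⟨sb, hb, hb'⟩
        refine ⟨sa ∪ sb, fun x hx ↦ (Finset.mem_union.mp hx).elim (ha x) (hb x), add_mem ?_ ?_⟩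
        · exact Ideal.map_mono (Ideal.span_mono (by simp)) ha'
        · exact Ideal.map_mono (Ideal.span_mono (by simp)) hb'
      · rintro r a - ⟨sa, ha, ha'⟩
        exact ⟨sa, ha, Submodule.smul_mem _ _ ha'⟩
    choose f hf1 hf2 using fun c : (t : Set (C i)) ↦ key c.1 (ht ▸ Ideal.subset_span c.2)
    refine ⟨Finset.univ.biUnion f, fun x hx ↦ ?_, ?_⟩
    · obtain ⟨c, -, hc⟩ := Finset.mem_biUnion.mp hx
      exact hf1 c x hc
    · rw [← ht, Ideal.span_le]
      intro c hc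
      exact Ideal.map_mono (Ideal.span_mono (fun x hx ↦
        Finset.mem_biUnion.mpr ⟨⟨c, hc⟩, Finset.mem_univ _, hx⟩)) (hf2 ⟨c, hc⟩)
  choose s hs1 hs2 using hsub
  refine ⟨Finset.univ.biUnion s, le_antisymm ?_ fun x hx ↦ ?_⟩
  · rw [Ideal.span_le]
    intro x hx
    obtain ⟨i, -, hi⟩ := Finset.mem_biUnion.mp hx
    exact hs1 i x hi
  · refine Ideal.Quotient.eq_zero_iff_mem.mp
      (Groth.Sga3.MultType.eq_zero_of_cover (R := B) C fun i ↦ tmul_mk_eq_zero i _ ?_)
    exact Ideal.map_mono (Ideal.span_mono fun x hx ↦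
      Finset.mem_biUnion.mpr ⟨i, Finset.mem_univ _, hx⟩) (hs2 i (Ideal.mem_map_of_mem _ hx))

end Algebra

/-! ### Covers -/

/-- A finite flat jointly surjective family of affine schemes over `Y`. -/
structure Cover (Y : Over S) where
  /-- index -/
  ι : Type u
  [fin : Fintype ι]
  /-- members -/
  Z : ι → Over S
  /-- maps -/
  g : ∀ i, Z i ⟶ Y
  [aff : ∀ i, IsAffine (Z i).left]
  flat : ∀ i, Flat (g i).left
  surj : ∀ y : Y.left, ∃ (i : ι) (z : (Z i).left), (g i).left.base z = y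

attribute [instance] Cover.fin Cover.aff

/-- `H` is affine, and trivialised by finite flat affine covers of every affine test scheme. -/
def LocTriv (H : Over S) [GrpObj H] : Prop :=
  IsAffineHom H.hom ∧
    ∀ Y : Over S, IsAffine Y.left → ∃ c : Cover Y, ∀ i, Nonempty (Triv H (c.Z i))

lemma isAffine_prod (hH : IsAffineHom H.hom) (Y : Over S) [IsAffine Y.left] :
    IsAffine (H ⊗ Y).left := by
  haveI := hH
  exact inferInstanceAs (IsAffine (pullback H.hom Y.hom))

lemma Cover.faithfullyFlat {Y : Over S} [IsAffine Y.left] (c : Cover Y) :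
    letI : ∀ i, Algebra Γ(Y.left, ⊤) Γ((c.Z i).left, ⊤) := fun i ↦
      (c.g i).left.appTop.hom.toAlgebra
    Module.FaithfullyFlat Γ(Y.left, ⊤) (∀ i, Γ((c.Z i).left, ⊤)) := by
  letI : ∀ i, Algebra Γ(Y.left, ⊤) Γ((c.Z i).left, ⊤) := fun i ↦
    (c.g i).left.appTop.hom.toAlgebra
  refine faithfullyFlat_pi (fun i ↦ ?_) fun p ↦ ?_
  · haveI := c.flat i
    exact (c.g i).left.flat_appTop
  · obtain ⟨i, z, hz⟩ := c.surj (Y.left.isoSpec.inv.base p)
    refine ⟨i, (c.Z i).left.isoSpec.hom.base z, ?_⟩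
    show ((c.Z i).left.isoSpec.hom ≫ Spec.map (c.g i).left.appTop).base z = p
    rw [Scheme.isoSpec_hom_naturality, Scheme.Hom.comp_apply, hz, ← Scheme.Hom.comp_apply]
    simp

lemma Cover.eq_zero {Y : Over S} [IsAffine Y.left] (c : Cover Y) {r : Γ(Y.left, ⊤)}
    (h : ∀ i, (c.g i).left.appTop r = 0) : r = 0 := by
  letI : ∀ i, Algebra Γ(Y.left, ⊤) Γ((c.Z i).left, ⊤) := fun i ↦
    (c.g i).left.appTop.hom.toAlgebra
  haveI := c.faithfullyFlat
  refine Groth.Sga3.MultType.eq_zero_of_cover (R := Γ(Y.left, ⊤))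
    (fun i ↦ (Γ((c.Z i).left, ⊤) : Type u)) fun i ↦ ?_
  rw [← _root_.mul_one r, ← smul_eq_mul, ← TensorProduct.smul_tmul, Algebra.smul_def]
  show ((c.g i).left.appTop r * 1) ⊗ₜ[Γ(Y.left, ⊤)] (1 : Γ(Y.left, ⊤)) = 0
  rw [h i, MulZeroClass.zero_mul, TensorProduct.zero_tmul]

/-- The pulled back cover of `H × Y`. -/
@[reducible] def Cover.prod {Y : Over S} (c : Cover Y) (H : Over S) [GrpObj H] (hH : IsAffineHom H.hom) :
    Cover (H ⊗ Y) where
  ι := c.ι
  Z i := H ⊗ c.Z i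
  g i := H ◁ c.g i
  aff i := isAffine_prod hH _
  flat i := MorphismProperty.of_isPullback (P := @Flat)
    (Groth.AlgGrp1.isPullback_whiskerLeft H (c.g i)) (c.flat i)
  surj x := by
    obtain ⟨i, z, hz⟩ := c.surj ((snd H Y).left.base x)
    obtain ⟨w, -, hw⟩ := Scheme.exists_preimage_of_isPullback
      (Groth.AlgGrp1.isPullback_whiskerLeft H (c.g i)) z x hz
    exact ⟨i, w, hw⟩

/-! ### Functions on `H × Y'` -/

/-- Functions on `H × Y'` are generated by those on `H × Y` and on `Y'`. -/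
lemma AY_generated (hH : IsAffineHom H.hom) {Y Y' : Over S} [IsAffine Y.left] [IsAffine Y'.left]
    (g : Y' ⟶ Y) (R : Subring (AY H Y')) (h1 : ∀ r, sY H Y' r ∈ R) (h2 : ∀ a, gA H g a ∈ R)
    (a : AY H Y') : a ∈ R := by
  haveI := isAffine_prod hH Y
  have hp := isPushout_appTop_of_isPullback (Groth.AlgGrp1.isPullback_whiskerLeft H g)
  let j₁ : CommRingCat.of Γ(Y'.left, ⊤) ⟶ CommRingCat.of R :=
    CommRingCat.ofHom ((sY H Y').codRestrict R h1)
  let j₂ : CommRingCat.of (AY H Y) ⟶ CommRingCat.of R :=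
    CommRingCat.ofHom ((gA H g).codRestrict R h2)
  obtain ⟨l, hl1, hl2⟩ : ∃ l : Γ((H ⊗ Y').left, ⊤) ⟶ CommRingCat.of R,
      (snd H Y').left.appTop ≫ l = j₁ ∧ (H ◁ g).left.appTop ≫ l = j₂ := by
    have w : g.left.appTop ≫ j₁ = (snd H Y).left.appTop ≫ j₂ := CommRingCat.hom_ext
      (RingHom.ext fun r ↦ Subtype.ext (gA_sY g r).symm)
    exact ⟨hp.desc j₁ j₂ w, hp.inl_desc _ _ _, hp.inr_desc _ _ _⟩
  have e : l ≫ CommRingCat.ofHom R.subtype = 𝟙 _ := by
    apply hp.hom_ext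
    · rw [← Category.assoc, hl1, Category.comp_id]; rfl
    · rw [← Category.assoc, hl2, Category.comp_id]; rfl
  rw [show a = (l a).1 from (ConcreteCategory.congr_hom e a).symm]
  exact (l a).2

/-- An additive semilinear identity on generators holds everywhere. -/
lemma AY_ext (hH : IsAffineHom H.hom) {Y Y' : Over S} [IsAffine Y.left] [IsAffine Y'.left]
    (g : Y' ⟶ Y) {P : AY H Y' → Prop} (hadd : ∀ x y, P x → P y → P (x + y))
    (hgen : ∀ r a, P (sY H Y' r * gA H g a)) (a : AY H Y') : P a := by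
  let V : AddSubmonoid (AY H Y') :=
    AddSubmonoid.closure {x | ∃ r b, x = sY H Y' r * gA H g b}
  have hmul : ∀ x ∈ V, ∀ y ∈ V, x * y ∈ V := by
    intro x hx
    induction hx using AddSubmonoid.closure_induction with
    | mem x hx =>
      intro y hy
      induction hy using AddSubmonoid.closure_induction with
      | mem y hy =>
        obtain ⟨r, b, rfl⟩ := hx
        obtain ⟨r', b', rfl⟩ := hy
        refine AddSubmonoid.subset_closure ⟨r * r', b * b', ?_⟩
        rw [map_mul, map_mul]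
        exact mul_mul_mul_comm _ _ _ _
      | zero => rw [MulZeroClass.mul_zero]; exact zero_mem _
      | add p q _ _ hp hq => rw [_root_.mul_add]; exact add_mem hp hq
    | zero => intro y _; rw [MulZeroClass.zero_mul]; exact zero_mem _
    | add p q _ _ hp hq => intro y hy; rw [_root_.add_mul]; exact add_mem (hp y hy) (hq y hy)
  let R : Subring (AY H Y') :=
    { carrier := V
      mul_mem' := fun hx hy ↦ hmul _ hx _ hy
      one_mem' := AddSubmonoid.subset_closure ⟨1, 1, by simp⟩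
      add_mem' := fun hx hy ↦ add_mem hx hy
      zero_mem' := zero_mem _
      neg_mem' := fun {x} hx ↦ by
        rw [← neg_one_mul]
        exact hmul _ (AddSubmonoid.subset_closure ⟨-1, 1, by simp⟩) _ hx }
  have ha : a ∈ V := AY_generated hH g R
    (fun r ↦ AddSubmonoid.subset_closure ⟨r, 1, by simp⟩)
    (fun b ↦ AddSubmonoid.subset_closure ⟨1, b, by simp⟩) a
  induction ha using AddSubmonoid.closure_induction with
  | mem x hx => obtain ⟨r, b, rfl⟩ := hx; exact hgen r b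
  | zero =>
    have := hgen 0 0
    rwa [map_zero, MulZeroClass.zero_mul] at this
  | add p q _ _ hp hq => exact hadd p q hp hq

/-! ### The integral -/

variable {Y : Over S}

/-- `r` is the integral of `a`. -/
def IsL (a : AY H Y) (r : Γ(Y.left, ⊤)) : Prop :=
  ∀ (Y' : Over S) [IsAffine Y'.left] (g : Y' ⟶ Y) (τ : Triv H Y'),
    τ.ct (gA H g a) = g.left.appTop r

lemma IsL.eq (hH : LocTriv H) [IsAffine Y.left] {a : AY H Y} {r r' : Γ(Y.left, ⊤)} (h : IsL a r)
    (h' : IsL a r') : r = r' := by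
  obtain ⟨c, hc⟩ := hH.2 Y ‹_›
  refine sub_eq_zero.mp (c.eq_zero fun i ↦ ?_)
  obtain ⟨τ⟩ := hc i
  rw [map_sub, ← h _ (c.g i) τ, ← h' _ (c.g i) τ, sub_self]

theorem exists_isL (hH : LocTriv H) [IsAffine Y.left] (a : AY H Y) : ∃ r, IsL a r := by
  classical
  obtain ⟨c, hc⟩ := hH.2 Y ‹_›
  let τ := fun i ↦ (hc i).some
  let B := Γ(Y.left, ⊤)
  letI algC : ∀ i, Algebra B Γ((c.Z i).left, ⊤) := fun i ↦
    (c.g i).left.appTop.hom.toAlgebra
  haveI := c.faithfullyFlat
  let C : c.ι → Type u := fun i ↦ Γ((c.Z i).left, ⊤)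
  let s : ∀ i, C i := fun i ↦ (τ i).ct (gA H (c.g i) a)
  -- the tensor product as a test scheme
  have key : ∀ (Y' : Over S) [IsAffine Y'.left] (g : Y' ⟶ Y) (σ : Triv H Y') (i : c.ι),
      letI : Algebra B Γ(Y'.left, ⊤) := g.left.appTop.hom.toAlgebra
      s i ⊗ₜ[B] (1 : Γ(Y'.left, ⊤)) = (1 : C i) ⊗ₜ[B] σ.ct (gA H g a) := by
    intro Y' _ g σ i
    letI : Algebra B Γ(Y'.left, ⊤) := g.left.appTop.hom.toAlgebra
    let T := C i ⊗[B] Γ(Y'.left, ⊤)
    let q₁ : Spec (CommRingCat.of T) ⟶ (c.Z i).left :=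
      Spec.map (CommRingCat.ofHom Algebra.TensorProduct.includeLeftRingHom) ≫ (c.Z i).left.isoSpec.inv
    let q₂ : Spec (CommRingCat.of T) ⟶ Y'.left :=
      Spec.map (CommRingCat.ofHom
        (Algebra.TensorProduct.includeRight : Γ(Y'.left, ⊤) →ₐ[B] T).toRingHom) ≫ Y'.left.isoSpec.inv
    have happ : ∀ {X : Scheme.{u}} [IsAffine X] {D : Type u} [CommRing D] (φ : Γ(X, ⊤) →+* D) (x : Γ(X, ⊤)),
        (Spec.map (CommRingCat.ofHom φ) ≫ X.isoSpec.inv).appTop x =
          (Scheme.ΓSpecIso (CommRingCat.of D)).inv (φ x) := by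
      intro X _ D _ φ x
      have e := ConcreteCategory.congr_hom (Scheme.ΓSpecIso_inv_naturality (CommRingCat.ofHom φ)) x
      refine Eq.trans ?_ e.symm
      show (Spec.map (CommRingCat.ofHom φ)).appTop (X.isoSpec.inv.appTop x) = _
      have : X.isoSpec.inv.appTop = (Scheme.ΓSpecIso Γ(X, ⊤)).inv := by
        rw [← cancel_epi (Scheme.ΓSpecIso Γ(X, ⊤)).hom, Iso.hom_inv_id,
          ← Scheme.toSpecΓ_appTop, ← Scheme.isoSpec_hom, ← Scheme.Hom.comp_appTop, Iso.inv_hom_id]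
        rfl
      exact congrArg (Spec.map (CommRingCat.ofHom φ)).appTop (ConcreteCategory.congr_hom this x)
    have hq : q₁ ≫ (c.g i).left = q₂ ≫ g.left := by
      refine ext_of_isAffine (CommRingCat.hom_ext (RingHom.ext fun x ↦ ?_))
      show q₁.appTop ((c.g i).left.appTop x) = q₂.appTop (g.left.appTop x)
      rw [happ, happ]
      congr 1
      show algebraMap B (C i) x ⊗ₜ[B] (1 : Γ(Y'.left, ⊤)) = (1 : C i) ⊗ₜ[B] algebraMap B Γ(Y'.left, ⊤) x
      rw [Algebra.algebraMap_eq_smul_one, Algebra.algebraMap_eq_smul_one, TensorProduct.smul_tmul]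
    let W : Over S := Over.mk ((q₂ ≫ g.left) ≫ Y.hom)
    let w₁ : W ⟶ c.Z i := Over.homMk q₁ (by rw [← Over.w (c.g i), ← Category.assoc, hq]; rfl)
    let w₂ : W ⟶ Y' := Over.homMk q₂ (by rw [← Over.w g, ← Category.assoc]; rfl)
    haveI : IsAffine W.left := inferInstanceAs (IsAffine (Spec _))
    haveI := isAffine_prod hH.1 W
    have hw : w₁ ≫ c.g i = w₂ ≫ g := Over.OverMorphism.ext hq
    have e := Triv.ct_eq ((τ i).restrict w₁) (σ.restrict w₂) (gA H (w₁ ≫ c.g i) a)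
    rw [gA_comp, Triv.ct_nat] at e
    rw [show gA H w₁ (gA H (c.g i) a) = gA H w₂ (gA H g a) by rw [← gA_comp, ← gA_comp, hw],
      Triv.ct_nat] at e
    change q₁.appTop (s i) = q₂.appTop (σ.ct (gA H g a)) at e
    rw [happ, happ] at e
    exact (ConcreteCategory.bijective_of_isIso (Scheme.ΓSpecIso (CommRingCat.of T)).inv).1 e
  obtain ⟨r, hr⟩ := Groth.Sga3.MultType.exists_of_components C s fun i j ↦ key _ (c.g j) (τ j) i
  refine ⟨r, fun Y' _ g σ ↦ sub_eq_zero.mp ?_⟩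
  letI : Algebra B Γ(Y'.left, ⊤) := g.left.appTop.hom.toAlgebra
  refine Groth.Sga3.MultType.eq_zero_of_cover (R := B) C fun i ↦ ?_
  have e := key Y' g σ i
  rw [← hr i] at e
  rw [TensorProduct.tmul_sub, ← e]
  show algebraMap B (C i) r ⊗ₜ[B] (1 : Γ(Y'.left, ⊤)) - (1 : C i) ⊗ₜ[B] algebraMap B Γ(Y'.left, ⊤) r = 0
  rw [Algebra.algebraMap_eq_smul_one, Algebra.algebraMap_eq_smul_one, TensorProduct.smul_tmul,
    sub_self]

variable (hH : LocTriv H) [IsAffine Y.left]

/-- The integral. -/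
def L (a : AY H Y) : Γ(Y.left, ⊤) := (exists_isL hH a).choose

lemma isL_L (a : AY H Y) : IsL a (L hH a) := (exists_isL hH a).choose_spec

lemma L_eq {a : AY H Y} {r : Γ(Y.left, ⊤)} (h : IsL a r) : L hH a = r := (isL_L hH a).eq hH h

lemma L_add (a b : AY H Y) : L hH (a + b) = L hH a + L hH b :=
  L_eq hH fun Y' _ g τ ↦ by rw [map_add, map_add, map_add, isL_L hH a Y' g τ, isL_L hH b Y' g τ]

/-- The integral as an additive map. -/
def Lhom : AY H Y →+ Γ(Y.left, ⊤) := AddMonoidHom.mk' (L hH) (L_add hH)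

lemma L_zero : L hH (0 : AY H Y) = 0 := map_zero (Lhom hH)

lemma L_sY (r : Γ(Y.left, ⊤)) : L hH (sY H Y r) = r :=
  L_eq hH fun Y' _ g τ ↦ by rw [gA_sY, τ.ct_sY]

lemma L_sY_mul (r : Γ(Y.left, ⊤)) (a : AY H Y) : L hH (sY H Y r * a) = r * L hH a :=
  L_eq hH fun Y' _ g τ ↦ by rw [map_mul, gA_sY, τ.ct_sY_mul, isL_L hH a Y' g τ, map_mul]

lemma L_nat {Y' : Over S} [IsAffine Y'.left] (g : Y' ⟶ Y) (a : AY H Y) :
    L hH (gA H g a) = g.left.appTop (L hH a) :=
  L_eq hH fun Y'' _ g' τ ↦ by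
    rw [← gA_comp, isL_L hH a Y'' (g' ≫ g) τ, Over.comp_left, Scheme.Hom.comp_appTop]
    rfl

lemma th_comp {Y' : Over S} (g : Y' ⟶ Y) (h : Y ⟶ H) :
    Triv.th (g ≫ h) ≫ (H ◁ g) = (H ◁ g) ≫ Triv.th h := by
  apply CartesianMonoidalCategory.hom_ext
  · rw [Category.assoc, Category.assoc, whiskerLeft_fst, Triv.th, Triv.th, lift_fst, lift_fst,
      MonObj.comp_mul, whiskerLeft_snd_assoc, whiskerLeft_fst]
  · rw [Category.assoc, Category.assoc, whiskerLeft_snd, Triv.th, Triv.th, lift_snd,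
      lift_snd_assoc, whiskerLeft_snd]

/-- Invariance under translations. -/
lemma L_th (h : Y ⟶ H) (a : AY H Y) : L hH ((Triv.th h).left.appTop a) = L hH a :=
  L_eq hH fun Y' _ g τ ↦ by
    have e : gA H g ((Triv.th h).left.appTop a) =
        (Triv.th (g ≫ h)).left.appTop (gA H g a) := by
      show (H ◁ g).left.appTop ((Triv.th h).left.appTop a) = (Triv.th (g ≫ h)).left.appTop ((H ◁ g).left.appTop a)
      rw [← CommRingCat.comp_apply, ← Scheme.Hom.comp_appTop, ← Over.comp_left, ← CommRingCat.comp_apply,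
        ← Scheme.Hom.comp_appTop, ← Over.comp_left, th_comp]
    rw [e, τ.ct_th, isL_L hH a Y' g τ]

/-- Nondegeneracy. -/
theorem eq_zero_of_L {z : AY H Y} (h : ∀ a, L hH (a * z) = 0) : z = 0 := by
  obtain ⟨c, hc⟩ := hH.2 Y ‹_›
  haveI := isAffine_prod hH.1 Y
  refine (c.prod H hH.1).eq_zero fun i ↦ ?_
  obtain ⟨τ⟩ := hc i
  show gA H (c.g i) z = 0
  have h' : ∀ b, τ.ct (b * gA H (c.g i) z) = 0 := by
    refine AY_ext hH.1 (c.g i) (fun x y hx hy ↦ ?_) fun r a ↦ ?_
    · rw [_root_.add_mul, map_add, hx, hy, _root_.add_zero]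
    · rw [_root_.mul_assoc, ← map_mul, τ.ct_sY_mul, isL_L hH _ _ (c.g i) τ, h, map_zero,
        MulZeroClass.mul_zero]
  obtain ⟨f, hf⟩ := τ.κ_bijective.2 (gA H (c.g i) z)
  rw [← hf, ← map_zero τ.κ]
  congr 1
  refine MonoidAlgebra.ext (Finsupp.ext fun m ↦ ?_)
  have e := h' (τ.κ (MonoidAlgebra.single m⁻¹ 1))
  rw [← hf, ← map_mul] at e
  change (τ.κE.symm (τ.κE _)).coeff 1 = 0 at e
  rw [RingEquiv.symm_apply_apply] at e
  simpa [MonoidAlgebra.single_mul_apply_aux] using e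

/-- The ideal of vanishing of a family of functions on `H × Y`. -/
def coeffIdeal (Φ : Set (AY H Y)) : Ideal Γ(Y.left, ⊤) :=
  Ideal.span {r | ∃ z ∈ Φ, ∃ a, r = L hH (a * z)}

theorem forall_gA_eq_zero_iff (Φ : Set (AY H Y)) {Y' : Over S} [IsAffine Y'.left] (g : Y' ⟶ Y) :
    (∀ z ∈ Φ, gA H g z = 0) ↔ ∀ r ∈ coeffIdeal hH Φ, g.left.appTop r = 0 := by
  constructor
  · intro h r hr
    have : coeffIdeal hH Φ ≤ RingHom.ker g.left.appTop.hom := by
      refine Ideal.span_le.mpr ?_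
      rintro _ ⟨z, hz, a, rfl⟩
      show g.left.appTop (L hH (a * z)) = 0
      rw [← L_nat, map_mul, h z hz, MulZeroClass.mul_zero, L_zero]
    exact this hr
  · intro h z hz
    refine eq_zero_of_L hH fun b ↦ ?_
    refine AY_ext hH.1 g (P := fun b ↦ L hH (b * gA H g z) = 0) (fun x y hx hy ↦ ?_) (fun r a ↦ ?_) b
    · rw [_root_.add_mul, L_add, hx, hy, _root_.add_zero]
    · rw [_root_.mul_assoc, ← map_mul, L_sY_mul, L_nat,
        h _ (Ideal.subset_span ⟨z, hz, a, rfl⟩), MulZeroClass.mul_zero]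

/-- The coefficient ideal of finitely many functions is finitely generated. -/
theorem coeffIdeal_fg (Φ : Finset (AY H Y)) : (coeffIdeal hH (Φ : Set (AY H Y))).FG := by
  classical
  obtain ⟨c, hc⟩ := hH.2 Y ‹_›
  letI : ∀ i, Algebra Γ(Y.left, ⊤) Γ((c.Z i).left, ⊤) := fun i ↦
    (c.g i).left.appTop.hom.toAlgebra
  haveI := c.faithfullyFlat
  refine fg_of_cover (C := fun i ↦ (Γ((c.Z i).left, ⊤) : Type u)) _ fun i ↦ ?_
  show (Ideal.map (c.g i).left.appTop.hom _).FG
  obtain ⟨τ⟩ := hc i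
  let f := fun z ↦ τ.κE.symm (gA H (c.g i) z)
  let T : Finset Γ((c.Z i).left, ⊤) := Φ.biUnion fun z ↦ (f z).coeff.support.image fun m ↦ (f z).coeff m
  have hcoef : ∀ z ∈ Φ, ∀ m, (f z).coeff m ∈ Ideal.span (T : Set Γ((c.Z i).left, ⊤)) := by
    intro z hz m
    by_cases hm : (f z).coeff m = 0
    · rw [hm]; exact zero_mem _
    · exact Ideal.subset_span (Finset.mem_biUnion.mpr
        ⟨z, hz, Finset.mem_image.mpr ⟨m, Finsupp.mem_support_iff.mpr hm, rfl⟩⟩)
  refine ⟨T, le_antisymm ?_ ?_⟩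
  · rw [Ideal.span_le]
    intro t ht
    obtain ⟨z, hz, hz'⟩ := Finset.mem_biUnion.mp ht
    obtain ⟨m, -, rfl⟩ := Finset.mem_image.mp hz'
    show (f z).coeff m ∈ _
    have key : ∀ b, τ.ct (b * gA H (c.g i) z) ∈
        (coeffIdeal hH (Φ : Set (AY H Y))).map (c.g i).left.appTop.hom := by
      refine AY_ext hH.1 (c.g i) (fun x y hx hy ↦ ?_) fun r a ↦ ?_
      · rw [_root_.add_mul, map_add]; exact add_mem hx hy
      · rw [_root_.mul_assoc, ← map_mul, τ.ct_sY_mul, isL_L hH _ _ (c.g i) τ]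
        exact Ideal.mul_mem_left _ _ (Ideal.mem_map_of_mem _ (Ideal.subset_span ⟨z, hz, a, rfl⟩))
    have e := key (τ.κE (MonoidAlgebra.single m⁻¹ 1))
    rw [← τ.κE.apply_symm_apply (gA H (c.g i) z), ← map_mul] at e
    change (τ.κE.symm (τ.κE _)).coeff 1 ∈ _ at e
    rw [RingEquiv.symm_apply_apply] at e
    simpa [MonoidAlgebra.single_mul_apply_aux, f] using e
  · rw [Ideal.map_le_iff_le_comap]
    refine Ideal.span_le.mpr ?_
    rintro _ ⟨z, hz, a, rfl⟩
    show (c.g i).left.appTop (L hH (a * z)) ∈ Ideal.span (T : Set Γ((c.Z i).left, ⊤))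
    rw [← isL_L hH (a * z) _ (c.g i) τ, map_mul]
    show (τ.κE.symm (gA H (c.g i) a * gA H (c.g i) z)).coeff 1 ∈ _
    rw [map_mul, MonoidAlgebra.coeff_mul_apply_left]
    exact Ideal.sum_mem _ fun m _ ↦ Ideal.mul_mem_left _ _ (hcoef z hz _)

end Groth.Reductive.MTInt
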