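import Groth.Agent.Reductive.MTConj
import Groth.Agent.Flatmor4.ThickFT

/-!
The closed locus where two families of maps from a group of multiplicative type to an affine
scheme coincide.
-/

set_option autoImplicit false
universe u

open CategoryTheory MonoidalCategory CartesianMonoidalCategory MonObj AlgebraicGeometry Limits

noncomputable section

namespace Groth.Reductive.MTInt

variable {S : Scheme.{u}} {G H : Over S} [GrpObj H] [GrpObj G] {X : Over S}

/-- The two families agree on `Y`. -/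
def Agree (a b : H ⊗ X ⟶ G) {Y : Over S} (y : Y ⟶ X) : Prop :=
  (H ◁ y) ≫ a = (H ◁ y) ≫ b

omit [GrpObj H] [GrpObj G] in
lemma Agree.comp {a b : H ⊗ X ⟶ G} {Y Y' : Over S} {y : Y ⟶ X} (h : Agree a b y) (g : Y' ⟶ Y) :
    Agree a b (g ≫ y) := by
  unfold Agree at *
  rw [whiskerLeft_comp, Category.assoc, Category.assoc, h]

variable (hH : LocTriv H) (a b : H ⊗ X ⟶ G)

/-- The differences of the two families. -/
def diffSet {Y : Over S} (y : Y ⟶ X) : Set (AY H Y) :=
  Set.range fun f ↦ dA ((H ◁ y) ≫ a) f - dA ((H ◁ y) ≫ b) f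

/-- The ideal of the locus on an affine test scheme. -/
def locIdeal {Y : Over S} [IsAffine Y.left] (y : Y ⟶ X) : Ideal Γ(Y.left, ⊤) :=
  coeffIdeal hH (diffSet a b y)

theorem agree_iff (hG : IsAffineHom G.hom) {Y Y' : Over S} [IsAffine Y.left] [IsAffine Y'.left]
    (y : Y ⟶ X) (g : Y' ⟶ Y) :
    Agree a b (g ≫ y) ↔ ∀ r ∈ locIdeal hH a b y, g.left.appTop r = 0 := by
  rw [locIdeal, ← forall_gA_eq_zero_iff hH _ g]
  haveI := isAffine_prod hH.1 Y'
  haveI := isAffine_prod hG Y'
  have hw : ∀ c : H ⊗ X ⟶ G, (H ◁ (g ≫ y)) ≫ c = (H ◁ g) ≫ (H ◁ y) ≫ c := fun c ↦ by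
    rw [whiskerLeft_comp, Category.assoc]
  unfold Agree
  rw [hw a, hw b]
  constructor
  · rintro h _ ⟨f, rfl⟩
    rw [map_sub, ← dA_gA, ← dA_gA, h, sub_self]
  · intro h
    have e : famGraph ((H ◁ g) ≫ (H ◁ y) ≫ a) = famGraph ((H ◁ g) ≫ (H ◁ y) ≫ b) := by
      refine hom_ext_appTop fun f' ↦ ?_
      refine AY_ext hG g (P := fun f ↦ dA ((H ◁ g) ≫ (H ◁ y) ≫ a) f =
        dA ((H ◁ g) ≫ (H ◁ y) ≫ b) f) (fun p q hp hq ↦ ?_) (fun r f ↦ ?_) f'
      · exact (map_add _ p q).trans ((congrArg₂ (· + ·) hp hq).trans (map_add _ p q).symm)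
      · rw [map_mul, map_mul, dA_sY, dA_sY, dA_gA, dA_gA]
        congr 1
        have := h _ ⟨f, rfl⟩
        rwa [map_sub, sub_eq_zero] at this
    simpa using congrArg (fun z ↦ z ≫ fst G Y') e

/-- The test scheme of a quotient. -/
lemma ideal_eq_of_test {Y : Over S} [IsAffine Y.left] {I J : Ideal Γ(Y.left, ⊤)}
    (h : ∀ (Y' : Over S) (_ : IsAffine Y'.left) (g : Y' ⟶ Y),
      (∀ r ∈ I, g.left.appTop r = 0) ↔ ∀ r ∈ J, g.left.appTop r = 0) : I = J := by
  suffices key : ∀ I J : Ideal Γ(Y.left, ⊤), (∀ (Y' : Over S) (_ : IsAffine Y'.left) (g : Y' ⟶ Y),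
      (∀ r ∈ I, g.left.appTop r = 0) → ∀ r ∈ J, g.left.appTop r = 0) → J ≤ I from
    le_antisymm (key J I fun Y' h' g ↦ (h Y' h' g).mpr) (key I J fun Y' h' g ↦ (h Y' h' g).mp)
  intro I J h r hr
  let φ := Ideal.Quotient.mk I
  let q : Spec (CommRingCat.of (Γ(Y.left, ⊤) ⧸ I)) ⟶ Y.left :=
    Spec.map (CommRingCat.ofHom φ) ≫ Y.left.isoSpec.inv
  let Y' : Over S := Over.mk (q ≫ Y.hom)
  let g : Y' ⟶ Y := Over.homMk q rfl
  have happ : ∀ x, g.left.appTop x =
      (Scheme.ΓSpecIso (CommRingCat.of (Γ(Y.left, ⊤) ⧸ I))).inv (φ x) := fun x ↦ by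
    have e := ConcreteCategory.congr_hom (Scheme.ΓSpecIso_inv_naturality (CommRingCat.ofHom φ)) x
    refine Eq.trans ?_ e.symm
    show (Spec.map (CommRingCat.ofHom φ)).appTop (Y.left.isoSpec.inv.appTop x) = _
    have : Y.left.isoSpec.inv.appTop = (Scheme.ΓSpecIso Γ(Y.left, ⊤)).inv := by
      rw [← cancel_epi (Scheme.ΓSpecIso Γ(Y.left, ⊤)).hom, Iso.hom_inv_id,
        ← Scheme.toSpecΓ_appTop, ← Scheme.isoSpec_hom, ← Scheme.Hom.comp_appTop, Iso.inv_hom_id]
      rfl
    exact congrArg (Spec.map (CommRingCat.ofHom φ)).appTop (ConcreteCategory.congr_hom this x)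
  have e := h Y' (inferInstanceAs (IsAffine (Spec _))) g (fun x hx ↦ by
    rw [happ, Ideal.Quotient.eq_zero_iff_mem.mpr hx, map_zero]) r hr
  rw [happ, ← map_zero ((Scheme.ΓSpecIso (CommRingCat.of (Γ(Y.left, ⊤) ⧸ I))).inv).hom] at e
  exact Ideal.Quotient.eq_zero_iff_mem.mp
    ((ConcreteCategory.bijective_of_isIso
      (Scheme.ΓSpecIso (CommRingCat.of (Γ(Y.left, ⊤) ⧸ I))).inv).1 e)

theorem locIdeal_map (hG : IsAffineHom G.hom) {Y Y' : Over S} [IsAffine Y.left] [IsAffine Y'.left]
    (y : Y ⟶ X) (g : Y' ⟶ Y) :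
    (locIdeal hH a b y).map g.left.appTop.hom = locIdeal hH a b (g ≫ y) := by
  refine ideal_eq_of_test fun Y'' _ g' ↦ ?_
  rw [← agree_iff hH a b hG (g ≫ y) g', ← Category.assoc, agree_iff hH a b hG y (g' ≫ g)]
  constructor
  · intro h r hr
    rw [appTop_comp_apply]
    exact h _ (Ideal.mem_map_of_mem _ hr)
  · intro h
    have : (locIdeal hH a b y).map g.left.appTop.hom ≤ RingHom.ker g'.left.appTop.hom := by
      rw [Ideal.map_le_iff_le_comap]
      intro r hr
      show g'.left.appTop (g.left.appTop r) = 0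
      rw [← appTop_comp_apply]
      exact h r hr
    exact fun r hr ↦ this hr

theorem locIdeal_fg (hG : IsAffineHom G.hom) [LocallyOfFiniteType G.hom] {Y : Over S}
    [IsAffine Y.left] (y : Y ⟶ X) : (locIdeal hH a b y).FG := by
  classical
  haveI := isAffine_prod hG Y
  have hft : (sY G Y).FiniteType := by
    haveI : LocallyOfFiniteType (snd G Y).left := MorphismProperty.pullback_snd _ _ inferInstance
    have := Scheme.Hom.finiteType_appLE (snd G Y).left (isAffineOpen_top Y.left)
      (isAffineOpen_top (G ⊗ Y).left) le_rfl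
    show ((snd G Y).left.app ⊤).hom.FiniteType
    rw [← Scheme.Hom.appLE_eq_app]
    exact this
  letI := (sY G Y).toAlgebra
  obtain ⟨F, hF⟩ := hft.out
  let z := fun f ↦ dA ((H ◁ y) ≫ a) f - dA ((H ◁ y) ≫ b) f
  suffices e : locIdeal hH a b y = coeffIdeal hH (F.image z : Set (AY H Y)) by
    rw [e]; exact coeffIdeal_fg hH _
  refine ideal_eq_of_test fun Y' _ g ↦ ?_
  rw [locIdeal, ← forall_gA_eq_zero_iff, ← forall_gA_eq_zero_iff]
  constructor
  · intro h w hw
    obtain ⟨f, -, rfl⟩ := Finset.mem_image.mp hw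
    exact h _ ⟨f, rfl⟩
  · rintro h _ ⟨f, rfl⟩
    let p₁ := (gA H g).comp (dA ((H ◁ y) ≫ a))
    let p₂ := (gA H g).comp (dA ((H ◁ y) ≫ b))
    have hs : ∀ r, p₁ (sY G Y r) = p₂ (sY G Y r) := fun r ↦ by
      show gA H g (dA _ _) = gA H g (dA _ _)
      rw [dA_sY, dA_sY]
    have hle : ∀ x ∈ Algebra.adjoin Γ(Y.left, ⊤) (F : Set (AY G Y)), p₁ x = p₂ x := by
      intro x hx
      induction hx using Algebra.adjoin_induction with
      | mem x hx =>
        have := h _ (Finset.mem_image_of_mem z hx)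
        rwa [map_sub, sub_eq_zero] at this
      | algebraMap r => exact hs r
      | add x x' _ _ e e' => rw [map_add, map_add, e, e']
      | mul x x' _ _ e e' => rw [map_mul, map_mul, e, e']
    have := hle f (hF ▸ trivial)
    rw [map_sub, sub_eq_zero]
    exact this

/-- An affine open as a test scheme. -/
abbrev openTest (X : Over S) (V : X.left.Opens) : Over S := Over.mk (V.ι ≫ X.hom)

/-- Its inclusion. -/
abbrev openIncl (X : Over S) (V : X.left.Opens) : openTest X V ⟶ X := Over.homMk V.ι rfl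

include hH in
/-- The locus of agreement is a closed subscheme. -/
theorem exists_agreeLocus (hG : IsAffineHom G.hom) :
    ∃ (E : Over S) (j : E ⟶ X), IsClosedImmersion j.left ∧
      (LocallyOfFiniteType G.hom → LocallyOfFinitePresentation j.left) ∧
      ∀ (Z : Over S) (g : Z ⟶ X), (∃ z : Z ⟶ E, z ≫ j = g) ↔ Agree a b g := by
  let Iv : ∀ V : X.left.affineOpens, Ideal Γ(X.left, V.1) := fun V ↦
    haveI : IsAffine (openTest X V.1).left := V.2
    (locIdeal hH a b (openIncl X V.1)).map V.1.topIso.hom.hom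
  let I : X.left.IdealSheafData :=
    { ideal := Iv
      map_ideal_basicOpen := fun V f ↦ by
        let U := X.left.affineBasicOpen f
        haveI : IsAffine (openTest X V.1).left := V.2
        haveI : IsAffine (openTest X U.1).left := U.2
        have hle : U.1 ≤ V.1 := X.left.basicOpen_le f
        let g : openTest X U.1 ⟶ openTest X V.1 := Over.homMk (X.left.homOfLE hle)
          (by simp [openTest])
        have hg : g ≫ openIncl X V.1 = openIncl X U.1 :=
          Over.OverMorphism.ext (X.left.homOfLE_ι hle)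
        show ((locIdeal hH a b (openIncl X V.1)).map V.1.topIso.hom.hom).map _ =
          (locIdeal hH a b (openIncl X U.1)).map U.1.topIso.hom.hom
        rw [← hg, ← locIdeal_map hH a b hG]
        have hc : V.1.topIso.hom ≫ X.left.presheaf.map (homOfLE hle).op =
            (X.left.homOfLE hle).appTop ≫ U.1.topIso.hom := by
          simp [Scheme.homOfLE_appTop, ← Functor.map_comp]
          exact (X.left.presheaf.map_comp _ _).symm.trans
            ((congrArg X.left.presheaf.map (Subsingleton.elim _ _)).trans (X.left.presheaf.map_comp _ _))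
        refine (Ideal.map_map _ _).trans (Eq.trans ?_ (Ideal.map_map _ _).symm)
        exact congrArg (fun φ : Γ(openTest X V.1 |>.left, ⊤) ⟶ Γ(X.left, U.1) ↦
          (locIdeal hH a b (openIncl X V.1)).map φ.hom) hc }
  let E : Over S := Over.mk (I.subschemeι ≫ X.hom)
  let j : E ⟶ X := Over.homMk I.subschemeι rfl
  refine ⟨E, j, inferInstanceAs (IsClosedImmersion I.subschemeι), fun hft ↦ ?_, fun Z g ↦ ?_⟩
  · haveI := hft
    refine Groth.Flatmor4.lfp_of_ker_fg I.subschemeι fun V ↦ ?_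
    rw [I.ker_subschemeι]
    haveI : IsAffine (openTest X V.1).left := V.2
    exact (locIdeal_fg hH a b hG (openIncl X V.1)).map _
  -- on affine pieces
  have piece : ∀ (V : X.left.affineOpens) (W : Z.left.Opens) (_ : IsAffineOpen W)
      (e : W ≤ g.left ⁻¹ᵁ V.1),
      Agree a b (openIncl Z W ≫ g) ↔ ∀ r ∈ Iv V, g.left.appLE V.1 W e r = 0 := by
    intro V W hW e
    haveI : IsAffine (openTest X V.1).left := V.2
    haveI : IsAffine (openTest Z W).left := hW
    let w : openTest Z W ⟶ openTest X V.1 := Over.homMk (g.left.resLE V.1 W e) (by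
      show _ ≫ V.1.ι ≫ X.hom = W.ι ≫ Z.hom
      rw [Scheme.Hom.resLE_comp_ι_assoc, Over.w g])
    have hw : w ≫ openIncl X V.1 = openIncl Z W ≫ g :=
      Over.OverMorphism.ext (Scheme.Hom.resLE_comp_ι _ _)
    have happ : w.left.appTop = V.1.topIso.hom ≫ g.left.appLE V.1 W e ≫ W.topIso.inv :=
      Scheme.Hom.resLE_app_top g.left e
    rw [← hw, agree_iff hH a b hG (openIncl X V.1) w]
    constructor
    · intro h r hr
      obtain ⟨r₀, hr₀, rfl⟩ := (Ideal.mem_map_iff_of_surjective _
        (ConcreteCategory.bijective_of_isIso V.1.topIso.hom).2).mp hr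
      have e1 := h r₀ hr₀
      rw [happ] at e1
      apply (ConcreteCategory.bijective_of_isIso W.topIso.inv).1
      rw [map_zero]
      exact e1
    · intro h r hr
      have e1 := h _ (Ideal.mem_map_of_mem _ hr)
      rw [happ]
      show W.topIso.inv (g.left.appLE V.1 W e (V.1.topIso.hom r)) = 0
      rw [show g.left.appLE V.1 W e (V.1.topIso.hom r) = 0 from e1, map_zero]
  constructor
  · rintro ⟨z, rfl⟩
    -- cover by affine pieces
    have hch : ∀ x : Z.left, ∃ (V : X.left.affineOpens) (W : Z.left.Opens),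
        IsAffineOpen W ∧ x ∈ W ∧ W ≤ (z ≫ j).left ⁻¹ᵁ V.1 := fun x ↦ by
      obtain ⟨V, hV, hxV, -⟩ := exists_isAffineOpen_mem_and_subset
        (U := (⊤ : X.left.Opens)) (show (z ≫ j).left x ∈ (⊤ : X.left.Opens) from trivial)
      obtain ⟨W, hW, hxW, hWV⟩ := exists_isAffineOpen_mem_and_subset
        (U := (z ≫ j).left ⁻¹ᵁ V) (show x ∈ (z ≫ j).left ⁻¹ᵁ V from hxV)
      exact ⟨⟨V, hV⟩, W, hW, hxW, hWV⟩
    choose V W hW hxW hWV using hch
    let 𝒲 : Z.left.OpenCover :=
      Scheme.openCoverOfIsOpenCover _ W (.mk (top_unique fun x _ ↦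
        TopologicalSpace.Opens.mem_iSup.mpr ⟨x, hxW x⟩))
    have hagree : ∀ x, Agree a b (openIncl Z (W x) ≫ z ≫ j) := fun x ↦ by
      rw [piece (V x) (W x) (hW x) (hWV x)]
      intro r hr
      have hker : I.subschemeι.app (V x).1 r = 0 := by
        have hle : I.ideal (V x) ≤ RingHom.ker (I.subschemeι.app (V x).1).hom := by
          conv_lhs => rw [← I.ker_subschemeι]
          exact Scheme.Hom.ideal_ker_le _ _
        exact hle hr
      show ((z ≫ j).left.app (V x).1 ≫ Z.left.presheaf.map (homOfLE (hWV x)).op) r = 0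
      have e : (z ≫ j).left.app (V x).1 = I.subschemeι.app (V x).1 ≫ z.left.app _ :=
        Scheme.Hom.comp_app z.left I.subschemeι (V x).1
      rw [CommRingCat.comp_apply, e]
      exact (congrArg (Z.left.presheaf.map (homOfLE (hWV x)).op)
        ((congrArg (z.left.app _) hker).trans (map_zero _))).trans (map_zero _)
    refine Over.OverMorphism.ext (Scheme.Cover.hom_ext (𝒲.pullback₁ (snd H Z).left) _ _ fun x ↦ ?_)
    have sq := Groth.AlgGrp1.isPullback_whiskerLeft H (openIncl Z (W x))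
    let m := sq.flip.lift (pullback.fst (snd H Z).left (W x).ι)
      (pullback.snd (snd H Z).left (W x).ι) pullback.condition
    have hm : m ≫ (H ◁ openIncl Z (W x)).left = pullback.fst (snd H Z).left (W x).ι :=
      sq.flip.lift_fst _ _ _
    show pullback.fst (snd H Z).left (W x).ι ≫ ((H ◁ (z ≫ j)) ≫ a).left =
      pullback.fst (snd H Z).left (W x).ι ≫ ((H ◁ (z ≫ j)) ≫ b).left
    rw [← hm, Category.assoc, Category.assoc, ← Over.comp_left, ← Over.comp_left]
    have h1 := hagree x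
    unfold Agree at h1
    rw [whiskerLeft_comp, Category.assoc, Category.assoc] at h1
    rw [h1]
  · intro h
    have hker : I.subschemeι.ker ≤ g.left.ker := by
      rw [I.ker_subschemeι]
      refine Scheme.IdealSheafData.le_ofIdeals_iff.mpr fun V r hr ↦ ?_
      show g.left.app V.1 r = 0
      choose W hW hxW hWV using fun x : (g.left ⁻¹ᵁ V.1 : Z.left.Opens) ↦
        exists_isAffineOpen_mem_and_subset x.2
      refine Z.left.sheaf.eq_of_locally_eq' W (g.left ⁻¹ᵁ V.1) (fun x ↦ homOfLE (hWV x))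
        (fun x hx ↦ TopologicalSpace.Opens.mem_iSup.mpr ⟨⟨x, hx⟩, hxW _⟩) _ _ fun x ↦ ?_
      exact ((piece V (W x) (hW x) (hWV x)).mp (h.comp _) r hr).trans
        (map_zero (Z.left.presheaf.map (homOfLE (hWV x)).op).hom).symm
    exact ⟨Over.homMk (IsClosedImmersion.lift I.subschemeι g.left hker) (by
        show _ ≫ I.subschemeι ≫ X.hom = Z.hom
        rw [IsClosedImmersion.lift_fac_assoc, Over.w g]),
      Over.OverMorphism.ext (IsClosedImmersion.lift_fac _ _ _)⟩

end Groth.Reductive.MTInt
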