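import Groth.Agent.Reductive.MTAvg

/-!
Rigidity of homomorphisms from groups of multiplicative type.
-/

set_option autoImplicit false
universe u

open CategoryTheory MonoidalCategory CartesianMonoidalCategory MonObj AlgebraicGeometry Limits

noncomputable section

namespace Groth.Reductive.MTInt

lemma sqZero_quotient {R : Type u} [CommRing R] (J : Ideal R) (hJ : J ^ 2 = ⊥) :
    SqZero (toUnit (Over.mk (Spec.map (CommRingCat.ofHom (Ideal.Quotient.mk J))) :
      Over (Spec (CommRingCat.of R)))) := by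
  obtain ⟨h, hl, hs⟩ := exists_sqZero (S := Spec (CommRingCat.of R)) R J hJ (𝟙 _)
  have e : (toUnit (Over.mk (Spec.map (CommRingCat.ofHom (Ideal.Quotient.mk J))) :
      Over (Spec (CommRingCat.of R)))).left = h.left := hl.symm
  constructor
  · rw [e]; exact hs.surj
  · rw [e]; exact hs.sq

variable {S : Scheme.{u}}

lemma isHomFam_fst {H G : Over S} [GrpObj H] [GrpObj G] (u : H ⟶ G) [IsMonHom u] (Y : Over S) :
    IsHomFam (fst H Y ≫ u) := fun Z a b y ↦ by
  simp only [lift_fst_assoc, MonObj.mul_comp]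

instance isAffine_unit {R : CommRingCat.{u}} : IsAffine (𝟙_ (Over (Spec R))).left :=
  inferInstanceAs (IsAffine (Spec R))

/-- Homomorphisms which agree modulo an ideal of square zero are conjugate by a section congruent
to one. -/
theorem exists_conj_unit {R : Type u} [CommRing R] (J : Ideal R) (hJ : J ^ 2 = ⊥)
    {H G : Over (Spec (CommRingCat.of R))} [GrpObj H] [GrpObj G] (hH : LocTriv H)
    (u v : H ⟶ G) [IsMonHom u] [IsMonHom v]
    (h0 : ∀ (X : Over (Spec (CommRingCat.of R)))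
      (_ : X ⟶ (Over.mk (Spec.map (CommRingCat.ofHom (Ideal.Quotient.mk J))) :
        Over (Spec (CommRingCat.of R)))) (h : X ⟶ H), h ≫ u = h ≫ v) :
    ∃ g : 𝟙_ (Over (Spec (CommRingCat.of R))) ⟶ G,
      toUnit (Over.mk (Spec.map (CommRingCat.ofHom (Ideal.Quotient.mk J))) :
        Over (Spec (CommRingCat.of R))) ≫ g = 1 ∧
      ∀ (X : Over (Spec (CommRingCat.of R))) (h : X ⟶ H),
        h ≫ v = (toUnit X ≫ g) * (h ≫ u) * (toUnit X ≫ g)⁻¹ := by
  let Y₀ : Over (Spec (CommRingCat.of R)) :=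
    Over.mk (Spec.map (CommRingCat.ofHom (Ideal.Quotient.mk J)))
  haveI : IsAffine Y₀.left := inferInstanceAs (IsAffine (Spec _))
  obtain ⟨k, hk0, hk⟩ := exists_conjG (Y := 𝟙_ _) (i₀ := toUnit Y₀) hH (sqZero_quotient J hJ)
    (fst H _ ≫ u) (fst H _ ≫ v) (isHomFam_fst u _) (isHomFam_fst v _)
    (by rw [whiskerLeft_fst_assoc, whiskerLeft_fst_assoc]; exact h0 _ (snd H Y₀) _)
  refine ⟨k, hk0, fun X h ↦ ?_⟩
  have e := congrArg (fun z ↦ lift h (toUnit X) ≫ z) hk
  simpa [MonObj.comp_mul, GrpObj.comp_inv] using e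

end Groth.Reductive.MTInt
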