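import Groth.Agent.Reductive.MTRigidLift

/-!
Subgroups of multiplicative type which coincide modulo an ideal of square zero.
-/

set_option autoImplicit false
universe u

open CategoryTheory MonoidalCategory CartesianMonoidalCategory MonObj AlgebraicGeometry Limits

noncomputable section

namespace Groth.Reductive.MTInt

variable {S : Scheme.{u}}

lemma mono_of_isImmersion {A B : Over S} (i : A ⟶ B) [IsImmersion i.left] : Mono i :=
  (Over.forget S).mono_of_mono_map (inferInstanceAs (Mono i.left))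

/-- Transfer of points along an isomorphism of base changes of subobjects. -/
lemma exists_point_of_iso {S₀ : Scheme.{u}} (q : S₀ ⟶ S) {A B C : Over S} (a : A ⟶ C) (b : B ⟶ C)
    (e : Red.bc q A ⟶ Red.bc q B)
    (he : e ≫ (Over.pullback q).map b = (Over.pullback q).map a) {X : Over S}
    (p : X ⟶ Over.mk q) (h : X ⟶ A) : ∃ h' : X ⟶ B, h' ≫ b = h ≫ a := by
  let X₀ : Over S₀ := Over.mk p.left
  let w : (Over.map q).obj X₀ ≅ X := Over.isoMk (Iso.refl X.left)
    ((Category.id_comp _).trans (Over.w p).symm)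
  let h₀ : X₀ ⟶ Red.bc q A :=
    ((Over.mapPullbackAdj q).homEquiv X₀ A) (w.hom ≫ h)
  refine ⟨w.inv ≫ Groth.Reductive.FreeDiag.qPt q (h₀ ≫ e), ?_⟩
  rw [Category.assoc, ← Groth.Reductive.FreeDiag.qPt_map, Category.assoc, he,
    Groth.Reductive.FreeDiag.qPt_map,
    show Groth.Reductive.FreeDiag.qPt q h₀ = w.hom ≫ h from Equiv.symm_apply_apply _ _,
    Category.assoc, Iso.inv_hom_id_assoc]

/-- Subgroups of multiplicative type which coincide modulo an ideal of square zero are conjugate
by a section congruent to one. -/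
theorem exists_conjBy_of_iso_mod {R : Type u} [CommRing R] (J : Ideal R) (hJ : J ^ 2 = ⊥)
    {G H H' : Over (Spec (CommRingCat.of R))} [GrpObj G] [GrpObj H] [GrpObj H']
    (hH : LocTriv H) (hH' : LocTriv H') (i : H ⟶ G) [IsMonHom i] [IsImmersion i.left]
    (i' : H' ⟶ G) [IsMonHom i'] [IsImmersion i'.left]
    (ψ : Red.bc (Spec.map (CommRingCat.ofHom (Ideal.Quotient.mk J))) H ≅
      Red.bc (Spec.map (CommRingCat.ofHom (Ideal.Quotient.mk J))) H')
    (hψ : ψ.hom ≫ (Over.pullback (Spec.map (CommRingCat.ofHom (Ideal.Quotient.mk J)))).map i' =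
      (Over.pullback (Spec.map (CommRingCat.ofHom (Ideal.Quotient.mk J)))).map i) :
    ∃ g : 𝟙_ (Over (Spec (CommRingCat.of R))) ⟶ G,
      toUnit (Over.mk (Spec.map (CommRingCat.ofHom (Ideal.Quotient.mk J))) :
        Over (Spec (CommRingCat.of R))) ≫ g = 1 ∧ SGA3x.ConjBy i i' g := by
  haveI := mono_of_isImmersion i
  haveI := mono_of_isImmersion i'
  let Y₀ : Over (Spec (CommRingCat.of R)) :=
    Over.mk (Spec.map (CommRingCat.ofHom (Ideal.Quotient.mk J)))
  haveI : IsAffine Y₀.left := inferInstanceAs (IsAffine (Spec _))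
  obtain ⟨g, hg, h1, h2⟩ := exists_lift_subTransporterG (Y := 𝟙_ _) hH hH' i i'
    (sqZero_quotient J hJ) 1
    (by
      obtain ⟨w, hw⟩ := exists_point_of_iso _ i i' ψ.hom hψ (snd H Y₀) (fst H Y₀)
      refine ⟨w, ?_⟩
      rw [whisker_conjFam, MonObj.comp_one, MonObj.comp_one, hw]
      simp [Y₀])
    (by
      obtain ⟨w, hw⟩ := exists_point_of_iso _ i' i ψ.inv (by rw [← hψ, Iso.inv_hom_id_assoc])
        (snd H' Y₀) (fst H' Y₀)
      refine ⟨w, ?_⟩
      rw [whisker_conjFamInv, MonObj.comp_one, MonObj.comp_one, hw]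
      simp [Y₀])
  exact ⟨g, by rw [hg, MonObj.comp_one], conjBy_of_factors i i' g h1 h2⟩

end Groth.Reductive.MTInt
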