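import Groth.Agent.Reductive.FreeDiagScheme
import Mathlib.RingTheory.RingHom.FaithfullyFlat

/-!
Trivialisations of groups of multiplicative type, on points: functions on `H × Y` and the
constant-term functional.
-/

set_option autoImplicit false
universe u

open CategoryTheory MonoidalCategory CartesianMonoidalCategory MonObj AlgebraicGeometry Limits

noncomputable section

namespace Groth.Reductive.MTInt

open Groth.Reductive.FreeDiag (ev ev_single)

variable {S : Scheme.{u}} {H : Over S} [GrpObj H] {Y Y' : Over S}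

/-- Functions on `H × Y`. -/
abbrev AY (H Y : Over S) : Type u := Γ((H ⊗ Y).left, ⊤)

/-- Functions on the base as functions on `H × Y`. -/
abbrev sY (H Y : Over S) : Γ(Y.left, ⊤) →+* AY H Y := (snd H Y).left.appTop.hom

/-- Pullback of functions on `H × Y`. -/
abbrev gA (H : Over S) {Y Y' : Over S} (g : Y' ⟶ Y) : AY H Y →+* AY H Y' := (H ◁ g).left.appTop.hom

lemma gA_sY (g : Y' ⟶ Y) (r : Γ(Y.left, ⊤)) : gA H g (sY H Y r) = sY H Y' (g.left.appTop r) := by
  show ((H ◁ g).left.appTop) ((snd H Y).left.appTop r) = _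
  rw [← CommRingCat.comp_apply, ← Scheme.Hom.comp_appTop, ← Over.comp_left, whiskerLeft_snd,
    Over.comp_left, Scheme.Hom.comp_appTop]
  rfl

lemma gA_comp {Y'' : Over S} (g : Y' ⟶ Y) (g' : Y'' ⟶ Y') (a : AY H Y) :
    gA H (g' ≫ g) a = gA H g' (gA H g a) := by
  show (H ◁ (g' ≫ g)).left.appTop a = (H ◁ g').left.appTop ((H ◁ g).left.appTop a)
  rw [← CommRingCat.comp_apply, ← Scheme.Hom.comp_appTop, ← Over.comp_left, ← whiskerLeft_comp]

/-- A trivialisation of `H` over `Y`, on points. -/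
structure Triv (H : Over S) [GrpObj H] (Y : Over S) where
  /-- the character group -/
  M : Type
  [grp : AddCommGroup M]
  /-- values of characters -/
  val : ∀ {Z : Over S}, (Z ⟶ Y) → (Z ⟶ H) ≃* (Multiplicative M →* Γ(Z.left, ⊤))
  nat : ∀ {Z W : Over S} (g : W ⟶ Z) (z : Z ⟶ Y) (h : Z ⟶ H),
    val (g ≫ z) (g ≫ h) = g.left.appTop.hom.toMonoidHom.comp (val z h)

attribute [instance] Triv.grp

namespace Triv

/-- Restriction of a trivialisation. -/
@[reducible] def restrict (τ : Triv H Y) (g : Y' ⟶ Y) : Triv H Y' where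
  M := τ.M
  val z := τ.val (z ≫ g)
  nat f z h := by rw [Category.assoc]; exact τ.nat f (z ≫ g) h

variable (τ : Triv H Y)

/-- The comorphism of `H × Y`. -/
def κ : MonoidAlgebra Γ(Y.left, ⊤) (Multiplicative τ.M) →+* AY H Y :=
  ev (sY H Y) (τ.val (snd H Y) (fst H Y))

lemma κ_single (m : Multiplicative τ.M) (b : Γ(Y.left, ⊤)) :
    τ.κ (MonoidAlgebra.single m b) = sY H Y b * τ.val (snd H Y) (fst H Y) m :=
  ev_single _ _ m b

lemma κ_single_one (b : Γ(Y.left, ⊤)) : τ.κ (MonoidAlgebra.single 1 b) = sY H Y b := by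
  rw [τ.κ_single, map_one, _root_.mul_one]

lemma val_comp_snd (g : Y' ⟶ Y) (m : Multiplicative τ.M) :
    gA H g (τ.val (snd H Y) (fst H Y) m) = (τ.restrict g).val (snd H Y') (fst H Y') m := by
  have e := DFunLike.congr_fun (τ.nat (H ◁ g) (snd H Y) (fst H Y)) m
  rw [whiskerLeft_snd, whiskerLeft_fst] at e
  exact e.symm

lemma gA_κ_single (g : Y' ⟶ Y) (m : Multiplicative τ.M) (b : Γ(Y.left, ⊤)) :
    gA H g (τ.κ (MonoidAlgebra.single m b)) =
      (τ.restrict g).κ (MonoidAlgebra.single m (g.left.appTop b)) := by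
  rw [τ.κ_single, map_mul, gA_sY, τ.val_comp_snd]
  exact ((τ.restrict g).κ_single m _).symm

variable [IsAffine Y.left]

lemma κ_bijective : Function.Bijective τ.κ := by
  let C := MonoidAlgebra Γ(Y.left, ⊤) (Multiplicative τ.M)
  let jC : Γ(Y.left, ⊤) →+* C := MonoidAlgebra.singleOneRingHom
  let q : Spec (CommRingCat.of C) ⟶ Y.left :=
    Spec.map (CommRingCat.ofHom jC) ≫ Y.left.isoSpec.inv
  let Z : Over S := Over.mk (q ≫ Y.hom)
  let y : Z ⟶ Y := Over.homMk q rfl
  let γC : C →+* Γ(Z.left, ⊤) := (Scheme.ΓSpecIso (CommRingCat.of C)).inv.hom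
  have hγC : Function.Bijective γC :=
    ConcreteCategory.bijective_of_isIso (Scheme.ΓSpecIso (CommRingCat.of C)).inv
  have hy : ∀ r, y.left.appTop r = γC (jC r) := fun r ↦ by
    have e := ConcreteCategory.congr_hom (Scheme.ΓSpecIso_inv_naturality (CommRingCat.ofHom jC)) r
    refine Eq.trans ?_ e.symm
    show (Spec.map (CommRingCat.ofHom jC)).appTop (Y.left.isoSpec.inv.appTop r) = _
    have : Y.left.isoSpec.inv.appTop = (Scheme.ΓSpecIso Γ(Y.left, ⊤)).inv := by
      rw [← cancel_epi (Scheme.ΓSpecIso Γ(Y.left, ⊤)).hom, Iso.hom_inv_id,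
        ← Scheme.toSpecΓ_appTop, ← Scheme.isoSpec_hom, ← Scheme.Hom.comp_appTop, Iso.inv_hom_id]
      rfl
    exact congrArg (Spec.map (CommRingCat.ofHom jC)).appTop (ConcreteCategory.congr_hom this r)
  let h : Z ⟶ H := (τ.val y).symm (γC.toMonoidHom.comp (MonoidAlgebra.of _ _))
  let n : Z ⟶ H ⊗ Y := lift h y
  have hn : ∀ c, n.left.appTop (τ.κ c) = γC c := by
    intro c
    refine RingHom.congr_fun (f := n.left.appTop.hom.comp τ.κ) ?_ c
    refine MonoidAlgebra.ringHom_ext (fun r ↦ ?_) (fun a ↦ ?_)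
    · rw [RingHom.comp_apply, τ.κ_single_one]
      show n.left.appTop ((snd H Y).left.appTop r) = _
      rw [← CommRingCat.comp_apply, ← Scheme.Hom.comp_appTop, ← Over.comp_left, lift_snd, hy]
      rfl
    · rw [RingHom.comp_apply, τ.κ_single, map_one, _root_.one_mul]
      have e := DFunLike.congr_fun (τ.nat n (snd H Y) (fst H Y)) a
      rw [lift_snd, lift_fst] at e
      refine e.symm.trans ?_
      show τ.val y h a = _
      rw [MulEquiv.apply_symm_apply]
      rfl
  let jl : (H ⊗ Y).left ⟶ Z.left :=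
    (H ⊗ Y).left.toSpecΓ ≫ Spec.map (CommRingCat.ofHom τ.κ)
  have hjl : ∀ z, jl.appTop (γC z) = τ.κ z := fun z ↦ by
    rw [Scheme.Hom.comp_appTop, CommRingCat.comp_apply]
    have e := ConcreteCategory.congr_hom
      (Scheme.ΓSpecIso_inv_naturality (CommRingCat.ofHom τ.κ)) z
    refine (congrArg (H ⊗ Y).left.toSpecΓ.appTop e.symm).trans ?_
    rw [Scheme.toSpecΓ_appTop]
    exact ConcreteCategory.congr_hom (Scheme.ΓSpecIso _).inv_hom_id (τ.κ z)
  have hsnd : jl ≫ y.left = (snd H Y).left := by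
    refine ext_of_isAffine (CommRingCat.hom_ext (RingHom.ext fun r ↦ ?_))
    show jl.appTop (y.left.appTop r) = _
    rw [hy, hjl]
    exact τ.κ_single_one r
  let j : H ⊗ Y ⟶ Z := Over.homMk jl (by
    rw [← Over.w y, ← Category.assoc, hsnd]
    exact Over.w (snd H Y))
  have hjy : j ≫ y = snd H Y := Over.OverMorphism.ext hsnd
  have hjn : j ≫ n = 𝟙 (H ⊗ Y) := by
    refine CartesianMonoidalCategory.hom_ext _ _ ?_ ?_
    · rw [Category.assoc, Category.id_comp, show n ≫ fst H Y = h from lift_fst h y]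
      apply (τ.val (snd H Y)).injective
      refine MonoidHom.ext fun a ↦ ?_
      have e := DFunLike.congr_fun (τ.nat j y h) a
      rw [hjy] at e
      rw [e]
      show jl.appTop (τ.val y h a) = _
      rw [MulEquiv.apply_symm_apply]
      show jl.appTop (γC (MonoidAlgebra.single a 1)) = _
      rw [hjl, τ.κ_single, map_one, _root_.one_mul]
    · rw [Category.assoc, Category.id_comp, show n ≫ snd H Y = y from lift_snd h y, hjy]
  constructor
  · intro a b e
    apply hγC.1
    rw [← hn, ← hn, e]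
  · intro z
    obtain ⟨c, hc⟩ := hγC.2 (n.left.appTop z)
    refine ⟨c, ?_⟩
    rw [← hjl, hc]
    show j.left.appTop (n.left.appTop z) = z
    rw [← CommRingCat.comp_apply, ← Scheme.Hom.comp_appTop, ← Over.comp_left, hjn]
    simp

/-- The comorphism as an isomorphism. -/
def κE : MonoidAlgebra Γ(Y.left, ⊤) (Multiplicative τ.M) ≃+* AY H Y :=
  RingEquiv.ofBijective τ.κ τ.κ_bijective

lemma induction_on {P : AY H Y → Prop} (a : AY H Y) (hadd : ∀ x y, P x → P y → P (x + y))
    (hsingle : ∀ m b, P (τ.κ (MonoidAlgebra.single m b))) : P a := by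
  obtain ⟨c, rfl⟩ := τ.κ_bijective.2 a
  induction c using MonoidAlgebra.induction_linear with
  | zero => rw [show (0 : MonoidAlgebra Γ(Y.left, ⊤) (Multiplicative τ.M)) =
      MonoidAlgebra.single 1 0 by simp]; exact hsingle _ _
  | add x y hx hy => rw [map_add]; exact hadd _ _ hx hy
  | single m r => exact hsingle m r

/-- The constant term. -/
def ct : AY H Y →+ Γ(Y.left, ⊤) where
  toFun a := (τ.κE.symm a).coeff 1
  map_zero' := by simp
  map_add' a b := by simp

open scoped Classical in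
lemma ct_single (m : Multiplicative τ.M) (b : Γ(Y.left, ⊤)) :
    τ.ct (τ.κ (MonoidAlgebra.single m b)) = if m = 1 then b else 0 := by
  show (τ.κE.symm (τ.κE (MonoidAlgebra.single m b))).coeff 1 = _
  rw [RingEquiv.symm_apply_apply, MonoidAlgebra.coeff_single, Finsupp.single_apply]

lemma ct_sY (r : Γ(Y.left, ⊤)) : τ.ct (sY H Y r) = r := by
  rw [← τ.κ_single_one, τ.ct_single, if_pos rfl]

lemma ct_sY_mul (r : Γ(Y.left, ⊤)) (a : AY H Y) : τ.ct (sY H Y r * a) = r * τ.ct a := by
  refine τ.induction_on (P := fun a ↦ τ.ct (sY H Y r * a) = r * τ.ct a) a (fun x y hx hy ↦ ?_)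
    fun m b ↦ ?_
  · rw [_root_.mul_add, map_add, map_add, _root_.mul_add, hx, hy]
  · rw [← τ.κ_single_one, ← map_mul, MonoidAlgebra.single_mul_single, _root_.one_mul,
      τ.ct_single, τ.ct_single, mul_ite, MulZeroClass.mul_zero]

lemma ct_nat [IsAffine Y'.left] (g : Y' ⟶ Y) (a : AY H Y) :
    (τ.restrict g).ct (gA H g a) = g.left.appTop (τ.ct a) := by
  refine τ.induction_on (P := fun a ↦ (τ.restrict g).ct (gA H g a) = g.left.appTop (τ.ct a)) a
    (fun x y hx hy ↦ by simp only [map_add, hx, hy]) fun m b ↦ ?_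
  rw [τ.gA_κ_single, τ.ct_single]
  refine ((τ.restrict g).ct_single m _).trans ?_
  rw [apply_ite (fun x ↦ g.left.appTop x), map_zero]

/-- Translation by a point. -/
def th (h : Y ⟶ H) : H ⊗ Y ⟶ H ⊗ Y := lift ((snd H Y ≫ h) * fst H Y) (snd H Y)

omit [IsAffine Y.left] in
lemma th_κ_single (h : Y ⟶ H) (m : Multiplicative τ.M) (b : Γ(Y.left, ⊤)) :
    (th h).left.appTop (τ.κ (MonoidAlgebra.single m b)) =
      τ.κ (MonoidAlgebra.single m (b * τ.val (𝟙 Y) h m)) := by
  rw [τ.κ_single, τ.κ_single, map_mul, map_mul]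
  have e1 : (th h).left.appTop (sY H Y b) = sY H Y b := by
    show (th h).left.appTop ((snd H Y).left.appTop b) = _
    rw [← CommRingCat.comp_apply, ← Scheme.Hom.comp_appTop, ← Over.comp_left,
      show th h ≫ snd H Y = snd H Y from lift_snd _ _]
  have e2 := DFunLike.congr_fun (τ.nat (th h) (snd H Y) (fst H Y)) m
  rw [show th h ≫ snd H Y = snd H Y from lift_snd _ _,
    show th h ≫ fst H Y = (snd H Y ≫ h) * fst H Y from lift_fst _ _, map_mul] at e2
  have e3 := DFunLike.congr_fun (τ.nat (snd H Y) (𝟙 Y) h) m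
  rw [Category.comp_id] at e3
  rw [e1, _root_.mul_assoc]
  refine congrArg (sY H Y b * ·) ?_
  refine e2.symm.trans ?_
  rw [MonoidHom.mul_apply, e3]
  rfl

lemma ct_th (h : Y ⟶ H) (a : AY H Y) : τ.ct ((th h).left.appTop a) = τ.ct a := by
  refine τ.induction_on (P := fun a ↦ τ.ct ((th h).left.appTop a) = τ.ct a) a
    (fun x y hx hy ↦ by simp only [map_add, hx, hy]) fun m b ↦ ?_
  rw [τ.th_κ_single, τ.ct_single, τ.ct_single]
  by_cases hm : m = 1
  · subst hm
    rw [if_pos rfl, if_pos rfl, map_one, _root_.mul_one]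
  · rw [if_neg hm, if_neg hm]

/-- The constant term does not depend on the trivialisation. -/
theorem ct_eq (σ : Triv H Y) [IsAffine (H ⊗ Y).left] (a : AY H Y) : τ.ct a = σ.ct a := by
  classical
  refine σ.induction_on (P := fun a ↦ τ.ct a = σ.ct a) a
    (fun x y hx hy ↦ by simp only [map_add, hx, hy]) fun m b ↦ ?_
  rw [σ.ct_single]
  split_ifs with hm
  · subst hm
    rw [σ.κ_single_one, τ.ct_sY]
  · let g : H ⊗ Y ⟶ Y := snd H Y
    let h : H ⊗ Y ⟶ H := fst H Y
    set c := τ.ct (σ.κ (MonoidAlgebra.single m b)) with hc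
    have e1 := (τ.restrict g).ct_th h (gA H g (σ.κ (MonoidAlgebra.single m b)))
    rw [σ.gA_κ_single, (σ.restrict g).th_κ_single, mul_comm] at e1
    have e2 : (σ.restrict g).κ (MonoidAlgebra.single m (σ.val g h m * g.left.appTop b)) =
        sY H (H ⊗ Y) (σ.val g h m) * gA H g (σ.κ (MonoidAlgebra.single m b)) := by
      rw [σ.gA_κ_single, ← (σ.restrict g).κ_single_one, ← map_mul]
      congr 1
      exact ((MonoidAlgebra.single_mul_single ..).trans (by rw [_root_.one_mul])).symm
    have hg : (σ.restrict g).val (𝟙 (H ⊗ Y)) h = σ.val g h := by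
      show σ.val (𝟙 _ ≫ g) h = _
      rw [Category.id_comp]
    rw [show ((σ.restrict g).val (𝟙 (H ⊗ Y)) h) m = σ.val g h m from DFunLike.congr_fun hg m] at e1
    rw [e2, ← σ.gA_κ_single, (τ.restrict g).ct_sY_mul, τ.ct_nat, ← hc] at e1
    -- now compare coefficients
    have e3 : σ.κ (MonoidAlgebra.single m c) = σ.κ (MonoidAlgebra.single 1 c) := by
      rw [σ.κ_single, σ.κ_single_one, mul_comm]
      exact e1
    have e4 := congrArg (fun z : MonoidAlgebra Γ(Y.left, ⊤) (Multiplicative σ.M) ↦ z.coeff m)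
      (σ.κ_bijective.1 e3)
    simpa [Finsupp.single_apply, Ne.symm hm] using e4

end Triv

end Groth.Reductive.MTInt
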