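import Groth.Agent.Reductive.RedRankBC
import Groth.Agent.Reductive.MTClosedLocus
import Groth.Agent.AlgGrp1.CentTorus
import Groth.Agent.GrpschLoci.Fibres
import Groth.Agent.Reductive2.CentralHensel
import Groth.Agent.RedX.SmoothTorus

/-!
# A self-centralizing maximal torus of a geometric fibre extends to an etale neighbourhood
-/

set_option autoImplicit false

universe u

open CategoryTheory Limits MonoidalCategory CartesianMonoidalCategory MonObj GrpObj AlgebraicGeometry

noncomputable section

namespace Groth.Reductive.RedRank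

variable {S : Scheme.{u}}

/-- A subtorus is maximal after a base change into the locus where it is maximal. -/
theorem isMaximalTorus_bc_of_forall {G T : Over S} [GrpObj G] [GrpObj T] [IsAffineHom G.hom] [Smooth G.hom] (i : T ⟶ G)
    [IsMonHom i] [Mono i] (hTt : Red.IsTorus T) {W : Scheme.{u}} (f : W ⟶ S)
    (hi : ∀ w : W, AGF.IsMaxTorus ((Over.pullback (Red.geomPt (f.base w))).map i)) :
    Red.IsMaximalTorus ((Over.pullback f).map i) := by
  haveI := Groth.Abvar.isMonHom_map (f := f) i
  have hT : Red.IsTorus (Red.bc f T) := Groth.GrpschAbsch.TorusToAbelian.isTorus_bc hTt f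
  refine ⟨inferInstance, inferInstance, hT, fun w => ?_⟩
  obtain ⟨ψ, hψ, -⟩ := exists_geomPt_hom f w
  obtain ⟨r, hr⟩ := exists_rank hTt (f.base w)
  have hG : HasMax r (Red.geomFibre (f.base w) G) := ⟨_, inferInstance, _, hi w, hr⟩
  haveI : IsAffineHom (Red.geomFibre (f.base w) G).hom :=
    MorphismProperty.pullback_snd (P := @IsAffineHom) _ _ inferInstance
  haveI : IsAffine (Red.geomFibre (f.base w) G).left :=
    isAffine_of_isAffineHom (Red.geomFibre (f.base w) G).hom
  haveI : Smooth (Red.geomFibre (f.base w) G).hom := MorphismProperty.pullback_snd (P := @Smooth) _ _ inferInstance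
  have hG' : HasMax r (Red.geomFibre w (Red.bc f G)) := (hG.bc' ψ).congr
    (bcTwo ψ (Red.geomPt (f.base w)) _ hψ G ≪≫ (bcTwo (Red.geomPt w) f _ rfl G).symm)
  obtain ⟨T₀, _, i₀, hi₀, hr₀⟩ := hG'
  haveI : IsAffineHom (Red.bc f G).hom := MorphismProperty.pullback_snd (P := @IsAffineHom) _ _ inferInstance
  haveI : IsAffineHom (Red.geomFibre w (Red.bc f G)).hom :=
    MorphismProperty.pullback_snd (P := @IsAffineHom) (Red.bc f G).hom _ inferInstance
  haveI : IsAffine (Red.geomFibre w (Red.bc f G)).left :=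
    isAffine_of_isAffineHom (Red.geomFibre w (Red.bc f G)).hom
  haveI : Smooth (Red.geomFibre w (Red.bc f G)).hom :=
    MorphismProperty.pullback_snd _ _ (MorphismProperty.pullback_snd (P := @Smooth) _ _ inferInstance)
  haveI := Groth.Abvar.isMonHom_map (f := Red.geomPt w) ((Over.pullback f).map i)
  have hr' : SplitRank r (Red.geomFibre w (Red.bc f T)) := (hr.bc ψ).congr
    (bcTwo (Red.geomPt w) f _ rfl T ≪≫ (bcTwo ψ (Red.geomPt (f.base w)) _ hψ T).symm)
  exact (isMaxTorus_of_rank hi₀ hr₀ ((Over.pullback (Red.geomPt w)).map ((Over.pullback f).map i))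
    hr' le_rfl).2.2.2

variable {G : Over S} [GrpObj G] [IsAffineHom G.hom] [Smooth G.hom]

omit [IsAffineHom G.hom] in
theorem connectedSpace_geomFibre (hconn : ∀ s : S, _root_.IsConnected (G.hom.base ⁻¹' {s}))
    {K : Type u} [Field K] (ψ : Spec (CommRingCat.of K) ⟶ S) : ConnectedSpace ↥(Red.bc ψ G).left := by
  haveI := Groth.Reductive2.CentralHensel.geometricallyConnected_of_fibres G hconn
  haveI : GeometricallyConnected (Red.bc ψ G).hom :=
    inferInstanceAs (GeometricallyConnected (Limits.pullback.snd G.hom ψ))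
  exact GeometricallyConnected.connectedSpace_of_subsingleton (f := (Red.bc ψ G).hom)

/-- A subtorus equal to its centralizer is maximal. -/
theorem isMax_of_centralizer {K : Type u} [Field K] {X T C : Over (Spec (CommRingCat.of K))} [GrpObj X] [GrpObj T]
    [GrpObj C] (i : T ⟶ X) [IsMonHom i] [Mono i] (c : C ⟶ X) (hc : Red.IsCentralizerOf i c) (j : T ⟶ C)
    (hj : j ≫ c = i) [IsIso j] (hT : Red.IsTorus T) : AGF.IsMaxTorus i := by
  refine ⟨inferInstance, inferInstance, hT, fun T' _ k _ _ v hT' hv => ?_⟩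
  obtain ⟨z, hz⟩ := (hc.2.2 T' k).2 fun X' a b => by
    rw [← hv, ← Category.assoc b, ← MonObj.mul_comp, ← MonObj.mul_comp,
      Groth.Reductive.MTInt.comm_of_locTriv (Groth.Reductive.MTInt.locTriv_of_multTypeFT
        (Groth.Reductive.FreeDiag.isMultTypeFT_of_isTorus hT'))]
  haveI := hc.2.1
  have hvz : v ≫ z = j := by rw [← cancel_mono c, Category.assoc, hz, hv, hj]
  refine ⟨z ≫ inv j, by rw [reassoc_of% hvz, IsIso.hom_inv_id], ?_⟩
  rw [← cancel_mono k, Category.assoc, Category.assoc, hv, ← hj, IsIso.inv_hom_id_assoc, hz, Category.id_comp]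

/-- A self-centralizing maximal torus extends to an etale neighbourhood. -/
theorem exists_selfCent_nhd (hconn : ∀ s : S, _root_.IsConnected (G.hom.base ⁻¹' {s})) (s₀ : S)
    (hc : ∀ (T : Over (Spec (CommRingCat.of (AlgebraicClosure (S.residueField s₀))))) [GrpObj T]
      (i : T ⟶ Red.geomFibre s₀ G), Red.IsMaximalTorus i → ∀ (X : Over _) (g : X ⟶ Red.geomFibre s₀ G),
      (∀ (X' : Over _) (x : X' ⟶ X) (t : X' ⟶ T), (x ≫ g) * (t ≫ i) = (t ≫ i) * (x ≫ g)) →
      ∃ t : X ⟶ T, g = t ≫ i) :
    ∃ (W : Scheme.{u}) (p : W ⟶ S) (w : W) (r : ℕ) (T : Over W) (_ : GrpObj T) (i : T ⟶ Red.bc p G),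
      Etale p ∧ p w = s₀ ∧ IsMonHom i ∧ Mono i ∧ Red.IsSplitTorusWith (Fin r → ℤ) T ∧
        ∃ O : W.Opens, w ∈ O ∧ ∀ x ∈ O, AGF.IsMaxTorus ((Over.pullback (Red.geomPt x)).map i) := by
  obtain ⟨r, hr⟩ := exists_hasMax_fibre (G := G) s₀
  obtain ⟨W, p, w, T, _, i, hp, hw, hi, hmono, hTt, hT⟩ := exists_torus_nbhd s₀ hr
  haveI := hp; haveI := hi; haveI := hmono
  haveI : LocallyQuasiFinite p := Groth.SmoothSlice.locallyQuasiFinite_of_formallyUnramified' p
  refine ⟨W, p, w, r, T, inferInstance, i, hp, hw, hi, hmono, hT, ?_⟩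
  haveI : IsAffineHom (Red.bc p G).hom := MorphismProperty.pullback_snd (P := @IsAffineHom) _ _ inferInstance
  haveI : Smooth (Red.bc p G).hom := MorphismProperty.pullback_snd (P := @Smooth) _ _ inferInstance
  have hTm := Groth.Reductive.FreeDiag.isMultTypeFT_of_isTorus hTt
  obtain ⟨C, _, c, hcm, hcmono, hciff, hccl, hCsm⟩ := Groth.Reductive.MTInt.exists_centralizerSep
    (Groth.Reductive.MTInt.locTriv_of_multTypeFT hTm) inferInstance i
  haveI := hcm; haveI := hcmono; haveI := hccl; haveI := hCsm
  have hC : Red.IsCentralizerOf i c := ⟨hcm, hcmono, hciff⟩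
  obtain ⟨j, hj⟩ := (hciff T i).mpr fun X x h => by
    rw [← MonObj.mul_comp, ← MonObj.mul_comp,
      Groth.Reductive.MTInt.comm_of_locTriv (Groth.Reductive.MTInt.locTriv_of_multTypeFT hTm)]
  haveI : IsMonHom j := Groth.AlgGrp1.isMonHom_of_points j fun X a b => by
    rw [← cancel_mono c, MonObj.mul_comp (a ≫ j), Category.assoc, Category.assoc, Category.assoc, hj,
      MonObj.mul_comp]
  obtain ⟨hTflat, hTfp⟩ := Groth.Reductive.flat_lfp_of_multTypeFT T hTm Groth.AlgSp2.flat_descendsAlong inferInstance
  haveI := hTfp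
  haveI : Flat T.hom := hTflat
  obtain ⟨hO, -⟩ := Groth.GrpschLoci.flat_locus_eq j
  refine ⟨⟨_, hO⟩, ?_, fun x hx => ?_⟩
  · show Flat ((Over.pullback (W.fromSpecResidueField w)).map j).left
    obtain ⟨ψ, hψ, hψi⟩ := exists_geomPt_hom p w
    haveI : IsIso ψ := hψi inferInstance inferInstance
    subst hw
    let g' := inv ψ ≫ Red.geomPt w
    have hg' : g' ≫ p = Red.geomPt (p.base w) := by
      rw [Category.assoc, ← hψ, IsIso.inv_hom_id_assoc]
    let e := isoS (bcTwo g' p (Red.geomPt (p.base w)) hg' G)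
    haveI := Groth.Abvar.isMonHom_map (f := g') i
    haveI := Groth.Abvar.isMonHom_map (f := g') c
    obtain ⟨v⟩ := hT
    obtain ⟨d⟩ := isSplit_DS_bc g' (Fin r → ℤ)
    have hr' : SplitRank r (Red.bc g' T) := ⟨bcIso g' v ≪≫ d⟩
    obtain ⟨T₀, _, i₀, hi₀, hr₀⟩ := hr
    haveI : IsAffineHom (Red.geomFibre (p.base w) G).hom :=
      MorphismProperty.pullback_snd (P := @IsAffineHom) _ _ inferInstance
    haveI : IsAffine (Red.geomFibre (p.base w) G).left := isAffine_of_isAffineHom (Red.geomFibre (p.base w) G).hom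
    haveI : Smooth (Red.geomFibre (p.base w) G).hom :=
      MorphismProperty.pullback_snd (P := @Smooth) _ _ inferInstance
    haveI : IsMonHom ((Over.pullback g').map i ≫ e.hom) := Groth.Abvar.isMonHom_comp inferInstance inferInstance
    have hmax := (Groth.Reductive2.MaxTorus.isMaximalTorus_iff _).2
      (isMaxTorus_of_rank hi₀ hr₀ ((Over.pullback g').map i ≫ e.hom) hr' le_rfl)
    have hcg := Groth.Reductive.CentTorusMax.isCentralizerOf_bc g' hC
    obtain ⟨t, ht⟩ := hc _ _ hmax (Red.bc g' C) ((Over.pullback g').map c ≫ e.hom) fun X' x h => by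
      rw [← Category.assoc x, ← Category.assoc h, ← MonObj.mul_comp, ← MonObj.mul_comp]
      congr 1
      exact (hcg.2.2 X' (x ≫ (Over.pullback g').map c)).1 ⟨x, rfl⟩ X' (𝟙 X') h |> fun h => by
        simpa using h
    haveI : IsIso ((Over.pullback g').map j) := by
      have h1 : t ≫ (Over.pullback g').map i = (Over.pullback g').map c := by
        rw [← cancel_mono e.hom, Category.assoc, ← ht]
      refine ⟨t, ?_, ?_⟩
      · rw [← cancel_mono ((Over.pullback g').map i), Category.assoc, h1, ← Functor.map_comp, hj, Category.id_comp]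
      · rw [← cancel_mono ((Over.pullback g').map c), Category.assoc, ← Functor.map_comp, hj, h1, Category.id_comp]
    have h2 := (Groth.Reductive.FreeDiag.prop_map_fieldPoint_iff j (MorphismProperty.isomorphisms Scheme.{u})
      _ g').1 ((Over.forget _).map_isIso ((Over.pullback g').map j) : _)
    rw [show g'.base (IsLocalRing.closedPoint _) = w by
      rw [Scheme.Hom.comp_apply, Scheme.Hom.comp_apply, Scheme.fromSpecResidueField_apply]] at h2
    haveI : IsIso ((Over.pullback (W.fromSpecResidueField w)).map j).left := h2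
    infer_instance
  · let ψ := Red.geomPt x
    have hflat : Flat ((Over.pullback ψ).map j).left := by
      refine (Groth.Reductive.FreeDiag.prop_map_fieldPoint_iff j @Flat _ ψ).2 ?_
      rw [show ψ.base (IsLocalRing.closedPoint _) = x by
        rw [Scheme.Hom.comp_apply, Scheme.fromSpecResidueField_apply]]
      exact hx
    haveI := hflat
    haveI := Groth.Abvar.isMonHom_map (f := ψ) i
    haveI := Groth.Abvar.isMonHom_map (f := ψ) j
    haveI : IsAffineHom (Red.bc ψ (Red.bc p G)).hom :=
      MorphismProperty.pullback_snd (P := @IsAffineHom) (Red.bc p G).hom _ inferInstance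
    haveI : IsAffine (Red.bc ψ (Red.bc p G)).left := isAffine_of_isAffineHom (Red.bc ψ (Red.bc p G)).hom
    haveI : Smooth (Red.bc ψ (Red.bc p G)).hom :=
      MorphismProperty.pullback_snd (P := @Smooth) (Red.bc p G).hom _ inferInstance
    haveI : ConnectedSpace ↥(Red.bc ψ (Red.bc p G)).left := by
      haveI := connectedSpace_geomFibre hconn (ψ ≫ p)
      let e := isoS (bcTwo ψ p (ψ ≫ p) rfl G)
      haveI : IsIso e.hom.left := inferInstanceAs (IsIso ((Over.forget _).map e.hom))
      exact (Scheme.Hom.homeomorph e.hom.left).symm.surjective.connectedSpace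
        (Scheme.Hom.homeomorph e.hom.left).symm.continuous
    have hcψ := Groth.Reductive.CentTorusMax.isCentralizerOf_bc ψ hC
    have hTψ := Groth.GrpschAbsch.TorusToAbelian.isTorus_bc hTt ψ
    haveI : ConnectedSpace ↥(Red.bc ψ C).left :=
      Groth.AlgGrp1.connectedSpace_centralizer_torus ((Over.pullback ψ).map i) hTψ
        ((Over.pullback ψ).map c) hcψ
    have hjc : (Over.pullback ψ).map j ≫ (Over.pullback ψ).map c = (Over.pullback ψ).map i := by
      rw [← Functor.map_comp, hj]
    haveI : Mono ((Over.pullback ψ).map j) := mono_of_mono_fac hjc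
    haveI : IsIso ((Over.pullback ψ).map j) := by
      haveI : LocallyOfFinitePresentation (Red.bc ψ T).hom :=
        MorphismProperty.pullback_snd (P := @LocallyOfFinitePresentation) _ _ inferInstance
      haveI : LocallyOfFiniteType (Red.bc ψ C).hom :=
        MorphismProperty.pullback_snd (P := @LocallyOfFiniteType) _ _ inferInstance
      haveI : LocallyOfFiniteType ((Over.pullback ψ).obj C).hom := ‹LocallyOfFiniteType (Red.bc ψ C).hom›
      haveI : QuasiCompact C.hom := by rw [← Over.w c]; infer_instance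
      haveI : QuasiCompact ((Over.pullback ψ).obj C).hom :=
        MorphismProperty.pullback_snd (P := @QuasiCompact) _ _ inferInstance
      haveI : IsClosedImmersion ((Over.pullback ψ).map j).left := Groth.AlgGrp1.isClosedImmersion_of_isTorus _ hTψ
      haveI : LocallyOfFinitePresentation (((Over.pullback ψ).map j).left ≫ (Red.bc ψ C).hom) := by
        rw [Over.w]; infer_instance
      haveI : LocallyOfFinitePresentation ((Over.pullback ψ).map j).left :=
        Groth.PropsBasic2.lfp_of_comp _ (Red.bc ψ C).hom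
      haveI : IsOpenImmersion ((Over.pullback ψ).map j).left := IsOpenImmersion.of_flat_of_mono _
      have hr : Set.range ((Over.pullback ψ).map j).left = Set.univ :=
        IsClopen.eq_univ ⟨((Over.pullback ψ).map j).left.isClosedEmbedding.isClosed_range,
          ((Over.pullback ψ).map j).left.isOpenEmbedding.isOpen_range⟩
          ⟨_, η[Red.bc ψ T].left (IsLocalRing.closedPoint _), rfl⟩
      haveI : Epi ((Over.pullback ψ).map j).left.base :=
        (TopCat.epi_iff_surjective _).2 (Set.range_eq_univ.mp hr)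
      haveI : IsIso ((Over.pullback ψ).map j).left := IsOpenImmersion.isIso _
      haveI : IsIso ((Over.forget _).map ((Over.pullback ψ).map j)) := this
      exact isIso_of_reflects_iso _ (Over.forget _)
    exact isMax_of_centralizer ((Over.pullback ψ).map i) ((Over.pullback ψ).map c) hcψ
      ((Over.pullback ψ).map j) hjc hTψ

end Groth.Reductive.RedRank

end
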