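import Groth.Agent.Reductive.SubgroupEq
import Groth.Agent.Reductive.MultTypeComm
import Groth.Agent.Reductive.GroupAlgFF
import Groth.Agent.S11937
import Groth.Agent.AlgSp2.SmoothDescent

/-!
Homomorphisms between groups of multiplicative type are locally induced by homomorphisms of
character groups; properties of such homomorphisms hold on clopen loci.
-/

set_option autoImplicit false
universe u

open CategoryTheory MonoidalCategory CartesianMonoidalCategory MonObj GrpObj AlgebraicGeometry

noncomputable section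

namespace Groth.Reductive.FreeDiag

attribute [local instance] algΓ'

section Affine

variable {T : Scheme.{u}} [IsAffine T] {M₁ M₂ : Type} [AddCommGroup M₁] [AddCommGroup M₂]

/-- Over a field valued point a family of homomorphisms is constant. -/
theorem exists_constFam_of_field {Y : Over T} [IsAffine Y.left] (hY : IsField Γ(Y.left, ⊤))
    (φ : Red.DS T M₁ ⊗ Y ⟶ Red.DS T M₂) (hφ : IsHom φ) :
    ∃ a : M₂ →+ M₁, φ = constFam (AddMonoidHom.toMultiplicative a) Y := by
  classical
  haveI : Nontrivial Γ(Y.left, ⊤) := hY.nontrivial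
  have hsingle : ∀ n, ∃ m, famU φ n = MonoidAlgebra.single m 1 := fun n ↦ by
    obtain ⟨h1, h2⟩ := famU_groupLike φ hφ n
    set x := famU φ n
    have hidem : ∀ m, x.coeff m = 0 ∨ x.coeff m = 1 := fun m ↦ by
      have e := groupLike_coeff_mul x h1 m m
      rw [if_pos rfl] at e
      letI := hY.toField
      exact (IsIdempotentElem.iff_eq_zero_or_one).mp e
    obtain ⟨m, hm⟩ : ∃ m, x.coeff m ≠ 0 := by
      by_contra! hc
      have : x = 0 := MonoidAlgebra.ext (Finsupp.ext fun m ↦ by simpa using hc m)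
      rw [this, map_zero] at h2
      exact zero_ne_one h2
    refine ⟨m, ?_⟩
    have e := single_coeff_mul x h1 m
    rw [(hidem m).resolve_left hm] at e
    rw [← e, ← MonoidAlgebra.one_def, _root_.one_mul]
  choose f hf using hsingle
  have hfm : ∀ n n', f (n * n') = f n * f n' := fun n n' ↦ by
    have e := map_mul (famU φ) n n'
    rw [hf, hf, hf, MonoidAlgebra.single_mul_single, _root_.one_mul] at e
    exact (Finsupp.single_left_injective (one_ne_zero)) (congrArg MonoidAlgebra.coeff e)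
  refine ⟨AddMonoidHom.toMultiplicative.symm (MonoidHom.mk' f hfm), famU_ext fun n ↦ ?_⟩
  rw [hf, famU_constFam]
  rfl

end Affine

section DSHomProps

variable {T : Scheme.{u}} {M N : Type} [AddCommGroup M] [AddCommGroup N]

lemma dsHom_eq_DSmap (f : M →+ N) : dsHom (T := T) f = Red.DSmap T f := dsVal_ext fun m ↦ by
  rw [← Category.id_comp (dsHom f), ← Category.id_comp (Red.DSmap T f), dsVal_dsHom]
  exact (Groth.Agent.S11937.dsVal_DSmap f (𝟙 (Red.DS T N)) (Multiplicative.toAdd m)).symm

lemma mono_dsHom (f : M →+ N) (hf : Function.Surjective f) : Mono (dsHom (T := T) f).left := by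
  haveI : Mono (dsHom (T := T) f) := ⟨fun {Z} g g' h ↦ dsVal_ext fun n ↦ by
    obtain ⟨m, hm⟩ := hf (Multiplicative.toAdd n)
    have e := congrArg (fun z ↦ dsVal z (Multiplicative.ofAdd m)) h
    simp only [dsVal_dsHom] at e
    rwa [show AddMonoidHom.toMultiplicative f (Multiplicative.ofAdd m) = n from hm] at e⟩
  infer_instance

lemma isIso_dsHom (f : M →+ N) (hf : Function.Bijective f) : IsIso (dsHom (T := T) f).left := by
  let e := AddEquiv.ofBijective f hf
  have h1 : dsHom (T := T) f ≫ dsHom (e.symm : N →+ M) = 𝟙 _ := by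
    rw [dsHom_comp, ← dsHom_id]
    congr 1
    exact AddMonoidHom.ext e.apply_symm_apply
  have h2 : dsHom (T := T) (e.symm : N →+ M) ≫ dsHom f = 𝟙 _ := by
    rw [dsHom_comp, ← dsHom_id]
    congr 1
    exact AddMonoidHom.ext e.symm_apply_apply
  exact ⟨(dsHom (e.symm : N →+ M)).left, by rw [← Over.comp_left, h1]; rfl,
    by rw [← Over.comp_left, h2]; rfl⟩

open Limits in
lemma flat_surjective_dsHom (f : M →+ N) (hf : Function.Injective f) :
    Flat (dsHom (T := T) f).left ∧ Surjective (dsHom (T := T) f).left := by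
  rw [dsHom_eq_DSmap]
  let φ := (MonoidAlgebra.mapDomainAlgHom (ULift.{u} ℤ) (ULift.{u} ℤ)
    (AddMonoidHom.toMultiplicative f)).toRingHom
  have hff : φ.FaithfullyFlat :=
    Groth.Reductive.GroupAlgFF.faithfullyFlat_mapDomain (AddMonoidHom.toMultiplicative f) hf
  have h1 : Flat (Red.diagMap (ULift.{u} ℤ) f).left := by
    show Flat (Spec.map (CommRingCat.ofHom φ))
    rw [Flat.SpecMap_iff]
    exact hff.flat
  have h2 : Surjective (Red.diagMap (ULift.{u} ℤ) f).left := by
    show Surjective (Spec.map (CommRingCat.ofHom φ))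
    rw [surjective_iff]
    exact (RingHom.FaithfullyFlat.iff_flat_and_comap_surjective.mp hff).2
  let s := IsTerminal.from specULiftZIsTerminal T
  let d := Red.diagMap (ULift.{u} ℤ) f
  have sq : IsPullback (pullback.fst (Red.diag (ULift.{u} ℤ) N).hom s) ((Over.pullback s).map d).left
      d.left (pullback.fst (Red.diag (ULift.{u} ℤ) M).hom s) := by
    refine IsPullback.of_bot ?_ (pullback.lift_fst _ _ _).symm (IsPullback.of_hasPullback _ s)
    rw [Over.w d, show ((Over.pullback s).map d).left ≫ pullback.snd _ s = pullback.snd _ s from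
      Over.w ((Over.pullback s).map d)]
    exact IsPullback.of_hasPullback _ s
  exact ⟨MorphismProperty.of_isPullback (P := @Flat) sq h1,
    MorphismProperty.of_isPullback (P := @Surjective) sq h2⟩

/-- Over a field distinct homomorphisms of character groups give distinct homomorphisms. -/
lemma dsHom_injective {K : Type u} [Field K] {f f' : M →+ N}
    (h : dsHom (T := Spec (CommRingCat.of K)) f = dsHom f') : f = f' := by
  classical
  let T := Spec (CommRingCat.of K)
  haveI : IsAffine (𝟙_ (Over T)).left := inferInstanceAs (IsAffine T)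
  refine AddMonoidHom.ext fun m ↦ ?_
  have hval := congrArg (fun z ↦ dsVal (fst (Red.DS T N) (𝟙_ (Over T)) ≫ z) (Multiplicative.ofAdd m)) h
  simp only [dsVal_dsHom] at hval
  have key : ∀ n : Multiplicative N, κ₀ (T := T) (M := N) (Y := 𝟙_ (Over T))
      (MonoidAlgebra.single n 1) = dsVal (fst (Red.DS T N) (𝟙_ (Over T))) n := fun n ↦ by
    rw [κ₀, ptEv_single, map_one, _root_.one_mul]
  rw [← key, ← key] at hval
  have hnt : Nontrivial Γ((𝟙_ (Over T)).left, ⊤) :=
    (Scheme.ΓSpecIso (CommRingCat.of K)).commRingCatIsoToRingEquiv.toEquiv.nontrivial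
  exact Finsupp.single_left_injective one_ne_zero
    (congrArg MonoidAlgebra.coeff (κ₀_bijective.1 hval))

lemma surjective_of_mono_dsHom {K : Type u} [Field K] (f : M →+ N)
    [Mono (dsHom (T := Spec (CommRingCat.of K)) f).left] : Function.Surjective f := by
  haveI : Mono (dsHom (T := Spec (CommRingCat.of K)) f) :=
    (Over.forget _).mono_of_mono_map (inferInstanceAs (Mono (dsHom (T := Spec (CommRingCat.of K)) f).left))
  intro n
  have h : QuotientAddGroup.mk' f.range = 0 := dsHom_injective (K := K) (by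
    rw [← cancel_mono (dsHom (T := Spec (CommRingCat.of K)) f), dsHom_comp, dsHom_comp]
    congr 1
    exact AddMonoidHom.ext fun m ↦ (QuotientAddGroup.eq_zero_iff _).mpr ⟨m, rfl⟩)
  exact (QuotientAddGroup.eq_zero_iff n).mp (DFunLike.congr_fun h n)

lemma injective_of_epi_dsHom {K : Type u} [Field K] (f : M →+ N)
    [Epi (dsHom (T := Spec (CommRingCat.of K)) f).left] : Function.Injective f := by
  haveI : Epi (dsHom (T := Spec (CommRingCat.of K)) f) :=
    (Over.forget _).epi_of_epi_map (inferInstanceAs (Epi (dsHom (T := Spec (CommRingCat.of K)) f).left))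
  have h : f.ker.subtype = 0 := dsHom_injective (K := K) (by
    rw [← cancel_epi (dsHom (T := Spec (CommRingCat.of K)) f), dsHom_comp, dsHom_comp]
    congr 1
    exact AddMonoidHom.ext fun m ↦ by simp [AddMonoidHom.mem_ker.mp m.2])
  refine (injective_iff_map_eq_zero f).mpr fun m hm ↦ ?_
  exact DFunLike.congr_fun h ⟨m, hm⟩

end DSHomProps

/-! ### Properties of base changes of a homomorphism -/

section BaseChange

open Limits

variable {S : Scheme.{u}} {G H : Over S} (w : G ⟶ H)

lemma isPullback_map_left {V : Scheme.{u}} (k : V ⟶ S) :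
    IsPullback (pullback.fst G.hom k) ((Over.pullback k).map w).left w.left (pullback.fst H.hom k) := by
  refine IsPullback.of_bot ?_ (pullback.lift_fst _ _ _).symm (IsPullback.of_hasPullback H.hom k)
  rw [Over.w w, show ((Over.pullback k).map w).left ≫ pullback.snd H.hom k = pullback.snd G.hom k from
    Over.w ((Over.pullback k).map w)]
  exact IsPullback.of_hasPullback G.hom k

lemma exists_isPullback_map {U V : Scheme.{u}} (k : U ⟶ S) (j : V ⟶ U) :
    ∃ (t₁ : (Red.bc (j ≫ k) G).left ⟶ (Red.bc k G).left)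
      (t₂ : (Red.bc (j ≫ k) H).left ⟶ (Red.bc k H).left),
      IsPullback t₁ ((Over.pullback (j ≫ k)).map w).left ((Over.pullback k).map w).left t₂ ∧
      IsPullback t₂ (pullback.snd H.hom (j ≫ k)) (pullback.snd H.hom k) j := by
  let t : ∀ X : Over S, (Red.bc (j ≫ k) X).left ⟶ (Red.bc k X).left := fun X ↦
    pullback.lift (pullback.fst X.hom (j ≫ k)) (pullback.snd X.hom (j ≫ k) ≫ j) (by
      rw [Category.assoc]
      exact pullback.condition)
  refine ⟨t G, t H, ?_, ?_⟩
  · refine IsPullback.of_right ?_ ?_ (isPullback_map_left w k)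
    · rw [show t G ≫ pullback.fst G.hom k = pullback.fst G.hom (j ≫ k) from pullback.lift_fst _ _ _,
        show t H ≫ pullback.fst H.hom k = pullback.fst H.hom (j ≫ k) from pullback.lift_fst _ _ _]
      exact isPullback_map_left w (j ≫ k)
    · apply pullback.hom_ext
      · rw [Category.assoc, Category.assoc,
          show ((Over.pullback k).map w).left ≫ pullback.fst H.hom k = pullback.fst G.hom k ≫ w.left from
            pullback.lift_fst _ _ _,
          show t H ≫ pullback.fst H.hom k = pullback.fst H.hom (j ≫ k) from pullback.lift_fst _ _ _,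
          ← Category.assoc (t G),
          show t G ≫ pullback.fst G.hom k = pullback.fst G.hom (j ≫ k) from pullback.lift_fst _ _ _]
        exact (pullback.lift_fst _ _ _).symm
      · rw [Category.assoc, Category.assoc,
          show ((Over.pullback k).map w).left ≫ pullback.snd H.hom k = pullback.snd G.hom k from
            Over.w ((Over.pullback k).map w),
          show t H ≫ pullback.snd H.hom k = pullback.snd H.hom (j ≫ k) ≫ j from pullback.lift_snd _ _ _,
          show t G ≫ pullback.snd G.hom k = pullback.snd G.hom (j ≫ k) ≫ j from pullback.lift_snd _ _ _,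
          ← Category.assoc, show ((Over.pullback (j ≫ k)).map w).left ≫ pullback.snd H.hom (j ≫ k) =
            pullback.snd G.hom (j ≫ k) from Over.w ((Over.pullback (j ≫ k)).map w)]
  · refine IsPullback.of_right ?_ (pullback.lift_snd _ _ _) (IsPullback.of_hasPullback H.hom k)
    rw [show t H ≫ pullback.fst H.hom k = pullback.fst H.hom (j ≫ k) from pullback.lift_fst _ _ _]
    exact IsPullback.of_hasPullback H.hom (j ≫ k)

variable (P : MorphismProperty Scheme.{u})

lemma prop_map_comp [P.IsStableUnderBaseChange] {U V : Scheme.{u}} (k : U ⟶ S) (j : V ⟶ U)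
    (h : P ((Over.pullback k).map w).left) : P ((Over.pullback (j ≫ k)).map w).left := by
  obtain ⟨t₁, t₂, sq, -⟩ := exists_isPullback_map w k j
  exact MorphismProperty.of_isPullback sq h

lemma prop_map_fieldPoint_iff [P.IsStableUnderBaseChange]
    [P.DescendsAlong Groth.DescentBase.SFQ] (K : Type u) [Field K] (p : Spec (CommRingCat.of K) ⟶ S) :
    P ((Over.pullback p).map w).left ↔
      P ((Over.pullback (S.fromSpecResidueField (p.base (IsLocalRing.closedPoint K)))).map w).left := by
  set s := p.base (IsLocalRing.closedPoint K)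
  let d : Spec (CommRingCat.of K) ⟶ Spec (S.residueField s) :=
    Spec.map (S.descResidueField (Scheme.stalkClosedPointTo p))
  have hd : d ≫ S.fromSpecResidueField s = p :=
    Scheme.descResidueField_stalkClosedPointTo_fromSpecResidueField K S p
  rw [← hd]
  refine ⟨fun h ↦ ?_, fun h ↦ prop_map_comp w P _ d h⟩
  haveI : Flat d := by
    rw [Flat.SpecMap_iff]
    let φ := (S.descResidueField (Scheme.stalkClosedPointTo p)).hom
    show φ.Flat
    letI := φ.toAlgebra
    exact inferInstanceAs (Module.Flat (S.residueField s) K)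
  haveI : Surjective d := ⟨fun y ↦ ⟨IsLocalRing.closedPoint K,
    Subsingleton.elim (α := (Spec (S.residueField s) : Scheme.{u})) _ _⟩⟩
  haveI : QuasiCompact d := inferInstanceAs (QuasiCompact (Spec.map _))
  obtain ⟨t₁, t₂, sq, sq'⟩ := exists_isPullback_map w (S.fromSpecResidueField s) d
  have : Groth.DescentBase.SFQ t₂ := ⟨⟨MorphismProperty.of_isPullback (P := @Surjective) sq'.flip ‹_›,
    MorphismProperty.of_isPullback (P := @Flat) sq'.flip ‹_›⟩,
    MorphismProperty.of_isPullback (P := @QuasiCompact) sq'.flip ‹_›⟩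
  exact MorphismProperty.of_isPullback_of_descendsAlong sq.flip this h

end BaseChange

/-! ### The clopen locus -/

variable {S : Scheme.{u}} {G H : Over S} [GrpObj G] [GrpObj H]

set_option maxHeartbeats 1000000 in
/-- The clopen locus of a property of a homomorphism of groups of multiplicative type, given by a
condition on the homomorphism of character groups. -/
theorem exists_clopen_prop (P : MorphismProperty Scheme.{u}) [P.IsStableUnderBaseChange]
    [IsZariskiLocalAtTarget P] [P.DescendsAlong Groth.DescentBase.SFQ]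
    (C : ∀ {M N : Type} [AddCommGroup M] [AddCommGroup N], (M →+ N) → Prop)
    (hC : ∀ {T : Scheme.{u}} {M N : Type} [AddCommGroup M] [AddCommGroup N] (f : M →+ N), C f →
      P (dsHom (T := T) f).left)
    (hC' : ∀ {K : Type u} [Field K] {M N : Type} [AddCommGroup M] [AddCommGroup N] (f : M →+ N),
      P (dsHom (T := Spec (CommRingCat.of K)) f).left → C f)
    (hG : SGA3x.IsMultTypeFT G) (hH : SGA3x.IsMultTypeFT H) (w : G ⟶ H) [IsMonHom w] :
    ∃ U : S.Opens, IsClosed (U : Set S) ∧
      (∀ s : S, s ∈ U ↔ P ((Over.pullback (S.fromSpecResidueField s)).map w).left) ∧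
      P ((Over.pullback U.ι).map w).left := by
  classical
  haveI : MorphismProperty.RespectsIso P := inferInstance
  obtain ⟨S₁, f₁, hflat₁, hsurj₁, hqc₁, hloc₁⟩ := hG
  obtain ⟨S₂, f₂, hflat₂, hsurj₂, hqc₂, hloc₂⟩ := hH
  haveI := hflat₁
  haveI := hsurj₁
  haveI := hflat₂
  haveI := hsurj₂
  let p₁ := Limits.pullback.fst f₁ f₂
  let p₂ := Limits.pullback.snd f₁ f₂
  let f := p₁ ≫ f₁
  have hqc := qcCover_comp p₁ f₁ (qcCover_pullback_fst f₂ hqc₂ f₁) hqc₁
  let A : Set S := {s | P ((Over.pullback (S.fromSpecResidueField s)).map w).left}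
  -- locally constant type
  have hchart : ∀ x, ∃ T : (Limits.pullback f₁ f₂).Opens, x ∈ T ∧ ∀ t : (T : Scheme.{u}),
      ∃ V : (T : Scheme.{u}).Opens, t ∈ V ∧
        ((∀ v : (T : Scheme.{u}), v ∈ V → (T.ι ≫ f).base v ∈ A) ∧
            P ((Over.pullback (V.ι ≫ T.ι ≫ f)).map w).left ∨
          ∀ v : (T : Scheme.{u}), v ∈ V → (T.ι ≫ f).base v ∉ A) := by
    intro x
    obtain ⟨U₁, hxU₁, M₁, _, hM₁, ⟨e₁⟩⟩ := hloc₁ (p₁ x)
    obtain ⟨U₂, hxU₂, M₂, _, hM₂, ⟨e₂⟩⟩ := hloc₂ (p₂ x)
    obtain ⟨T, hT, hxT, hTU⟩ := exists_isAffineOpen_mem_and_subset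
      (U := p₁ ⁻¹ᵁ U₁ ⊓ p₂ ⁻¹ᵁ U₂) (show x ∈ p₁ ⁻¹ᵁ U₁ ⊓ p₂ ⁻¹ᵁ U₂ from ⟨hxU₁, hxU₂⟩)
    haveI : IsAffine (T : Scheme.{u}) := hT
    let e₁' : Red.DS (U₁ : Scheme.{u}) M₁ ≅ Red.bc (U₁.ι ≫ f₁) G :=
      ⟨e₁.inv.hom.hom, e₁.hom.hom.hom, congrArg (fun z ↦ z.hom.hom) e₁.inv_hom_id,
        congrArg (fun z ↦ z.hom.hom) e₁.hom_inv_id⟩
    haveI : IsMonHom e₁'.hom := inferInstanceAs (IsMonHom e₁.inv.hom.hom)
    let e₂' : Red.DS (U₂ : Scheme.{u}) M₂ ≅ Red.bc (U₂.ι ≫ f₂) H :=
      ⟨e₂.inv.hom.hom, e₂.hom.hom.hom, congrArg (fun z ↦ z.hom.hom) e₂.inv_hom_id,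
        congrArg (fun z ↦ z.hom.hom) e₂.hom_inv_id⟩
    haveI : IsMonHom e₂'.hom := inferInstanceAs (IsMonHom e₂.inv.hom.hom)
    have hTU₁ : T ≤ p₁ ⁻¹ᵁ U₁ := hTU.trans inf_le_left
    have hTU₂ : T ≤ p₂ ⁻¹ᵁ U₂ := hTU.trans inf_le_right
    obtain ⟨j₁, hj₁⟩ := exists_trivialisation_comp G
      ((Limits.pullback f₁ f₂).homOfLE hTU₁ ≫ p₁ ∣_ U₁) (U₁.ι ≫ f₁) e₁'
    obtain ⟨j₂, hj₂⟩ := exists_trivialisation_comp H
      ((Limits.pullback f₁ f₂).homOfLE hTU₂ ≫ p₂ ∣_ U₂) (U₂.ι ≫ f₂) e₂'
    revert j₁ hj₁ j₂ hj₂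
    rw [Category.assoc, morphismRestrict_ι_assoc, Scheme.homOfLE_ι_assoc, Category.assoc,
      morphismRestrict_ι_assoc, Scheme.homOfLE_ι_assoc,
      show p₂ ≫ f₂ = f from Limits.pullback.condition.symm]
    intro j₁ hj₁ j₂ hj₂
    haveI := hj₁
    haveI := hj₂
    refine ⟨T, hxT, fun t ↦ ?_⟩
    let g := T.ι ≫ f
    let φ : Red.DS (T : Scheme.{u}) M₁ ⟶ Red.DS (T : Scheme.{u}) M₂ :=
      j₁.hom ≫ (Over.pullback g).map w ≫ j₂.inv
    -- the character map at `t`
    let pt := (T : Scheme.{u}).fromSpecResidueField t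
    let Y : Over (T : Scheme.{u}) := Over.mk pt
    haveI : IsAffine Y.left := inferInstanceAs (IsAffine (Spec _))
    have hφm : ∀ (Z : Over (T : Scheme.{u})) (a b : Z ⟶ Red.DS _ M₁),
        (a * b) ≫ φ = (a ≫ φ) * (b ≫ φ) := fun Z a b ↦ by
      haveI : IsMonHom φ := inferInstance
      exact MonObj.mul_comp a b φ
    obtain ⟨a, ha⟩ := exists_constFam_of_field (Y := Y)
      ((Scheme.ΓSpecIso ((T : Scheme.{u}).residueField t)).commRingCatIsoToRingEquiv.toMulEquiv.isField
        (Field.toIsField _)) (fst _ Y ≫ φ) (fun Z h h' y ↦ by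
          simp only [lift_fst_assoc]
          exact hφm Z h h')
    -- the locus where the homomorphism has this type
    let d : Red.DS (T : Scheme.{u}) M₁ ⟶ Red.DS (T : Scheme.{u}) M₂ := φ * (dsHom a)⁻¹
    haveI : IsMonHom d := Groth.AlgGrp1.isMonHom_of_points _ fun Z z z' ↦ by
      letI : CommGroup (Z ⟶ Red.DS (T : Scheme.{u}) M₂) :=
        { (inferInstance : Group (Z ⟶ Red.DS (T : Scheme.{u}) M₂)) with
          mul_comm := fun p q ↦ dsVal_ext fun n ↦ by rw [dsVal_mul, dsVal_mul, mul_comm] }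
      simp only [d, MonObj.comp_mul, GrpObj.comp_inv, hφm, mul_comp_dsHom]
      rw [_root_.mul_inv]
      exact mul_mul_mul_comm _ _ _ _
    have hD : SGA3x.IsMultTypeFT (Red.DS (T : Scheme.{u}) M₂) := isMultTypeFT_DS hM₂
    haveI : IsAffineHom (Red.DS (T : Scheme.{u}) M₂).hom := inferInstance
    haveI : IsSeparated (Red.DS (T : Scheme.{u}) M₂).hom := inferInstance
    haveI := (flat_lfp_of_multTypeFT _ hD Groth.AlgSp2.flat_descendsAlong inferInstance).2
    obtain ⟨V, hVc, hViff, hVtriv⟩ :=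
      exists_clopen_trivLocus' d (isMultTypeFT_DS hM₁) (Or.inr inferInstance)
    have hpt : ∀ (W : Over (T : Scheme.{u})) (z : W ⟶ Y) (y : W ⟶ Red.DS _ M₁),
        y ≫ φ = y ≫ dsHom a := fun W z y ↦ by
      have e := lift y z ≫= ha
      rw [lift_fst_assoc] at e
      rw [e]
      exact dsVal_ext fun n ↦ by rw [lift_constFam, dsVal_dsHom]
    have htV : t ∈ V := by
      rw [hViff, pullback_map_eq_one_iff]
      intro W z y
      simp only [d, MonObj.comp_mul, GrpObj.comp_inv, hpt W z y, mul_inv_cancel]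
    refine ⟨V, htV, ?_⟩
    -- on this locus the homomorphism is the standard one
    have hVeq : (Over.pullback V.ι).map φ = (Over.pullback V.ι).map (dsHom a) := by
      apply qPt_injective V.ι
      rw [← Category.id_comp ((Over.pullback V.ι).map φ), qPt_map,
        ← Category.id_comp ((Over.pullback V.ι).map (dsHom a)), qPt_map]
      have e := hVtriv ((Over.map V.ι).obj (Red.bc V.ι (Red.DS (T : Scheme.{u}) M₁)))
        (Over.homMk (Red.bc V.ι (Red.DS (T : Scheme.{u}) M₁)).hom rfl) (qPt V.ι (𝟙 _))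
      simp only [d, MonObj.comp_mul, GrpObj.comp_inv] at e
      exact mul_inv_eq_one.mp e
    -- transport to `DS`
    have key : ∀ (W : Scheme.{u}) (j : W ⟶ (V : Scheme.{u})),
        P ((Over.pullback ((j ≫ V.ι) ≫ g)).map w).left ↔ P (dsHom (T := W) a).left := by
      intro W j
      let h := j ≫ V.ι
      have hh : (Over.pullback h).map φ = (Over.pullback h).map (dsHom a) := by
        apply qPt_injective h
        rw [← Category.id_comp ((Over.pullback h).map φ), qPt_map,
          ← Category.id_comp ((Over.pullback h).map (dsHom a)), qPt_map]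
        exact comp_eq_of_pullback_map_eq V.ι hVeq (Over.homMk ((Red.bc h (Red.DS _ M₁)).hom ≫ j)
          (Category.assoc _ _ _)) _
      -- the two sides as base changes of `φ` and of `dsHom a`
      have e1 : P ((Over.pullback (h ≫ g)).map w).left ↔
          P ((Over.pullback h).map ((Over.pullback g).map w)).left := by
        refine P.arrow_mk_iso_iff ?_
        let c := (Over.pullbackComp h g).app
        exact (Over.forget W).mapArrow.mapIso
          (Arrow.isoMk' _ _ (c G) (c H) ((Over.pullbackComp h g).hom.naturality w).symm)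
      have e2 : P ((Over.pullback h).map ((Over.pullback g).map w)).left ↔
          P ((Over.pullback h).map φ).left := by
        refine P.arrow_mk_iso_iff ?_
        refine (Over.forget W).mapArrow.mapIso (Arrow.isoMk'
          ((Over.pullback h).map ((Over.pullback g).map w)) ((Over.pullback h).map φ)
          ((Over.pullback h).mapIso j₁.symm)
          ((Over.pullback h).mapIso j₂.symm) ?_)
        show (Over.pullback h).map j₁.inv ≫ (Over.pullback h).map φ =
          (Over.pullback h).map ((Over.pullback g).map w) ≫ (Over.pullback h).map j₂.inv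
        rw [← Functor.map_comp, ← Functor.map_comp, show j₁.inv ≫ φ = (Over.pullback g).map w ≫ j₂.inv
          from j₁.inv_hom_id_assoc _]
      have e3 : P ((Over.pullback h).map (dsHom (T := (T : Scheme.{u})) a)).left ↔
          P (dsHom (T := W) a).left := by
        refine P.arrow_mk_iso_iff ?_
        rw [dsHom_eq_DSmap, dsHom_eq_DSmap]
        let F := Over.pullback (Limits.IsTerminal.from specULiftZIsTerminal (T : Scheme.{u})) ⋙
          Over.pullback h
        let F' := Over.pullback (Limits.IsTerminal.from specULiftZIsTerminal W)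
        let α : F' ≅ F := eqToIso (show F' = Over.pullback (h ≫ Limits.IsTerminal.from specULiftZIsTerminal (T : Scheme.{u})) from
          congrArg (fun z ↦ Over.pullback z) (show Limits.IsTerminal.from specULiftZIsTerminal W =
          h ≫ Limits.IsTerminal.from specULiftZIsTerminal (T : Scheme.{u}) from
            specULiftZIsTerminal.hom_ext _ _)) ≪≫
          Over.pullbackComp h (Limits.IsTerminal.from specULiftZIsTerminal (T : Scheme.{u}))
        exact (Over.forget W).mapArrow.mapIso (Arrow.isoMk' _ _ (α.symm.app _) (α.symm.app _)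
          (α.symm.hom.naturality _).symm)
      rw [hh] at e2
      exact e1.trans (e2.trans e3)
    have hpoint : ∀ v : (T : Scheme.{u}), v ∈ V →
        ((T.ι ≫ f).base v ∈ A ↔ P (dsHom
          (T := Spec (CommRingCat.of ((T : Scheme.{u}).residueField v))) a).left) := fun v hv ↦ by
      let q := (T : Scheme.{u}).fromSpecResidueField v
      have himg : (q ≫ g).base (IsLocalRing.closedPoint _) = g.base v := by
        rw [Scheme.Hom.comp_apply, Scheme.fromSpecResidueField_apply]
      have hr : Set.range q ⊆ Set.range V.ι := by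
        rw [Scheme.range_fromSpecResidueField, Scheme.Opens.range_ι]
        exact Set.singleton_subset_iff.mpr hv
      have h1 := key _ (IsOpenImmersion.lift V.ι q hr)
      rw [IsOpenImmersion.lift_fac] at h1
      exact (((prop_map_fieldPoint_iff w P _ (q ≫ g)).trans
        (iff_of_eq (congrArg (fun s ↦ s ∈ A) himg))).symm).trans h1
    by_cases hCa : C a
    · refine Or.inl ⟨fun v hv ↦ (hpoint v hv).mpr (hC a hCa), ?_⟩
      have h1 := (key _ (𝟙 _)).mpr (hC a hCa)
      rwa [Category.id_comp] at h1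
    · exact Or.inr fun v hv hA ↦ hCa (hC' a ((hpoint v hv).mp hA))
  choose T hxT hchart using hchart
  have hA : IsClopen A := by
    refine isClopen_of_preimage f hqc ?_
    have hcov : TopologicalSpace.IsOpenCover T :=
      .mk (top_unique fun x _ ↦ TopologicalSpace.Opens.mem_iSup.mpr ⟨x, hxT x⟩)
    refine ⟨hcov.isClosed_iff_coe_preimage.mpr fun x ↦ isOpen_compl_iff.mp
      (isOpen_iff_forall_mem_open.mpr fun t ht ↦ ?_),
      hcov.isOpen_iff_coe_preimage.mpr fun x ↦ isOpen_iff_forall_mem_open.mpr fun t ht ↦ ?_⟩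
    · obtain ⟨V, htV, h | h⟩ := hchart x t
      · exact absurd (h.1 t htV) ht
      · exact ⟨(V : Set (T x : Scheme.{u})), fun v hv ↦ h v hv, V.isOpen, htV⟩
    · obtain ⟨V, htV, h | h⟩ := hchart x t
      · exact ⟨(V : Set (T x : Scheme.{u})), fun v hv ↦ h.1 v hv, V.isOpen, htV⟩
      · exact absurd ht (h t htV)
  let U : S.Opens := ⟨A, hA.2⟩
  refine ⟨U, hA.1, fun s ↦ Iff.rfl, ?_⟩
  -- descend over the locus
  let r : (f ⁻¹ᵁ U : Scheme.{u}) ⟶ (U : Scheme.{u}) := f ∣_ U
  have hf : Flat f := inferInstance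
  haveI : Flat r := IsZariskiLocalAtTarget.restrict hf U
  let c := Limits.pullback.snd H.hom U.ι
  have hqcr : ∀ W : (U : Scheme.{u}).Opens, IsAffineOpen W →
      ∃ W' : (f ⁻¹ᵁ U : Scheme.{u}).Opens, IsCompact (W' : Set (f ⁻¹ᵁ U : Scheme.{u})) ∧
        r.base '' (W' : Set (f ⁻¹ᵁ U : Scheme.{u})) = (W : Set (U : Scheme.{u})) := by
    intro W hW
    obtain ⟨W₀, hW₀c, hW₀⟩ := hqc (U.ι ''ᵁ W) (hW.image_of_isOpenImmersion U.ι)
    have hle : (W₀ : Set (Limits.pullback f₁ f₂ : Scheme.{u})) ⊆ Set.range (f ⁻¹ᵁ U).ι := by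
      rw [Scheme.Opens.range_ι]
      intro w hw
      obtain ⟨v, -, hv⟩ := (hW₀.subset ⟨w, hw, rfl⟩ : f w ∈ U.ι ''ᵁ W)
      show f w ∈ U
      exact hv ▸ v.2
    refine ⟨(f ⁻¹ᵁ U).ι ⁻¹ᵁ W₀,
      (f ⁻¹ᵁ U).ι.isOpenEmbedding.isInducing.isCompact_preimage' hW₀c hle, ?_⟩
    apply U.ι.isOpenEmbedding.injective.image_injective
    rw [Set.image_image]
    refine (Set.image_congr' fun w ↦ ?_).trans (((Set.image_image _ _ _).symm.trans
      (congrArg (f.base '' ·) (Set.image_preimage_eq_of_subset hle))).trans hW₀)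
    show U.ι (r w) = f ((f ⁻¹ᵁ U).ι w)
    rw [← Scheme.Hom.comp_apply, ← Scheme.Hom.comp_apply, morphismRestrict_ι]
  refine Groth.Reductive.of_fpqc_locally P inferInstance ((Over.pullback U.ι).map w).left
    (Limits.pullback.fst c r) (MorphismProperty.pullback_fst _ _ ‹Flat r›)
    (qcCover_pullback_fst r hqcr c) fun z ↦ ?_
  let q := Limits.pullback.snd c r
  let y := q.base z
  obtain ⟨V, hyV, h | h⟩ := hchart y.1 ⟨(f ⁻¹ᵁ U).ι y, hxT y.1⟩
  swap
  · exact absurd (show ((T y.1).ι ≫ f).base ⟨(f ⁻¹ᵁ U).ι y, hxT y.1⟩ ∈ A from y.2)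
      (h _ hyV)
  -- a piece mapping to the chart
  let ι' := V.ι ≫ (T y.1).ι
  have hr : ∀ v, ι' v ∈ f ⁻¹ᵁ U := fun v ↦ h.1 (V.ι v) v.2
  let W : (f ⁻¹ᵁ U : Scheme.{u}).Opens := (f ⁻¹ᵁ U).ι ⁻¹ᵁ ι'.opensRange
  refine ⟨q ⁻¹ᵁ W, ?_, ?_⟩
  · exact ⟨⟨⟨(f ⁻¹ᵁ U).ι y, hxT y.1⟩, hyV⟩, rfl⟩
  let j : (W : Scheme.{u}) ⟶ (V : Scheme.{u}) := IsOpenImmersion.lift ι' (W.ι ≫ (f ⁻¹ᵁ U).ι) (by
    rintro _ ⟨v, rfl⟩
    exact v.2)
  have hj : j ≫ V.ι ≫ (T y.1).ι ≫ f = (W.ι ≫ r) ≫ U.ι := by
    rw [show j ≫ V.ι ≫ (T y.1).ι ≫ f = (j ≫ ι') ≫ f by simp only [ι', Category.assoc],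
      IsOpenImmersion.lift_fac, Category.assoc, Category.assoc, morphismRestrict_ι]
  have hPW : P ((Over.pullback ((W.ι ≫ r) ≫ U.ι)).map w).left := by
    rw [← hj]
    exact prop_map_comp w P _ j h.2
  obtain ⟨t₁, t₂, sq, sq'⟩ := exists_isPullback_map w U.ι (W.ι ≫ r)
  let e := (q ⁻¹ᵁ W).ι ≫ Limits.pullback.fst c r
  let m := sq'.lift e (q ∣_ W) (by
    show ((q ⁻¹ᵁ W).ι ≫ Limits.pullback.fst c r) ≫ c = _ ≫ W.ι ≫ r
    rw [morphismRestrict_ι_assoc, Category.assoc, Limits.pullback.condition])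
  have hm : m ≫ t₂ = e := sq'.lift_fst _ _ _
  have h1 : P (Limits.pullback.snd ((Over.pullback U.ι).map w).left t₂) := by
    rw [← sq.isoPullback_inv_snd]
    exact MorphismProperty.RespectsIso.precomp P _ _ hPW
  show P (Limits.pullback.snd ((Over.pullback U.ι).map w).left e)
  rw [← hm, ← ((IsPullback.of_hasPullback (Limits.pullback.snd ((Over.pullback U.ι).map w).left t₂) m).paste_horiz
    (IsPullback.of_hasPullback _ t₂)).isoPullback_inv_snd]
  exact MorphismProperty.RespectsIso.precomp P _ _ (MorphismProperty.pullback_snd _ _ h1)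

end Groth.Reductive.FreeDiag
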