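import Groth.Agent.Reductive.MultTypeHom

/-!
Clopen loci of properties of homomorphisms from a group of multiplicative type (of arbitrary type)
to one of finite type.
-/

set_option autoImplicit false
universe u

open CategoryTheory MonoidalCategory CartesianMonoidalCategory MonObj GrpObj AlgebraicGeometry

noncomputable section

namespace Groth.Reductive.FreeDiag

attribute [local instance] algΓ'

/-- A homomorphism of diagonalisable groups with finitely generated target characters is, near a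
point, induced by a homomorphism of character groups. -/
theorem exists_open_eq_dsHom {T : Scheme.{u}} [IsAffine T] {M₁ M₂ : Type} [AddCommGroup M₁]
    [AddCommGroup M₂] (hM₂ : AddGroup.FG M₂) (φ : Red.DS T M₁ ⟶ Red.DS T M₂) [IsMonHom φ] (t : T) :
    ∃ (a : M₂ →+ M₁) (V : T.Opens), t ∈ V ∧
      (Over.pullback V.ι).map φ = (Over.pullback V.ι).map (dsHom a) := by
  classical
  have hhom : ∀ Y : Over T, IsHom (fst (Red.DS T M₁) Y ≫ φ) := fun Y Z h h' y ↦ by
    simp only [lift_fst_assoc]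
    exact MonObj.mul_comp h h' φ
  let Y₀ : Over T := Over.mk (𝟙 T)
  let Yt : Over T := Over.mk (T.fromSpecResidueField t)
  haveI : IsAffine Y₀.left := inferInstanceAs (IsAffine T)
  haveI : IsAffine Yt.left := inferInstanceAs (IsAffine (Spec _))
  obtain ⟨a, ha⟩ := exists_constFam_of_field (Y := Yt)
    ((Scheme.ΓSpecIso (T.residueField t)).commRingCatIsoToRingEquiv.toMulEquiv.isField
      (Field.toIsField _)) (fst _ Yt ≫ φ) (hhom Yt)
  let F := AddMonoidHom.toMultiplicative a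
  haveI : Group.FG (Multiplicative M₂) := by
    haveI := hM₂
    infer_instance
  obtain ⟨s, hs⟩ := Group.fg_def.mp ‹Group.FG (Multiplicative M₂)›
  let x := famU (fst (Red.DS T M₁) Y₀ ≫ φ)
  let e : Γ(Y₀.left, ⊤) := ∏ n ∈ s, (x n).coeff (F n)
  let V : T.Opens := T.basicOpen (e : Γ(T, ⊤))
  have hgl := fun n ↦ (famU_groupLike _ (hhom Y₀) n).1
  have hidem : ∀ n, IsIdempotentElem ((x n).coeff (F n)) := fun n ↦ by
    have h := groupLike_coeff_mul (x n) (hgl n) (F n) (F n)
    rwa [if_pos rfl] at h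
  have htV : t ∈ V := by
    let v : Yt ⟶ Y₀ := Over.homMk (T.fromSpecResidueField t) (Category.comp_id _)
    have hx : ∀ n, v.left.appTop.hom ((x n).coeff (F n)) = 1 := fun n ↦ by
      have h := famU_comp (fst (Red.DS T M₁) Y₀ ≫ φ) v n
      rw [whiskerLeft_fst_assoc, ha, famU_constFam] at h
      have h' := congrArg (fun z ↦ z.coeff (F n)) h
      simp only [MonoidAlgebra.coeff_mapRingHom, MonoidAlgebra.coeff_single, F] at h'
      exact h'.symm.trans (Finsupp.single_eq_same)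
    have h1 : v.left.appTop.hom e = 1 := by
      rw [map_prod]
      exact Finset.prod_eq_one fun n _ ↦ hx n
    have h2 : (IsLocalRing.closedPoint _ : Spec (T.residueField t)) ∈
        v.left ⁻¹ᵁ T.basicOpen (e : Γ(T, ⊤)) := by
      rw [show v.left ⁻¹ᵁ T.basicOpen (e : Γ(T, ⊤)) = (Spec (T.residueField t)).basicOpen
        (v.left.appTop.hom e) from Scheme.preimage_basicOpen_top v.left e, h1,
        Scheme.basicOpen_of_isUnit _ isUnit_one]
      trivial
    exact (Scheme.fromSpecResidueField_apply t _) ▸ h2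
  refine ⟨a, V, htV, ?_⟩
  let YV : Over T := Over.mk V.ι
  haveI : IsAffine YV.left := ((isAffineOpen_top T).basicOpen _ : IsAffineOpen V)
  let v : YV ⟶ Y₀ := Over.homMk V.ι (Category.comp_id _)
  have hu : IsUnit (v.left.appTop.hom e) := by
    have h : (V : Scheme.{u}).basicOpen (V.ι.appTop.hom (e : Γ(T, ⊤))) = ⊤ := by
      rw [← Scheme.preimage_basicOpen_top]
      exact V.ι_preimage_self
    refine RingedSpace.isUnit_of_isUnit_germ (V : Scheme.{u}).toRingedSpace ⊤ _ fun z hz ↦ ?_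
    exact (Scheme.mem_basicOpen _ _ z hz).1 (h.symm ▸ hz)
  have h1 : ∀ n ∈ s, v.left.appTop.hom ((x n).coeff (F n)) = 1 := fun n hn ↦ by
    obtain ⟨c, hc⟩ : (x n).coeff (F n) ∣ e := Finset.dvd_prod_of_mem _ hn
    rw [hc, map_mul] at hu
    exact (IsIdempotentElem.iff_eq_one_of_isUnit (isUnit_of_mul_isUnit_left hu)).mp
      ((hidem n).map v.left.appTop.hom)
  have h2 : (famU (fst (Red.DS T M₁) YV ≫ φ)) =
      (MonoidAlgebra.of _ _).comp F := by
    refine MonoidHom.eq_of_eqOn_dense hs fun n hn ↦ ?_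
    have h := famU_comp (fst (Red.DS T M₁) Y₀ ≫ φ) v n
    rw [whiskerLeft_fst_assoc] at h
    have h' := congrArg (MonoidAlgebra.mapRingHom _ v.left.appTop.hom)
      (single_coeff_mul (x n) (hgl n) (F n))
    rw [map_mul, MonoidAlgebra.mapRingHom_single, MonoidAlgebra.mapRingHom_single, h1 n hn,
      ← MonoidAlgebra.one_def, _root_.one_mul, ← h] at h'
    exact h'
  have h3 : fst (Red.DS T M₁) YV ≫ φ = constFam F YV := famU_ext fun n ↦ by
    rw [h2, famU_constFam]
    rfl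
  apply qPt_injective V.ι
  rw [← Category.id_comp ((Over.pullback V.ι).map φ), qPt_map,
    ← Category.id_comp ((Over.pullback V.ι).map (dsHom a)), qPt_map]
  let W := (Over.map V.ι).obj (Red.bc V.ι (Red.DS T M₁))
  let w : W ⟶ YV := Over.homMk (Red.bc V.ι (Red.DS T M₁)).hom rfl
  have h := lift (qPt V.ι (𝟙 (Red.bc V.ι (Red.DS T M₁)))) w ≫= h3
  rw [lift_fst_assoc] at h
  rw [h]
  exact dsVal_ext fun n ↦ by rw [lift_constFam, dsVal_dsHom]

variable {S : Scheme.{u}} {G H : Over S} [GrpObj G] [GrpObj H]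

set_option maxHeartbeats 1000000 in
/-- The clopen locus of a property of a homomorphism of groups of multiplicative type, given by a
condition on the homomorphism of character groups. -/
theorem exists_clopen_prop_locally (P : MorphismProperty Scheme.{u}) [P.IsStableUnderBaseChange]
    [IsZariskiLocalAtTarget P] [P.DescendsAlong Groth.DescentBase.SFQ]
    (C : ∀ {M N : Type} [AddCommGroup M] [AddCommGroup N], (M →+ N) → Prop)
    (hC : ∀ {T : Scheme.{u}} {M N : Type} [AddCommGroup M] [AddCommGroup N] (f : M →+ N), C f →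
      P (dsHom (T := T) f).left)
    (hC' : ∀ {K : Type u} [Field K] {M N : Type} [AddCommGroup M] [AddCommGroup N] (f : M →+ N),
      P (dsHom (T := Spec (CommRingCat.of K)) f).left → C f)
    (hG : TwC.Locally S TwC.Topology.fpqc (fun S' g => ∃ (M : Type) (_ : AddCommGroup M),
      Nonempty (Grp.mk (Red.bc g G) ≅ Grp.mk (Red.DS S' M))))
    (hH : SGA3x.IsMultTypeFT H) (w : G ⟶ H) [IsMonHom w] :
    ∃ U : S.Opens, IsClosed (U : Set S) ∧
      (∀ s : S, s ∈ U ↔ P ((Over.pullback (S.fromSpecResidueField s)).map w).left) ∧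
      P ((Over.pullback U.ι).map w).left := by
  classical
  haveI : MorphismProperty.RespectsIso P := inferInstance
  obtain ⟨S₁, f₁, hflat₁, hsurj₁, hqc₁, hloc₁⟩ := hG
  obtain ⟨S₂, f₂, hflat₂, hsurj₂, hqc₂, hloc₂⟩ := hH
  haveI := hflat₁
  haveI := hsurj₁
  haveI := hflat₂
  haveI := hsurj₂
  let p₁ := Limits.pullback.fst f₁ f₂
  let p₂ := Limits.pullback.snd f₁ f₂
  let f := p₁ ≫ f₁
  have hqc := qcCover_comp p₁ f₁ (qcCover_pullback_fst f₂ hqc₂ f₁) hqc₁
  let A : Set S := {s | P ((Over.pullback (S.fromSpecResidueField s)).map w).left}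
  -- locally constant type
  have hchart : ∀ x, ∃ T : (Limits.pullback f₁ f₂).Opens, x ∈ T ∧ ∀ t : (T : Scheme.{u}),
      ∃ V : (T : Scheme.{u}).Opens, t ∈ V ∧
        ((∀ v : (T : Scheme.{u}), v ∈ V → (T.ι ≫ f).base v ∈ A) ∧
            P ((Over.pullback (V.ι ≫ T.ι ≫ f)).map w).left ∨
          ∀ v : (T : Scheme.{u}), v ∈ V → (T.ι ≫ f).base v ∉ A) := by
    intro x
    obtain ⟨U₁, hxU₁, M₁, _, ⟨e₁⟩⟩ := hloc₁ (p₁ x)
    obtain ⟨U₂, hxU₂, M₂, _, hM₂, ⟨e₂⟩⟩ := hloc₂ (p₂ x)
    obtain ⟨T, hT, hxT, hTU⟩ := exists_isAffineOpen_mem_and_subset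
      (U := p₁ ⁻¹ᵁ U₁ ⊓ p₂ ⁻¹ᵁ U₂) (show x ∈ p₁ ⁻¹ᵁ U₁ ⊓ p₂ ⁻¹ᵁ U₂ from ⟨hxU₁, hxU₂⟩)
    haveI : IsAffine (T : Scheme.{u}) := hT
    let e₁' : Red.DS (U₁ : Scheme.{u}) M₁ ≅ Red.bc (U₁.ι ≫ f₁) G :=
      ⟨e₁.inv.hom.hom, e₁.hom.hom.hom, congrArg (fun z ↦ z.hom.hom) e₁.inv_hom_id,
        congrArg (fun z ↦ z.hom.hom) e₁.hom_inv_id⟩
    haveI : IsMonHom e₁'.hom := inferInstanceAs (IsMonHom e₁.inv.hom.hom)
    let e₂' : Red.DS (U₂ : Scheme.{u}) M₂ ≅ Red.bc (U₂.ι ≫ f₂) H :=
      ⟨e₂.inv.hom.hom, e₂.hom.hom.hom, congrArg (fun z ↦ z.hom.hom) e₂.inv_hom_id,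
        congrArg (fun z ↦ z.hom.hom) e₂.hom_inv_id⟩
    haveI : IsMonHom e₂'.hom := inferInstanceAs (IsMonHom e₂.inv.hom.hom)
    have hTU₁ : T ≤ p₁ ⁻¹ᵁ U₁ := hTU.trans inf_le_left
    have hTU₂ : T ≤ p₂ ⁻¹ᵁ U₂ := hTU.trans inf_le_right
    obtain ⟨j₁, hj₁⟩ := exists_trivialisation_comp G
      ((Limits.pullback f₁ f₂).homOfLE hTU₁ ≫ p₁ ∣_ U₁) (U₁.ι ≫ f₁) e₁'
    obtain ⟨j₂, hj₂⟩ := exists_trivialisation_comp H
      ((Limits.pullback f₁ f₂).homOfLE hTU₂ ≫ p₂ ∣_ U₂) (U₂.ι ≫ f₂) e₂'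
    revert j₁ hj₁ j₂ hj₂
    rw [Category.assoc, morphismRestrict_ι_assoc, Scheme.homOfLE_ι_assoc, Category.assoc,
      morphismRestrict_ι_assoc, Scheme.homOfLE_ι_assoc,
      show p₂ ≫ f₂ = f from Limits.pullback.condition.symm]
    intro j₁ hj₁ j₂ hj₂
    haveI := hj₁
    haveI := hj₂
    refine ⟨T, hxT, fun t ↦ ?_⟩
    let g := T.ι ≫ f
    let φ : Red.DS (T : Scheme.{u}) M₁ ⟶ Red.DS (T : Scheme.{u}) M₂ :=
      j₁.hom ≫ (Over.pullback g).map w ≫ j₂.inv
    -- the character map at `t`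
    haveI hφ : IsMonHom φ := inferInstance
    obtain ⟨a, V, htV, hVeq⟩ := exists_open_eq_dsHom hM₂ φ t
    refine ⟨V, htV, ?_⟩
    -- transport to `DS`
    have key : ∀ (W : Scheme.{u}) (j : W ⟶ (V : Scheme.{u})),
        P ((Over.pullback ((j ≫ V.ι) ≫ g)).map w).left ↔ P (dsHom (T := W) a).left := by
      intro W j
      let h := j ≫ V.ι
      have hh : (Over.pullback h).map φ = (Over.pullback h).map (dsHom a) := by
        apply qPt_injective h
        rw [← Category.id_comp ((Over.pullback h).map φ), qPt_map,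
          ← Category.id_comp ((Over.pullback h).map (dsHom a)), qPt_map]
        exact comp_eq_of_pullback_map_eq V.ι hVeq (Over.homMk ((Red.bc h (Red.DS _ M₁)).hom ≫ j)
          (Category.assoc _ _ _)) _
      -- the two sides as base changes of `φ` and of `dsHom a`
      have e1 : P ((Over.pullback (h ≫ g)).map w).left ↔
          P ((Over.pullback h).map ((Over.pullback g).map w)).left := by
        refine P.arrow_mk_iso_iff ?_
        let c := (Over.pullbackComp h g).app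
        exact (Over.forget W).mapArrow.mapIso
          (Arrow.isoMk' _ _ (c G) (c H) ((Over.pullbackComp h g).hom.naturality w).symm)
      have e2 : P ((Over.pullback h).map ((Over.pullback g).map w)).left ↔
          P ((Over.pullback h).map φ).left := by
        refine P.arrow_mk_iso_iff ?_
        refine (Over.forget W).mapArrow.mapIso (Arrow.isoMk'
          ((Over.pullback h).map ((Over.pullback g).map w)) ((Over.pullback h).map φ)
          ((Over.pullback h).mapIso j₁.symm)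
          ((Over.pullback h).mapIso j₂.symm) ?_)
        show (Over.pullback h).map j₁.inv ≫ (Over.pullback h).map φ =
          (Over.pullback h).map ((Over.pullback g).map w) ≫ (Over.pullback h).map j₂.inv
        rw [← Functor.map_comp, ← Functor.map_comp, show j₁.inv ≫ φ = (Over.pullback g).map w ≫ j₂.inv
          from j₁.inv_hom_id_assoc _]
      have e3 : P ((Over.pullback h).map (dsHom (T := (T : Scheme.{u})) a)).left ↔
          P (dsHom (T := W) a).left := by
        refine P.arrow_mk_iso_iff ?_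
        rw [dsHom_eq_DSmap, dsHom_eq_DSmap]
        let F := Over.pullback (Limits.IsTerminal.from specULiftZIsTerminal (T : Scheme.{u})) ⋙
          Over.pullback h
        let F' := Over.pullback (Limits.IsTerminal.from specULiftZIsTerminal W)
        let α : F' ≅ F := eqToIso (show F' = Over.pullback (h ≫ Limits.IsTerminal.from specULiftZIsTerminal (T : Scheme.{u})) from
          congrArg (fun z ↦ Over.pullback z) (show Limits.IsTerminal.from specULiftZIsTerminal W =
          h ≫ Limits.IsTerminal.from specULiftZIsTerminal (T : Scheme.{u}) from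
            specULiftZIsTerminal.hom_ext _ _)) ≪≫
          Over.pullbackComp h (Limits.IsTerminal.from specULiftZIsTerminal (T : Scheme.{u}))
        exact (Over.forget W).mapArrow.mapIso (Arrow.isoMk' _ _ (α.symm.app _) (α.symm.app _)
          (α.symm.hom.naturality _).symm)
      rw [hh] at e2
      exact e1.trans (e2.trans e3)
    have hpoint : ∀ v : (T : Scheme.{u}), v ∈ V →
        ((T.ι ≫ f).base v ∈ A ↔ P (dsHom
          (T := Spec (CommRingCat.of ((T : Scheme.{u}).residueField v))) a).left) := fun v hv ↦ by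
      let q := (T : Scheme.{u}).fromSpecResidueField v
      have himg : (q ≫ g).base (IsLocalRing.closedPoint _) = g.base v := by
        rw [Scheme.Hom.comp_apply, Scheme.fromSpecResidueField_apply]
      have hr : Set.range q ⊆ Set.range V.ι := by
        rw [Scheme.range_fromSpecResidueField, Scheme.Opens.range_ι]
        exact Set.singleton_subset_iff.mpr hv
      have h1 := key _ (IsOpenImmersion.lift V.ι q hr)
      rw [IsOpenImmersion.lift_fac] at h1
      exact (((prop_map_fieldPoint_iff w P _ (q ≫ g)).trans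
        (iff_of_eq (congrArg (fun s ↦ s ∈ A) himg))).symm).trans h1
    by_cases hCa : C a
    · refine Or.inl ⟨fun v hv ↦ (hpoint v hv).mpr (hC a hCa), ?_⟩
      have h1 := (key _ (𝟙 _)).mpr (hC a hCa)
      rwa [Category.id_comp] at h1
    · exact Or.inr fun v hv hA ↦ hCa (hC' a ((hpoint v hv).mp hA))
  choose T hxT hchart using hchart
  have hA : IsClopen A := by
    refine isClopen_of_preimage f hqc ?_
    have hcov : TopologicalSpace.IsOpenCover T :=
      .mk (top_unique fun x _ ↦ TopologicalSpace.Opens.mem_iSup.mpr ⟨x, hxT x⟩)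
    refine ⟨hcov.isClosed_iff_coe_preimage.mpr fun x ↦ isOpen_compl_iff.mp
      (isOpen_iff_forall_mem_open.mpr fun t ht ↦ ?_),
      hcov.isOpen_iff_coe_preimage.mpr fun x ↦ isOpen_iff_forall_mem_open.mpr fun t ht ↦ ?_⟩
    · obtain ⟨V, htV, h | h⟩ := hchart x t
      · exact absurd (h.1 t htV) ht
      · exact ⟨(V : Set (T x : Scheme.{u})), fun v hv ↦ h v hv, V.isOpen, htV⟩
    · obtain ⟨V, htV, h | h⟩ := hchart x t
      · exact ⟨(V : Set (T x : Scheme.{u})), fun v hv ↦ h.1 v hv, V.isOpen, htV⟩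
      · exact absurd ht (h t htV)
  let U : S.Opens := ⟨A, hA.2⟩
  refine ⟨U, hA.1, fun s ↦ Iff.rfl, ?_⟩
  -- descend over the locus
  let r : (f ⁻¹ᵁ U : Scheme.{u}) ⟶ (U : Scheme.{u}) := f ∣_ U
  have hf : Flat f := inferInstance
  haveI : Flat r := IsZariskiLocalAtTarget.restrict hf U
  let c := Limits.pullback.snd H.hom U.ι
  have hqcr : ∀ W : (U : Scheme.{u}).Opens, IsAffineOpen W →
      ∃ W' : (f ⁻¹ᵁ U : Scheme.{u}).Opens, IsCompact (W' : Set (f ⁻¹ᵁ U : Scheme.{u})) ∧
        r.base '' (W' : Set (f ⁻¹ᵁ U : Scheme.{u})) = (W : Set (U : Scheme.{u})) := by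
    intro W hW
    obtain ⟨W₀, hW₀c, hW₀⟩ := hqc (U.ι ''ᵁ W) (hW.image_of_isOpenImmersion U.ι)
    have hle : (W₀ : Set (Limits.pullback f₁ f₂ : Scheme.{u})) ⊆ Set.range (f ⁻¹ᵁ U).ι := by
      rw [Scheme.Opens.range_ι]
      intro w hw
      obtain ⟨v, -, hv⟩ := (hW₀.subset ⟨w, hw, rfl⟩ : f w ∈ U.ι ''ᵁ W)
      show f w ∈ U
      exact hv ▸ v.2
    refine ⟨(f ⁻¹ᵁ U).ι ⁻¹ᵁ W₀,
      (f ⁻¹ᵁ U).ι.isOpenEmbedding.isInducing.isCompact_preimage' hW₀c hle, ?_⟩
    apply U.ι.isOpenEmbedding.injective.image_injective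
    rw [Set.image_image]
    refine (Set.image_congr' fun w ↦ ?_).trans (((Set.image_image _ _ _).symm.trans
      (congrArg (f.base '' ·) (Set.image_preimage_eq_of_subset hle))).trans hW₀)
    show U.ι (r w) = f ((f ⁻¹ᵁ U).ι w)
    rw [← Scheme.Hom.comp_apply, ← Scheme.Hom.comp_apply, morphismRestrict_ι]
  refine Groth.Reductive.of_fpqc_locally P inferInstance ((Over.pullback U.ι).map w).left
    (Limits.pullback.fst c r) (MorphismProperty.pullback_fst _ _ ‹Flat r›)
    (qcCover_pullback_fst r hqcr c) fun z ↦ ?_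
  let q := Limits.pullback.snd c r
  let y := q.base z
  obtain ⟨V, hyV, h | h⟩ := hchart y.1 ⟨(f ⁻¹ᵁ U).ι y, hxT y.1⟩
  swap
  · exact absurd (show ((T y.1).ι ≫ f).base ⟨(f ⁻¹ᵁ U).ι y, hxT y.1⟩ ∈ A from y.2)
      (h _ hyV)
  -- a piece mapping to the chart
  let ι' := V.ι ≫ (T y.1).ι
  have hr : ∀ v, ι' v ∈ f ⁻¹ᵁ U := fun v ↦ h.1 (V.ι v) v.2
  let W : (f ⁻¹ᵁ U : Scheme.{u}).Opens := (f ⁻¹ᵁ U).ι ⁻¹ᵁ ι'.opensRange
  refine ⟨q ⁻¹ᵁ W, ?_, ?_⟩
  · exact ⟨⟨⟨(f ⁻¹ᵁ U).ι y, hxT y.1⟩, hyV⟩, rfl⟩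
  let j : (W : Scheme.{u}) ⟶ (V : Scheme.{u}) := IsOpenImmersion.lift ι' (W.ι ≫ (f ⁻¹ᵁ U).ι) (by
    rintro _ ⟨v, rfl⟩
    exact v.2)
  have hj : j ≫ V.ι ≫ (T y.1).ι ≫ f = (W.ι ≫ r) ≫ U.ι := by
    rw [show j ≫ V.ι ≫ (T y.1).ι ≫ f = (j ≫ ι') ≫ f by simp only [ι', Category.assoc],
      IsOpenImmersion.lift_fac, Category.assoc, Category.assoc, morphismRestrict_ι]
  have hPW : P ((Over.pullback ((W.ι ≫ r) ≫ U.ι)).map w).left := by
    rw [← hj]
    exact prop_map_comp w P _ j h.2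
  obtain ⟨t₁, t₂, sq, sq'⟩ := exists_isPullback_map w U.ι (W.ι ≫ r)
  let e := (q ⁻¹ᵁ W).ι ≫ Limits.pullback.fst c r
  let m := sq'.lift e (q ∣_ W) (by
    show ((q ⁻¹ᵁ W).ι ≫ Limits.pullback.fst c r) ≫ c = _ ≫ W.ι ≫ r
    rw [morphismRestrict_ι_assoc, Category.assoc, Limits.pullback.condition])
  have hm : m ≫ t₂ = e := sq'.lift_fst _ _ _
  have h1 : P (Limits.pullback.snd ((Over.pullback U.ι).map w).left t₂) := by
    rw [← sq.isoPullback_inv_snd]
    exact MorphismProperty.RespectsIso.precomp P _ _ hPW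
  show P (Limits.pullback.snd ((Over.pullback U.ι).map w).left e)
  rw [← hm, ← ((IsPullback.of_hasPullback (Limits.pullback.snd ((Over.pullback U.ι).map w).left t₂) m).paste_horiz
    (IsPullback.of_hasPullback _ t₂)).isoPullback_inv_snd]
  exact MorphismProperty.RespectsIso.precomp P _ _ (MorphismProperty.pullback_snd _ _ h1)

end Groth.Reductive.FreeDiag
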