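import Groth.Agent.Reductive.RedRankBC
import Groth.Agent.RedX.FibreIso
import Groth.Agent.AlgGrp1.NilpTorus
import Groth.Agent.AlgGrp1.NilpotentGrp
import Groth.Agent.AlgGrp1.CartanField
import Groth.Agent.AlgGrp1.Geom
import Groth.Prelude.Def_AGF

/-!
# Maximal tori of groups with nilpotent connected geometric fibres are central
-/

set_option autoImplicit false

universe u

open CategoryTheory Limits MonoidalCategory CartesianMonoidalCategory MonObj GrpObj AlgebraicGeometry

noncomputable section

namespace Groth.Reductive.RedRank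

/-- Nilpotency is detected on the rational points. -/
theorem isNilpotentGrp_of_unit_points {K : Type u} [Field K] [IsAlgClosed K]
    (X : Over (Spec (CommRingCat.of K))) [GrpObj X] [IsAffine X.left] [Smooth X.hom]
    (h : Group.IsNilpotent (𝟙_ (Over (Spec (CommRingCat.of K))) ⟶ X)) : AGF.IsNilpotentGrp X := by
  haveI : IsSeparated X.hom := inferInstance
  let c : 𝟙_ (Over (Spec (CommRingCat.of K))) ≅ Groth.AlgGrp1.specAlg K K := Over.isoMk (Iso.refl _) (by
    show 𝟙 _ ≫ Spec.map _ = 𝟙 _
    rw [Category.id_comp, Algebra.algebraMap_self]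
    exact Spec.map_id _)
  let e : (𝟙_ (Over (Spec (CommRingCat.of K))) ⟶ X) ≃* (Groth.AlgGrp1.specAlg K K ⟶ X) :=
    MulEquiv.mk' c.homFromEquiv fun x y => by
      simp only [Iso.homFromEquiv_apply]
      exact MonObj.comp_mul _ x y
  haveI := h
  exact Groth.AlgGrp1.isNilpotentGrp_of_points X (Group.nilpotent_of_mulEquiv e)

/-- Nilpotency is stable under base change. -/
theorem isNilpotentGrp_bc {S W : Scheme.{u}} (f : W ⟶ S) {X : Over S} [GrpObj X] (h : AGF.IsNilpotentGrp X) :
    AGF.IsNilpotentGrp (Red.bc f X) := by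
  obtain ⟨n, hn⟩ := h
  exact ⟨n, fun Y => eq_top_iff.2 fun x _ =>
    Groth.AlgGrp1.mem_ucs_of_injective (Groth.Reductive.bcPointEquiv f X Y).toMonoidHom
      (Groth.Reductive.bcPointEquiv f X Y).injective n x (by rw [hn]; trivial)⟩

variable {S : Scheme.{u}} {G : Over S} [GrpObj G] [IsAffineHom G.hom] [Smooth G.hom]

/-- A maximal torus, over any etale base, of a group with connected nilpotent geometric fibres is central. -/
theorem central_of_nilpotent_fibres (hconn : ∀ s : S, ConnectedSpace ↥(Red.geomFibre s G).left)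
    (hnil : ∀ s : S, Group.IsNilpotent
      (𝟙_ (Over (Spec (CommRingCat.of (AlgebraicClosure (S.residueField s))))) ⟶ Red.geomFibre s G))
    {W : Scheme.{u}} (f : W ⟶ S) [LocallyOfFiniteType f] [LocallyQuasiFinite f] {T : Over W} [GrpObj T]
    (i : T ⟶ Red.bc f G) (hi : Red.IsMaximalTorus i) (X : Over W) (x : X ⟶ T) (g : X ⟶ Red.bc f G) :
    (x ≫ i) * g = g * (x ≫ i) := by
  haveI := hi.1; haveI := hi.2.1
  haveI : IsAffineHom (Red.bc f G).hom := MorphismProperty.pullback_snd (P := @IsAffineHom) _ _ inferInstance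
  haveI : Smooth (Red.bc f G).hom := MorphismProperty.pullback_snd (P := @Smooth) _ _ inferInstance
  haveI : IsSeparated (Red.bc f G).hom := inferInstance
  obtain ⟨C, _, c, hcm, hcmono, hciff, hccl, hCsm⟩ := Groth.Reductive.MTInt.exists_centralizerSep
    (Groth.Reductive.MTInt.locTriv_of_multTypeFT (Groth.Reductive.FreeDiag.isMultTypeFT_of_isTorus hi.2.2.1))
    inferInstance i
  haveI := hcm; haveI := hcmono; haveI := hCsm
  have hC : Red.IsCentralizerOf i c := ⟨hcm, hcmono, hciff⟩
  have hfib : ∀ t : W, IsIso ((Over.pullback (Red.geomPt t)).map c) := fun t => by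
    obtain ⟨ψ, hψ, hiso⟩ := exists_geomPt_hom f t
    haveI : IsIso ψ := hiso inferInstance inferInstance
    let G₀ := Red.geomFibre (f.base t) G
    let G₁ := Red.geomFibre t (Red.bc f G)
    haveI : IsAffineHom G₀.hom := MorphismProperty.pullback_snd (P := @IsAffineHom) _ _ inferInstance
    haveI : IsAffine G₀.left := isAffine_of_isAffineHom G₀.hom
    haveI : Smooth G₀.hom := MorphismProperty.pullback_snd (P := @Smooth) _ _ inferInstance
    haveI : IsAffineHom G₁.hom := MorphismProperty.pullback_snd (P := @IsAffineHom) (Red.bc f G).hom _ inferInstance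
    haveI : IsAffine G₁.left := isAffine_of_isAffineHom G₁.hom
    haveI : Smooth G₁.hom := MorphismProperty.pullback_snd (P := @Smooth) (Red.bc f G).hom _ inferInstance
    let e := isoS (bcTwo (Red.geomPt t) f _ hψ.symm G ≪≫ (bcTwo ψ (Red.geomPt (f.base t)) _ rfl G).symm)
    haveI : ConnectedSpace ↥G₁.left := by
      haveI := hconn (f.base t)
      haveI : IsIso e.hom.left := inferInstanceAs (IsIso ((Over.forget _).map e.hom))
      exact (Scheme.Hom.homeomorph (e.hom.left ≫ pullback.fst G₀.hom ψ)).symm.surjective.connectedSpace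
        (Scheme.Hom.homeomorph (e.hom.left ≫ pullback.fst G₀.hom ψ)).symm.continuous
    have hnil₁ : AGF.IsNilpotentGrp G₁ := by
      obtain ⟨n, hn⟩ := isNilpotentGrp_bc ψ (isNilpotentGrp_of_unit_points G₀ (hnil (f.base t)))
      refine ⟨n, fun Y => eq_top_iff.2 fun y _ => Groth.AlgGrp1.mem_ucs_of_injective
        (MonoidHom.mk' (fun z : Y ⟶ G₁ => z ≫ e.hom) fun a b => MonObj.mul_comp a b e.hom)
        (fun a b hab => (cancel_mono e.hom).1 hab) n y (by rw [hn]; trivial)⟩
    haveI := Groth.Abvar.isMonHom_map (f := Red.geomPt t) i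
    have hmax : AGF.IsMaxTorus ((Over.pullback (Red.geomPt t)).map i) :=
      ⟨inferInstance, inferInstance, Groth.GrpschAbsch.TorusToAbelian.isTorus_bc hi.2.2.1 _,
        fun T' _ j _ _ v hT' hv => hi.2.2.2 t T' j v hT' hv⟩
    obtain ⟨-, -, hpt⟩ := Groth.Reductive.CentTorusMax.isCentralizerOf_bc (Red.geomPt t) hC
    obtain ⟨z, hz⟩ := (hpt G₁ (𝟙 G₁)).2 fun X' a b => by
      rw [Category.comp_id]
      exact Groth.AlgGrp1.torus_central_of_nilpotent hnil₁ ((Over.pullback (Red.geomPt t)).map i)
        hmax.2.2.1 X' a b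
    exact ⟨z, by rw [← cancel_mono ((Over.pullback (Red.geomPt t)).map c), Category.assoc, hz, Category.comp_id,
      Category.id_comp], hz⟩
  haveI : IsIso c := Groth.RedX.isIso_of_geomFibres c hfib
  have h := (hciff X g).1 ⟨g ≫ inv c, by rw [Category.assoc, IsIso.inv_hom_id, Category.comp_id]⟩ X (𝟙 X) x
  rw [Category.id_comp] at h
  exact h.symm

end Groth.Reductive.RedRank

end
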