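import Groth.Agent.Reductive.RedCentreAffine
import Groth.Agent.FibreDim.GroupScheme
import Groth.Agent.FBaseGeom.Dim
import Groth.Prelude.Def_SGA3x

/-!
# The nilpotent rank is locally constant when the reductive rank is
-/

set_option autoImplicit false

universe u

open CategoryTheory Limits MonoidalCategory CartesianMonoidalCategory MonObj GrpObj AlgebraicGeometry

noncomputable section

namespace Groth.Reductive.RedRank

/-- The dimension of a fibre does not change under base change. -/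
theorem dim_fiber_bc {S S' : Scheme.{u}} (C : Over S) [LocallyOfFiniteType C.hom] (g : S' ⟶ S) (t : S') :
    topologicalKrullDim ((pullback.snd C.hom g).fiber t) = topologicalKrullDim (C.hom.fiber (g t)) := by
  let f := C.hom
  let f' := pullback.snd C.hom g
  let K := S'.residueField t
  let k := S.residueField (g t)
  letI : Algebra k K := (g.residueFieldMap t).hom.toAlgebra
  let r := Spec.map (CommRingCat.ofHom (algebraMap k K))
  have hr : r ≫ S.fromSpecResidueField (g t) = S'.fromSpecResidueField t ≫ g :=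
    Scheme.Hom.SpecMap_residueFieldMap_fromSpecResidueField _ _
  have hbig := (IsPullback.of_hasPullback f' (S'.fromSpecResidueField t)).paste_horiz
    (IsPullback.of_hasPullback f g)
  let m : f'.fiber t ⟶ f.fiber (g t) :=
    pullback.lift (f'.fiberι t ≫ pullback.fst f g) (f'.fiberToSpecResidueField t ≫ r)
      (by rw [Category.assoc (_ : f'.fiber t ⟶ _) r, hr]; exact hbig.w)
  have hsq' : IsPullback m (f'.fiberToSpecResidueField t) (f.fiberToSpecResidueField (g t)) r := by
    refine IsPullback.of_right (h₁₂ := f.fiberι (g t))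
      (h₂₂ := S.fromSpecResidueField (g t)) (v₁₃ := f) ?_
      (pullback.lift_snd _ _ _) (IsPullback.of_hasPullback _ _)
    rw [hr, show m ≫ f.fiberι (g t) = _ from pullback.lift_fst _ _ _]
    exact hbig
  have : LocallyOfFiniteType (f.fiberToSpecResidueField (g t)) :=
    MorphismProperty.pullback_snd (P := @LocallyOfFiniteType) _ _ ‹_›
  refine Eq.trans ?_ (@Groth.FBaseGeom.dim_bc k _ _ (f.fiberToSpecResidueField (g t)) K _
    (g.residueFieldMap t).hom.toAlgebra _)
  exact hsq'.isoPullback.hom.homeomorph.isHomeomorph.topologicalKrullDim_eq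

/-- The dimension of a geometric fibre is that of the fibre. -/
theorem dim_geomFibre {S : Scheme.{u}} (C : Over S) [LocallyOfFiniteType C.hom] (s : S) :
    topologicalKrullDim ↥(Red.geomFibre s C).left = topologicalKrullDim ↥(C.hom.base ⁻¹' {s}) := by
  have hpt : (Red.geomPt s).base (IsLocalRing.closedPoint _) = s := by
    rw [Scheme.Hom.comp_apply, Scheme.fromSpecResidueField_apply]
  rw [Groth.Variety2.Dim.dim_preimage_singleton]
  have h := dim_fiber_bc C (Red.geomPt s) (IsLocalRing.closedPoint _)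
  rw [hpt] at h
  rw [← h, ← Groth.Variety2.Dim.dim_preimage_singleton]
  have hu : (pullback.snd C.hom (Red.geomPt s)).base ⁻¹' {IsLocalRing.closedPoint _} = Set.univ :=
    Set.eq_univ_of_forall fun x => Subsingleton.elim
      (α := (Spec (CommRingCat.of (AlgebraicClosure (S.residueField s))) : Scheme.{u})) _ _
  exact ((Homeomorph.Set.univ _).isHomeomorph.topologicalKrullDim_eq _).symm.trans
    (congrArg (fun A : Set ↥(pullback C.hom (Red.geomPt s)) => topologicalKrullDim ↥A) hu).symm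

variable {S : Scheme.{u}} {G : Over S} [GrpObj G] [IsAffineHom G.hom] [Smooth G.hom]

omit [GrpObj G] [IsAffineHom G.hom] [Smooth G.hom] in
/-- Centralizers of conjugate subgroups are isomorphic. -/
theorem exists_centralizer_iso_of_conj {B : Scheme.{u}} {X T T₂ C C₂ : Over B} [GrpObj X] [GrpObj T] [GrpObj T₂]
    [GrpObj C] [GrpObj C₂] (i : T ⟶ X) (i₂ : T₂ ⟶ X) (g : 𝟙_ (Over B) ⟶ X) (f : T ≅ T₂)
    (hf : f.hom ≫ i₂ = (toUnit T ≫ g) * i * (toUnit T ≫ g)⁻¹) (c : C ⟶ X) (hc : Red.IsCentralizerOf i c)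
    (c₂ : C₂ ⟶ X) (hc₂ : Red.IsCentralizerOf i₂ c₂) : Nonempty (C ≅ C₂) := by
  haveI := hc.2.1; haveI := hc₂.2.1
  have hpt : ∀ {Y : Over B} (t : Y ⟶ T), (t ≫ f.hom) ≫ i₂ = MulAut.conj (toUnit Y ≫ g) (t ≫ i) :=
    fun t => by
      rw [Category.assoc, hf, MonObj.comp_mul, MonObj.comp_mul, GrpObj.comp_inv, ← Category.assoc,
        toUnit_unique (t ≫ toUnit _) (toUnit _)]
      rfl
  have hcomp : ∀ {Y Y' : Over B} (w : Y' ⟶ Y) (y : Y ⟶ X),
      w ≫ MulAut.conj (toUnit Y ≫ g) y = MulAut.conj (toUnit Y' ≫ g) (w ≫ y) := fun w y => by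
    rw [MulAut.conj_apply, MulAut.conj_apply, MonObj.comp_mul, MonObj.comp_mul, GrpObj.comp_inv,
      ← Category.assoc, toUnit_unique (w ≫ toUnit _) (toUnit _)]
  obtain ⟨a, ha⟩ := (hc₂.2.2 C (MulAut.conj (toUnit C ≫ g) c)).2 fun Y w t => by
    have h2 := hpt (t ≫ f.inv)
    rw [Category.assoc t, Iso.inv_hom_id, Category.comp_id] at h2
    rw [hcomp, h2, ← map_mul, ← map_mul, (hc.2.2 C c).1 ⟨𝟙 _, Category.id_comp _⟩ Y w (t ≫ f.inv)]
  obtain ⟨b, hb⟩ := (hc.2.2 C₂ ((MulAut.conj (toUnit C₂ ≫ g)).symm c₂)).2 fun Y w t => by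
    have e : MulAut.conj (toUnit Y ≫ g) (w ≫ (MulAut.conj (toUnit C₂ ≫ g)).symm c₂) = w ≫ c₂ := by
      rw [← hcomp, MulEquiv.apply_symm_apply]
    apply (MulAut.conj (toUnit Y ≫ g)).injective
    rw [map_mul, map_mul, e, ← hpt]
    exact (hc₂.2.2 C₂ c₂).1 ⟨𝟙 _, Category.id_comp _⟩ Y w (t ≫ f.hom)
  refine ⟨⟨a, b, ?_, ?_⟩⟩
  · rw [← cancel_mono c, Category.assoc, hb, Category.id_comp]
    apply (MulAut.conj (toUnit C ≫ g)).injective
    rw [← hcomp, MulEquiv.apply_symm_apply, ha]
  · rw [← cancel_mono c₂, Category.assoc, ha, hcomp, hb, MulEquiv.apply_symm_apply, Category.id_comp]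

/-- Locally constant reductive rank gives locally constant nilpotent rank. -/
theorem nilpRank_locallyConstant (hr : SGA3x.RedRankLocallyConstant G) (s : S) :
    ∃ U : S.Opens, s ∈ U ∧ ∃ r : WithBot ℕ∞, ∀ t : S, t ∈ U →
      ∀ (C' : Over (Spec (CommRingCat.of (AlgebraicClosure (S.residueField t))))) [GrpObj C']
        (c' : C' ⟶ Red.geomFibre t G), SGA3x.IsCartanOver (AlgebraicClosure (S.residueField t)) c' →
        topologicalKrullDim ↥C'.left = r := by
  obtain ⟨U, hsU, d, hd⟩ := hr s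
  obtain ⟨r, hdr, hrs⟩ := (hasRedRank_iff G s d).mp (hd s hsU)
  obtain ⟨W, p, w, T, _, i, hp, hw, hi, hmono, hTt, hT⟩ := exists_torus_nbhd s hrs
  haveI := hp; haveI := hi; haveI := hmono
  haveI : LocallyQuasiFinite p := Groth.SmoothSlice.locallyQuasiFinite_of_formallyUnramified' p
  haveI : IsAffineHom (Red.bc p G).hom := MorphismProperty.pullback_snd (P := @IsAffineHom) G.hom p inferInstance
  haveI : Smooth (Red.bc p G).hom := MorphismProperty.pullback_snd (P := @Smooth) G.hom p inferInstance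
  obtain ⟨C, _, c, hcm, hcmono, hciff, hccl, hCsm⟩ := Groth.Reductive.MTInt.exists_centralizerSep
    (Groth.Reductive.MTInt.locTriv_of_multTypeFT (Groth.Reductive.FreeDiag.isMultTypeFT_of_isTorus hTt))
    inferInstance i
  haveI := hcm; haveI := hcmono; haveI := hccl; haveI := hCsm
  have hC : Red.IsCentralizerOf i c := ⟨hcm, hcmono, hciff⟩
  have hloc := Groth.FibreDim.isLocallyConstant_dim (G := C)
  let n := fun x : W => topologicalKrullDim ↥(C.hom.base ⁻¹' {x})
  let O : W.Opens := ⟨{x | n x = n w} ∩ p ⁻¹' U, (hloc.isOpen_fiber (n w)).inter (p.continuous.isOpen_preimage _ U.2)⟩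
  refine ⟨⟨p '' O, p.isOpenMap _ O.2⟩, ⟨w, ⟨rfl, by show p w ∈ U; rw [hw]; exact hsU⟩, hw⟩, n w, ?_⟩
  rintro _ ⟨x, ⟨hxn, hxU⟩, rfl⟩ C' _ c' ⟨hc'm, hc'mono, T', _, i', hi', hC'⟩
  obtain ⟨ψ, hψ, hψi⟩ := exists_geomPt_hom p x
  haveI : IsIso ψ := hψi inferInstance inferInstance
  obtain ⟨r', hr', hr''⟩ := (hasRedRank_iff G _ d).mp (hd (p.base x) hxU)
  obtain rfl : r' = r := by
    have := hr'.symm.trans hdr
    exact_mod_cast this
  have hiA := (Groth.Reductive2.MaxTorus.isMaximalTorus_iff _).1 hi'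
  haveI := hiA.1; haveI := hiA.2.1
  let e := isoS (bcTwo ψ (Red.geomPt (p.base x)) _ hψ G ≪≫ (bcTwo (Red.geomPt x) p _ rfl G).symm)
  haveI : IsMonHom e.hom := RedRank.isMonHom_isoS_hom _
  haveI : IsMonHom e.inv := RedRank.isMonHom_isoS_inv _
  haveI : IsMonHom ((Over.pullback ψ).map i') := Groth.Abvar.isMonHom_map (f := ψ) i'
  haveI : IsMonHom ((Over.pullback ψ).map i' ≫ e.hom) := Groth.Abvar.isMonHom_comp inferInstance inferInstance
  haveI : IsAffineHom (Red.geomFibre x (Red.bc p G)).hom :=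
    MorphismProperty.pullback_snd (P := @IsAffineHom) (Red.bc p G).hom _ inferInstance
  haveI : IsAffine (Red.geomFibre x (Red.bc p G)).left := isAffine_of_isAffineHom (Red.geomFibre x (Red.bc p G)).hom
  haveI : Smooth (Red.geomFibre x (Red.bc p G)).hom := MorphismProperty.pullback_snd _ _ inferInstance
  obtain ⟨T₀, _, i₀, hi₀, hr₀⟩ := (hasMax_bc_iff p x r').2 hr''
  obtain ⟨v⟩ := hT
  obtain ⟨dd⟩ := isSplit_DS_bc (Red.geomPt x) (Fin r' → ℤ)
  haveI : IsMonHom ((Over.pullback (Red.geomPt x)).map i) := Groth.Abvar.isMonHom_map (f := Red.geomPt x) i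
  have hsx : SplitRank r' (Red.geomFibre x T) := ⟨bcIso (Red.geomPt x) v ≪≫ dd⟩
  have hmax := isMaxTorus_of_rank hi₀ hr₀ ((Over.pullback (Red.geomPt x)).map i) hsx le_rfl
  obtain ⟨r₁, hr₁⟩ := exists_splitRank hiA.2.2.1
  haveI : IsAffineHom (Red.geomFibre (p.base x) G).hom :=
    MorphismProperty.pullback_snd (P := @IsAffineHom) G.hom _ inferInstance
  haveI : IsAffine (Red.geomFibre (p.base x) G).left := isAffine_of_isAffineHom (Red.geomFibre (p.base x) G).hom
  haveI : Smooth (Red.geomFibre (p.base x) G).hom := MorphismProperty.pullback_snd _ _ inferInstance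
  obtain ⟨T₁, _, i₁, hi₁, hrT₁⟩ := hr''
  have hle : r' ≤ r₁ := by
    haveI := hi₁.1; haveI := hi₁.2.1
    exact le_of_maxTorus hiA hr₁ i₁ hrT₁
  have hmax' := isMaxTorus_of_rank hi₀ hr₀ ((Over.pullback ψ).map i' ≫ e.hom) (hr₁.bc ψ) hle
  have hCx := Groth.Reductive.CentTorusMax.isCentralizerOf_bc (Red.geomPt x) hC
  have hCψ := Groth.Reductive.CentTorusMax.isCentralizerOf_bc ψ hC'
  haveI := hCψ.2.1
  have hCψ' : Red.IsCentralizerOf ((Over.pullback ψ).map i' ≫ e.hom) ((Over.pullback ψ).map c' ≫ e.hom) := by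
    haveI := hCψ.1
    refine ⟨Groth.Abvar.isMonHom_comp hCψ.1 inferInstance, inferInstance, fun Q y => ?_⟩
    have h := hCψ.2.2 Q (y ≫ e.inv)
    constructor
    · rintro ⟨z, rfl⟩ Q' q t
      have h1 := congrArg (· ≫ e.hom) (h.1 ⟨z, by simp⟩ Q' q t)
      simp only [MonObj.mul_comp, Category.assoc, Iso.inv_hom_id, Category.comp_id] at h1
      simpa only [Category.assoc] using h1
    · intro hy
      obtain ⟨z, hz⟩ := h.2 fun Q' q t => by
        have h1 := congrArg (· ≫ e.inv) (hy Q' q t)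
        simp only [MonObj.mul_comp, Category.assoc, Iso.hom_inv_id, Category.comp_id] at h1
        simpa only [Category.assoc] using h1
      exact ⟨z, by rw [← Category.assoc, hz, Category.assoc, Iso.inv_hom_id, Category.comp_id]⟩
  obtain ⟨g, f, hf⟩ := Groth.Reductive.TorusConjEtale.exists_conj hmax hmax'
  obtain ⟨E⟩ := exists_centralizer_iso_of_conj _ _ g f hf _ hCx _ hCψ'
  haveI : IsIso E.hom.left := inferInstanceAs (IsIso ((Over.forget _).map E.hom))
  haveI : IsIso (pullback.fst C'.hom ψ) := inferInstance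
  rw [← (Scheme.Hom.homeomorph (pullback.fst C'.hom ψ)).isHomeomorph.topologicalKrullDim_eq]
  refine Eq.trans ?_ hxn
  exact ((Scheme.Hom.homeomorph E.hom.left).isHomeomorph.topologicalKrullDim_eq).symm.trans
    (dim_geomFibre C x)

end Groth.Reductive.RedRank

end
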