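import Groth.Agent.Reductive.Points

/-!
Computations in an abstract rank-one group system: two one-parameter subgroups `P`, `M`, a coroot `H`
and a torus, subject to the commutation rule.
-/

set_option autoImplicit false
universe u

open CategoryTheory AlgebraicGeometry

namespace Groth.Reductive

/-- An abstract rank-one system in a group `Γ` over a ring `R` with torus points `T`. -/
structure RankOne (R Γ T : Type*) [CommRing R] [Group Γ] [Group T] where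
  P : R → Γ
  M : R → Γ
  τ : T →* Γ
  a : T → Rˣ
  h : Rˣ →* T
  P_add : ∀ r s, P (r + s) = P r * P s
  M_add : ∀ r s, M (r + s) = M r * M s
  conjP : ∀ t r, τ t * P r = P (a t * r) * τ t
  conjM : ∀ t r, τ t * M r = M ((a t)⁻¹ * r) * τ t
  a_h : ∀ v, a (h v) = v * v
  rule : ∀ (r s : R) (v : Rˣ), (v : R) = 1 + r * s →
    P r * M s = M (↑v⁻¹ * s) * τ (h v) * P (↑v⁻¹ * r)

namespace RankOne

variable {R Γ T : Type*} [CommRing R] [Group Γ] [Group T] (𝒮 : RankOne R Γ T)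

lemma P_zero : 𝒮.P 0 = 1 := by
  have h := 𝒮.P_add 0 0
  rw [add_zero] at h
  exact left_eq_mul.mp h

lemma M_zero : 𝒮.M 0 = 1 := by
  have h := 𝒮.M_add 0 0
  rw [add_zero] at h
  exact left_eq_mul.mp h

lemma P_inv (r : R) : (𝒮.P r)⁻¹ = 𝒮.P (-r) := by
  rw [inv_eq_iff_mul_eq_one, ← P_add, add_neg_cancel, P_zero]

lemma M_inv (r : R) : (𝒮.M r)⁻¹ = 𝒮.M (-r) := by
  rw [inv_eq_iff_mul_eq_one, ← M_add, add_neg_cancel, M_zero]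

lemma rule_rev (r s : R) (v : Rˣ) (hv : (v : R) = 1 + r * s) :
    𝒮.M s * 𝒮.P r = 𝒮.P (↑v⁻¹ * r) * (𝒮.τ (𝒮.h v))⁻¹ * 𝒮.M (↑v⁻¹ * s) := by
  have h := congrArg (·⁻¹) (𝒮.rule (-r) (-s) v (by rw [hv]; ring))
  simpa [mul_inv_rev, P_inv, M_inv, mul_neg, mul_assoc] using h

/-- The representative of the Weyl element attached to a unit. -/
def w (x : Rˣ) : Γ := 𝒮.P x * 𝒮.M (-↑x⁻¹) * 𝒮.P x

lemma w_neg (x : Rˣ) : 𝒮.w (-x) = (𝒮.w x)⁻¹ := by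
  simp [w, mul_inv_rev, P_inv, M_inv, mul_assoc, inv_neg]

lemma w_mul (z x : Rˣ) : 𝒮.w (z * x) = 𝒮.τ (𝒮.h z) * 𝒮.w x := by
  have h1 : 𝒮.P ((z * x : Rˣ) : R) =
      𝒮.P (z * z * x) * 𝒮.P (z * x * (1 - z)) := by
    rw [← P_add]; congr 1; push_cast; ring
  have h2 := 𝒮.rule (z * x * (1 - z)) (-↑(z * x)⁻¹) z (by
    rw [mul_inv_rev]; push_cast
    linear_combination ((1 - (z : R)) * ↑x * ↑x⁻¹) * z.mul_inv + (1 - (z : R)) * x.mul_inv)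
  have h3 : 𝒮.τ (𝒮.h z) * 𝒮.P x = 𝒮.P (z * z * x) * 𝒮.τ (𝒮.h z) := by
    rw [conjP, a_h]; congr 1
  have h4 : 𝒮.τ (𝒮.h z) * 𝒮.M (-↑x⁻¹) = 𝒮.M (↑z⁻¹ * -↑(z * x)⁻¹) * 𝒮.τ (𝒮.h z) := by
    rw [conjM, a_h]; congr 2; rw [mul_inv_rev, mul_inv_rev]; push_cast; ring
  have h5 : 𝒮.P (↑z⁻¹ * (z * x * (1 - z))) * 𝒮.P ((z * x : Rˣ) : R) = 𝒮.P x := by
    rw [← P_add]; congr 1; push_cast
    linear_combination (↑x * (1 - (z : R))) * z.inv_mul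
  calc 𝒮.w (z * x)
      = 𝒮.P (z * z * x) * (𝒮.P (z * x * (1 - z)) * 𝒮.M (-↑(z * x)⁻¹)) * 𝒮.P ((z * x : Rˣ) : R) := by
        rw [w]; nth_rewrite 1 [h1]; simp only [mul_assoc]
    _ = 𝒮.P (z * z * x) * (𝒮.M (↑z⁻¹ * -↑(z * x)⁻¹) * 𝒮.τ (𝒮.h z)) *
          (𝒮.P (↑z⁻¹ * (z * x * (1 - z))) * 𝒮.P ((z * x : Rˣ) : R)) := by
        rw [h2]; simp only [mul_assoc]
    _ = 𝒮.τ (𝒮.h z) * 𝒮.w x := by
        rw [h5, ← h4, w, ← mul_assoc (𝒮.P _) (𝒮.τ _) (𝒮.M _), ← h3]; simp only [mul_assoc]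

lemma conj_w (t : T) (x : Rˣ) : 𝒮.τ t * 𝒮.w x * (𝒮.τ t)⁻¹ = 𝒮.w (𝒮.a t * x) := by
  have key : 𝒮.τ t * 𝒮.w x = 𝒮.w (𝒮.a t * x) * 𝒮.τ t := by
    simp only [w]
    rw [← mul_assoc, ← mul_assoc, conjP, mul_assoc (𝒮.P _) (𝒮.τ t), conjM, mul_assoc,
      mul_assoc (𝒮.M _), conjP]
    simp [mul_assoc, mul_inv, mul_comm]
  rw [key, mul_inv_cancel_right]

lemma w_torus (t : T) (x : Rˣ) :
    𝒮.w x * 𝒮.τ t * (𝒮.w x)⁻¹ = (𝒮.τ (𝒮.h (𝒮.a t)))⁻¹ * 𝒮.τ t := by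
  have h := 𝒮.conj_w t x
  rw [w_mul] at h
  have h' : 𝒮.τ t * 𝒮.w x = 𝒮.τ (𝒮.h (𝒮.a t)) * 𝒮.w x * 𝒮.τ t := mul_inv_eq_iff_eq_mul.mp h
  rw [eq_inv_mul_iff_mul_eq, ← mul_assoc, ← mul_assoc, ← h', mul_inv_cancel_right]

lemma w_mul_right (z x : Rˣ) : 𝒮.w (z * x) = 𝒮.w x * (𝒮.τ (𝒮.h z))⁻¹ := by
  have h : (𝒮.w (z * -x))⁻¹ = (𝒮.τ (𝒮.h z) * 𝒮.w (-x))⁻¹ := by rw [w_mul]
  simpa [mul_neg, w_neg, mul_inv_rev] using h

lemma w_mul_w (x y m : Rˣ) (h : m * y = -x) : 𝒮.w x * 𝒮.w y = 𝒮.τ (𝒮.h m) := by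
  have h' : x = m * -y := by rw [mul_neg, h, neg_neg]
  rw [h', w_mul, w_neg, inv_mul_cancel_right]

end RankOne

noncomputable section

open MonoidalCategory CartesianMonoidalCategory MonObj GrpObj

variable {S : Scheme.{u}} {G T : Over S} [GrpObj G] [GrpObj T]

open scoped Classical in
/-- The rank-one system on `X`-points. -/
def rankOneOfPoints (i : T ⟶ G) [IsMonHom i] (α : T ⟶ Red.Gm S) [IsMonHom α]
    (pp pm : Red.Ga S ⟶ G) [IsMonHom pp] [IsMonHom pm]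
    (hpp : ∀ (X : Over S) (t : X ⟶ T) (x : X ⟶ Red.Ga S), ∃ x' : X ⟶ Red.Ga S,
      x' ≫ pp = (t ≫ i) * (x ≫ pp) * (t ≫ i)⁻¹ ∧ Red.gaFn x' = Red.gmFn (t ≫ α) * Red.gaFn x)
    (hpm : ∀ (X : Over S) (t : X ⟶ T) (y : X ⟶ Red.Ga S), ∃ y' : X ⟶ Red.Ga S,
      y' ≫ pm = (t ≫ i) * (y ≫ pm) * (t ≫ i)⁻¹ ∧ Red.gaFn y' * Red.gmFn (t ≫ α) = Red.gaFn y)
    (av : Red.Gm S ⟶ T) [IsMonHom av] (h2 : av ≫ α = (𝟙 (Red.Gm S)) ^ 2)
    (hF : ∀ (X : Over S) (x y : X ⟶ Red.Ga S), IsUnit (1 + Red.gaFn x * Red.gaFn y) →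
      ∃ (x' y' : X ⟶ Red.Ga S) (z : X ⟶ Red.Gm S), Red.gmFn z = 1 + Red.gaFn x * Red.gaFn y ∧
        Red.gaFn x' * Red.gmFn z = Red.gaFn x ∧ Red.gaFn y' * Red.gmFn z = Red.gaFn y ∧
        (x ≫ pp) * (y ≫ pm) = (y' ≫ pm) * (z ≫ av ≫ i) * (x' ≫ pp))
    (X : Over S) : RankOne Γ(X.left, ⊤) (X ⟶ G) (X ⟶ T) where
  P r := gaMk X r ≫ pp
  M r := gaMk X r ≫ pm
  τ := MonoidHom.mk' (· ≫ i) (fun a b ↦ MonObj.mul_comp a b i)
  a t := (isUnit_gmFn (t ≫ α)).unit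
  h := MonoidHom.mk' (fun v ↦ gmMk X v ≫ av) (fun a b ↦ by
    have e : gmMk X (a * b) = gmMk X a * gmMk X b := gmFn_injective (by simp [gmFn_mul])
    rw [e, MonObj.mul_comp])
  P_add r s := by
    have e : gaMk X (r + s) = gaMk X r * gaMk X s := gaFn_injective (by simp [gaFn_mul])
    rw [e, MonObj.mul_comp]
  M_add r s := by
    have e : gaMk X (r + s) = gaMk X r * gaMk X s := gaFn_injective (by simp [gaFn_mul])
    rw [e, MonObj.mul_comp]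
  conjP t r := by
    obtain ⟨x', h1, h2⟩ := hpp X t (gaMk X r)
    have : x' = gaMk X (Red.gmFn (t ≫ α) * r) := gaFn_injective (by simpa using h2)
    rw [IsUnit.unit_spec, ← this]
    simpa [mul_inv_cancel_right] using (eq_mul_inv_iff_mul_eq.mp h1).symm
  conjM t r := by
    obtain ⟨y', h1, h2⟩ := hpm X t (gaMk X r)
    have : y' = gaMk X (↑((isUnit_gmFn (t ≫ α)).unit)⁻¹ * r) := gaFn_injective (by
      rw [gaFn_gaMk, Units.eq_inv_mul_iff_mul_eq, IsUnit.unit_spec, mul_comm]; simpa using h2)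
    rw [← this]
    exact (eq_mul_inv_iff_mul_eq.mp h1).symm
  a_h v := by
    apply Units.ext
    simp only [IsUnit.unit_spec, MonoidHom.mk'_apply, Units.val_mul]
    rw [Category.assoc, h2, MonObj.comp_pow, Category.comp_id, gmFn_pow, gmFn_gmMk, sq]
  rule r s v hv := by
    obtain ⟨x', y', z, hz, hx, hy, he⟩ := hF X (gaMk X r) (gaMk X s) (by simpa [← hv] using v.isUnit)
    have hz' : z = gmMk X v := gmFn_injective (by simpa [← hv] using hz)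
    subst hz'
    have hx' : x' = gaMk X (↑v⁻¹ * r) := gaFn_injective (by
      rw [gaFn_gaMk, Units.eq_inv_mul_iff_mul_eq, mul_comm]; simpa using hx)
    have hy' : y' = gaMk X (↑v⁻¹ * s) := gaFn_injective (by
      rw [gaFn_gaMk, Units.eq_inv_mul_iff_mul_eq, mul_comm]; simpa using hy)
    subst hx'; subst hy'
    simpa [Category.assoc] using he

lemma comp_eq_gaMk_comp {X : Over S} {Y : Over S} (x : X ⟶ Red.Ga S) (p : Red.Ga S ⟶ Y) :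
    x ≫ p = gaMk X (Red.gaFn x) ≫ p := by
  congr 1; apply gaFn_injective; simp

lemma eq_gmMk {X : Over S} (z : X ⟶ Red.Gm S) : z = gmMk X (isUnit_gmFn z).unit :=
  gmFn_injective (by simp)

end

end Groth.Reductive
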