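import Groth.Agent.Reductive.WeightKernel
import Groth.Agent.Reductive.RedRankEtale
import Groth.Agent.Reductive.RedRankBC
import Groth.Agent.Reductive.SelfCentNhd
import Groth.Agent.Reductive.TorusConjEtale
import Groth.Agent.Reductive2.CentralInTorus
import Groth.Agent.Reductive2.SubgroupDescent

/-!
# The reductive centre of an affine smooth group with connected fibres
-/

set_option autoImplicit false

universe u

open CategoryTheory Limits MonoidalCategory CartesianMonoidalCategory MonObj GrpObj AlgebraicGeometry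
open Groth.Reductive.FreeDiag

noncomputable section

namespace Groth.Reductive.RedCentre

open Groth.Reductive Groth.Reductive.RedRank

variable {S : Scheme.{u}} {G : Over S} [GrpObj G]

/-- A point of a base change on the first projection. -/
theorem bcPointEquiv_left {W : Scheme.{u}} (q : W ⟶ S) {A : Over S} [GrpObj A] {X : Over W}
    (x : X ⟶ Red.bc q A) : (bcPointEquiv q A X x).left = x.left ≫ pullback.fst A.hom q :=
  rfl

/-- Centrality is stable under base change. -/
theorem central_bc {S₁ : Scheme.{u}} (b : S₁ ⟶ S) {H : Over S} [GrpObj H] (u : H ⟶ G)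
    (hc : ∀ (X : Over S) (x : X ⟶ H) (g : X ⟶ G), (x ≫ u) * g = g * (x ≫ u))
    (X : Over S₁) (x : X ⟶ Red.bc b H) (g : X ⟶ Red.bc b G) :
    (x ≫ (Over.pullback b).map u) * g = g * (x ≫ (Over.pullback b).map u) := by
  apply (bcPointEquiv b G X).injective
  rw [map_mul, map_mul, bcPointEquiv_map']
  exact hc _ _ _

/-- Centrality is stable under isomorphisms of groups. -/
theorem central_iso {G' : Over S} [GrpObj G'] (φ : G ≅ G') [IsMonHom φ.hom] {H : Over S} (u : H ⟶ G)
    (hc : ∀ (X : Over S) (x : X ⟶ H) (g : X ⟶ G), (x ≫ u) * g = g * (x ≫ u))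
    (X : Over S) (x : X ⟶ H) (g : X ⟶ G') : (x ≫ u ≫ φ.hom) * g = g * (x ≫ u ≫ φ.hom) := by
  have h := congrArg (· ≫ φ.hom) (hc X x (g ≫ φ.inv))
  simp only [MonObj.mul_comp, Category.assoc, Iso.inv_hom_id, Category.comp_id] at h
  exact h

/-- A piece of the reductive centre: the universal property, on underlying schemes. -/
def Univ {W : Scheme.{u}} (p : W ⟶ S) {Z : Over W} (z : Z ⟶ Red.bc p G) : Prop :=
  ∀ (S'' : Scheme.{u}) (a : S'' ⟶ W) (g : S'' ⟶ S), a ≫ p = g → ∀ (H : Over S'') [GrpObj H]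
    (u : H ⟶ Red.bc g G) [IsMonHom u], SGA3x.IsMultTypeFT H →
    (∀ (X : Over S'') (x : X ⟶ H) (g' : X ⟶ Red.bc g G), (x ≫ u) * g' = g' * (x ≫ u)) →
    ∃ y : H.left ⟶ Z.left, y ≫ Z.hom = H.hom ≫ a ∧
      y ≫ z.left ≫ pullback.fst G.hom p = u.left ≫ pullback.fst G.hom g

/-- A piece of the centre contains the central points. -/
def CentralPts {W : Scheme.{u}} (p : W ⟶ S) {Z : Over W} (z : Z ⟶ Red.bc p G) : Prop :=
  ∀ (X : Over S) (a : X.left ⟶ W), a ≫ p = X.hom → ∀ (g : X ⟶ G),
    (∀ (X' : Over S) (x : X' ⟶ X) (h : X' ⟶ G), (x ≫ g) * h = h * (x ≫ g)) →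
    ∃ y : X.left ⟶ Z.left, y ≫ Z.hom = a ∧ y ≫ z.left ≫ pullback.fst G.hom p = g.left

/-- The universal property on a piece of a disjoint union lifts. -/
theorem exists_lift_piece {S' W : Scheme.{u}} (f : S' ⟶ S) (κ : W ⟶ S') (p : W ⟶ S) (hp : κ ≫ f = p)
    {Z : Over W} {z : Z ⟶ Red.bc p G} (hu : Univ p z) {U : Over S'} (t : U ⟶ Red.bc f G)
    (e : Z ⟶ Red.bc κ U) (he : e ≫ (Over.pullback κ).map t = z ≫ (isoS (bcTwo κ f p hp G)).inv)
    {S'' : Scheme.{u}} (f' : S'' ⟶ S') {H : Over S''} [GrpObj H] (v : H ⟶ Red.bc f' (Red.bc f G)) [IsMonHom v]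
    (hH : SGA3x.IsMultTypeFT H)
    (hv : ∀ (X : Over S'') (x : X ⟶ H) (g : X ⟶ Red.bc f' (Red.bc f G)), (x ≫ v) * g = g * (x ≫ v)) :
    ∃ l : pullback H.hom (pullback.fst f' κ) ⟶ U.left,
      l ≫ t.left = pullback.fst H.hom (pullback.fst f' κ) ≫ v.left ≫ pullback.fst (Red.bc f G).hom f' := by
  let g₀ : S'' ⟶ S := f' ≫ f
  let ψ := isoS (bcTwo f' f g₀ rfl G)
  haveI : IsMonHom ψ.hom := RedRank.isMonHom_isoS_hom _
  haveI : IsMonHom (v ≫ ψ.hom) := Groth.Abvar.isMonHom_comp ‹IsMonHom v› inferInstance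
  have hv₀ := central_iso ψ v hv
  let a : pullback f' κ ⟶ W := pullback.snd _ _
  let b : pullback f' κ ⟶ S'' := pullback.fst _ _
  let g : pullback f' κ ⟶ S := b ≫ g₀
  have hag : a ≫ p = g := by
    rw [← hp]
    exact (pullback.condition_assoc f).symm
  let χ := isoS (bcTwo b g₀ g rfl G)
  haveI : IsMonHom χ.hom := RedRank.isMonHom_isoS_hom _
  haveI := Groth.Abvar.isMonHom_map (f := b) (v ≫ ψ.hom)
  haveI : IsMonHom ((Over.pullback b).map (v ≫ ψ.hom) ≫ χ.hom) :=
    Groth.Abvar.isMonHom_comp ‹IsMonHom ((Over.pullback b).map (v ≫ ψ.hom))› inferInstance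
  obtain ⟨y, hy1, hy2⟩ := hu _ a g hag (Red.bc b H) ((Over.pullback b).map (v ≫ ψ.hom) ≫ χ.hom)
    (Groth.Reductive.FreeDiag.isMultTypeFT_bc hH b) (central_iso χ _ (central_bc b _ hv₀))
  refine ⟨y ≫ e.left ≫ pullback.fst U.hom κ, ?_⟩
  let φ := isoS (bcTwo κ f p hp G)
  have k1 : pullback.fst U.hom κ ≫ t.left =
      ((Over.pullback κ).map t).left ≫ pullback.fst (Red.bc f G).hom κ := (pullback.lift_fst _ _ _).symm
  have k2 : e.left ≫ ((Over.pullback κ).map t).left = z.left ≫ φ.inv.left := by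
    rw [← Over.comp_left, he, Over.comp_left]
  rw [Category.assoc, Category.assoc, k1, reassoc_of% k2]
  refine pullback.hom_ext ?_ ?_
  · have k3 : φ.inv.left ≫ pullback.fst (Red.bc f G).hom κ ≫ pullback.fst G.hom f =
        pullback.fst G.hom p := by
      rw [← bcTwo_fst κ f p hp G, ← Category.assoc, ← Over.comp_left, φ.inv_hom_id, Over.id_left,
        Category.id_comp]
    have k4 := bcTwo_fst b g₀ g rfl G
    have k5 := bcTwo_fst f' f g₀ rfl G
    have k6 : ((Over.pullback b).map (v ≫ ψ.hom)).left ≫ pullback.fst (Red.bc g₀ G).hom b =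
        pullback.fst H.hom b ≫ v.left ≫ ψ.hom.left := pullback.lift_fst _ _ _
    simp only [Category.assoc]
    erw [k3, hy2]
    rw [Over.comp_left, Category.assoc]
    erw [k4, reassoc_of% k6, k5]
  · have c1 : pullback.fst (Red.bc f G).hom κ ≫ pullback.snd G.hom f = (Red.bc κ (Red.bc f G)).hom ≫ κ :=
      pullback.condition
    have c2 : pullback.fst (Red.bc f G).hom f' ≫ pullback.snd G.hom f = (Red.bc f' (Red.bc f G)).hom ≫ f' :=
      pullback.condition
    simp only [Category.assoc]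
    erw [c1, Over.w_assoc φ.inv, Over.w_assoc z, reassoc_of% hy1, c2, Over.w_assoc v]
    show pullback.snd H.hom b ≫ a ≫ κ = pullback.fst H.hom b ≫ H.hom ≫ f'
    rw [pullback.condition_assoc, ← pullback.condition]

variable [Smooth G.hom] [IsAffineHom G.hom]

omit [Smooth G.hom] [IsAffineHom G.hom] in
/-- A split subtorus of maximal rank in every geometric fibre is maximal. -/
theorem isMaximalTorus_of_hasMax {B : Scheme.{u}} {X T : Over B} [GrpObj X] [GrpObj T] [IsAffineHom X.hom]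
    [Smooth X.hom] (v : T ⟶ X) [IsMonHom v] [Mono v] (hT : Red.IsTorus T) {r : ℕ}
    (hs : Red.IsSplitTorusWith (Fin r → ℤ) (Red.bc (𝟙 B) T))
    (h : ∀ y : B, HasMax r (Red.geomFibre y X)) : Red.IsMaximalTorus v := by
  refine ⟨inferInstance, inferInstance, hT, fun y => ?_⟩
  obtain ⟨T₀, _, i₀, hi₀, hr₀⟩ := h y
  haveI : IsAffineHom (Red.geomFibre y X).hom :=
    MorphismProperty.pullback_snd (P := @IsAffineHom) X.hom _ inferInstance
  haveI : IsAffine (Red.geomFibre y X).left := isAffine_of_isAffineHom (Red.geomFibre y X).hom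
  haveI : Smooth (Red.geomFibre y X).hom := MorphismProperty.pullback_snd _ _ inferInstance
  haveI := Groth.Abvar.isMonHom_map (f := Red.geomPt y) v
  have hsr : SplitRank r (Red.geomFibre y T) := splitRank_of_chart hT (𝟙 _) hs y
  exact (isMaxTorus_of_rank hi₀ hr₀ ((Over.pullback (Red.geomPt y)).map v) hsr le_rfl).2.2.2

omit [Smooth G.hom] [IsAffineHom G.hom] in
/-- Self-centralizing tori are stable under conjugation. -/
theorem isCentralizerOf_of_conj {B : Scheme.{u}} {X T T₂ : Over B} [GrpObj X] [GrpObj T] [GrpObj T₂]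
    (i : T ⟶ X) [IsMonHom i] [Mono i] (i₂ : T₂ ⟶ X) (g : 𝟙_ (Over B) ⟶ X) (f : T ≅ T₂)
    (hf : f.hom ≫ i₂ = (toUnit T ≫ g) * i * (toUnit T ≫ g)⁻¹) (h : Red.IsCentralizerOf i₂ i₂) :
    Red.IsCentralizerOf i i := by
  refine ⟨inferInstance, inferInstance, fun Q x => ?_⟩
  have hpt : ∀ {Y : Over B} (t : Y ⟶ T), (t ≫ f.hom) ≫ i₂ = (toUnit Y ≫ g) * (t ≫ i) * (toUnit Y ≫ g)⁻¹ :=
    fun t => by
      rw [Category.assoc, hf, MonObj.comp_mul, MonObj.comp_mul, GrpObj.comp_inv, ← Category.assoc,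
        toUnit_unique (t ≫ toUnit _) (toUnit _)]
  constructor
  · rintro ⟨z, rfl⟩ Q' y t
    have h1 := (h.2.2 Q ((z ≫ f.hom) ≫ i₂)).1 ⟨_, rfl⟩ Q' y (t ≫ f.hom)
    rw [← Category.assoc y, ← Category.assoc y z, hpt, hpt] at h1
    rw [← Category.assoc y z]
    apply (MulAut.conj (toUnit Q' ≫ g)).injective
    rw [map_mul, map_mul, MulAut.conj_apply, MulAut.conj_apply]
    exact h1
  · intro hx
    obtain ⟨z, hz⟩ := (h.2.2 Q ((toUnit Q ≫ g) * x * (toUnit Q ≫ g)⁻¹)).2 fun Q' y t => by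
      have h1 := hx Q' y (t ≫ f.inv)
      have h2 := hpt (t ≫ f.inv)
      rw [Category.assoc t, Iso.inv_hom_id, Category.comp_id] at h2
      rw [MonObj.comp_mul, MonObj.comp_mul, GrpObj.comp_inv, ← Category.assoc y,
        toUnit_unique (y ≫ toUnit _) (toUnit _), h2]
      calc ((toUnit Q' ≫ g) * (y ≫ x) * (toUnit Q' ≫ g)⁻¹) *
            ((toUnit Q' ≫ g) * ((t ≫ f.inv) ≫ i) * (toUnit Q' ≫ g)⁻¹)
          = (toUnit Q' ≫ g) * ((y ≫ x) * ((t ≫ f.inv) ≫ i)) * (toUnit Q' ≫ g)⁻¹ := by group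
        _ = (toUnit Q' ≫ g) * (((t ≫ f.inv) ≫ i) * (y ≫ x)) * (toUnit Q' ≫ g)⁻¹ := by rw [h1]
        _ = _ := by group
    refine ⟨z ≫ f.inv, ?_⟩
    have h2 := hpt (z ≫ f.inv)
    rw [Category.assoc z, Iso.inv_hom_id, Category.comp_id, hz] at h2
    exact (mul_left_cancel (mul_right_cancel h2)).symm

/-- Being self-centralizing descends to the geometric fibres of a quasi-finite base change. -/
theorem isCentralizerOf_geomFibre {W : Scheme.{u}} (q : W ⟶ S) [LocallyOfFiniteType q] [LocallyQuasiFinite q]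
    (y : W) (ψ : Spec (CommRingCat.of (AlgebraicClosure (W.residueField y))) ⟶
      Spec (CommRingCat.of (AlgebraicClosure (S.residueField (q.base y)))))
    (hψ : ψ ≫ Red.geomPt (q.base y) = Red.geomPt y ≫ q) (h0 : SGA3x.UnipotentRankZero G)
    {T : Over (Spec (CommRingCat.of (AlgebraicClosure (W.residueField y))))} [GrpObj T]
    (i : T ⟶ Red.geomFibre y (Red.bc q G)) (hi : Red.IsMaximalTorus i) : Red.IsCentralizerOf i i := by
  have hiA := (Groth.Reductive2.MaxTorus.isMaximalTorus_iff _).1 hi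
  haveI := hiA.1; haveI := hiA.2.1
  obtain ⟨r, hr⟩ := exists_splitRank hiA.2.2.1
  have hG : HasMax r (Red.geomFibre (q.base y) G) := (hasMax_bc_iff q y r).1 ⟨T, inferInstance, i, hiA, hr⟩
  obtain ⟨T₁, _, i₁, hi₁, hr₁⟩ := hG
  haveI := hi₁.1; haveI := hi₁.2.1
  have hc₁ := h0 (q.base y) T₁ i₁ ((Groth.Reductive2.MaxTorus.isMaximalTorus_iff _).2 hi₁)
  have hc₂ := Groth.Reductive.CentTorusMax.isCentralizerOf_bc ψ hc₁
  let e := isoS (bcTwo ψ (Red.geomPt (q.base y)) _ hψ G ≪≫ (bcTwo (Red.geomPt y) q _ rfl G).symm)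
  haveI : IsMonHom e.hom := RedRank.isMonHom_isoS_hom _
  haveI : IsMonHom ((Over.pullback ψ).map i₁) := Groth.Abvar.isMonHom_map (f := ψ) i₁
  haveI : IsMonHom ((Over.pullback ψ).map i₁ ≫ e.hom) := Groth.Abvar.isMonHom_comp inferInstance inferInstance
  haveI : IsAffineHom (Red.bc q G).hom := MorphismProperty.pullback_snd (P := @IsAffineHom) G.hom q inferInstance
  haveI : IsAffineHom (Red.geomFibre y (Red.bc q G)).hom :=
    MorphismProperty.pullback_snd (P := @IsAffineHom) (Red.bc q G).hom _ inferInstance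
  haveI : IsAffine (Red.geomFibre y (Red.bc q G)).left := isAffine_of_isAffineHom (Red.geomFibre y (Red.bc q G)).hom
  haveI : Smooth (Red.geomFibre y (Red.bc q G)).hom :=
    MorphismProperty.pullback_snd _ _ (MorphismProperty.pullback_snd (P := @Smooth) _ _ inferInstance)
  haveI : QuasiCompact (Red.geomFibre y (Red.bc q G)).hom := inferInstance
  have hr₂ : SplitRank r (Red.bc ψ T₁) := hr₁.bc ψ
  have hmax₂ := isMaxTorus_of_rank hiA hr ((Over.pullback ψ).map i₁ ≫ e.hom) hr₂ le_rfl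
  have hc₃ : Red.IsCentralizerOf ((Over.pullback ψ).map i₁ ≫ e.hom) ((Over.pullback ψ).map i₁ ≫ e.hom) := by
    refine ⟨inferInstance, inferInstance, fun Q x => ?_⟩
    have h := hc₂.2.2 Q (x ≫ e.inv)
    constructor
    · rintro ⟨z, rfl⟩ Q' w t
      have h1 := congrArg (· ≫ e.hom) (h.1 ⟨z, by simp⟩ Q' w t)
      simp only [MonObj.mul_comp, Category.assoc, Iso.inv_hom_id, Category.comp_id] at h1
      simpa only [Category.assoc] using h1
    · intro hx
      obtain ⟨z, hz⟩ := h.2 fun Q' w t => by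
        have h1 := congrArg (· ≫ e.inv) (hx Q' w t)
        haveI : IsMonHom e.inv := RedRank.isMonHom_isoS_inv _
        simp only [MonObj.mul_comp, Category.assoc, Iso.hom_inv_id, Category.comp_id] at h1
        simpa only [Category.assoc] using h1
      exact ⟨z, by rw [← Category.assoc, hz, Category.assoc, Iso.inv_hom_id, Category.comp_id]⟩
  obtain ⟨g, f, hf⟩ := Groth.Reductive.TorusConjEtale.exists_conj hiA hmax₂
  exact isCentralizerOf_of_conj i _ g f hf hc₃

omit [Smooth G.hom] [IsAffineHom G.hom] in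
/-- A maximal torus which is self-centralizing in every geometric fibre is its own centralizer. -/
theorem exists_factor_of_selfCent {B : Scheme.{u}} {X T : Over B} [GrpObj X] [GrpObj T] [IsAffineHom X.hom]
    [Smooth X.hom] (v : T ⟶ X) (hv : Red.IsMaximalTorus v)
    (h0 : ∀ y : B, Red.IsCentralizerOf ((Over.pullback (Red.geomPt y)).map v) ((Over.pullback (Red.geomPt y)).map v))
    {Q : Over B} (g : Q ⟶ X)
    (hg : ∀ (Q' : Over B) (x : Q' ⟶ Q) (t : Q' ⟶ T), (x ≫ g) * (t ≫ v) = (t ≫ v) * (x ≫ g)) :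
    ∃ t : Q ⟶ T, t ≫ v = g := by
  obtain ⟨him, himono, hTt, -⟩ := hv
  haveI := him; haveI := himono
  have hTm := Groth.Reductive.FreeDiag.isMultTypeFT_of_isTorus hTt
  obtain ⟨C, _, c, hcm, hcmono, hciff, hccl, hCsm⟩ := Groth.Reductive.MTInt.exists_centralizerSep
    (Groth.Reductive.MTInt.locTriv_of_multTypeFT hTm) inferInstance v
  haveI := hcm; haveI := hcmono; haveI := hccl; haveI := hCsm
  have hC : Red.IsCentralizerOf v c := ⟨hcm, hcmono, hciff⟩
  obtain ⟨j, hj⟩ := (hciff T v).mpr fun X x h => by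
    rw [← MonObj.mul_comp, ← MonObj.mul_comp,
      Groth.Reductive.MTInt.comm_of_locTriv (Groth.Reductive.MTInt.locTriv_of_multTypeFT hTm)]
  haveI : IsMonHom j := Groth.AlgGrp1.isMonHom_of_points j fun X a b => by
    rw [← cancel_mono c, MonObj.mul_comp (a ≫ j), Category.assoc, Category.assoc, Category.assoc, hj,
      MonObj.mul_comp]
  haveI : Mono j := mono_of_mono_fac hj
  obtain ⟨hTflat, hTfp⟩ := Groth.Reductive.flat_lfp_of_multTypeFT T hTm Groth.AlgSp2.flat_descendsAlong inferInstance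
  haveI := hTfp; haveI := hTflat
  have hiso : ∀ y : B, IsIso ((Over.pullback (Red.geomPt y)).map j) := fun y => by
    have hb := Groth.Reductive.CentTorusMax.isCentralizerOf_bc (Red.geomPt y) hC
    haveI := hb.2.1
    have hjc : (Over.pullback (Red.geomPt y)).map j ≫ (Over.pullback (Red.geomPt y)).map c =
        (Over.pullback (Red.geomPt y)).map v := by rw [← Functor.map_comp, hj]
    obtain ⟨t, ht⟩ := ((h0 y).2.2 _ ((Over.pullback (Red.geomPt y)).map c)).2
      ((hb.2.2 _ _).1 ⟨𝟙 _, Category.id_comp _⟩)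
    haveI := (h0 y).2.1
    refine ⟨t, ?_, ?_⟩
    · rw [← cancel_mono ((Over.pullback (Red.geomPt y)).map v), Category.assoc, ht, hjc, Category.id_comp]
    · rw [← cancel_mono ((Over.pullback (Red.geomPt y)).map c), Category.assoc, hjc, ht, Category.id_comp]
  obtain ⟨-, hloc⟩ := Groth.GrpschLoci.flat_locus_eq j
  have hpt : ∀ y : B, (Red.geomPt y).base (IsLocalRing.closedPoint _) = y := fun y => by
    rw [Scheme.Hom.comp_apply, Scheme.fromSpecResidueField_apply]
  have hflat : Flat j.left := by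
    refine (Flat.iff_flat_stalkMap _).2 fun x => ?_
    have hx : x ∈ {x : T.left | (j.left.stalkMap x).hom.Flat} := by
      rw [hloc]
      show Flat ((Over.pullback (B.fromSpecResidueField (T.hom x))).map j).left
      have h := (Groth.Reductive.FreeDiag.prop_map_fieldPoint_iff j @Flat _ (Red.geomPt (T.hom x))).1 (by
        haveI := hiso (T.hom x)
        haveI : IsIso ((Over.pullback (Red.geomPt (T.hom x))).map j).left :=
          (Over.forget _).map_isIso ((Over.pullback (Red.geomPt (T.hom x))).map j)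
        infer_instance)
      rwa [hpt] at h
    exact hx
  haveI := hflat
  haveI : LocallyOfFiniteType C.hom := inferInstance
  haveI : LocallyOfFinitePresentation (j.left ≫ C.hom) := by rw [Over.w]; infer_instance
  haveI : LocallyOfFinitePresentation j.left := Groth.PropsBasic2.lfp_of_comp _ C.hom
  haveI : Mono j.left := inferInstance
  haveI : IsOpenImmersion j.left := IsOpenImmersion.of_flat_of_mono _
  have hsurj : Function.Surjective j.left := fun x => by
    haveI := hiso (C.hom x)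
    haveI : IsIso ((Over.pullback (Red.geomPt (C.hom x))).map j).left :=
      (Over.forget _).map_isIso ((Over.pullback (Red.geomPt (C.hom x))).map j)
    obtain ⟨z, hz, -⟩ := Scheme.Pullback.exists_preimage_pullback (f := C.hom) (g := Red.geomPt (C.hom x)) x
      (IsLocalRing.closedPoint _) (hpt _).symm
    obtain ⟨z', hz'⟩ := ((Over.pullback (Red.geomPt (C.hom x))).map j).left.surjective z
    refine ⟨pullback.fst T.hom (Red.geomPt (C.hom x)) z', ?_⟩
    have e : ((Over.pullback (Red.geomPt (C.hom x))).map j).left ≫ pullback.fst C.hom (Red.geomPt (C.hom x)) =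
        pullback.fst T.hom (Red.geomPt (C.hom x)) ≫ j.left := pullback.lift_fst _ _ _
    rw [← Scheme.Hom.comp_apply, ← e, Scheme.Hom.comp_apply]
    exact (congrArg _ hz').trans hz
  haveI : Epi j.left.base := (TopCat.epi_iff_surjective _).2 hsurj
  haveI : IsIso j.left := IsOpenImmersion.isIso _
  haveI : IsIso ((Over.forget _).map j) := ‹IsIso j.left›
  haveI : IsIso j := isIso_of_reflects_iso _ (Over.forget _)
  obtain ⟨z, hz⟩ := (hciff Q g).2 hg
  exact ⟨z ≫ inv j, by rw [← hj, Category.assoc, IsIso.inv_hom_id_assoc, hz]⟩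

/-- Etale locally the reductive centre exists, split. -/
theorem exists_local (hconn : ∀ s : S, _root_.IsConnected (G.hom.base ⁻¹' {s}))
    (hr : SGA3x.RedRankLocallyConstant G) (s : S) :
    ∃ (W : Scheme.{u}) (p : W ⟶ S) (Q : Type) (_ : AddCommGroup Q) (Z : Over W) (_ : GrpObj Z)
      (z : Z ⟶ Red.bc p G), Etale p ∧ s ∈ Set.range p ∧ AddGroup.FG Q ∧
      Nonempty (Grp.mk Z ≅ Grp.mk (Red.DS W Q)) ∧ IsMonHom z ∧ Mono z ∧
      (∀ (X : Over W) (x : X ⟶ Z) (g : X ⟶ Red.bc p G), (x ≫ z) * g = g * (x ≫ z)) ∧ Univ p z ∧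
      (SGA3x.UnipotentRankZero G → CentralPts p z) := by
  classical
  obtain ⟨U, hsU, d, hd⟩ := hr s
  obtain ⟨r, hdr, hrs⟩ := (hasRedRank_iff G s d).mp (hd s hsU)
  obtain ⟨W, p, w, T, _, i, hp, hw, hi, hmono, -, ⟨e⟩⟩ := exists_torus_nbhd s hrs
  haveI := hp; haveI := hi; haveI := hmono
  obtain ⟨O, hOaff, hwO, hOU⟩ := exists_isAffineOpen_mem_and_subset
    (show w ∈ p ⁻¹ᵁ U from show p w ∈ U by rw [hw]; exact hsU)
  haveI : IsAffine O.toScheme := hOaff
  let q : O.toScheme ⟶ S := O.ι ≫ p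
  let M := Fin r → ℤ
  obtain ⟨d'⟩ := isSplit_DS_bc O.ι M
  let E₁ := bcIso O.ι e ≪≫ d'
  let c := isoS (bcTwo O.ι p q rfl G)
  haveI := Groth.Abvar.isMonHom_map (f := O.ι) i
  let v : Red.DS O.toScheme M ⟶ Red.bc q G := (isoS E₁).inv ≫ (Over.pullback O.ι).map i ≫ c.hom
  haveI : IsMonHom v := Groth.Abvar.isMonHom_comp inferInstance
    (Groth.Abvar.isMonHom_comp inferInstance inferInstance)
  haveI : Mono v := by
    haveI : Mono ((Over.pullback O.ι).map i) := inferInstance
    infer_instance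
  haveI : IsAffineHom (Red.bc q G).hom := MorphismProperty.pullback_snd (P := @IsAffineHom) G.hom q inferInstance
  haveI : Smooth (Red.bc q G).hom := MorphismProperty.pullback_snd (P := @Smooth) G.hom q inferInstance
  haveI : IsAffine (Red.bc q G).left := isAffine_of_isAffineHom (Red.bc q G).hom
  haveI hgc : GeometricallyConnected G.hom :=
    Groth.Reductive2.CentralHensel.geometricallyConnected_of_fibres G hconn
  have hconnq : ∀ t : O.toScheme,
      ConnectedSpace ↥(pullback (Red.bc q G).hom (O.toScheme.fromSpecResidueField t)) := fun t => by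
    haveI : GeometricallyConnected (Red.bc q G).hom :=
      inferInstanceAs (GeometricallyConnected (pullback.snd G.hom q))
    exact GeometricallyConnected.connectedSpace_of_subsingleton
      (f := pullback.snd (Red.bc q G).hom (O.toScheme.fromSpecResidueField t))
  have hT : Red.IsTorus (Red.DS O.toScheme M) := Groth.RedX.isTorus_DS _ M
  haveI : LocallyQuasiFinite q := Groth.SmoothSlice.locallyQuasiFinite_of_formallyUnramified' q
  have hmaxT : Red.IsMaximalTorus v := isMaximalTorus_of_hasMax v hT (isSplit_DS_bc _ M) fun y => by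
    rw [hasMax_bc_iff]
    obtain ⟨r', hr', hr''⟩ := (hasRedRank_iff G _ d).mp (hd (q.base y) (hOU y.2))
    obtain rfl : r' = r := by
      have := hr'.symm.trans hdr
      exact_mod_cast this
    exact hr''
  obtain ⟨N, V, hwV, hVcen, hVfac⟩ := WeightKernel.exists_nhd v hconnq ⟨w, hwO⟩
  let π := QuotientAddGroup.mk' N
  haveI : AddGroup.FG (M ⧸ N) := AddGroup.fg_of_surjective (f := π) (QuotientAddGroup.mk'_surjective N)
    (hG := Module.Finite.iff_addGroup_fg.mp inferInstance)
  let z₀ : Red.DS O.toScheme (M ⧸ N) ⟶ Red.bc q G := dsHom π ≫ v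
  haveI : IsMonHom (dsHom (T := O.toScheme) π) := isMonHom_dsHom π
  haveI : IsMonHom z₀ := Groth.Abvar.isMonHom_comp (isMonHom_dsHom π) ‹IsMonHom v›
  haveI : Mono (dsHom (T := O.toScheme) π) :=
    haveI := mono_dsHom (T := O.toScheme) π (QuotientAddGroup.mk'_surjective N)
    Over.mono_of_mono_left _
  haveI : Mono z₀ := mono_comp _ _
  let p' : V.toScheme ⟶ S := V.ι ≫ q
  let Z : Over V.toScheme := Red.bc V.ι (Red.DS O.toScheme (M ⧸ N))
  let c' := isoS (bcTwo V.ι q p' rfl G)
  haveI := Groth.Abvar.isMonHom_map (f := V.ι) z₀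
  let z : Z ⟶ Red.bc p' G := (Over.pullback V.ι).map z₀ ≫ c'.hom
  haveI : IsMonHom z := Groth.Abvar.isMonHom_comp ‹IsMonHom ((Over.pullback V.ι).map z₀)› inferInstance
  haveI : Mono ((Over.pullback V.ι).map z₀) := inferInstance
  refine ⟨V.toScheme, p', M ⧸ N, inferInstance, Z, inferInstance, z, inferInstance,
    ⟨⟨⟨w, hwO⟩, hwV⟩, hw⟩, inferInstance, isSplit_DS_bc _ _, inferInstance, mono_comp _ _, ?_, ?_, ?_⟩
  · refine central_iso c' _ fun X x g => ?_
    apply (bcPointEquiv V.ι (Red.bc q G) X).injective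
    rw [map_mul, map_mul, bcPointEquiv_map']
    have h := (CentralNhd.trivOn_conj_iff (u := z₀)).1 hVcen ((Over.map V.ι).obj X)
      (Over.homMk X.hom rfl) (bcPointEquiv V.ι _ X x) (bcPointEquiv V.ι _ X g)
    rw [CentralNhd.lift_conjMor, mul_inv_eq_iff_eq_mul] at h
    exact h
  · intro S'' a g hg H _ u _ hH hu
    let b : S'' ⟶ O.toScheme := a ≫ V.ι
    let φ := isoS (bcTwo b q g (by rw [Category.assoc]; exact hg) G)
    haveI : IsMonHom φ.symm.hom := RedRank.isMonHom_isoS_inv _
    have hu' := central_iso φ.symm u hu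
    haveI : IsMonHom (u ≫ φ.symm.hom) := Groth.Abvar.isMonHom_comp ‹IsMonHom u› inferInstance
    haveI : IsAffineHom (Red.bc b (Red.bc q G)).hom :=
      MorphismProperty.pullback_snd (P := @IsAffineHom) _ _ inferInstance
    haveI : Smooth (Red.bc b (Red.bc q G)).hom := MorphismProperty.pullback_snd (P := @Smooth) _ _ inferInstance
    obtain ⟨w', hw'⟩ := Groth.Reductive2.CentralInTorus.exists_factor (fun x => by
        haveI : GeometricallyConnected (Red.bc q G).hom :=
          inferInstanceAs (GeometricallyConnected (pullback.snd G.hom q))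
        haveI : GeometricallyConnected (Red.bc b (Red.bc q G)).hom :=
          inferInstanceAs (GeometricallyConnected (pullback.snd (Red.bc q G).hom b))
        exact Scheme.Hom.isConnected_preimage_singleton (Red.bc b (Red.bc q G)).hom x)
      ((Over.pullback b).map v) (isMaximalTorus_bc hmaxT b) hH (u ≫ φ.symm.hom) hu'
    let Q := (Over.map b).obj H
    let h : Q ⟶ Red.DS O.toScheme M := bcPointEquiv b _ H w'
    have hv : h ≫ v = bcPointEquiv b _ H (u ≫ φ.symm.hom) := by rw [← hw', bcPointEquiv_map']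
    obtain ⟨h', hh'⟩ := hVfac Q h (fun x => (a (H.hom x)).2) (fun W₁ w₁ g₁ => by
      let X : Over S'' := Over.mk (w₁.left ≫ H.hom)
      let c₁ : W₁ ⟶ (Over.map b).obj X := Over.homMk (𝟙 _) (by
        show 𝟙 _ ≫ (w₁.left ≫ H.hom) ≫ b = W₁.hom
        rw [Category.id_comp, Category.assoc]
        exact Over.w w₁)
      let c₂ : (Over.map b).obj X ⟶ W₁ := Over.homMk (𝟙 _) (by
        show 𝟙 _ ≫ W₁.hom = (w₁.left ≫ H.hom) ≫ b
        rw [Category.id_comp, Category.assoc]
        exact (Over.w w₁).symm)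
      let x : X ⟶ H := Over.homMk w₁.left rfl
      have h1 := congrArg (bcPointEquiv b _ X) (hu' X x ((bcPointEquiv b _ X).symm (c₂ ≫ g₁)))
      rw [map_mul, map_mul, MulEquiv.apply_symm_apply, bcPointEquiv_comp] at h1
      have h2 := congrArg (c₁ ≫ ·) h1
      simp only [MonObj.comp_mul, ← Category.assoc] at h2
      rw [show c₁ ≫ c₂ = 𝟙 W₁ from Over.OverMorphism.ext (Category.id_comp _), Category.id_comp,
        show c₁ ≫ (Over.map b).map x = w₁ from Over.OverMorphism.ext (Category.id_comp _)] at h2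
      rw [Category.assoc, hv]
      exact h2)
    refine ⟨pullback.lift h'.left (H.hom ≫ a) (by rw [Category.assoc]; exact Over.w h'),
      pullback.lift_snd _ _ _, ?_⟩
    show pullback.lift _ _ _ ≫ (((Over.pullback V.ι).map z₀).left ≫ c'.hom.left) ≫ pullback.fst G.hom p' = _
    have e1 := bcTwo_fst V.ι q p' rfl G
    have e2 : ((Over.pullback V.ι).map z₀).left ≫ pullback.fst (Red.bc q G).hom V.ι =
        pullback.fst (Red.DS O.toScheme (M ⧸ N)).hom V.ι ≫ z₀.left := pullback.lift_fst _ _ _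
    rw [Category.assoc (((Over.pullback V.ι).map z₀).left)]
    erw [e1]
    erw [reassoc_of% e2, pullback.lift_fst_assoc]
    have e3 : h'.left ≫ z₀.left = (bcPointEquiv b _ H (u ≫ φ.symm.hom)).left := by
      rw [← hv, ← Over.comp_left, ← hh', Category.assoc]
    erw [reassoc_of% e3]
    have e5 : φ.inv.left ≫ pullback.fst (Red.bc q G).hom b ≫ pullback.fst G.hom q = pullback.fst G.hom g := by
      rw [← bcTwo_fst b q g (by rw [Category.assoc]; exact hg) G, ← Category.assoc, ← Over.comp_left,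
        Iso.inv_hom_id, Over.id_left, Category.id_comp]
    rw [bcPointEquiv_left, Over.comp_left, Category.assoc, Category.assoc]
    exact congrArg (fun m => u.left ≫ m) e5
  · intro h0 X a ha g hg
    let Q : Over O.toScheme := Over.mk (a ≫ V.ι)
    let c₁ : (Over.map q).obj Q ⟶ X := Over.homMk (𝟙 X.left) (by
      show 𝟙 _ ≫ X.hom = (a ≫ V.ι) ≫ q
      rw [Category.id_comp, Category.assoc]
      exact ha.symm)
    let gO : Q ⟶ Red.bc q G := (bcPointEquiv q G Q).symm (c₁ ≫ g)
    have hgO : ∀ (Q' : Over O.toScheme) (x : Q' ⟶ Q) (h : Q' ⟶ Red.bc q G), (x ≫ gO) * h = h * (x ≫ gO) := by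
      intro Q' x h
      apply (bcPointEquiv q G Q').injective
      rw [map_mul, map_mul, bcPointEquiv_comp, MulEquiv.apply_symm_apply, ← Category.assoc]
      exact hg _ _ _
    obtain ⟨t, ht⟩ := exists_factor_of_selfCent v hmaxT (fun y => by
      obtain ⟨ψ, hψ, -⟩ := exists_geomPt_hom q y
      let T' := Red.geomFibre y (Red.DS O.toScheme M)
      haveI : IsMonHom ((Over.pullback (Red.geomPt y)).map v) := Groth.Abvar.isMonHom_map (f := Red.geomPt y) v
      have hy : Red.IsMaximalTorus ((Over.pullback (Red.geomPt y)).map v) :=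
        (Groth.Reductive2.MaxTorus.isMaximalTorus_iff _).2 ⟨inferInstance, inferInstance,
          Groth.GrpschAbsch.TorusToAbelian.isTorus_bc hT _, fun T' _ j _ _ f hT' hf => hmaxT.2.2.2 y T' j f hT' hf⟩
      exact isCentralizerOf_geomFibre q y ψ hψ h0 _ hy) gO (fun Q' x t => hgO Q' x (t ≫ v))
    obtain ⟨h', hh'⟩ := hVfac Q t (fun x => (a x).2) (fun W₁ w₁ g₁ => by
      rw [Category.assoc, ht]
      exact hgO W₁ w₁ g₁)
    refine ⟨pullback.lift h'.left a (Over.w h'), pullback.lift_snd _ _ _, ?_⟩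
    show pullback.lift _ _ _ ≫ (((Over.pullback V.ι).map z₀).left ≫ c'.hom.left) ≫ pullback.fst G.hom p' = _
    have e1 := bcTwo_fst V.ι q p' rfl G
    have e2 : ((Over.pullback V.ι).map z₀).left ≫ pullback.fst (Red.bc q G).hom V.ι =
        pullback.fst (Red.DS O.toScheme (M ⧸ N)).hom V.ι ≫ z₀.left := pullback.lift_fst _ _ _
    rw [Category.assoc (((Over.pullback V.ι).map z₀).left)]
    erw [e1]
    erw [reassoc_of% e2, pullback.lift_fst_assoc]
    have e3 : h'.left ≫ z₀.left = gO.left := by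
      rw [← ht, ← Over.comp_left, ← hh', Category.assoc]
    erw [reassoc_of% e3]
    have e4 : gO.left ≫ pullback.fst G.hom q = (bcPointEquiv q G Q gO).left := rfl
    rw [MulEquiv.apply_symm_apply] at e4
    exact e4.trans (Category.id_comp _)

/-- The pieces glue. -/
theorem exists_centre (hconn : ∀ s : S, _root_.IsConnected (G.hom.base ⁻¹' {s}))
    (hr : SGA3x.RedRankLocallyConstant G) :
    ∃ (Z : Over S) (_ : GrpObj Z) (z : Z ⟶ G), IsMonHom z ∧ Mono z ∧ SGA3x.IsMultTypeFT Z ∧
      (∀ (X : Over S) (x : X ⟶ Z) (g : X ⟶ G), (x ≫ z) * g = g * (x ≫ z)) ∧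
      Groth.Reductive2.SubDescent.IsUniv G Z z := by
  choose W p Q instQ T instT i hp hs hQ hT hi hmono hcen hu _ using exists_local hconn hr
  let f : (∐ W) ⟶ S := Sigma.desc p
  haveI := hp
  haveI : Etale f := IsZariskiLocalAtSource.sigmaDesc hp
  haveI : Surjective f := ⟨fun s => by
    obtain ⟨x, hx⟩ := hs s
    exact ⟨Sigma.ι W s x, by rw [← Scheme.Hom.comp_apply, colimit.ι_desc]; exact hx⟩⟩
  have hι : ∀ s, Sigma.ι W s ≫ f = p s := fun s => colimit.ι_desc _ _
  let φ := fun s => isoS (bcTwo (Sigma.ι W s) f (p s) (hι s) G)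
  let i' : ∀ s, T s ⟶ Red.bc (Sigma.ι W s) (Red.bc f G) := fun s => i s ≫ (φ s).symm.hom
  haveI := hi; haveI := hmono
  haveI : ∀ s, IsMonHom (φ s).symm.hom := fun s => RedRank.isMonHom_isoS_inv _
  haveI : ∀ s, IsMonHom (i' s) := fun s => Groth.Abvar.isMonHom_comp (hi s) inferInstance
  haveI : ∀ s, Mono (i' s) := fun s => inferInstance
  obtain ⟨U, _, t, htm, htmono, hU⟩ := Groth.Reductive.SigmaTorus.exists_glue (Red.bc f G) T i'
  haveI := htm; haveI := htmono
  choose e hem het using hU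
  have hMT : SGA3x.IsMultTypeFT U := by
    refine ⟨∐ W, 𝟙 _, inferInstance, inferInstance, fun V hV => ⟨V, hV.isCompact, by simp⟩, fun x => ?_⟩
    obtain ⟨⟨j, y⟩, hy⟩ := (sigmaMk W).surjective x
    rw [sigmaMk_mk] at hy
    obtain ⟨v⟩ := hT j
    haveI := hem j
    let O := (Sigma.ι W j).opensRange
    let ψ : (O : Scheme.{u}) ⟶ W j := IsOpenImmersion.lift (Sigma.ι W j) O.ι (by
      rw [Scheme.Opens.range_ι]
      exact subset_refl _)
    obtain ⟨d⟩ := isSplit_DS_bc ψ (Q j)
    exact ⟨O, ⟨y, hy⟩, Q j, instQ j, hQ j, ⟨(bcTwo ψ (Sigma.ι W j) _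
      (by rw [IsOpenImmersion.lift_fac, Category.comp_id]) U).symm ≪≫
      bcIso ψ ((Grp.mkIso' (e j)).symm ≪≫ v) ≪≫ d⟩⟩
  have hCen : ∀ (X : Over (∐ W)) (x : X ⟶ U) (g : X ⟶ Red.bc f G), (x ≫ t) * g = g * (x ≫ t) := by
    intro X x g
    refine Over.OverMorphism.ext (Scheme.Cover.hom_ext ((sigmaOpenCover W).pullback₁ X.hom) _ _ fun j => ?_)
    have h := central_iso (φ j).symm (i j) (hcen j) _ ((Over.pullback (Sigma.ι W j)).map x ≫ (e j).inv)
      ((Over.pullback (Sigma.ι W j)).map g)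
    rw [show (i j ≫ (φ j).symm.hom) = i' j from rfl, ← het j, Category.assoc, Iso.inv_hom_id_assoc,
      ← Functor.map_comp, ← Functor.map_mul, ← Functor.map_mul] at h
    have h' := congrArg (fun m => m.left ≫ pullback.fst (Red.bc f G).hom (Sigma.ι W j)) h
    simp at h'
    erw [pullback.lift_fst, pullback.lift_fst] at h'
    exact h'
  have hUniv : Groth.Reductive2.SubDescent.IsUniv (Red.bc f G) U t := by
    intro S'' f' H _ v _ hH hv
    let 𝒰 := ((sigmaOpenCover W).pullback₁ f').pullback₁ H.hom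
    have hl : ∀ j, ∃ l : 𝒰.X j ⟶ U.left, l ≫ t.left = 𝒰.f j ≫ v.left ≫ pullback.fst (Red.bc f G).hom f' :=
      fun j => exists_lift_piece f (Sigma.ι W j) (p j) (hι j) (hu j) t (e j).hom (het j) f' v hH hv
    choose l hl using hl
    obtain ⟨m, hm⟩ := Groth.Reductive.SigmaTorus.exists_factor_cover 𝒰 t.left
      (v.left ≫ pullback.fst (Red.bc f G).hom f') l hl
    have hmU : m ≫ U.hom = H.hom ≫ f' := by
      have k := pullback.condition (f := (Red.bc f G).hom) (g := f')
      rw [← Over.w t, reassoc_of% hm]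
      erw [k, Over.w_assoc v]
    refine ⟨Over.homMk (pullback.lift m H.hom hmU) (pullback.lift_snd _ _ _), ?_⟩
    refine Over.OverMorphism.ext (pullback.hom_ext ?_ ((Over.w _).trans (Over.w v).symm))
    rw [Over.comp_left, Category.assoc]
    erw [pullback.lift_fst, pullback.lift_fst_assoc]
    exact hm
  exact Groth.Reductive2.SubDescent.exists_descend
    (fun V hV => (qcCover_singleton_iff f).1 (by
      rw [← Scheme.presieve₀_mem_qcPrecoverage_iff, PreZeroHypercover.presieve₀_singleton.{u} f]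
      exact Groth.Pi1Desc.IsCover.qc) V hV) hMT hCen hUniv

/-- Unipotent rank zero implies locally constant reductive rank. -/
theorem redRankLocallyConstant_of_unipotentRankZero (hconn : ∀ s : S, _root_.IsConnected (G.hom.base ⁻¹' {s}))
    (h0 : SGA3x.UnipotentRankZero G) : SGA3x.RedRankLocallyConstant G := by
  intro s
  obtain ⟨W, p, w, r, T, _, i, hp, hw, hi, hmono, hT, O, hwO, hO⟩ := exists_selfCent_nhd (G := G) hconn s
    (fun T _ i hi X g hg => by
      obtain ⟨t, ht⟩ := ((h0 s T i hi).2.2 X g).2 hg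
      exact ⟨t, ht.symm⟩)
  haveI := hp; haveI := hi; haveI := hmono
  haveI : LocallyQuasiFinite p := Groth.SmoothSlice.locallyQuasiFinite_of_formallyUnramified' p
  refine ⟨⟨p '' O, p.isOpenMap _ O.2⟩, ⟨w, hwO, hw⟩, r, ?_⟩
  rintro _ ⟨x, hx, rfl⟩
  refine (hasRedRank_iff G _ _).mpr ⟨r, rfl, (hasMax_bc_iff p x r).mp ⟨_, inferInstance, _, hO x hx, ?_⟩⟩
  obtain ⟨v⟩ := hT
  obtain ⟨d⟩ := isSplit_DS_bc (Red.geomPt x) (Fin r → ℤ)
  exact ⟨bcIso (Red.geomPt x) v ≪≫ d⟩

/-- In unipotent rank zero the centre is the reductive centre. -/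
theorem isCentre_of_unipotentRankZero (hconn : ∀ s : S, _root_.IsConnected (G.hom.base ⁻¹' {s}))
    (h0 : SGA3x.UnipotentRankZero G) {Z : Over S} [GrpObj Z] (z : Z ⟶ G) [IsMonHom z] [Mono z]
    (hcenZ : ∀ (X : Over S) (x : X ⟶ Z) (g : X ⟶ G), (x ≫ z) * g = g * (x ≫ z))
    (hUZ : Groth.Reductive2.SubDescent.IsUniv G Z z) : Red.IsCentre z := by
  choose W p Q instQ T instT i hp hs hQ hT hi hmono hcen hu hpts using
    exists_local hconn (redRankLocallyConstant_of_unipotentRankZero hconn h0)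
  refine ⟨inferInstance, inferInstance, fun X g => ⟨?_, fun hg => ?_⟩⟩
  · rintro ⟨y, rfl⟩ X' x h
    rw [Category.comp_id, ← Category.assoc]
    exact hcenZ X' (x ≫ y) h
  · let f : (∐ W) ⟶ S := Sigma.desc p
    haveI := hp; haveI := hi; haveI := hmono
    haveI : Etale f := IsZariskiLocalAtSource.sigmaDesc hp
    haveI : Surjective f := ⟨fun s => by
      obtain ⟨x, hx⟩ := hs s
      exact ⟨Sigma.ι W s x, by rw [← Scheme.Hom.comp_apply, colimit.ι_desc]; exact hx⟩⟩
    have hι : ∀ s, Sigma.ι W s ≫ f = p s := fun s => colimit.ι_desc _ _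
    have hMT : ∀ j, SGA3x.IsMultTypeFT (T j) := fun j => by
      refine ⟨W j, 𝟙 _, inferInstance, inferInstance, fun V hV => ⟨V, hV.isCompact, by simp⟩,
        fun y => ⟨⊤, trivial, Q j, instQ j, hQ j, ?_⟩⟩
      obtain ⟨v⟩ := hT j
      obtain ⟨d⟩ := isSplit_DS_bc ((⊤ : (W j).Opens).ι ≫ 𝟙 _) (Q j)
      exact ⟨bcIso _ v ≪≫ d⟩
    have hw : ∀ j, ∃ w : T j ⟶ Red.bc (p j) Z, w ≫ (Over.pullback (p j)).map z = i j := fun j =>
      hUZ (W j) (p j) (T j) (i j) (hMT j) (hcen j)
    choose w hw using hw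
    haveI : Mono z.left := inferInstance
    let P : X.left ⟶ S := X.hom
    let π : pullback P f ⟶ X.left := pullback.fst P f
    let 𝒰 := (sigmaOpenCover W).pullback₁ (pullback.snd P f)
    have hl : ∀ j, ∃ l : 𝒰.X j ⟶ Z.left, l ≫ z.left = 𝒰.f j ≫ π ≫ g.left := fun j => by
      let a : pullback (pullback.snd P f) (Sigma.ι W j) ⟶ W j := pullback.snd _ _
      let X'' : Over S := Over.mk (a ≫ p j)
      let x : X'' ⟶ X := Over.homMk (pullback.fst (pullback.snd P f) (Sigma.ι W j) ≫ π) (by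
        show (pullback.fst (pullback.snd P f) (Sigma.ι W j) ≫ pullback.fst P f) ≫ P = a ≫ p j
        rw [Category.assoc, pullback.condition, ← Category.assoc, ← hι j, ← Category.assoc a]
        congr 1
        exact pullback.condition)
      obtain ⟨y, hy1, hy2⟩ := hpts j h0 X'' a rfl (x ≫ g) (fun X' x' h => by
        have := hg X' (x' ≫ x) h
        rw [Category.comp_id] at this
        rw [← Category.assoc]
        exact this)
      refine ⟨y ≫ (w j).left ≫ pullback.fst Z.hom (p j), ?_⟩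
      have e : ((Over.pullback (p j)).map z).left ≫ pullback.fst G.hom (p j) =
          pullback.fst Z.hom (p j) ≫ z.left := pullback.lift_fst _ _ _
      have e' : (w j).left ≫ ((Over.pullback (p j)).map z).left = (i j).left := by
        rw [← Over.comp_left, hw]
      rw [Category.assoc, Category.assoc, ← e]
      erw [reassoc_of% e', hy2]
      rw [Over.comp_left]
      exact Category.assoc _ _ _
    choose l hl using hl
    obtain ⟨m, hm⟩ := Groth.Reductive.SigmaTorus.exists_factor_cover 𝒰 z.left (π ≫ g.left) l hl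
    haveI : Groth.Pi1Desc.IsCover π := inferInstance
    haveI := Groth.Pi1Desc.IsCover.effectiveEpi π
    let y₀ : X.left ⟶ Z.left := EffectiveEpi.desc π m fun r₁ r₂ hr => by
      rw [← cancel_mono z.left, Category.assoc, Category.assoc, hm, reassoc_of% hr]
    have hy : y₀ ≫ z.left = g.left := by
      rw [← cancel_epi π, ← Category.assoc, EffectiveEpi.fac, hm]
    exact ⟨Over.homMk y₀ (by rw [← Over.w z, ← Category.assoc, hy, Over.w g]), Over.OverMorphism.ext hy⟩

end Groth.Reductive.RedCentre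

end
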