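import Groth.Agent.AlgGrp1.MaxTorus
import Groth.Agent.AlgGrp1.TorusSplit
import Groth.Agent.AlgGrp1.BorelCover
import Groth.Agent.GrpschAbsch.NeutralSet
import Groth.Agent.Reductive.TorusMT
import Groth.Agent.Reductive2.MaxTorusAlgClosed
import Groth.Agent.Calg8.IntegralDimEq
import Groth.Agent.S9332

/-!
# The rank of a torus over an algebraically closed field, and reductive ranks
-/

set_option autoImplicit false

universe u

open CategoryTheory Limits MonoidalCategory CartesianMonoidalCategory MonObj GrpObj AlgebraicGeometry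

noncomputable section

namespace Groth.Reductive.RedRank

variable {K : Type u} [Field K] [IsAlgClosed K]

/-- The group algebra of `ℤ^r` has dimension `r`. -/
theorem ringKrullDim_groupAlgebra (r : ℕ) :
    ringKrullDim (MonoidAlgebra K (Multiplicative (Fin r → ℤ))) = r := by
  let A := MonoidAlgebra K (Multiplicative (Fin r → ℤ))
  let t : Fin r → Multiplicative (Fin r → ℤ) := fun i => Multiplicative.ofAdd (Pi.single i 1)
  let s : Fin r → A := fun i => MonoidAlgebra.single (t i) 1 + MonoidAlgebra.single (t i)⁻¹ 1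
  let φ : MvPolynomial (Fin r) K →ₐ[K] A := MvPolynomial.aeval s
  letI : Algebra (MvPolynomial (Fin r) K) A := φ.toRingHom.toAlgebra
  have hs : ∀ i (b : A), b * MonoidAlgebra.single (t i)⁻¹ 1 = 0 → b = 0 := fun i b hb => by
    have := congrArg (· * MonoidAlgebra.single (t i) (1 : K)) hb
    simpa [_root_.mul_assoc, MonoidAlgebra.single_mul_single, MonoidAlgebra.one_def] using this
  have hinv : ∀ (i : Fin r) (m : Multiplicative (Fin r → ℤ)), m = t i ∨ m = (t i)⁻¹ →
      IsIntegral (MvPolynomial (Fin r) K) (MonoidAlgebra.single m (1 : K) : A) := fun i m hm => by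
    refine ⟨Polynomial.X ^ 2 - Polynomial.C (MvPolynomial.X i) * Polynomial.X + 1, by monicity!, ?_⟩
    rw [Polynomial.eval₂_add, Polynomial.eval₂_sub, Polynomial.eval₂_mul, Polynomial.eval₂_X_pow,
      Polynomial.eval₂_C, Polynomial.eval₂_X, Polynomial.eval₂_one]
    have : algebraMap (MvPolynomial (Fin r) K) A (MvPolynomial.X i) = s i :=
      MvPolynomial.aeval_X s i
    rw [this]
    rcases hm with rfl | rfl <;>
      simp [s, pow_two, add_mul, MonoidAlgebra.single_mul_single, MonoidAlgebra.one_def] <;> abel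
  haveI hint : Algebra.IsIntegral (MvPolynomial (Fin r) K) A := by
    refine ⟨fun a => ?_⟩
    have hmem : ∀ m : Fin r → ℤ,
        IsIntegral (MvPolynomial (Fin r) K) (MonoidAlgebra.single (Multiplicative.ofAdd m) (1 : K) : A) := by
      intro m
      have h1 : ∀ (i : Fin r) (n : ℤ), IsIntegral (MvPolynomial (Fin r) K)
          (MonoidAlgebra.single (Multiplicative.ofAdd (Pi.single i n : Fin r → ℤ)) (1 : K) : A) := by
        intro i n
        obtain ⟨k, rfl | rfl⟩ := Int.eq_nat_or_neg n
        · rw [show (Pi.single i (k : ℤ) : Fin r → ℤ) = k • Pi.single i 1 by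
            rw [← Pi.single_smul', nsmul_one], ofAdd_nsmul,
            show (MonoidAlgebra.single (t i ^ k) (1 : K) : A) = MonoidAlgebra.single (t i) 1 ^ k by
              rw [MonoidAlgebra.single_pow, one_pow]]
          exact (hinv i _ (Or.inl rfl)).pow k
        · rw [show (Pi.single i (-(k : ℤ)) : Fin r → ℤ) = k • (-Pi.single i 1) by
            rw [← Pi.single_neg, ← Pi.single_smul']; simp, ofAdd_nsmul, ofAdd_neg,
            show (MonoidAlgebra.single ((t i)⁻¹ ^ k) (1 : K) : A) = MonoidAlgebra.single (t i)⁻¹ 1 ^ k by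
              rw [MonoidAlgebra.single_pow, one_pow]]
          exact (hinv i _ (Or.inr rfl)).pow k
      rw [← Finset.univ_sum_single m, ofAdd_sum]
      induction (Finset.univ : Finset (Fin r)) using Finset.induction_on with
      | empty =>
        rw [Finset.prod_empty, ← MonoidAlgebra.one_def]
        exact isIntegral_one
      | insert i t hit ih =>
        rw [Finset.prod_insert hit, show (1 : K) = 1 * 1 from (_root_.one_mul _).symm,
          ← MonoidAlgebra.single_mul_single]
        exact (h1 i _).mul ih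
    induction a using MonoidAlgebra.induction_on with
    | of g => exact hmem (Multiplicative.toAdd g)
    | add x y hx hy => exact hx.add hy
    | smul c x hx =>
      rw [Algebra.smul_def, IsScalarTower.algebraMap_apply K (MvPolynomial (Fin r) K) A]
      exact isIntegral_algebraMap.mul hx
  have hinj : Function.Injective (algebraMap (MvPolynomial (Fin r) K) A) := by
    refine (injective_iff_map_eq_zero _).2 fun p hp => MvPolynomial.funext fun a => ?_
    rw [map_zero]
    have hroot : ∀ i, ∃ u : Kˣ, (u : K) + ((u⁻¹ : Kˣ) : K) = a i := fun i => by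
      obtain ⟨z, hz⟩ := IsAlgClosed.exists_root (Polynomial.X ^ 2 - Polynomial.C (a i) * Polynomial.X + 1)
        (by
          rw [show (Polynomial.X ^ 2 - Polynomial.C (a i) * Polynomial.X + 1 : Polynomial K).degree = 2 by
            compute_degree!]
          decide)
      simp only [Polynomial.IsRoot.def, Polynomial.eval_add, Polynomial.eval_sub, Polynomial.eval_pow,
        Polynomial.eval_X, Polynomial.eval_mul, Polynomial.eval_C, Polynomial.eval_one] at hz
      have hz0 : z ≠ 0 := fun h => by simp [h] at hz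
      refine ⟨Units.mk0 z hz0, ?_⟩
      simp only [Units.val_mk0, Units.val_inv_eq_inv_val]
      field_simp
      linear_combination hz
    choose u hu using hroot
    let χ : Multiplicative (Fin r → ℤ) →* K :=
      { toFun := fun m => ((∏ i, u i ^ (Multiplicative.toAdd m i) : Kˣ) : K)
        map_one' := by simp
        map_mul' := fun x y => by simp [zpow_add, Finset.prod_mul_distrib] }
    let ev : A →ₐ[K] K := MonoidAlgebra.lift K K _ χ
    have hev : ∀ i, ev (s i) = a i := fun i => by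
      have e1 : χ (t i) = u i := by
        show ((∏ j, u j ^ (Pi.single i (1 : ℤ) : Fin r → ℤ) j : Kˣ) : K) = _
        rw [Finset.prod_eq_single i (fun j _ hj => by rw [Pi.single_eq_of_ne hj, zpow_zero])
          (fun h => absurd (Finset.mem_univ i) h), Pi.single_eq_same, zpow_one]
      have e2 : χ (t i)⁻¹ = ((u i)⁻¹ : Kˣ) := by
        show ((∏ j, u j ^ (-(Pi.single i (1 : ℤ) : Fin r → ℤ)) j : Kˣ) : K) = _
        rw [Finset.prod_eq_single i (fun j _ hj => by rw [Pi.neg_apply, Pi.single_eq_of_ne hj, neg_zero, zpow_zero])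
          (fun h => absurd (Finset.mem_univ i) h), Pi.neg_apply, Pi.single_eq_same, zpow_neg_one]
      show MonoidAlgebra.lift K K _ χ (MonoidAlgebra.single (t i) 1 + MonoidAlgebra.single (t i)⁻¹ 1) = a i
      rw [map_add, MonoidAlgebra.lift_single, MonoidAlgebra.lift_single, e1, e2, _root_.one_smul, _root_.one_smul]
      exact hu i
    have := congrArg ev (show φ p = 0 from hp)
    rw [map_zero] at this
    rw [← this, ← AlgHom.comp_apply, MvPolynomial.comp_aeval]
    simp only [hev]
    rfl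
  rw [Groth.Calg8.ringKrullDim_eq_of_integral (MvPolynomial (Fin r) K) A hinj,
    MvPolynomial.ringKrullDim_of_isNoetherianRing, ringKrullDim_eq_zero_of_field]
  simp

/-- The isomorphism of schemes underlying an isomorphism of groups. -/
def isoOf {A B : Over (Spec (CommRingCat.of K))} [GrpObj A] [GrpObj B] (w : Grp.mk A ≅ Grp.mk B) : A ≅ B :=
  ⟨w.hom.hom.hom, w.inv.hom.hom, congrArg (fun z ↦ z.hom.hom) w.hom_inv_id,
    congrArg (fun z ↦ z.hom.hom) w.inv_hom_id⟩

instance isMonHom_isoOf_hom {A B : Over (Spec (CommRingCat.of K))} [GrpObj A] [GrpObj B]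
    (w : Grp.mk A ≅ Grp.mk B) : IsMonHom (isoOf w).hom := inferInstanceAs (IsMonHom w.hom.hom.hom)

instance isMonHom_isoOf_inv {A B : Over (Spec (CommRingCat.of K))} [GrpObj A] [GrpObj B]
    (w : Grp.mk A ≅ Grp.mk B) : IsMonHom (isoOf w).inv := inferInstanceAs (IsMonHom w.inv.hom.hom)

/-- `T` is the split torus of rank `r`. -/
def SplitRank (r : ℕ) (T : Over (Spec (CommRingCat.of K))) [GrpObj T] : Prop :=
  Red.IsSplitTorusWith (Fin r → ℤ) T

theorem exists_splitRank {T : Over (Spec (CommRingCat.of K))} [GrpObj T] (hT : Red.IsTorus T) :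
    ∃ r, SplitRank r T := by
  obtain ⟨r, e, he⟩ := Groth.AlgGrp1.exists_diag_iso_of_isTorus hT
  let e0 : Red.diag K (Fin r → ℤ) ≅ T := e
  haveI : IsMonHom e0.hom := he
  exact ⟨r, ⟨(Grp.mkIso' e0).symm ≪≫ Grp.mkIso' (Groth.AlgGrp2.diagIsoDS K (Fin r → ℤ))⟩⟩

theorem topologicalKrullDim_of_splitRank {T : Over (Spec (CommRingCat.of K))} [GrpObj T] {r : ℕ}
    (h : SplitRank r T) : topologicalKrullDim ↥T.left = r := by
  obtain ⟨w⟩ := h
  let e : T ≅ Red.diag K (Fin r → ℤ) :=
    isoOf w ≪≫ (Groth.AlgGrp2.diagIsoDS K (Fin r → ℤ)).symm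
  haveI : IsIso e.hom.left := inferInstanceAs (IsIso ((Over.forget _).map e.hom))
  rw [IsHomeomorph.topologicalKrullDim_eq _ (Scheme.Hom.homeomorph e.hom.left).isHomeomorph]
  show topologicalKrullDim (PrimeSpectrum (MonoidAlgebra K (Multiplicative (Fin r → ℤ)))) = r
  rw [PrimeSpectrum.topologicalKrullDim_eq_ringKrullDim, ringKrullDim_groupAlgebra]

theorem isTorus_of_splitRank {T : Over (Spec (CommRingCat.of K))} [GrpObj T] {r : ℕ}
    (h : SplitRank r T) : Red.IsTorus T := by
  obtain ⟨w⟩ := h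
  let e : Red.diag K (Fin r → ℤ) ≅ T :=
    Groth.AlgGrp2.diagIsoDS K (Fin r → ℤ) ≪≫ (isoOf w).symm
  refine Groth.AlgGrp1.isTorus_of_diag_iso e ?_
  simp only [e, Iso.trans_hom, Iso.symm_hom]
  infer_instance

/-- A monomorphism of split tori does not lower the rank. -/
theorem le_of_mono {T T' : Over (Spec (CommRingCat.of K))} [GrpObj T] [GrpObj T'] {r r' : ℕ}
    (h : SplitRank r T) (h' : SplitRank r' T') (f : T ⟶ T') [IsMonHom f] [Mono f] : r ≤ r' := by
  obtain ⟨w⟩ := h
  obtain ⟨w'⟩ := h'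
  let i := isoOf w
  let i' := isoOf w'
  obtain ⟨a, ha⟩ := Groth.Reductive.FreeDiag.exists_dsHom_eq (i.inv ≫ f ≫ i'.hom)
  haveI : Mono (Groth.Reductive.FreeDiag.dsHom (T := Spec (CommRingCat.of K)) a).left := by
    rw [← ha]
    haveI : Mono (i.inv ≫ f ≫ i'.hom) := inferInstance
    exact (Over.forget _).map_mono (i.inv ≫ f ≫ i'.hom)
  have hs := Groth.Reductive.FreeDiag.surjective_of_mono_dsHom (K := K) a
  have := LinearMap.finrank_le_finrank_of_surjective (f := a.toIntLinearMap) hs
  simpa using this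

theorem isIso_of_mono {T T' : Over (Spec (CommRingCat.of K))} [GrpObj T] [GrpObj T'] {r : ℕ}
    (h : SplitRank r T) (h' : SplitRank r T') (f : T ⟶ T') [IsMonHom f] [Mono f] : IsIso f := by
  obtain ⟨w⟩ := h
  obtain ⟨w'⟩ := h'
  haveI : IsIso ((Over.forget _).map f) :=
    Groth.Reductive.FreeDiag.isIso_of_mono_of_split w w' f
  exact isIso_of_reflects_iso f (Over.forget _)

variable {G : Over (Spec (CommRingCat.of K))} [GrpObj G] [IsAffine G.left] [Smooth G.hom]

/-- Every subtorus embeds into a given maximal torus. -/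
theorem exists_mono_into_maxTorus {T₀ T' : Over (Spec (CommRingCat.of K))} [GrpObj T₀] [GrpObj T']
    {i₀ : T₀ ⟶ G} (h₀ : AGF.IsMaxTorus i₀) (j : T' ⟶ G) [IsMonHom j] [Mono j] (hT' : Red.IsTorus T') :
    ∃ f : T' ⟶ T₀, IsMonHom f ∧ Mono f := by
  obtain ⟨H, _, i, hi, hopen, hr, hc⟩ := Groth.GrpschAbsch.NeutralSet.exists_neutral_openSubgroup G
  haveI := hi; haveI := hopen; haveI := hc
  haveI hcl : IsClosedImmersion i.left :=
    IsClosedImmersion.of_isPreimmersion i.left (by rw [hr]; exact isClosed_connectedComponent)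
  haveI : IsAffine H.left := isAffine_of_isAffineHom i.left
  haveI : Smooth H.hom := by rw [← Over.w i]; infer_instance
  haveI : Mono i := Over.mono_of_mono_left i
  have lft : ∀ {T : Over (Spec (CommRingCat.of K))} [GrpObj T] (j : T ⟶ G) [IsMonHom j],
      Red.IsTorus T → ∃ j₀ : T ⟶ H, j₀ ≫ i = j ∧ IsMonHom j₀ := by
    intro T _ j _ hT
    obtain ⟨_, _, hconn⟩ := Groth.AlgGrp1.isAffine_smooth_connected_of_isTorus hT
    have hsub : Set.range j.left ⊆ Set.range i.left := by
      rw [hr]
      refine (isPreconnected_range j.left.continuous).subset_connectedComponent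
        ⟨η[T].left (IsLocalRing.closedPoint K), ?_⟩
      exact congr(($(IsMonHom.one_hom j)).left.base (IsLocalRing.closedPoint K))
    let j₀ : T ⟶ H := Over.homMk (IsOpenImmersion.lift i.left j.left hsub) (by
      rw [← Over.w i, IsOpenImmersion.lift_fac_assoc, Over.w j])
    have hf : j₀ ≫ i = j := Over.OverMorphism.ext (IsOpenImmersion.lift_fac _ _ _)
    refine ⟨j₀, hf, Groth.AlgGrp1.isMonHom_of_points _ fun X a b => ?_⟩
    rw [← cancel_mono i, Category.assoc, hf, MonObj.mul_comp, MonObj.mul_comp, Category.assoc, hf,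
      Category.assoc, hf]
  obtain ⟨hm₀, hmo₀, ht₀, hmax₀⟩ := h₀
  haveI := hm₀; haveI := hmo₀
  obtain ⟨a₀, ha₀, hma₀⟩ := lft i₀ ht₀
  obtain ⟨a', ha', hma'⟩ := lft j hT'
  haveI := hma₀; haveI := hma'
  haveI : Mono a₀ := mono_of_mono_fac ha₀
  haveI : Mono a' := mono_of_mono_fac ha'
  have hA₀ : AGF.IsMaxTorus a₀ := ⟨hma₀, inferInstance, ht₀,
    fun Y _ y _ _ f hY hf => hmax₀ Y (y ≫ i) f hY (by rw [reassoc_of% hf, ha₀])⟩
  obtain ⟨B, _, iB, _, X, a, o, hB, -, -⟩ := Groth.AlgGrp1.exists_borel_proper (G := H)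
  haveI : IsClosedImmersion iB.left := hB.2.1
  obtain ⟨W, _, s, hsm, hsc, hW, -, habs⟩ := Groth.AlgGrp1.exists_torus_absorbing_of_borel hB
  haveI := hB.1
  haveI := hsm; haveI := hsc
  haveI : IsClosedImmersion (s ≫ iB).left := by rw [Over.comp_left]; infer_instance
  haveI : IsMonHom (s ≫ iB) := Groth.Abvar.isMonHom_comp hsm hB.1
  haveI : Mono (s ≫ iB) := Over.mono_of_mono_left _
  obtain ⟨-, hall⟩ := Groth.AlgGrp1.isMaxTorus_of_absorbing (s ≫ iB) hW habs
  obtain ⟨x, e, he⟩ := hall T₀ a₀ hA₀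
  obtain ⟨y, f, hf⟩ := habs T' a' hT'
  haveI hxm : IsMonHom (AGF.conjBy x⁻¹ (s ≫ iB)) := Groth.AlgGrp1.isMonHom_conjBy _ _
  haveI := Groth.AlgGrp1.isMonHom_conjBy y a'
  haveI := Groth.AlgGrp1.mono_conjBy y a'
  haveI : Mono f := mono_of_mono_fac hf
  have hfm : IsMonHom f := Groth.AlgGrp1.isMonHom_of_points f fun Z p q => by
    rw [← cancel_mono (s ≫ iB), Category.assoc, hf, MonObj.mul_comp, MonObj.mul_comp, Category.assoc, hf,
      Category.assoc, hf]
  haveI := hfm
  haveI := Groth.AlgGrp1.isMonHom_conjBy x a₀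
  haveI : IsMonHom e.hom := Groth.AlgGrp1.isMonHom_of_points e.hom fun Z p q => by
    rw [← cancel_mono (s ≫ iB), Category.assoc, he, MonObj.mul_comp, MonObj.mul_comp, Category.assoc, he,
      Category.assoc, he]
  exact ⟨f ≫ e.inv, Groth.Abvar.isMonHom_comp hfm inferInstance, inferInstance⟩

theorem le_of_maxTorus {T₀ T' : Over (Spec (CommRingCat.of K))} [GrpObj T₀] [GrpObj T']
    {i₀ : T₀ ⟶ G} (h₀ : AGF.IsMaxTorus i₀) {r r' : ℕ} (hr : SplitRank r T₀) (j : T' ⟶ G) [IsMonHom j]
    [Mono j] (hr' : SplitRank r' T') : r' ≤ r := by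
  obtain ⟨f, hfm, hfo⟩ := exists_mono_into_maxTorus h₀ j (isTorus_of_splitRank hr')
  exact le_of_mono hr' hr f

/-- A subtorus of maximal rank is a maximal torus. -/
theorem isMaxTorus_of_rank {T₀ T : Over (Spec (CommRingCat.of K))} [GrpObj T₀] [GrpObj T]
    {i₀ : T₀ ⟶ G} (h₀ : AGF.IsMaxTorus i₀) {r r' : ℕ} (hr : SplitRank r T₀) (i : T ⟶ G) [IsMonHom i]
    [Mono i] (hT : SplitRank r' T) (hle : r ≤ r') : AGF.IsMaxTorus i := by
  refine ⟨inferInstance, inferInstance, isTorus_of_splitRank hT, fun T' _ j _ _ f hT' hf => ?_⟩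
  haveI : Mono f := mono_of_mono_fac hf
  haveI : IsMonHom f := Groth.AlgGrp1.isMonHom_of_points f fun Z p q => by
    rw [← cancel_mono j, Category.assoc, hf, MonObj.mul_comp, MonObj.mul_comp, Category.assoc, hf,
      Category.assoc, hf]
  obtain ⟨r'', hr''⟩ := exists_splitRank hT'
  have h1 := le_of_maxTorus h₀ hr j hr''
  have h2 := le_of_mono hT hr'' f
  obtain rfl : r' = r'' := by omega
  exact isIso_of_mono hT hr'' f

end Groth.Reductive.RedRank

end
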