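import Groth.Agent.Reductive.TrivialLocus
import Groth.Agent.Reductive.TrivialActionFibres
import Groth.Agent.Hopf.Cochar.MaxRank
import Groth.Agent.AlgGrp1.Basic

/-!
A homomorphism from a diagonalisable group with torsion free characters into a group scheme, which
need not be separated, is trivial near every point where it is trivial.
-/

set_option autoImplicit false
universe u

open CategoryTheory MonoidalCategory CartesianMonoidalCategory MonObj GrpObj AlgebraicGeometry

noncomputable section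

namespace Groth.Reductive.RigidNhd

open Groth.Reductive.FreeDiag

attribute [local instance] algΓ'

/-- A product with small coefficients whose second factor has a unit coefficient has a small first
factor. -/
theorem coeff_mem_of_mul {R : Type*} [CommRing R] {G : Type*} [Mul G] [UniqueProds G]
    (g F : MonoidAlgebra R G) (N : Ideal R) (hu : ∃ b, IsUnit (F.coeff b))
    (hsmall : ∀ b, ¬ IsUnit (F.coeff b) → ∀ a, g.coeff a * F.coeff b ∈ N)
    (h : ∀ x, (g * F).coeff x ∈ N) : ∀ a, g.coeff a ∈ N := by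
  classical
  by_contra! hc
  obtain ⟨a₁, ha₁⟩ := hc
  have hA : (g.coeff.support.filter fun a ↦ g.coeff a ∉ N).Nonempty := by
    refine ⟨a₁, Finset.mem_filter.mpr ⟨Finsupp.mem_support_iff.mpr fun e ↦ ha₁ ?_, ha₁⟩⟩
    rw [e]
    exact N.zero_mem
  have hB : (F.coeff.support.filter fun b ↦ IsUnit (F.coeff b)).Nonempty := by
    obtain ⟨b₁, hb₁⟩ := hu
    refine ⟨b₁, Finset.mem_filter.mpr ⟨Finsupp.mem_support_iff.mpr fun e ↦ ha₁ ?_, hb₁⟩⟩
    have h01 : (1 : R) = 0 := ((isUnit_zero_iff).mp (e ▸ hb₁)).symm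
    rw [← _root_.mul_one (g.coeff a₁), h01, MulZeroClass.mul_zero]
    exact N.zero_mem
  obtain ⟨a, ha, b, hb, huniq⟩ := UniqueProds.uniqueMul_of_nonempty hA hB
  have haN : g.coeff a ∉ N := (Finset.mem_filter.mp ha).2
  have hbU : IsUnit (F.coeff b) := (Finset.mem_filter.mp hb).2
  let φ : G × G → R := fun p ↦ if p.1 * p.2 = a * b then g.coeff p.1 * F.coeff p.2 else 0
  have hsum : (g * F).coeff (a * b) = ∑ p ∈ g.coeff.support ×ˢ F.coeff.support, φ p := by
    rw [MonoidAlgebra.coeff_mul, Finset.sum_product]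
    rfl
  have hp : (a, b) ∈ g.coeff.support ×ˢ F.coeff.support :=
    Finset.mem_product.mpr ⟨Finset.mem_of_mem_filter _ ha, Finset.mem_of_mem_filter _ hb⟩
  have hrest : ∑ p ∈ (g.coeff.support ×ˢ F.coeff.support).erase (a, b), φ p ∈ N := by
    refine N.sum_mem fun p hp' ↦ ?_
    obtain ⟨hne, hp'⟩ := Finset.mem_erase.mp hp'
    obtain ⟨h₁, h₂⟩ := Finset.mem_product.mp hp'
    by_cases he : p.1 * p.2 = a * b
    · simp only [φ, if_pos he]
      by_cases hB' : IsUnit (F.coeff p.2)
      · by_cases hA' : g.coeff p.1 ∈ N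
        · exact N.mul_mem_right _ hA'
        · obtain ⟨e₁, e₂⟩ := huniq (Finset.mem_filter.mpr ⟨h₁, hA'⟩)
            (Finset.mem_filter.mpr ⟨h₂, hB'⟩) he
          exact (hne (Prod.ext e₁ e₂)).elim
      · exact hsmall _ hB' _
    · simp only [φ, if_neg he]
      exact N.zero_mem
  have hab := h (a * b)
  rw [hsum, ← Finset.add_sum_erase _ φ hp, N.add_mem_iff_left hrest] at hab
  simp only [φ, if_pos] at hab
  exact haN ((Ideal.mul_unit_mem_iff_mem _ hbU).mp hab)

variable {T : Scheme.{u}}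

theorem ι_appTop_topIso {X : Scheme.{u}} (U : X.Opens) :
    U.ι.appTop ≫ U.topIso.hom = X.presheaf.map (homOfLE (le_top : U ≤ ⊤)).op := by
  rw [Scheme.Opens.ι_appTop, Scheme.Opens.topIso_hom]
  exact (Functor.map_comp _ _ _).symm.trans (congrArg X.presheaf.map (Subsingleton.elim _ _))

theorem ι_appTop_eq {X : Scheme.{u}} (U : X.Opens) :
    U.ι.appTop = X.presheaf.map (homOfLE (le_top : U ≤ ⊤)).op ≫ U.topIso.inv := by
  rw [← ι_appTop_topIso, Category.assoc, Iso.hom_inv_id, Category.comp_id]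

/-- Kernels on an affine open on which they are closed. -/
theorem exists_local_equations [IsAffine T] {G D : Over T} [GrpObj G] [IsAffine D.left]
    (u : D ⟶ G) [LocallyOfFinitePresentation G.hom] (x : 𝟙_ (Over T) ⟶ D) (hx : x ≫ u = 1)
    (t : T) :
    ∃ (f : Γ(D.left, ⊤)) (ts : Finset Γ(D.left, ⊤)), t ∈ T.basicOpen (x.left.appTop f) ∧
      (∀ (Z : Over T) (h : Z ⟶ D), IsUnit (h.left.appTop f) → (∀ r ∈ ts, h.left.appTop r = 0) →
        h ≫ u = 1) ∧
      ∀ (Z : Over T) (h : Z ⟶ D), IsAffine Z.left → h ≫ u = 1 → ∀ r ∈ ts,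
        ∃ N : ℕ, h.left.appTop f ^ N * h.left.appTop r = 0 := by
  classical
  have hone : ∀ (Z : Over T), ((1 : Z ⟶ G)).left = Z.hom ≫ η[G].left := fun Z ↦ by
    rw [Hom.one_def, Over.comp_left]
    rfl
  have hη : η[G].left ≫ G.hom = 𝟙 _ := Over.w η[G]
  haveI : IsImmersion η[G].left := by
    haveI : IsImmersion (η[G].left ≫ G.hom) := by rw [hη]; exact inferInstanceAs (IsImmersion (𝟙 _))
    exact IsImmersion.of_comp η[G].left G.hom
  haveI : LocallyOfFinitePresentation η[G].left := by
    haveI : LocallyOfFinitePresentation (η[G].left ≫ G.hom) := by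
      rw [hη]; exact inferInstanceAs (LocallyOfFinitePresentation (𝟙 _))
    exact Groth.PropsBasic2.lfp_of_comp η[G].left G.hom
  let k := Limits.pullback.fst u.left η[G].left
  haveI : IsImmersion k := MorphismProperty.pullback_fst _ _ ‹_›
  haveI : LocallyOfFinitePresentation k := MorphismProperty.pullback_fst _ _ ‹_›
  -- the given point lies in the open where the kernel is closed
  have hpt : x.left t ∈ Set.range k := by
    have e : x.left ≫ u.left = (𝟙_ (Over T)).hom ≫ η[G].left := by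
      rw [← Over.comp_left, hx, hone]
    refine ⟨(Limits.pullback.lift x.left _ e) t, ?_⟩
    rw [← Scheme.Hom.comp_apply, Limits.pullback.lift_fst]
  obtain ⟨f, hfW, hft⟩ := (isAffineOpen_top D.left).exists_basicOpen_le
    (V := k.coborderRange) ⟨x.left t, subset_coborder hpt⟩ trivial
  let U := D.left.basicOpen f
  haveI : IsAffine (U : Scheme.{u}) := (isAffineOpen_top D.left).basicOpen f
  let kU := k ∣_ U
  haveI : IsImmersion kU := IsZariskiLocalAtTarget.restrict ‹IsImmersion k› U
  haveI : LocallyOfFinitePresentation kU :=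
    IsZariskiLocalAtTarget.restrict ‹LocallyOfFinitePresentation k› U
  haveI : IsClosedImmersion kU := by
    refine IsClosedImmersion.of_isPreimmersion kU ?_
    have hr : Set.range kU = Subtype.val ⁻¹' Set.range k := by
      ext y
      constructor
      · rintro ⟨z, rfl⟩
        refine ⟨(k ⁻¹ᵁ U).ι z, ?_⟩
        show k ((k ⁻¹ᵁ U).ι z) = U.ι (kU z)
        rw [← Scheme.Hom.comp_apply, ← Scheme.Hom.comp_apply, morphismRestrict_ι]
      · rintro ⟨z, hz⟩
        refine ⟨⟨z, show k z ∈ U from hz ▸ y.2⟩, Subtype.ext ?_⟩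
        refine Eq.trans ?_ hz
        show U.ι (kU _) = k _
        rw [← Scheme.Hom.comp_apply, morphismRestrict_ι]
        rfl
    rw [hr]
    exact (isClosed_preimage_val_coborder (s := Set.range k)).preimage
      (continuous_inclusion (show (U : Set D.left) ⊆ (k.coborderRange : Set D.left) from hfW))
  haveI : IsAffine ((k ⁻¹ᵁ U : _) : Scheme.{u}) := isAffine_of_isAffineHom kU
  -- equations
  have hfg : (RingHom.ker kU.appTop.hom).FG := by
    letI := kU.appTop.hom.toAlgebra
    haveI : Algebra.FinitePresentation Γ(U, ⊤) Γ(k ⁻¹ᵁ U, ⊤) := kU.finitePresentation_appTop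
    exact Algebra.FinitePresentation.ker_fG_of_surjective (Algebra.ofId _ _)
      (kU.app_surjective ⊤ (isAffineOpen_top _))
  obtain ⟨gs, hgs⟩ := hfg
  let res : Γ(D.left, ⊤) →+* Γ(U, ⊤) := U.ι.appTop.hom
  have hnum : ∀ g : Γ(U, ⊤), ∃ (a : Γ(D.left, ⊤)) (v : Γ(U, ⊤)), IsUnit v ∧ res a = g * v := by
    intro g
    haveI := (isAffineOpen_top D.left).isLocalization_basicOpen f
    obtain ⟨⟨a, ⟨s, n, rfl⟩⟩, e⟩ :=
      IsLocalization.surj (Submonoid.powers f) (U.topIso.hom g)
    have hres : ∀ b, res b = U.topIso.inv (D.left.presheaf.map (homOfLE (le_top : U ≤ ⊤)).op b) := by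
      intro b
      have := ι_appTop_eq U
      exact ConcreteCategory.congr_hom this b
    refine ⟨a, res (f ^ n), ?_, ?_⟩
    · rw [map_pow]
      refine IsUnit.pow n ?_
      rw [hres]
      exact (RingedSpace.isUnit_res_basicOpen D.left.toRingedSpace f).map _
    · rw [hres, hres]
      refine ((congrArg U.topIso.inv.hom e).symm).trans ?_
      rw [map_mul]
      congr 1
      exact ConcreteCategory.congr_hom U.topIso.hom_inv_id g
  choose a v hv hav using hnum
  refine ⟨f, gs.image a, ?_, ?_, ?_⟩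
  · rw [← Scheme.preimage_basicOpen_top]
    exact hft
  · intro Z h hu hts
    have hrange : Set.range h.left ⊆ Set.range U.ι := by
      rw [Scheme.Opens.range_ι]
      rintro _ ⟨z, rfl⟩
      show z ∈ h.left ⁻¹ᵁ D.left.basicOpen f
      rw [Scheme.preimage_basicOpen_top, Scheme.basicOpen_of_isUnit _ hu]
      trivial
    let h' := IsOpenImmersion.lift U.ι h.left hrange
    have hh' : h' ≫ U.ι = h.left := IsOpenImmersion.lift_fac _ _ _
    obtain ⟨l, hl⟩ := exists_lift_of_appTop_ker kU h' (fun r hr ↦ by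
      have hr' : r ∈ Ideal.span (gs : Set Γ(U, ⊤)) := hgs.symm ▸ hr
      refine (Ideal.span_le (I := RingHom.ker h'.appTop.hom)).mpr (fun g hg ↦ ?_) hr'
      show h'.appTop g = 0
      have e : h'.appTop (res (a g)) = 0 := by
        show (U.ι.appTop ≫ h'.appTop) (a g) = 0
        rw [← Scheme.Hom.comp_appTop, hh']
        exact hts _ (Finset.mem_image_of_mem a hg)
      rw [hav, map_mul] at e
      exact ((hv g).map h'.appTop.hom).mul_left_eq_zero.mp e)
    have e0 : h.left ≫ u.left = (l ≫ (k ⁻¹ᵁ U).ι ≫ Limits.pullback.snd u.left η[G].left) ≫ η[G].left := by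
      rw [← hh', ← hl, Category.assoc, Category.assoc, Category.assoc, Category.assoc,
        ← Limits.pullback.condition, morphismRestrict_ι_assoc]
    refine Over.OverMorphism.ext ?_
    rw [hone, Over.comp_left, e0]
    congr 1
    have e1 := congrArg (· ≫ G.hom) e0
    simp only [Category.assoc, Over.w u, hη, Category.comp_id] at e1
    exact (e1.symm.trans (Over.w h))
  · intro Z h hZ hh r hr
    obtain ⟨g, hg, rfl⟩ := Finset.mem_image.mp hr
    let F := h.left.appTop f
    let V := Z.left.basicOpen F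
    have e : h.left ≫ u.left = Z.hom ≫ η[G].left := by rw [← Over.comp_left, hh, hone]
    let l := Limits.pullback.lift h.left Z.hom e
    have hl : l ≫ k = h.left := Limits.pullback.lift_fst _ _ _
    have hrange : Set.range (V.ι ≫ l) ⊆ Set.range (k ⁻¹ᵁ U).ι := by
      rw [Scheme.Opens.range_ι]
      rintro _ ⟨z, rfl⟩
      show k (l (V.ι z)) ∈ U
      rw [← Scheme.Hom.comp_apply, hl]
      show V.ι z ∈ h.left ⁻¹ᵁ D.left.basicOpen f
      rw [Scheme.preimage_basicOpen_top]
      exact z.2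
    let l' := IsOpenImmersion.lift (k ⁻¹ᵁ U).ι (V.ι ≫ l) hrange
    have hl' : l' ≫ kU ≫ U.ι = V.ι ≫ h.left := by
      rw [morphismRestrict_ι, IsOpenImmersion.lift_fac_assoc, Category.assoc, hl]
    have hker : kU.appTop g = 0 := hgs.le (Ideal.subset_span hg)
    have h0 : V.ι.appTop (h.left.appTop (a g)) = 0 := by
      rw [← CommRingCat.comp_apply, ← Scheme.Hom.comp_appTop, ← hl', Scheme.Hom.comp_appTop,
        Scheme.Hom.comp_appTop, CommRingCat.comp_apply, CommRingCat.comp_apply]
      show l'.appTop (kU.appTop (res (a g))) = 0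
      rw [hav, map_mul, hker, MulZeroClass.zero_mul, map_zero]
    haveI := (isAffineOpen_top Z.left).isLocalization_basicOpen F
    have h1 : Z.left.presheaf.map (homOfLE (le_top : V ≤ ⊤)).op (h.left.appTop (a g)) = 0 := by
      have hι := ι_appTop_topIso V
      rw [← hι, CommRingCat.comp_apply, h0, map_zero]
    obtain ⟨⟨_, N, rfl⟩, hN⟩ :=
      (IsLocalization.map_eq_zero_iff (Submonoid.powers F) Γ(Z.left, V) _).mp h1
    exact ⟨N, hN⟩

variable [IsAffine T] {M : Type} [AddCommGroup M] {G : Over T} [GrpObj G] (u : Red.DS T M ⟶ G)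
  [IsMonHom u]

/-- Triviality on all field valued points is triviality. -/
theorem trivOn_of_fieldPoints [LocallyOfFiniteType G.hom] (Z : Over T) [IsAffine Z.left]
    (h : ∀ (K : Type u) [Field K] (p : Spec (CommRingCat.of K) ⟶ Z.left),
      TrivOn u (Over.mk (p ≫ Z.hom))) : TrivOn u Z := by
  let g := Z.hom
  let i := Groth.Cochar.bcDS g M
  let F := Over.pullback g
  let a := leftMulAction u
  let act' : Red.DS Z.left M ⊗ F.obj G ⟶ F.obj G :=
    pLift g (fst (Red.DS Z.left M) (F.obj G) ≫ i.hom) (snd (Red.DS Z.left M) (F.obj G)) ≫ F.map a.act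
  have hact : ∀ (W : Over Z.left) (h : W ⟶ Red.DS Z.left M) (y : W ⟶ F.obj G),
      lift h y ≫ act' = pLift g (h ≫ i.hom) y ≫ F.map a.act := fun W h y ↦ by
    rw [← Category.assoc]
    congr 1
    refine pullback_hom_ext g ?_ ?_
    · rw [Category.assoc, pLift_fst, pLift_fst, lift_fst_assoc]
    · rw [Category.assoc, pLift_snd, pLift_snd, lift_snd]
  have hq : ∀ (W : Over Z.left) (h : W ⟶ Red.DS Z.left M) (y : W ⟶ F.obj G),
      qPt g (lift h y ≫ act') =
        lift (bcPointEquiv g (Red.DS T M) W (h ≫ i.hom)) (qPt g y) ≫ a.act :=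
    fun W h y ↦ by rw [hact, qPt_map, qPt_pLift]; rfl
  have hsnd : act' = snd (Red.DS Z.left M) (F.obj G) := by
    refine eq_snd_of_diag_fibres act' ?_ ?_
      (MorphismProperty.pullback_snd _ _ (inferInstance : LocallyOfFiniteType G.hom)) ?_
    · intro W h h' y
      apply qPt_injective g
      rw [hq, hq, hq, act_assoc, ← map_mul]
      congr 2
      simp only [i, Groth.Cochar.comp_bcDS, map_mul]
    · intro W y
      apply qPt_injective g
      rw [hq, show (1 : W ⟶ Red.DS Z.left M) ≫ i.hom = 1 from by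
        simp only [i, Groth.Cochar.comp_bcDS, map_one], map_one, act_one']
    · intro K _ p W l hl x y
      apply qPt_injective g
      rw [hq, lift_leftMulAction, h K p ((Over.map g).obj W)
        (Over.homMk l ((Category.assoc _ _ _).symm.trans (congrArg (fun z ↦ z ≫ g) hl))),
        _root_.one_mul]
  let P := F.obj (Red.DS T M ⊗ G)
  have key : pLift g ((F.map (fst _ G) ≫ i.inv) ≫ i.hom) (F.map (snd (Red.DS T M) G)) = 𝟙 P := by
    refine pullback_hom_ext g ?_ ?_
    · rw [pLift_fst, Category.assoc, Iso.inv_hom_id, Category.comp_id]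
      exact (Category.id_comp _).symm
    · rw [pLift_snd]
      exact (Category.id_comp _).symm
  have hmap := hact P (F.map (fst _ G) ≫ i.inv) (F.map (snd (Red.DS T M) G))
  rw [hsnd, lift_snd, key, Category.id_comp] at hmap
  intro W w x
  have h1 := comp_eq_of_pullback_map_eq g hmap.symm
    (Over.homMk w.left (Over.w w) : W ⟶ Over.mk g) (lift x 1)
  rwa [lift_leftMulAction, _root_.mul_one, lift_snd] at h1

/-- If the homomorphism is trivial at a point, it is trivial near it. -/
theorem exists_nhd_trivOn [UniqueSums M] [LocallyOfFinitePresentation G.hom] (t : T)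
    (ht : TrivOn u (Over.mk (T.fromSpecResidueField t))) :
    ∃ V : T.Opens, t ∈ V ∧ TrivOn u (Over.mk V.ι) := by
  classical
  haveI : IsAffine (𝟙_ (Over T)).left := inferInstanceAs (IsAffine T)
  let D := Red.DS T M
  haveI : IsAffine D.left := inferInstance
  obtain ⟨f, ts, htf, hkill, hconv⟩ :=
    exists_local_equations u (1 : 𝟙_ (Over T) ⟶ D) (MonObj.one_comp u) t
  let s : Γ(T, ⊤) := (1 : 𝟙_ (Over T) ⟶ D).left.appTop f
  let e₀ := RingEquiv.ofBijective _ (κ₀_bijective (T := T) (M := M) (Y := 𝟙_ (Over T)))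
  let c : Γ(D.left, ⊤) →+* MonoidAlgebra Γ((𝟙_ (Over T)).left, ⊤) (Multiplicative M) :=
    e₀.symm.toRingHom.comp (fst D (𝟙_ (Over T))).left.appTop.hom
  have hc : ∀ (Z : Over T) (h : Z ⟶ D) r, h.left.appTop r = ptEv h (toUnit Z) (c r) := by
    intro Z h r
    have h1 := ptEv_comp (lift h (toUnit Z)) (fst D (𝟙_ (Over T))) (snd D (𝟙_ (Over T)))
    rw [lift_fst, lift_snd] at h1
    rw [h1, RingHom.comp_apply]
    refine Eq.trans ?_ (congrArg (lift h (toUnit Z)).left.appTop.hom (e₀.apply_symm_apply _).symm)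
    show h.left.appTop r = ((fst D (𝟙_ (Over T))).left.appTop ≫ (lift h (toUnit Z)).left.appTop) r
    rw [← Scheme.Hom.comp_appTop, ← Over.comp_left, lift_fst]
  have hcomp : ∀ (A B E : Over T) (p : A ⟶ B) (q : B ⟶ E),
      (p ≫ q).left.appTop.hom = p.left.appTop.hom.comp q.left.appTop.hom := fun A B E p q ↦ by
    rw [Over.comp_left, Scheme.Hom.comp_appTop]
    rfl
  have huniv : ∀ (Z : Over T) r, (fst D Z).left.appTop r =
      κ₀ (T := T) (M := M) (Y := Z)
        (MonoidAlgebra.mapRingHom _ (toUnit Z).left.appTop.hom (c r)) := fun Z r ↦ by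
    rw [hc, toUnit_unique (toUnit (D ⊗ Z)) (snd D Z ≫ toUnit Z), ptEv, hcomp, ev_comp_eq,
      RingHom.comp_apply]
  have hs : ∀ (Z : Over T), (toUnit Z).left.appTop s = ev (toUnit Z).left.appTop.hom 1 (c f) :=
    fun Z ↦ by
    show ((1 : 𝟙_ (Over T) ⟶ D).left.appTop ≫ (toUnit Z).left.appTop) f = _
    rw [← Scheme.Hom.comp_appTop, ← Over.comp_left, MonObj.comp_one, hc, ptEv]
    congr 2
    exact MonoidHom.ext fun m ↦ dsVal_one Z m
  have hne : ∀ (Z : Over T), (toUnit Z).left.appTop s ≠ 0 →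
      MonoidAlgebra.mapRingHom _ (toUnit Z).left.appTop.hom (c f) ≠ 0 := fun Z hZ e ↦ hZ (by
    rw [hs, ← RingHom.id_comp (toUnit Z).left.appTop.hom, ev_comp_eq, RingHom.comp_apply, e,
      map_zero])
  let 𝔞 : Ideal Γ((𝟙_ (Over T)).left, ⊤) :=
    Ideal.span (ts.biUnion fun r ↦ (c r).coeff.support.image fun m ↦ (c r).coeff m : Finset _)
  have hmem : ∀ r ∈ ts, ∀ m, (c r).coeff m ∈ 𝔞 := fun r hr m ↦ by
    by_cases h : (c r).coeff m = 0
    · rw [h]; exact 𝔞.zero_mem
    · exact Ideal.subset_span (Finset.mem_biUnion.mpr ⟨r, hr, Finset.mem_image.mpr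
        ⟨m, Finsupp.mem_support_iff.mpr h, rfl⟩⟩)
  -- triviality over fields killing the equations
  have hP : ∀ (K : Type u) [Field K] (p : Spec (CommRingCat.of K) ⟶ T),
      (∀ z ∈ 𝔞, (toUnit (Over.mk p)).left.appTop z = 0) →
      (toUnit (Over.mk p)).left.appTop s ≠ 0 → TrivOn u (Over.mk p) := by
    intro K _ p ha hsne
    let Y : Over T := Over.mk p
    haveI : IsAffine Y.left := inferInstanceAs (IsAffine (Spec _))
    haveI : IsDomain Γ(Y.left, ⊤) :=
      (Scheme.ΓSpecIso (CommRingCat.of K)).commRingCatIsoToRingEquiv.toMulEquiv.isDomain K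
    let Q := D ⊗ Y
    haveI : IsAffine Q.left := inferInstance
    haveI : IsDomain Γ(Q.left, ⊤) := (RingEquiv.ofBijective _
      (κ₀_bijective (T := T) (M := M) (Y := Y))).symm.toMulEquiv.isDomain _
    haveI : Nonempty Q.left :=
      ⟨Q.left.isoSpec.inv (Classical.arbitrary (PrimeSpectrum Γ(Q.left, ⊤)))⟩
    haveI : IsIntegral Q.left := isIntegral_of_isAffine_of_isDomain _
    let Fy := (fst D Y).left.appTop f
    have hFy : Fy ≠ 0 := fun e ↦ hne Y hsne (κ₀_bijective.1 (((huniv Y f).symm.trans e).trans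
      (map_zero _).symm))
    let V := Q.left.basicOpen Fy
    have hV : (V : Set Q.left).Nonempty := by
      rw [Set.nonempty_iff_ne_empty]
      exact fun e ↦ hFy ((basicOpen_eq_bot_iff Fy).mp (SetLike.coe_injective e))
    let j : Over.mk (V.ι ≫ Q.hom) ⟶ Q := Over.homMk V.ι rfl
    have hj : (j ≫ fst D Y) ≫ u = 1 := by
      refine hkill _ _ ?_ fun r hr ↦ ?_
      · rw [Over.comp_left, Scheme.Hom.comp_appTop, CommRingCat.comp_apply]
        have := RingedSpace.isUnit_res_basicOpen Q.left.toRingedSpace Fy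
        show IsUnit (V.ι.appTop Fy)
        have hι := ι_appTop_eq V
        rw [hι, CommRingCat.comp_apply]
        exact this.map _
      · rw [Over.comp_left, Scheme.Hom.comp_appTop, CommRingCat.comp_apply, huniv,
          (mapRingHom_eq_zero_iff _ _).mpr (fun m ↦ ha _ (hmem r hr m)), map_zero, map_zero]
    have hall : fst D Y ≫ u = 1 := by
      have hone : ∀ (W : Over T), ((1 : W ⟶ G)).left = W.hom ≫ η[G].left := fun W ↦ by
        rw [Hom.one_def, Over.comp_left]
        rfl
      haveI : IsSeparated (Red.bc p G).hom := Groth.AlgGrp1.isSeparated_grpObj _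
      haveI : IsSeparated (Limits.pullback.snd G.hom p) := ‹IsSeparated (Red.bc p G).hom›
      have hw : ∀ q : Q ⟶ G, q.left ≫ G.hom = (snd D Y).left ≫ p := fun q ↦
        (Over.w q).trans (Over.w (snd D Y)).symm
      haveI : IrreducibleSpace Q.left := inferInstance
      haveI : IsDominant V.ι := ⟨by
        show Dense (Set.range V.ι)
        rw [Scheme.Opens.range_ι]
        exact V.isOpen.dense hV⟩
      have key := ext_of_isDominant_of_isSeparated
        (f := Limits.pullback.lift (fst D Y ≫ u).left (snd D Y).left (hw _))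
        (g := Limits.pullback.lift (1 : Q ⟶ G).left (snd D Y).left (hw _))
        (Limits.pullback.snd G.hom p)
        ((Limits.pullback.lift_snd _ _ _).trans (Limits.pullback.lift_snd _ _ _).symm) V.ι (by
          apply Limits.pullback.hom_ext
          · simp only [Category.assoc, Limits.pullback.lift_fst]
            have := congrArg (fun q ↦ q.left) hj
            simp only [Over.comp_left, Category.assoc, hone] at this ⊢
            exact this
          · simp only [Category.assoc]
            exact congrArg (fun q ↦ V.ι ≫ q)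
              ((Limits.pullback.lift_snd _ _ _).trans (Limits.pullback.lift_snd _ _ _).symm))
      refine Over.OverMorphism.ext ?_
      have := congrArg (· ≫ Limits.pullback.fst G.hom p) key
      exact (Limits.pullback.lift_fst _ _ _).symm.trans (this.trans (Limits.pullback.lift_fst _ _ _))
    intro W w x
    rw [← lift_fst x w, Category.assoc, hall, MonObj.comp_one]
  -- equations vanish at the point
  obtain ⟨L, _, _, jL, hsL, hker, hfields⟩ : ∃ (L : Type u) (_ : CommRing L) (_ : IsLocalRing L)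
      (jL : Γ((𝟙_ (Over T)).left, ⊤) →+* L), IsUnit (jL s) ∧
        (∀ z : Γ(T, ⊤), jL z = 0 → ∃ r : Γ(T, ⊤), t ∈ T.basicOpen r ∧ r * z = 0) ∧
        ∃ (κ : Type u) (_ : Field κ) (π : L →+* κ), Function.Surjective π ∧
          TrivOn u (mkT κ (π.comp jL)) := by
    let jL : Γ(T, ⊤) →+* T.presheaf.stalk t := (T.presheaf.germ ⊤ t trivial).hom
    refine ⟨T.presheaf.stalk t, inferInstance, inferInstance, jL,
      (Scheme.mem_basicOpen_top _ _ t).mp htf, fun z hz ↦ ?_,
      T.residueField t, inferInstance, (T.residue t).hom, Scheme.residue_surjective T t, ?_⟩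
    · letI := TopCat.Presheaf.algebra_section_stalk T.presheaf (⟨t, trivial⟩ : (⊤ : T.Opens))
      haveI := (isAffineOpen_top T).isLocalization_stalk ⟨t, trivial⟩
      let pr := ((isAffineOpen_top T).primeIdealOf ⟨t, trivial⟩).asIdeal
      obtain ⟨⟨r, hr⟩, hrz⟩ :=
        (IsLocalization.map_eq_zero_iff pr.primeCompl (T.presheaf.stalk t) z).mp hz
      refine ⟨r, ?_, hrz⟩
      rw [Scheme.mem_basicOpen_top]
      exact IsLocalization.map_units (T.presheaf.stalk t) ⟨r, hr⟩
    · refine ht.of_hom (Over.homMk (𝟙 _) ?_)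
      show 𝟙 _ ≫ T.fromSpecResidueField t =
        Spec.map (CommRingCat.ofHom ((T.residue t).hom.comp jL)) ≫ T.isoSpec.inv ≫ 𝟙 T
      rw [Category.id_comp, Category.comp_id, Iso.eq_comp_inv, Scheme.isoSpec_hom,
        Scheme.fromSpecResidueField, Category.assoc, Scheme.fromSpecStalk_toSpecΓ, ← Spec.map_comp]
      rfl
  obtain ⟨κ, _, π, hπ, htκ⟩ := hfields
  -- functions over a test ring
  have hunit : ∀ (C : Type u) [CommRing C] (jC : Γ((𝟙_ (Over T)).left, ⊤) →+* C) z,
      (toUnit (mkT C jC)).left.appTop z = ΓT C jC (jC z) := fun C _ jC z ↦ by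
    rw [toUnit_unique (toUnit (mkT C jC)) (yT C jC)]
    exact RingHom.congr_fun (yT_appTop C jC) z
  have hQ : ∀ (C : Type u) [CommRing C] (jC : Γ((𝟙_ (Over T)).left, ⊤) →+* C),
      TrivOn u (mkT C jC) → ∀ r ∈ ts, ∃ N : ℕ,
        MonoidAlgebra.mapRingHom _ jC (c f) ^ N * MonoidAlgebra.mapRingHom _ jC (c r) = 0 := by
    intro C _ jC hC r hr
    haveI : IsAffine (mkT C jC).left := inferInstanceAs (IsAffine (Spec _))
    haveI : IsAffine (D ⊗ mkT C jC).left := inferInstance
    obtain ⟨N, hN⟩ := hconv _ (fst D (mkT C jC)) inferInstance (hC _ (snd _ _) _) r hr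
    refine ⟨N, ?_⟩
    rw [huniv, huniv, ← map_pow, ← map_mul, ← map_zero (κ₀ (T := T) (M := M) (Y := mkT C jC))] at hN
    have h1 := κ₀_bijective.1 hN
    have hj : (toUnit (mkT C jC)).left.appTop.hom = (ΓT C jC).comp jC :=
      RingHom.ext (hunit C jC)
    rw [hj, ← map_pow, ← map_mul, mapRingHom_eq_zero_iff] at h1
    rw [← map_pow, ← map_mul, mapRingHom_eq_zero_iff]
    exact fun m ↦ (ΓT_bijective C jC).1 ((h1 m).trans (map_zero _).symm)
  have hneC : ∀ (K : Type u) [Field K] (jK : Γ((𝟙_ (Over T)).left, ⊤) →+* K), jK s ≠ 0 →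
      MonoidAlgebra.mapRingHom _ jK (c f) ≠ 0 := by
    intro K _ jK hK e
    refine hne (mkT K jK) ?_ ?_
    · rw [hunit]
      exact fun e' ↦ hK ((ΓT_bijective K jK).1 (e'.trans (map_zero _).symm))
    · rw [mapRingHom_eq_zero_iff] at e ⊢
      exact fun m ↦ (hunit K jK _).trans (by rw [e m, map_zero])
  have hsκ : (π.comp jL) s ≠ 0 := (hsL.map π).ne_zero
  have hm : ∀ z ∈ 𝔞, jL z ∈ IsLocalRing.maximalIdeal L := by
    suffices h : 𝔞 ≤ (IsLocalRing.maximalIdeal L).comap jL from h
    rw [Ideal.span_le]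
    intro b hb
    obtain ⟨r, hr, hb⟩ := Finset.mem_biUnion.mp hb
    obtain ⟨m, -, rfl⟩ := Finset.mem_image.mp hb
    obtain ⟨N, hN⟩ := hQ κ (π.comp jL) htκ r hr
    have h1 := (mul_eq_zero.mp hN).resolve_left (pow_ne_zero N (hneC κ _ hsκ))
    have h2 := (mapRingHom_eq_zero_iff _ _).mp h1 m
    show jL _ ∈ IsLocalRing.maximalIdeal L
    rw [IsLocalRing.mem_maximalIdeal, mem_nonunits_iff]
    exact fun hu ↦ (hu.map π).ne_zero h2
  -- the ideal vanishes near the point
  let J := 𝔞.map jL
  have hJ : J ≤ IsLocalRing.maximalIdeal L := Ideal.map_le_iff_le_comap.mpr hm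
  have hle : J ≤ IsLocalRing.maximalIdeal L • J := by
    let C := L ⧸ J * J
    let q : L →+* C := Ideal.Quotient.mk _
    let Z : Over T := mkT C (q.comp jL)
    haveI : IsAffine Z.left := inferInstanceAs (IsAffine (Spec _))
    have hC : TrivOn u Z := by
      refine trivOn_of_fieldPoints u Z fun K _ p ↦ hP K _ (fun z hz ↦ ?_) ?_
      all_goals
        have hfac : ∀ z, (toUnit (Over.mk (p ≫ Z.hom))).left.appTop z =
            p.appTop (ΓT C (q.comp jL) (q (jL z))) := fun z ↦ by
          rw [toUnit_unique (toUnit (Over.mk (p ≫ Z.hom)))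
            ((Over.homMk p rfl : Over.mk (p ≫ Z.hom) ⟶ Z) ≫ toUnit Z), Over.comp_left,
            Scheme.Hom.comp_appTop, CommRingCat.comp_apply, hunit]
          rfl
      · have hsq : (toUnit (Over.mk (p ≫ Z.hom))).left.appTop z *
            (toUnit (Over.mk (p ≫ Z.hom))).left.appTop z = 0 := by
          rw [hfac, ← map_mul, ← map_mul, ← map_mul q,
            show q (jL z * jL z) = 0 from Ideal.Quotient.eq_zero_iff_mem.mpr
              (Ideal.mul_mem_mul (Ideal.mem_map_of_mem jL hz) (Ideal.mem_map_of_mem jL hz)),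
            map_zero, map_zero]
        haveI : IsDomain Γ((Over.mk (p ≫ Z.hom)).left, ⊤) :=
          (Scheme.ΓSpecIso (CommRingCat.of K)).commRingCatIsoToRingEquiv.toMulEquiv.isDomain K
        exact mul_self_eq_zero.mp hsq
      · rw [hfac]
        haveI : Nontrivial Γ((Spec (CommRingCat.of K) : Scheme.{u}), ⊤) :=
          (Scheme.ΓSpecIso (CommRingCat.of K)).commRingCatIsoToRingEquiv.toEquiv.nontrivial
        exact (((hsL.map q).map _).map p.appTop.hom).ne_zero
    refine Ideal.map_le_iff_le_comap.mpr (Ideal.span_le.mpr fun b hb ↦ ?_)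
    obtain ⟨r, hr, hb⟩ := Finset.mem_biUnion.mp hb
    obtain ⟨m, -, rfl⟩ := Finset.mem_image.mp hb
    obtain ⟨N, hN⟩ := hQ C (q.comp jL) hC r hr
    show jL ((c r).coeff m) ∈ IsLocalRing.maximalIdeal L • J
    have hgJ : ∀ m, (MonoidAlgebra.mapRingHom _ jL (c r)).coeff m ∈ J := fun m ↦ by
      rw [MonoidAlgebra.coeff_mapRingHom]
      simpa using Ideal.mem_map_of_mem jL (hmem r hr m)
    have h3 := coeff_mem_of_mul (MonoidAlgebra.mapRingHom _ jL (c r))
      (MonoidAlgebra.mapRingHom _ jL (c f) ^ N) (IsLocalRing.maximalIdeal L • J) ?_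
      (fun b hb' a ↦ by
        rw [smul_eq_mul, mul_comm (IsLocalRing.maximalIdeal L)]
        exact Ideal.mul_mem_mul (hgJ a) ((IsLocalRing.mem_maximalIdeal _).mpr hb'))
      (fun x ↦ ?_) m
    · rw [MonoidAlgebra.coeff_mapRingHom] at h3
      simpa using h3
    · by_contra! hall
      refine pow_ne_zero N (hneC κ (π.comp jL) hsκ) ?_
      rw [← map_pow, mapRingHom_eq_zero_iff]
      intro b
      have hb' := hall b
      rw [← map_pow, MonoidAlgebra.coeff_mapRingHom] at hb'
      by_contra hne'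
      refine hb' (not_not.mp fun hnu ↦ hne' ?_)
      have hmemb : jL ((c f ^ N).coeff b) ∈ IsLocalRing.maximalIdeal L :=
        (IsLocalRing.mem_maximalIdeal _).mpr (by simpa using hnu)
      have hkerπ : RingHom.ker π = IsLocalRing.maximalIdeal L :=
        IsLocalRing.eq_maximalIdeal (RingHom.ker_isMaximal_of_surjective π hπ)
      exact hkerπ.ge hmemb
    · have h4 : MonoidAlgebra.mapRingHom _ (q.comp jL) (c r * c f ^ N) = 0 := by
        rw [map_mul, map_pow]
        exact (mul_comm _ _).trans hN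
      have h5 := (mapRingHom_eq_zero_iff _ _).mp h4 x
      have h6 := Ideal.Quotient.eq_zero_iff_mem.mp h5
      rw [← map_pow, ← map_mul, MonoidAlgebra.coeff_mapRingHom]
      exact Ideal.mul_mono_left hJ (by simpa using h6)
  have h𝔞fg : 𝔞.FG := ⟨_, rfl⟩
  have hJ0 : J = ⊥ := Submodule.eq_bot_of_le_smul_of_le_jacobson_bot _ _ (h𝔞fg.map jL) hle
    (IsLocalRing.maximalIdeal_le_jacobson _)
  have hex : ∀ z : Γ(T, ⊤), z ∈ 𝔞 → ∃ r : Γ(T, ⊤), t ∈ T.basicOpen r ∧ r * z = 0 :=
    fun z hz ↦ hker z (by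
    have := Ideal.mem_map_of_mem jL hz
    rwa [show 𝔞.map jL = ⊥ from hJ0, Ideal.mem_bot] at this)
  let gens : Finset Γ(T, ⊤) := by exact ts.biUnion fun r ↦ (c r).coeff.support.image fun m ↦ (c r).coeff m
  choose R hRt hR using fun z : gens ↦ hex z (Ideal.subset_span z.2)
  let Rp : Γ(T, ⊤) := s * ∏ z : gens, R z
  refine ⟨T.basicOpen Rp, ?_, ?_⟩
  · rw [Scheme.mem_basicOpen_top, map_mul, map_prod]
    exact ((Scheme.mem_basicOpen_top _ _ t).mp htf).mul
      (IsUnit.prod_iff.mpr fun z _ ↦ (Scheme.mem_basicOpen_top _ _ t).mp (hRt z))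
  · haveI : IsAffine (Over.mk (T.basicOpen Rp).ι).left := (isAffineOpen_top T).basicOpen Rp
    refine trivOn_of_fieldPoints u _ fun K _ p ↦ ?_
    let q := p ≫ (T.basicOpen Rp).ι
    haveI : IsDomain Γ((Over.mk q).left, ⊤) :=
      (Scheme.ΓSpecIso (CommRingCat.of K)).commRingCatIsoToRingEquiv.toMulEquiv.isDomain K
    have hu : IsUnit ((toUnit (Over.mk q)).left.appTop Rp) := by
      show IsUnit (q.appTop Rp)
      rw [Scheme.Hom.comp_appTop, CommRingCat.comp_apply]
      refine IsUnit.map _ ?_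
      have hι := ι_appTop_eq (T.basicOpen Rp)
      rw [hι, CommRingCat.comp_apply]
      exact (RingedSpace.isUnit_res_basicOpen T.toRingedSpace Rp).map _
    rw [map_mul, IsUnit.mul_iff, map_prod] at hu
    refine hP K q (fun z hz ↦ ?_) hu.1.ne_zero
    refine (Ideal.span_le (I := RingHom.ker (toUnit (Over.mk q)).left.appTop.hom)).mpr
      (fun b hb ↦ ?_) hz
    have h1 := congrArg (toUnit (Over.mk q)).left.appTop.hom (hR ⟨b, hb⟩)
    rw [map_mul, map_zero] at h1
    exact (mul_eq_zero.mp h1).resolve_left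
      ((IsUnit.prod_iff.mp hu.2 ⟨b, hb⟩ (Finset.mem_univ _)).ne_zero)

end Groth.Reductive.RigidNhd
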