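import Groth.Agent.RootData.IntDatum
import Groth.Prelude.Def_RedSub

/-!
Words in the reflections as permutations of the roots, and the image of a base under an automorphism.
-/

open RootD Set
open scoped Pointwise

noncomputable section

namespace Groth.Reductive.RootComb

open Groth.RootData

variable {idx R M N : Type*} [CommRing R] [AddCommGroup M] [Module R M] [AddCommGroup N] [Module R N]
  {P : RootPairing idx R M N}

/-- The image of a base under an automorphism of the root pairing. -/
def mapBase (g : P.Aut) (b : P.Base) : P.Base where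
  support := b.support.map (RootPairing.Equiv.indexHom P g).toEmbedding
  linearIndepOn_root := by
    rw [Finset.coe_map]
    refine LinearIndepOn.image_of_comp _ _ ?_
    have h := b.linearIndepOn_root.map' (DistribSMul.toLinearMap R M g)
      (LinearMap.ker_eq_bot.mpr (MulAction.injective g))
    show LinearIndependent R _
    convert h using 2 <;> first | rfl | exact root_smul g _
  linearIndepOn_coroot := by
    rw [Finset.coe_map]
    refine LinearIndepOn.image_of_comp _ _ ?_
    have h := b.linearIndepOn_coroot.map' (g⁻¹).toHom.coweightMap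
      (LinearMap.ker_eq_bot.mpr (g⁻¹).bijective_coweightMap.injective)
    show LinearIndependent R _
    convert h using 2 <;> first | rfl | exact (RootPairing.Hom.coroot_coweightMap_apply P P _ (g⁻¹).toHom).symm
  root_mem_or_neg_mem i := by
    obtain ⟨j, rfl⟩ : ∃ j, g • j = i := ⟨g⁻¹ • i, smul_inv_smul g i⟩
    rw [Finset.coe_map]
    show P.root (g • j) ∈ natSpan P ((g • ·) '' _) ∨ -P.root (g • j) ∈ natSpan P ((g • ·) '' _)
    rw [root_smul, ← smul_neg]
    exact (b.root_mem_or_neg_mem j).imp (smul_mem_natSpan g) (smul_mem_natSpan g)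
  coroot_mem_or_neg_mem i := by
    obtain ⟨j, rfl⟩ : ∃ j, g • j = i := ⟨g⁻¹ • i, smul_inv_smul g i⟩
    rw [Finset.coe_map]
    set L := (g⁻¹).toHom.coweightMap
    have hL : ∀ k, L (P.coroot k) = P.coroot (g • k) :=
      fun k ↦ RootPairing.Hom.coroot_coweightMap_apply P P k (g⁻¹).toHom
    have hc : ∀ x ∈ AddSubmonoid.closure (P.coroot '' (b.support : Set idx)),
        L x ∈ AddSubmonoid.closure (P.coroot '' ((g • ·) '' (b.support : Set idx))) := by
      intro x hx
      induction hx using AddSubmonoid.closure_induction with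
      | mem x hx =>
        obtain ⟨k, hk, rfl⟩ := hx
        exact hL k ▸ AddSubmonoid.subset_closure ⟨_, ⟨k, hk, rfl⟩, rfl⟩
      | zero => rw [map_zero]; exact zero_mem _
      | add x y _ _ hx hy => rw [map_add]; exact add_mem hx hy
    show P.coroot (g • j) ∈ AddSubmonoid.closure (P.coroot '' ((g • ·) '' _)) ∨
      -P.coroot (g • j) ∈ AddSubmonoid.closure (P.coroot '' ((g • ·) '' _))
    rw [← hL, ← map_neg]
    exact (b.coroot_mem_or_neg_mem j).imp (hc _) (hc _)

lemma coe_mapBase_support (g : P.Aut) (b : P.Base) :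
    ((mapBase g b).support : Set idx) = (g • ·) '' (b.support : Set idx) :=
  Finset.coe_map _ _

section Int

variable {idx M N : Type} [AddCommGroup M] [AddCommGroup N] {P : RootPairing idx ℤ M N}

lemma indexHom_word (l : List idx) :
    RootPairing.Equiv.indexHom P (word P l) = RedSub.wordPerm P l := by
  rw [word, map_list_prod, List.map_map]
  rfl

lemma wordPerm_apply (l : List idx) (i : idx) : RedSub.wordPerm P l i = word P l • i := by
  rw [← indexHom_word]; rfl

lemma posRoots_eq (b : P.Base) : RedSub.posRoots P b = posOf P (b.support : Set idx) := rfl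

lemma mem_negRoots_iff (b : P.Base) (i : idx) :
    i ∈ RedSub.negRoots P b ↔ neg P i ∈ posOf P (b.support : Set idx) := by
  show -P.root i ∈ natSpan P (b.support : Set idx) ↔ P.root (neg P i) ∈ natSpan P (b.support : Set idx)
  rw [root_neg]

lemma perm_refl (g : P.Aut) (i : idx) :
    RootPairing.Equiv.indexHom P g * P.reflectionPerm i * (RootPairing.Equiv.indexHom P g)⁻¹ =
      P.reflectionPerm (g • i) := by
  rw [← map_inv, show P.reflectionPerm i = RootPairing.Equiv.indexHom P (refl P i) from rfl,
    ← map_mul, ← map_mul, refl_conj]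
  rfl

variable [Finite idx]

lemma root_ne_twice [P.IsReduced] (c a : idx) : P.root c ≠ P.root a + P.root a := by
  intro e
  have hli : ¬ LinearIndependent ℤ ![P.root c, P.root a] := by
    intro h
    have h2 := LinearIndependent.pair_iff.mp h 1 (-2) (by rw [e]; module)
    exact one_ne_zero h2.1
  rcases RootPairing.IsReduced.eq_or_eq_neg c a hli with h | h
  · exact P.ne_zero a (by rw [h] at e; simpa using e)
  · refine P.ne_zero a (zsmul_right_cancel P (by norm_num : (3 : ℤ) ≠ 0) ?_)
    rw [h] at e
    rw [smul_zero, show (3 : ℤ) • P.root a = P.root a + P.root a - -P.root a by module, ← e, sub_self]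

lemma exchange (b : P.Base) [P.IsReduced] {l : List idx} (hl : ∀ a ∈ l, a ∈ b.support) {c : idx}
    (hc : c ∈ RedSub.posRoots P b) (hneg : (RedSub.wordPerm P l).symm c ∈ RedSub.negRoots P b) :
    ∃ i : ℕ, i < l.length ∧
      P.reflectionPerm c * RedSub.wordPerm P (l.take (i + 1)) = RedSub.wordPerm P (l.take i) := by
  have hΔ := Groth.RootData.Base.isSimpleSys b
  have hS := IsSimpleSys.isPosSys hΔ
  induction l generalizing c with
  | nil => exact (hS.disjoint hc ((mem_negRoots_iff b _).mp hneg)).elim
  | cons a t ih =>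
    have ha : a ∈ b.support := hl a (List.mem_cons_self)
    by_cases hca : c = a
    · subst hca
      refine ⟨0, by simp, ?_⟩
      simp [RedSub.wordPerm]
      exact Equiv.ext fun x ↦ P.reflectionPerm_self c x
    have h2 : P.root c ≠ P.root a + P.root a := root_ne_twice c a
    have hc' : P.reflectionPerm a c ∈ RedSub.posRoots P b := refl_mem_posOf hΔ ha hc hca h2
    have hneg' : (RedSub.wordPerm P t).symm (P.reflectionPerm a c) ∈ RedSub.negRoots P b := by
      rw [show RedSub.wordPerm P (a :: t) = P.reflectionPerm a * RedSub.wordPerm P t from List.prod_cons] at hneg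
      convert hneg using 1
      rw [Equiv.eq_symm_apply, Equiv.Perm.mul_apply, Equiv.apply_symm_apply,
        P.reflectionPerm_self a c]
    obtain ⟨i, hi, he⟩ := ih (fun x hx ↦ hl x (List.mem_cons_of_mem _ hx)) hc' hneg'
    refine ⟨i + 1, by simpa using hi, ?_⟩
    simp only [RedSub.wordPerm, List.take_succ_cons, List.map_cons, List.prod_cons] at he ⊢
    have hs := perm_refl (refl P a) c
    rw [show RootPairing.Equiv.indexHom P (refl P a) = P.reflectionPerm a from rfl] at hs
    rw [show refl P a • c = P.reflectionPerm a c from rfl] at hs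
    rw [← hs] at he
    rw [← he]
    simp only [← mul_assoc, inv_eq_of_mul_eq_one_right
      (show P.reflectionPerm a * P.reflectionPerm a = 1 from Equiv.ext fun x ↦ P.reflectionPerm_self a x)]
    rw [show P.reflectionPerm a * P.reflectionPerm a = 1 from Equiv.ext fun x ↦ P.reflectionPerm_self a x,
      one_mul]

/-- The inverted positive roots. -/
def inv (b : P.Base) (g : P.Aut) : Set idx :=
  {a | a ∈ RedSub.posRoots P b ∧ g • a ∈ RedSub.negRoots P b}

lemma ncard_inv_lt (b : P.Base) (g : P.Aut) {d : idx}
    (hd : d ∈ RedSub.posRoots P b) (hgd : g • d ∈ RedSub.posRoots P b) :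
    (inv b g).ncard < (inv b (g * refl P d)).ncard := by
  classical
  have hS := IsSimpleSys.isPosSys (Groth.RootData.Base.isSimpleSys b)
  let f : idx → idx := fun a ↦ if P.reflectionPerm d a ∈ RedSub.posRoots P b
    then P.reflectionPerm d a else a
  have hu : ∀ a, (g * refl P d) • a = g • P.reflectionPerm d a := fun a ↦ mul_smul g (refl P d) a
  have hsub : f '' inv b g ⊆ inv b (g * refl P d) \ {d} := by
    rintro _ ⟨a, ⟨ha, hga⟩, rfl⟩
    simp only [f]
    split_ifs with h
    · refine ⟨⟨h, by rw [hu, P.reflectionPerm_self d a]; exact hga⟩, fun e ↦ ?_⟩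
      have e' : a = neg P d := by
        rw [← P.reflectionPerm_self d a, show P.reflectionPerm d a = d from e]
      exact hS.disjoint hd (show neg P d ∈ posOf P _ from e' ▸ ha)
    refine ⟨⟨ha, ?_⟩, fun e ↦ hS.disjoint hgd ((mem_negRoots_iff b _).mp
      ((show a = d from e) ▸ hga))⟩
    rw [hu]
    have hneg : -P.root (P.reflectionPerm d a) ∈ natSpan P (b.support : Set idx) := by
      rw [← root_neg]; exact (hS.cover _).resolve_left h
    have hk : 0 < pI P a d := by
      by_contra! hk
      obtain ⟨n, hn⟩ := Int.eq_ofNat_of_zero_le (neg_nonneg.mpr hk)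
      apply h
      show P.root _ ∈ natSpan P (b.support : Set idx)
      rw [root_reflectionPerm_eq, sub_eq_add_neg, ← neg_smul, hn, natCast_zsmul]
      exact add_mem ha (nsmul_mem hd n)
    obtain ⟨n, hn⟩ := Int.eq_ofNat_of_zero_le hk.le
    show -P.root (g • P.reflectionPerm d a) ∈ natSpan P (b.support : Set idx)
    rw [root_smul, root_reflectionPerm_eq, hn, natCast_zsmul, smul_sub, smul_comm g n, ← root_smul,
      ← root_smul, neg_sub, sub_eq_add_neg]
    exact add_mem (nsmul_mem hgd n) hga
  have hinj : Set.InjOn f (inv b g) := by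
    rintro a ⟨ha, -⟩ a' ⟨ha', -⟩ e
    simp only [f] at e
    split_ifs at e with h h'
    · exact (P.reflectionPerm d).injective e
    · exact absurd (by rw [← e, P.reflectionPerm_self d a]; exact ha) h'
    · exact absurd (by rw [e, P.reflectionPerm_self d a']; exact ha') h
    · exact e
  have hdmem : d ∈ inv b (g * refl P d) := by
    refine ⟨hd, ?_⟩
    rw [hu, mem_negRoots_iff, ← smul_neg_index]
    show g • neg P (neg P d) ∈ posOf P _
    rw [Groth.RootData.neg_neg]
    exact hgd
  calc (inv b g).ncard = (f '' inv b g).ncard := hinj.ncard_image.symm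
    _ ≤ (inv b (g * refl P d) \ {d}).ncard := Set.ncard_le_ncard hsub (Set.toFinite _)
    _ < _ := Set.ncard_sdiff_singleton_lt_of_mem hdmem (Set.toFinite _)

theorem length_lt_iff (b : P.Base) (l : List idx) {c : idx} (hc : c ∈ RedSub.posRoots P b) :
    Set.ncard {a : idx | a ∈ RedSub.posRoots P b ∧ RedSub.wordPerm P l a ∈ RedSub.negRoots P b} <
        Set.ncard {a : idx | a ∈ RedSub.posRoots P b ∧
          (P.reflectionPerm c * RedSub.wordPerm P l) a ∈ RedSub.negRoots P b} ↔
      (RedSub.wordPerm P l)⁻¹ c ∈ RedSub.posRoots P b := by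
  have hS := IsSimpleSys.isPosSys (Groth.RootData.Base.isSimpleSys b)
  set g := word P l with hg
  set d := g⁻¹ • c with hd
  have hgd : g • d = c := smul_inv_smul g c
  have hinv : (RedSub.wordPerm P l)⁻¹ c = d := by
    rw [← indexHom_word, ← map_inv]; rfl
  have hmul : g * refl P d = refl P c * g := by
    have h := refl_conj g d
    rw [hgd] at h
    rw [← h, inv_mul_cancel_right]
  have e1 : {a : idx | a ∈ RedSub.posRoots P b ∧ RedSub.wordPerm P l a ∈ RedSub.negRoots P b} =
      inv b g := by
    ext a; simp only [Set.mem_ofPred_eq, wordPerm_apply]; rfl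
  have e2 : {a : idx | a ∈ RedSub.posRoots P b ∧
      (P.reflectionPerm c * RedSub.wordPerm P l) a ∈ RedSub.negRoots P b} =
      inv b (g * refl P d) := by
    ext a
    simp only [Set.mem_ofPred_eq, hmul, inv, mul_smul, Equiv.Perm.mul_apply, wordPerm_apply]
    rfl
  rw [e1, e2, hinv]
  refine ⟨fun h ↦ ?_, fun h ↦ ncard_inv_lt b g h (hgd.symm ▸ hc)⟩
  by_contra hn
  have hd' := (hS.cover d).resolve_left hn
  have hu : (g * refl P d) • neg P d = c := by
    rw [mul_smul, refl_smul, show P.reflectionPerm d (neg P d) = d from P.reflectionPerm_self d d, hgd]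
  have h' := ncard_inv_lt b (g * refl P d) hd' (hu.symm ▸ hc)
  rw [refl_neg, mul_assoc, refl_mul_self, mul_one] at h'
  omega

end Int

end Groth.Reductive.RootComb
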