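import Groth.Agent.Reductive.MonoTorus.ClosedImmersion
import Groth.Agent.Reductive.FpqcLocal
import Groth.Agent.Reductive.BaseChangeMT
import Groth.Agent.Pi1Desc.Act
import Groth.Agent.DescentBase.Descends
import Groth.Agent.GrpschAbsch.FibreFlat
import Groth.Agent.Abvar.BaseChange
import Groth.Prelude.Def_SGA3x

/-!
# Monomorphisms out of groups of multiplicative type are closed immersions
-/

set_option autoImplicit false

universe u

open CategoryTheory Limits MonoidalCategory CartesianMonoidalCategory MonObj GrpObj AlgebraicGeometry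

noncomputable section

namespace Groth.Reductive.TorusClosed

variable {S : Scheme.{u}} {G T : Over S} [GrpObj G] [GrpObj T]

/-- A monomorphism from a group of multiplicative type to a separated group is a closed immersion. -/
theorem isClosedImmersion_of_mono [IsSeparated G.hom] [LocallyOfFiniteType G.hom] [QuasiCompact G.hom]
    (hT : SGA3x.IsMultTypeFT T) (i : T ⟶ G) [IsMonHom i] [Mono i] : IsClosedImmersion i.left := by
  obtain ⟨S', f, hflat, hsurj, hqc, hloc⟩ := hT
  haveI := hflat; haveI := hsurj
  haveI hfc : Groth.Pi1Desc.IsCover f := ⟨‹_›, ‹_›, by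
    rw [← PreZeroHypercover.presieve₀_singleton.{u} f, Scheme.presieve₀_mem_qcPrecoverage_iff]
    exact (Groth.Reductive.FreeDiag.qcCover_singleton_iff f).2 hqc⟩
  let q := pullback.fst G.hom f
  haveI hq : Groth.Pi1Desc.IsCover q :=
    Groth.Pi1Desc.IsCover.of_isPullback (p := f) (IsPullback.of_hasPullback G.hom f).flip
  haveI : Flat q := Groth.Pi1Desc.IsCover.flat (p := q)
  refine Groth.Reductive.of_fpqc_locally @IsClosedImmersion inferInstance i.left q inferInstance
    ((Groth.Reductive.FreeDiag.qcCover_singleton_iff q).1 (by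
      rw [← Scheme.presieve₀_mem_qcPrecoverage_iff, PreZeroHypercover.presieve₀_singleton.{u} q]
      exact Groth.Pi1Desc.IsCover.qc)) fun z => ?_
  obtain ⟨U, hU, M, _, hM, ⟨e⟩⟩ := hloc (pullback.snd G.hom f z)
  refine ⟨pullback.snd G.hom f ⁻¹ᵁ U, hU, ?_⟩
  let p := U.ι ≫ f
  haveI := Groth.Abvar.isMonHom_map (f := p) i
  haveI : IsSeparated (Red.bc p G).hom := MorphismProperty.pullback_snd (P := @IsSeparated) _ _ inferInstance
  haveI : LocallyOfFiniteType (Red.bc p G).hom :=
    MorphismProperty.pullback_snd (P := @LocallyOfFiniteType) _ _ inferInstance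
  haveI : QuasiCompact (Red.bc p G).hom := MorphismProperty.pullback_snd (P := @QuasiCompact) _ _ inferInstance
  let e' : Red.DS (U : Scheme.{u}) M ≅ Red.bc p T :=
    ⟨e.inv.hom.hom, e.hom.hom.hom, congrArg (fun z ↦ z.hom.hom) e.inv_hom_id,
      congrArg (fun z ↦ z.hom.hom) e.hom_inv_id⟩
  haveI : IsMonHom e'.hom := inferInstanceAs (IsMonHom e.inv.hom.hom)
  haveI : IsMonHom (e'.hom ≫ (Over.pullback p).map i) :=
    Groth.Abvar.isMonHom_comp inferInstance inferInstance
  have h1 := Groth.Reductive.MonoTorus.isClosedImmersion_of_mono_DS hM (e'.hom ≫ (Over.pullback p).map i)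
  haveI : IsIso e'.hom.left := inferInstanceAs (IsIso ((Over.forget _).map e'.hom))
  rw [Over.comp_left, MorphismProperty.cancel_left_of_respectsIso (P := @IsClosedImmersion)] at h1
  have h2 : IsClosedImmersion (pullback.snd i.left (pullback.fst G.hom p)) := by
    have sq := (Groth.GrpschAbsch.FibreFlat.isPullback_map p i)
    rw [← sq.isoPullback_inv_snd]
    exact (MorphismProperty.cancel_left_of_respectsIso (P := @IsClosedImmersion) _ _).2 h1
  have sq := ((isPullback_morphismRestrict (pullback.snd G.hom f) U).flip.paste_horiz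
    (IsPullback.of_hasPullback G.hom f))
  have hε : sq.isoPullback.hom ≫ pullback.fst G.hom p = (pullback.snd G.hom f ⁻¹ᵁ U).ι ≫ q :=
    sq.isoPullback_hom_fst
  refine Groth.Reductive.snd_of_eq @IsClosedImmersion i.left hε ?_
  rw [← MorphismProperty.cancel_left_of_respectsIso (P := @IsClosedImmersion)
    (pullbackLeftPullbackSndIso i.left (pullback.fst G.hom p) sq.isoPullback.hom).hom,
    pullbackLeftPullbackSndIso_hom_snd]
  exact MorphismProperty.pullback_snd _ _ h2

end Groth.Reductive.TorusClosed

end
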