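import Groth.Agent.Reductive2.SubgroupDescent
import Groth.Agent.GrpschAbsch.TorusToAbelianSheaf
import Groth.Agent.Reductive.TorusMT

/-!
Descent along fpqc covers of a torus which is universal for homomorphisms from tori.
-/

set_option autoImplicit false
set_option linter.style.haveILetI false
universe u

open CategoryTheory MonoidalCategory CartesianMonoidalCategory MonObj GrpObj AlgebraicGeometry Opposite
open Groth.Reductive.FreeDiag Groth.Reductive

noncomputable section

namespace Groth.Reductive2.SubDescent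

variable {S S' : Scheme.{u}}

/-- Every homomorphism from a torus, over any base, factors through `Z'`. -/
def UnivT (G' : Over S') [GrpObj G'] (Z' : Over S') [GrpObj Z'] (z' : Z' ⟶ G') : Prop :=
  ∀ (S'' : Scheme.{u}) (f' : S'' ⟶ S') (H : Over S'') [GrpObj H] (v : H ⟶ Red.bc f' G') [IsMonHom v],
    Red.IsTorus H → ∃ w : H ⟶ Red.bc f' Z', w ≫ (Over.pullback f').map z' = v

variable {f : S' ⟶ S} {G : Over S} [GrpObj G] {Z' : Over S'} {z' : Z' ⟶ Red.bc f G} [GrpObj Z'] [IsMonHom z']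

/-- A homomorphism from a torus over any base gives points lying in `Z'`. -/
theorem mem_of_torus (hu : UnivT (Red.bc f G) Z' z') {S₂ : Scheme.{u}} (f₂ : S₂ ⟶ S) {H : Over S₂} [GrpObj H]
    (hH : Red.IsTorus H) (v : H ⟶ Red.bc f₂ G) [IsMonHom v] :
    Mem f z' (bcPointEquiv f₂ G H v) := by
  intro W' h a ha
  let b : W'.left ⟶ S₂ := h.left ≫ H.hom
  have hb : b ≫ f₂ = W'.hom := (Category.assoc _ _ _).trans (Over.w h)
  obtain ⟨d, hdm, hd⟩ := exists_switch (f := f) (G := G) f₂ a b (ha.trans hb.symm)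
  haveI := hdm
  haveI := Groth.Abvar.isMonHom_map (f := b) v
  obtain ⟨w, hw⟩ := hu W'.left a (Red.bc b H) ((Over.pullback b).map v ≫ d.hom) (Groth.GrpschAbsch.TorusToAbelian.isTorus_bc hH b)
  let P : Over W'.left := Over.mk (𝟙 W'.left)
  let hb' : (Over.map b).obj P ⟶ H := Over.homMk h.left (by
    show h.left ≫ H.hom = 𝟙 _ ≫ b
    rw [Category.id_comp])
  let x : P ⟶ Red.bc b H := (bcPointEquiv b H P).symm hb'
  let ea : Over.mk a ⟶ (Over.map a).obj P := Over.homMk (𝟙 W'.left) (by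
    show 𝟙 _ ≫ 𝟙 _ ≫ a = a
    simp)
  refine ⟨ea ≫ bcPointEquiv a Z' P (x ≫ w), ?_⟩
  rw [Category.assoc, ← bcPointEquiv_map, Category.assoc, hw, bcPointEquiv_comp, ← Category.assoc x]
  let c : (Over.map f).obj ((Over.map a).obj P) ⟶ (Over.map f₂).obj ((Over.map b).obj P) :=
    Over.homMk (𝟙 W'.left) (by
      show 𝟙 _ ≫ (𝟙 _ ≫ b) ≫ f₂ = (𝟙 _ ≫ a) ≫ f
      simp [ha, hb])
  rw [hd P _ c rfl, bcPointEquiv_map, show bcPointEquiv b H P x = hb' from MulEquiv.apply_symm_apply _ _,
    bcPointEquiv_comp, ← Category.assoc, ← Category.assoc, ← Category.assoc]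
  congr 1

/-- **Descent of a subgroup containing all tori.** -/
theorem exists_descendT [Mono z'] [Flat f] [Surjective f]
    (hcov : ∀ V : S.Opens, IsAffineOpen V → ∃ W : S'.Opens, IsCompact (W : Set S') ∧ f.base '' (W : Set S') = (V : Set S))
    (hT : Red.IsTorus Z') (hu : UnivT (Red.bc f G) Z' z') :
    ∃ (Z : Over S) (_ : GrpObj Z) (z : Z ⟶ G), IsMonHom z ∧ Mono z ∧ Red.IsTorus Z ∧ UnivT G Z z := by
  have hMT : SGA3x.IsMultTypeFT Z' := Groth.Reductive.FreeDiag.isMultTypeFT_of_isTorus hT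
  haveI : IsAffineHom Z'.hom := (Groth.Reductive.MTInt.locTriv_of_multTypeFT hMT).1
  haveI hfc : Groth.Pi1Desc.IsCover f := ⟨‹_›, ‹_›, by
    rw [← PreZeroHypercover.presieve₀_singleton.{u} f, Scheme.presieve₀_mem_qcPrecoverage_iff]
    exact (qcCover_singleton_iff f).2 hcov⟩
  let V : Over S := (Over.map f).obj Z'
  let φ₀ : V ⟶ G := bcPointEquiv f G Z' z'
  have hφ₀ : Mem f z' φ₀ := mem_of_torus hu f hT z'
  let k : Over.mk f ⟶ 𝟙_ (Over S) := toUnit _
  have hk : k.left = f := by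
    have := Over.w k
    exact (Category.comp_id k.left).symm.trans this
  haveI : Groth.Pi1Desc.IsCover k.left := hk.symm ▸ hfc
  let w : V ⟶ Over.mk f := Over.homMk Z'.hom rfl
  haveI : IsAffineHom w.left := inferInstanceAs (IsAffineHom Z'.hom)
  let π : memFunctor f z' ⟶ yoneda.obj (𝟙_ (Over S)) :=
    { app := fun T => ↾fun _ => toUnit T.unop
      naturality := fun T T' h => by ext g; exact toUnit_unique _ _ }
  obtain ⟨Z, eN, j, hj, -⟩ := Groth.MagnetEtale.exists_representableBy_of_cover (memFunctor_hasDesc f z') π k w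
    ⟨φ₀, hφ₀⟩ (toUnit_unique _ _) (fun T φ t _ => by
      have ha : t.left ≫ f = T.hom := Over.w t
      obtain ⟨y, hy⟩ := φ.2 T (𝟙 T) t.left ha
      rw [Category.id_comp] at hy
      let v : T ⟶ V := Over.homMk y.left (by
        show y.left ≫ Z'.hom ≫ f = T.hom
        rw [← Category.assoc, Over.w y]; exact ha)
      refine ⟨v, ⟨Subtype.ext ?_, Over.OverMorphism.ext (Over.w y)⟩, fun v' hv' => ?_⟩
      · show v ≫ φ₀ = φ.1
        let c : T ⟶ (Over.map f).obj (Over.mk t.left) := Over.homMk (𝟙 _) (by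
          show 𝟙 _ ≫ t.left ≫ f = T.hom
          rw [Category.id_comp, ha])
        have e1 : c ≫ (Over.map f).map y = v := Over.OverMorphism.ext (Category.id_comp _)
        rw [← e1, Category.assoc, ← bcPointEquiv_comp, hy, ← Category.assoc]
        have : c ≫ incl f t.left ha = 𝟙 T := Over.OverMorphism.ext (Category.id_comp _)
        rw [this, Category.id_comp]
      · obtain ⟨h1, h2⟩ := hv'
        have h1' : v' ≫ φ₀ = φ.1 := congrArg Subtype.val h1
        let y' : Over.mk t.left ⟶ Z' := Over.homMk v'.left (congrArg (fun z => z.left) h2)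
        have : y' = y := by
          rw [← cancel_mono z']
          apply (bcPointEquiv f G _).injective
          rw [hy, bcPointEquiv_comp, ← h1', ← Category.assoc]
          congr 1
        refine Over.OverMorphism.ext ?_
        show v'.left = y.left
        rw [← this]
        rfl)
  haveI : IsAffineHom j.left := hj
  let z : Z ⟶ G := (eN.homEquiv (𝟙 Z)).1
  have hz : ∀ {T : Over S} (t : T ⟶ Z), (eN.homEquiv t).1 = t ≫ z := fun {T} t => by
    rw [eN.homEquiv_eq]; rfl
  have hmem : ∀ (T : Over S) (g : T ⟶ G), (∃ t : T ⟶ Z, t ≫ z = g) ↔ Mem f z' g := fun T g => by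
    constructor
    · rintro ⟨t, rfl⟩
      rw [← hz]; exact (eN.homEquiv t).2
    · intro hg
      exact ⟨eN.homEquiv.symm ⟨g, hg⟩, (hz _).symm.trans (congrArg Subtype.val (eN.homEquiv.apply_symm_apply _))⟩
  haveI : Mono z := ⟨fun t t' h => eN.homEquiv.injective (Subtype.ext (by rw [hz, hz, h]))⟩
  obtain ⟨inst, hm⟩ := Groth.Agf.exists_grpObj_of_subgroup z (fun T g => Mem f z' g) hmem
    (fun T => mem_one T) (fun T a b ha hb => ha.mul hb) (fun T a ha => ha.inv)
  haveI := hm
  -- the base change is the given subgroup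
  obtain ⟨t₀, ht₀⟩ := (hmem V φ₀).2 hφ₀
  let i : Z' ⟶ Red.bc f Z := (bcPointEquiv f Z Z').symm t₀
  have hi : i ≫ (Over.pullback f).map z = z' := by
    apply (bcPointEquiv f G _).injective
    rw [bcPointEquiv_map, MulEquiv.apply_symm_apply, ht₀]
  obtain ⟨y, hy⟩ := (hmem _ (bcPointEquiv f G _ ((Over.pullback f).map z))).1
    ⟨bcPointEquiv f Z _ (𝟙 _), by rw [← bcPointEquiv_map, Category.id_comp]⟩
    _ (𝟙 _) (Red.bc f Z).hom rfl
  rw [Category.id_comp] at hy
  let jj : Red.bc f Z ⟶ Z' := Over.homMk y.left (Over.w y)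
  have hjj : jj ≫ z' = (Over.pullback f).map z := by
    apply (bcPointEquiv f G _).injective
    let c : (Over.map f).obj (Red.bc f Z) ⟶ (Over.map f).obj (Over.mk (Red.bc f Z).hom) :=
      Over.homMk (𝟙 _) (Category.id_comp _)
    have e1 : (Over.map f).map jj = c ≫ (Over.map f).map y :=
      Over.OverMorphism.ext (by simp [c, jj])
    rw [bcPointEquiv_comp, e1, Category.assoc, ← bcPointEquiv_comp, hy, ← Category.assoc]
    have : c ≫ incl f (W := (Over.map f).obj (Red.bc f Z)) (Red.bc f Z).hom rfl = 𝟙 _ :=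
      Over.OverMorphism.ext (by simp [c])
    rw [this]
    exact Category.id_comp _
  let e : Z' ≅ Red.bc f Z :=
    ⟨i, jj, by rw [← cancel_mono z', Category.assoc, hjj, hi, Category.id_comp],
      by rw [← cancel_mono ((Over.pullback f).map z), Category.assoc, hi, hjj, Category.id_comp]⟩
  haveI := Groth.Abvar.isMonHom_map (f := f) z
  haveI : IsMonHom e.hom := Groth.AlgGrp1.isMonHom_of_points _ fun W p q => by
    rw [← cancel_mono ((Over.pullback f).map z)]
    simp only [e, Category.assoc, MonObj.mul_comp, hi]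
  refine ⟨Z, inst, z, hm, inferInstance, ?_, ?_⟩
  · obtain ⟨S'', k', h1, h2, h3, hloc⟩ := hT
    haveI := h1; haveI := h2
    refine ⟨S'', k' ≫ f, inferInstance, inferInstance, qcCover_comp k' f h3 hcov, fun s ↦ ?_⟩
    obtain ⟨U, hU, r, ⟨φ⟩⟩ := hloc s
    let e' : Red.bc (U.ι ≫ k') Z' ≅ Red.bc (U.ι ≫ k') (Red.bc f Z) := (Over.pullback (U.ι ≫ k')).mapIso e
    haveI : IsMonHom e'.hom := Groth.Abvar.isMonHom_map (f := U.ι ≫ k') e.hom
    obtain ⟨i', hi'⟩ := exists_bc_comp_iso Z (U.ι ≫ k') f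
    haveI := hi'
    refine ⟨U, hU, r, ?_⟩
    rw [← Category.assoc]
    exact ⟨(Grp.mkIso' i').symm ≪≫ (Grp.mkIso' e').symm ≪≫ φ⟩
  · intro S₂ f₂ H _ v _ hH
    obtain ⟨t, ht⟩ := (hmem _ _).2 (mem_of_torus hu f₂ hH v)
    exact ⟨(bcPointEquiv f₂ Z H).symm t, (bcPointEquiv f₂ G H).injective
      (by rw [bcPointEquiv_map, MulEquiv.apply_symm_apply, ht])⟩

end Groth.Reductive2.SubDescent
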