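import Groth.Agent.Reductive.FreeDiagDescent

/-!
An action of a group of multiplicative type which is trivial modulo a nilpotent ideal is trivial.
-/

set_option autoImplicit false
universe u v

open CategoryTheory MonoidalCategory CartesianMonoidalCategory MonObj GrpObj AlgebraicGeometry

noncomputable section

namespace Groth.Reductive.FreeDiag

section Algebra

open MonoidAlgebra

variable {R : Type*} [CommRing R] {B : Type u} [CommRing B] {G : Type v} [CommGroup G]

/-- A coaction of a group algebra, linear over `R`, which is trivial modulo a nilpotent ideal of `R`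
is trivial. -/
theorem coaction_eq_single (ψ : B →+* MonoidAlgebra B G)
    (hco : ∀ (C : Type max u v) [CommRing C] (jc : B →+* C) (χ χ' : G →* C) (b : B),
      ev ((ev jc χ).comp ψ) χ' (ψ b) = ev jc (χ' * χ) (ψ b))
    (hone : (ev (RingHom.id B) 1).comp ψ = RingHom.id B)
    (j : R →+* B) (hj : ∀ r, ψ (j r) = single 1 (j r)) (I : Ideal R) (hI : IsNilpotent I)
    (hmod : ∀ b g, g ≠ 1 → (ψ b).coeff g ∈ I.map j) (b : B) : ψ b = single 1 b := by
  classical
  have hscal : ∀ c r g, (ψ (c * j r)).coeff g = (ψ c).coeff g * j r := fun c r g ↦ by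
    rw [map_mul, hj, mul_comm (ψ c), mul_comm ((ψ c).coeff g)]
    exact coeff_single_one_mul (ψ c) (j r) g
  have key : ∀ (n : ℕ) (b : B) (g : G), g ≠ 1 → (ψ b).coeff g ∈ (I ^ n).map j := by
    intro n
    induction n with
    | zero => intro b g _; simp [Ideal.map_top]
    | succ n ih =>
      intro b g hg
      have H : ∀ x ∈ I.map j, ∀ c, (ψ (c * x)).coeff g ∈ (I ^ (n + 1)).map j := by
        intro x hx
        refine Submodule.span_induction ?_ ?_ ?_ ?_ hx
        · rintro _ ⟨r, hr, rfl⟩ c
          rw [hscal, pow_succ, Ideal.map_mul]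
          exact Ideal.mul_mem_mul (ih c g hg) (Ideal.mem_map_of_mem j hr)
        · intro c
          simp
        · intro x y _ _ hx hy c
          rw [mul_add, map_add, coeff_add, Finsupp.add_apply]
          exact add_mem (hx c) (hy c)
        · intro a x _ hx c
          rw [smul_eq_mul, ← _root_.mul_assoc]
          exact hx (c * a)
      have h := H _ (hmod b g hg) 1
      rwa [_root_.one_mul, coaction_coeff ψ hco, coeff_single, Finsupp.single_eq_same] at h
  obtain ⟨n, hn⟩ := hI
  have hz : ∀ g, g ≠ 1 → (ψ b).coeff g = 0 := fun g hg ↦ by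
    have h := key n b g hg
    rw [hn, Ideal.zero_eq_bot, Ideal.map_bot] at h
    exact h
  have h1 : ψ b = single 1 ((ψ b).coeff 1) := MonoidAlgebra.ext <| Finsupp.ext fun g ↦ by
    by_cases hg : g = 1
    · subst hg; simp
    · simp [hz g hg, hg]
  have h2 : (ψ b).coeff 1 = b := by
    have h := RingHom.congr_fun hone b
    rw [RingHom.comp_apply, h1, ev_single] at h
    simpa using h
  rw [h1, h2]

end Algebra

attribute [local instance] algΓ'

variable {T : Scheme.{u}} {M : Type} [AddCommGroup M]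

lemma dsValHom_one {Z : Over T} : dsValHom (1 : Z ⟶ Red.DS T M) = 1 :=
  MonoidHom.ext fun m ↦ dsVal_one Z m

section Affine

variable {Y : Over T} [IsAffine T] [IsAffine Y.left]

/-- An action of `D(M)` on an affine scheme which is trivial modulo a nilpotent ideal is trivial. -/
theorem eq_snd_of_affine (act : Red.DS T M ⊗ Y ⟶ Y)
    (hassoc : ∀ (Z : Over T) (h h' : Z ⟶ Red.DS T M) (y : Z ⟶ Y),
      lift h (lift h' y ≫ act) ≫ act = lift (h * h') y ≫ act)
    (hone : ∀ (Z : Over T) (y : Z ⟶ Y), lift 1 y ≫ act = y)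
    (I : Ideal Γ(T, ⊤)) (hI : IsNilpotent I)
    (h0 : ∀ (Z : Over T), (∀ r ∈ I, Z.hom.appTop r = 0) →
      ∀ (h : Z ⟶ Red.DS T M) (y : Z ⟶ Y), lift h y ≫ act = y) :
    act = snd (Red.DS T M) Y := by
  let e := RingEquiv.ofBijective _ (κ₀_bijective (T := T) (M := M) (Y := Y))
  let ψ : Γ(Y.left, ⊤) →+* MonoidAlgebra Γ(Y.left, ⊤) (Multiplicative M) :=
    e.symm.toRingHom.comp act.left.appTop.hom
  have hψ : ∀ (Z : Over T) (h : Z ⟶ Red.DS T M) (y : Z ⟶ Y),
      (lift h y ≫ act).left.appTop.hom = (ptEv h y).comp ψ := by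
    intro Z h y
    refine RingHom.ext fun b ↦ ?_
    have h1 := ptEv_comp (lift h y) (fst (Red.DS T M) Y) (snd (Red.DS T M) Y)
    rw [lift_fst, lift_snd] at h1
    rw [h1, Over.comp_left, Scheme.Hom.comp_appTop]
    exact congrArg (lift h y).left.appTop.hom (e.apply_symm_apply _).symm
  have hκ : ∀ b, κ₀ (T := T) (M := M) (MonoidAlgebra.single 1 b) =
      (snd (Red.DS T M) Y).left.appTop b := fun b ↦ by
    rw [κ₀, ptEv_single, ← dsValHom_apply, map_one, _root_.mul_one]
  let jY : Γ(T, ⊤) →+* Γ(Y.left, ⊤) := Y.hom.appTop.hom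
  have hmain : ∀ b, ψ b = MonoidAlgebra.single 1 b := by
    refine coaction_eq_single ψ ?_ ?_ jY ?_ I hI ?_
    · intro C _ jC χ χ' b
      apply (ΓT_bijective C jC).1
      have h := congrArg (fun g : mkT C jC ⟶ Y ↦ g.left.appTop.hom b)
        (hassoc _ (hT C jC χ') (hT C jC χ) (yT C jC))
      simp only [hψ, RingHom.comp_apply] at h
      have e1 : ptEv (hT C jC χ') (lift (hT C jC χ) (yT C jC) ≫ act) =
          (ΓT C jC).comp (ev ((ev jC χ).comp ψ) χ') := by
        rw [← ev_eq, ptEv, hψ, ptEv_hT]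
        congr 1
        exact MonoidHom.ext fun m ↦ dsVal_hT C jC χ' m
      have e2 : ptEv (hT C jC χ' * hT C jC χ) (yT C jC) = (ΓT C jC).comp (ev jC (χ' * χ)) := by
        rw [← ev_eq, ptEv, yT_appTop]
        congr 1
        rw [dsValHom_mul_hT]
        refine MonoidHom.ext fun m ↦ ?_
        rw [MonoidHom.mul_apply, dsValHom_apply, dsValHom_apply, dsVal_hT, dsVal_hT,
          MonoidHom.comp_apply, MonoidHom.mul_apply, map_mul]
        rfl
      rw [e1, e2] at h
      exact h
    · have h := hψ Y 1 (𝟙 Y)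
      rw [hone, ptEv, dsValHom_one] at h
      simpa using h.symm
    · intro r
      refine e.injective (Eq.trans (e.apply_symm_apply _) ?_)
      show act.left.appTop (Y.hom.appTop r) = κ₀ (MonoidAlgebra.single 1 _)
      rw [hκ]
      show (Y.hom.appTop ≫ act.left.appTop) r = (Y.hom.appTop ≫ (snd (Red.DS T M) Y).left.appTop) r
      rw [← Scheme.Hom.comp_appTop, ← Scheme.Hom.comp_appTop, Over.w act,
        Over.w (snd (Red.DS T M) Y)]
    · intro b g hg
      let P := I.map jY
      let C := MonoidAlgebra (Γ(Y.left, ⊤) ⧸ P) (Multiplicative M)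
      let jC : Γ(Y.left, ⊤) →+* C := MonoidAlgebra.singleOneRingHom.comp (Ideal.Quotient.mk P)
      let χ : Multiplicative M →* C := MonoidAlgebra.of _ _
      have hkill : ∀ r ∈ I, (mkT C jC).hom.appTop r = 0 := fun r hr ↦ by
        rw [← Over.w (yT C jC), Scheme.Hom.comp_appTop, CommRingCat.comp_apply]
        show (yT C jC).left.appTop.hom (jY r) = 0
        rw [yT_appTop, RingHom.comp_apply]
        have : jC (jY r) = 0 := by
          show MonoidAlgebra.singleOneRingHom (Ideal.Quotient.mk P (jY r)) = 0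
          rw [Ideal.Quotient.eq_zero_iff_mem.mpr (Ideal.mem_map_of_mem jY hr), map_zero]
        rw [this, map_zero]
      have h := hψ _ (hT C jC χ) (yT C jC)
      rw [h0 _ hkill, ptEv_hT, yT_appTop] at h
      have h' : jC b = ev jC χ (ψ b) := (ΓT_bijective C jC).1 (RingHom.congr_fun h b)
      have hmap : ev jC χ = MonoidAlgebra.mapRingHom _ (Ideal.Quotient.mk P) := by
        refine MonoidAlgebra.ringHom_ext (fun r ↦ ?_) (fun a ↦ ?_)
        · simp [ev_single, jC, χ, MonoidAlgebra.single_mul_single]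
          exact (MonoidAlgebra.mapRingHom_single _ _ _).symm
        · simp [ev_single, jC, χ, MonoidAlgebra.single_mul_single]
          rw [MonoidAlgebra.mapRingHom_single, map_one, MonoidAlgebra.of_apply, MonoidAlgebra.single_mul_single, _root_.one_mul, _root_.one_mul]
      rw [hmap] at h'
      have h2 := congrArg (fun z : C ↦ z.coeff g) h'
      rw [← Ideal.Quotient.eq_zero_iff_mem]
      refine Eq.trans ?_ (h2.symm.trans ?_)
      · exact (MonoidAlgebra.coeff_mapRingHom _ _ _).symm
      · show (MonoidAlgebra.single (1 : Multiplicative M) (Ideal.Quotient.mk P b) : C).coeff g = 0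
        simp [MonoidAlgebra.coeff_single, hg]
  refine Over.OverMorphism.ext (ext_of_isAffine (CommRingCat.hom_ext (RingHom.ext fun b ↦ ?_)))
  show act.left.appTop b = _
  rw [← hκ, ← hmain b]
  exact (e.apply_symm_apply _).symm

end Affine

/-- An action of `D(M)` on a scheme over an affine base which is trivial modulo a nilpotent ideal is
trivial. -/
theorem eq_snd_of_diag [IsAffine T] {X : Over T} (act : Red.DS T M ⊗ X ⟶ X)
    (hassoc : ∀ (Z : Over T) (h h' : Z ⟶ Red.DS T M) (y : Z ⟶ X),
      lift h (lift h' y ≫ act) ≫ act = lift (h * h') y ≫ act)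
    (hone : ∀ (Z : Over T) (y : Z ⟶ X), lift 1 y ≫ act = y)
    (I : Ideal Γ(T, ⊤)) (hI : IsNilpotent I)
    (h0 : ∀ (Z : Over T), (∀ r ∈ I, Z.hom.appTop r = 0) →
      ∀ (h : Z ⟶ Red.DS T M) (y : Z ⟶ X), lift h y ≫ act = y) :
    act = snd (Red.DS T M) X := by
  -- the two maps agree on points
  have hbase : ∀ z, act.left.base z = (snd (Red.DS T M) X).left.base z := by
    intro z
    let P := (Red.DS T M ⊗ X).left
    let Z : Over T := Over.mk (P.fromSpecResidueField z ≫ (Red.DS T M ⊗ X).hom)
    let p : Z ⟶ Red.DS T M ⊗ X := Over.homMk (P.fromSpecResidueField z) rfl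
    haveI : IsReduced Z.left := inferInstanceAs (IsReduced (Spec _))
    have hk : ∀ r ∈ I, Z.hom.appTop r = 0 := fun r hr ↦ by
      obtain ⟨n, hn⟩ := hI
      have : IsNilpotent r := ⟨n, by
        have := Ideal.pow_mem_pow hr n
        rwa [hn] at this⟩
      exact (this.map Z.hom.appTop.hom).eq_zero
    have h : p ≫ act = p ≫ snd (Red.DS T M) X := by
      have h1 := h0 Z hk (p ≫ fst _ _) (p ≫ snd _ _)
      rwa [← comp_lift, lift_fst_snd, Category.comp_id] at h1
    let q : (Spec (P.residueField z) : Scheme.{u}) := default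
    have hq := congrArg (fun f : Z ⟶ X ↦ f.left.base q) h
    simp only [Over.comp_left, Scheme.Hom.comp_apply] at hq
    rwa [show p.left.base q = z from Scheme.fromSpecResidueField_apply z q] at hq
  -- locally on the target
  refine Over.OverMorphism.ext (Scheme.Cover.hom_ext
    (X.left.affineCover.pullback₁ (snd (Red.DS T M) X).left) _ _ fun i ↦ ?_)
  let u := X.left.affineCover.f i
  let Y : Over T := Over.mk (u ≫ X.hom)
  let j : Y ⟶ X := Over.homMk u rfl
  haveI : IsAffine Y.left := inferInstanceAs (IsAffine (Spec _))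
  haveI : IsOpenImmersion j.left := inferInstanceAs (IsOpenImmersion u)
  haveI : Mono j.left := inferInstance
  haveI : Mono j := (Over.forget T).mono_of_mono_map (inferInstanceAs (Mono j.left))
  let m := (Red.DS T M ◁ j) ≫ act
  have hrange : Set.range m.left.base ⊆ Set.range j.left.base := by
    rintro _ ⟨z, rfl⟩
    refine ⟨(snd (Red.DS T M) Y).left.base z, ?_⟩
    have e1 := congrArg (fun f : Red.DS T M ⊗ Y ⟶ X ↦ f.left.base z) (whiskerLeft_snd (Red.DS T M) j)
    simp only [Over.comp_left, Scheme.Hom.comp_apply] at e1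
    show _ = ((Red.DS T M ◁ j) ≫ act).left.base z
    rw [Over.comp_left, Scheme.Hom.comp_apply, hbase, e1]
  let actY : Red.DS T M ⊗ Y ⟶ Y := Over.homMk (IsOpenImmersion.lift j.left m.left hrange) (by
    rw [← Over.w j, IsOpenImmersion.lift_fac_assoc]
    exact Over.w m)
  have hactY : actY ≫ j = m := Over.OverMorphism.ext (IsOpenImmersion.lift_fac _ _ _)
  have hpt : ∀ (Z : Over T) (h : Z ⟶ Red.DS T M) (y : Z ⟶ Y),
      (lift h y ≫ actY) ≫ j = lift h (y ≫ j) ≫ act := fun Z h y ↦ by
    rw [Category.assoc, hactY, lift_whiskerLeft_assoc]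
  have hY : actY = snd (Red.DS T M) Y := by
    refine eq_snd_of_affine actY ?_ ?_ I hI ?_
    · intro Z h h' y
      rw [← cancel_mono j, hpt, hpt, hpt, hassoc]
    · intro Z y
      rw [← cancel_mono j, hpt, hone]
    · intro Z hZ h y
      rw [← cancel_mono j, hpt, h0 Z hZ]
  -- conclude on the chart
  let V := Limits.pullback (snd (Red.DS T M) X).left u
  let c : Over T := Over.mk (Limits.pullback.fst (snd (Red.DS T M) X).left u ≫ (Red.DS T M ⊗ X).hom)
  let p : c ⟶ Red.DS T M ⊗ X := Over.homMk (Limits.pullback.fst (snd (Red.DS T M) X).left u) rfl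
  let y : c ⟶ Y := Over.homMk (Limits.pullback.snd (snd (Red.DS T M) X).left u) (by
    show _ ≫ u ≫ X.hom = _
    rw [← Limits.pullback.condition_assoc, Over.w (snd (Red.DS T M) X)]
    rfl)
  have hy : y ≫ j = p ≫ snd (Red.DS T M) X := Over.OverMorphism.ext Limits.pullback.condition.symm
  have hp : p ≫ act = p ≫ snd (Red.DS T M) X := by
    have h1 := hpt c (p ≫ fst _ _) y
    rw [hY, lift_snd, hy, ← comp_lift, lift_fst_snd, Category.comp_id] at h1
    exact h1.symm
  exact congrArg (fun f : c ⟶ X ↦ f.left) hp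

end Groth.Reductive.FreeDiag
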