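import Groth.Agent.Reductive.CentralNhd.Global
import Groth.Agent.Reductive.SubgroupEq
import Groth.Agent.Reductive.MultTypeHom
import Groth.Agent.GrpschAbsch.H0General
import Groth.Agent.RedX.SmoothTorus
import Groth.Agent.Abvar.BaseChange

/-!
# The kernel of the conjugation action of a split torus

For a split torus `D(M)` in an affine smooth group, the characters occurring in the algebra of the
group cut out the largest central subgroup of the torus, locally on the base.
-/

set_option autoImplicit false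

universe u

open CategoryTheory MonoidalCategory CartesianMonoidalCategory MonObj GrpObj AlgebraicGeometry
open Groth.Reductive.FreeDiag

noncomputable section

namespace Groth.Reductive.WeightKernel

attribute [local instance] algΓ'
attribute [local instance] Groth.Reductive.algΓ'

variable {T : Scheme.{u}} {M : Type} [AddCommGroup M] {X : Over T} [GrpObj X] (v : Red.DS T M ⟶ X)

/-- `a` is a function of weight `m` for the conjugation action. -/
def IsWeight (a : Γ(X.left, ⊤)) (m : M) : Prop :=
  ∀ (Z : Over T) (h : Z ⟶ Red.DS T M) (y : Z ⟶ X),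
    ((h ≫ v) * y * (h ≫ v)⁻¹).left.appTop a = y.left.appTop a * dsVal h (Multiplicative.ofAdd m)

/-- The weights of the fibre at a point. -/
def weights (t : T) : Set M :=
  {m | ∃ a : Γ(X.left, ⊤), IsWeight v a m ∧ t ∈ X.hom.base '' (X.left.basicOpen a : Set X.left)}

variable {v}

/-- A point commuting with everything is killed by a weight occurring everywhere. -/
theorem dsVal_eq_one [Flat X.hom] {a : Γ(X.left, ⊤)} {m : M} (ha : IsWeight v a m)
    {Z : Over T} (hsurj : ∀ z : Z.left, Z.hom z ∈ X.hom.base '' (X.left.basicOpen a : Set X.left))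
    (h : Z ⟶ Red.DS T M)
    (hc : ∀ (W : Over T) (w : W ⟶ Z) (g : W ⟶ X), ((w ≫ h) ≫ v) * g = g * ((w ≫ h) ≫ v)) :
    dsVal h (Multiplicative.ofAdd m) = 1 := by
  let D : Over T := Over.mk ((X.left.basicOpen a).ι ≫ X.hom)
  let d : D ⟶ X := Over.homMk (X.left.basicOpen a).ι rfl
  haveI : Flat D.hom := inferInstanceAs (Flat ((X.left.basicOpen a).ι ≫ X.hom))
  haveI : Flat (fst Z D).left :=
    MorphismProperty.pullback_fst (P := @Flat) Z.hom D.hom inferInstance
  haveI : Surjective (fst Z D).left := ⟨fun z => by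
    obtain ⟨x, hx, e⟩ := hsurj z
    obtain ⟨w, hw, -⟩ := Scheme.Pullback.exists_preimage_pullback (f := Z.hom) (g := D.hom) z ⟨x, hx⟩ e.symm
    exact ⟨w, hw⟩⟩
  apply Groth.GrpschAbsch.H0General.appTop_injective (fst Z D).left
  rw [map_one]
  show (fst Z D).left.appTop.hom (dsVal h _) = 1
  rw [← dsVal_comp]
  have h1 := ha _ (fst Z D ≫ h) (snd Z D ≫ d)
  rw [hc, mul_inv_cancel_right] at h1
  have hu : IsUnit ((snd Z D ≫ d).left.appTop a) := by
    rw [Over.comp_left, Scheme.Hom.comp_appTop]
    show IsUnit ((snd Z D).left.appTop (d.left.appTop a))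
    refine IsUnit.map _ ?_
    have hb : D.left.basicOpen (d.left.appTop a) = ⊤ := by
      rw [← Scheme.preimage_basicOpen_top]
      exact Scheme.Opens.ι_preimage_self _
    refine D.left.toRingedSpace.isUnit_of_isUnit_germ ⊤ _ fun z hz => ?_
    exact (D.left.mem_basicOpen (d.left.appTop a) z hz).1 (hb.ge hz)
  refine hu.mul_left_cancel (h1.symm.trans ?_)
  rw [_root_.mul_one]

variable (v) [IsAffine T] [IsAffine X.left] [IsMonHom v]

/-- The algebra of the group is spanned by weight functions. -/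
theorem exists_decomp (b : Γ(X.left, ⊤)) :
    ∃ (s : Finset M) (f : M → Γ(X.left, ⊤)), (∀ m, IsWeight v (f m) m) ∧
      ∀ (Z : Over T) (h : Z ⟶ Red.DS T M) (y : Z ⟶ X), ((h ≫ v) * y * (h ≫ v)⁻¹).left.appTop b =
        ∑ m ∈ s, y.left.appTop (f m) * dsVal h (Multiplicative.ofAdd m) := by
  classical
  obtain ⟨ψ, hco, -, -, hψ⟩ := CentralNhd.exists_coaction (T := T) (M := M) (Y := X)
    (CentralNhd.conjMor v) (fun Z h h' y => act_assoc (CentralNhd.conjAct v) h h' y)
    (fun Z y => act_one' (CentralNhd.conjAct v) y)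
  have hev : ∀ (Z : Over T) (h : Z ⟶ Red.DS T M) (y : Z ⟶ X) (c : Γ(X.left, ⊤)),
      ((h ≫ v) * y * (h ≫ v)⁻¹).left.appTop c = ptEv h y (ψ c) := fun Z h y c => by
    rw [← CentralNhd.lift_conjMor]
    exact RingHom.congr_fun (hψ Z h y) c
  refine ⟨(ψ b).coeff.support.image Multiplicative.toAdd,
    fun m => (ψ b).coeff (Multiplicative.ofAdd m), fun m Z h y => ?_, fun Z h y => ?_⟩
  · rw [hev, coaction_coeff ψ hco, ptEv_single]
  · rw [hev, ringHom_eq_sum, Finset.sum_image (fun x _ y _ e => Multiplicative.toAdd.injective e)]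
    refine Finset.sum_congr rfl fun g _ => ?_
    rw [ptEv_single]
    rfl

variable [Smooth X.hom]

/-- Over a field valued point, what kills the weights of the fibre is central. -/
theorem central_fieldPoint (K : Type u) [Field K] (q : Spec (CommRingCat.of K) ⟶ T)
    (t : T) (ht : q.base (IsLocalRing.closedPoint K) = t)
    (N : AddSubgroup M) (hN : ∀ m ∈ weights v t, m ∈ N) :
    TrivOn (CentralNhd.commMap (dsHom (T := T) (QuotientAddGroup.mk' N) ≫ v)) (Over.mk q) := by
  classical
  let Q := M ⧸ N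
  let π := QuotientAddGroup.mk' N
  let XK : Over T := X ⊗ Over.mk q
  haveI : IsAffine (Over.mk q).left := inferInstanceAs (IsAffine (Spec _))
  haveI : IsAffine XK.left := inferInstance
  haveI : Smooth (snd X (Over.mk q)).left :=
    MorphismProperty.pullback_snd (P := @Smooth) X.hom q inferInstance
  haveI : IsReduced XK.left := by
    haveI : IsReduced (Over.mk q).left := inferInstanceAs (IsReduced (Spec (CommRingCat.of K)))
    exact Groth.AlgGrp1.isReduced_of_smooth (snd X (Over.mk q)).left
  have hzero : ∀ (a : Γ(X.left, ⊤)) (m : M), IsWeight v a m → m ∉ N →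
      (fst X (Over.mk q)).left.appTop a = 0 := fun a m ha hm => by
    rw [← basicOpen_eq_bot_iff, ← Scheme.preimage_basicOpen_top]
    refine eq_bot_iff.2 fun z hz => hm (hN m ⟨a, ha, (fst X (Over.mk q)).left z, hz, ?_⟩)
    rw [← Scheme.Hom.comp_apply, show (fst X (Over.mk q)).left ≫ X.hom = (snd X (Over.mk q)).left ≫ q from
      Limits.pullback.condition, Scheme.Hom.comp_apply]
    rw [← ht]
    congr 1
    exact Subsingleton.elim (α := (Spec (CommRingCat.of K) : Scheme.{u})) _ _
  -- the universal point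
  let P := Red.DS T Q ⊗ XK
  haveI : IsAffine P.left := inferInstance
  let h₀ : P ⟶ Red.DS T M := fst _ _ ≫ dsHom π
  let y₀ : P ⟶ X := snd _ _ ≫ fst X (Over.mk q)
  have key : (h₀ ≫ v) * y₀ * (h₀ ≫ v)⁻¹ = y₀ := by
    refine Over.OverMorphism.ext (ext_of_isAffine (CommRingCat.hom_ext (RingHom.ext fun b => ?_)))
    obtain ⟨s, f, hf, hb⟩ := exists_decomp v b
    show ((h₀ ≫ v) * y₀ * (h₀ ≫ v)⁻¹).left.appTop b = y₀.left.appTop b
    have h1 := hb P h₀ y₀
    have h2 := hb P 1 y₀
    simp only [MonObj.one_comp, _root_.one_mul, inv_one, _root_.mul_one, dsVal_one] at h2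
    rw [h1, h2]
    refine Finset.sum_congr rfl fun m _ => ?_
    by_cases hm : m ∈ N
    · have : dsVal h₀ (Multiplicative.ofAdd m) = 1 := by
        rw [dsVal_dsHom]
        show dsVal _ (Multiplicative.ofAdd (π m)) = 1
        rw [show π m = 0 from (QuotientAddGroup.eq_zero_iff m).2 hm, ofAdd_zero, ← dsValHom_apply, map_one]
      rw [this, _root_.mul_one]
    · have : y₀.left.appTop (f m) = 0 := by
        rw [Over.comp_left, Scheme.Hom.comp_appTop]
        show (snd (Red.DS T Q) XK).left.appTop ((fst X (Over.mk q)).left.appTop (f m)) = 0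
        rw [hzero _ _ (hf m) hm, map_zero]
      rw [this, zero_mul]
  rw [CentralNhd.trivOn_conj_iff]
  intro W w h y
  let c : W ⟶ P := lift h (lift y w)
  have e1 : c ≫ h₀ = h ≫ dsHom π := by rw [← Category.assoc, lift_fst]
  have e2 : c ≫ y₀ = y := by rw [← Category.assoc, lift_snd, lift_fst]
  have h3 := congrArg (c ≫ ·) key
  simp only [MonObj.comp_mul, GrpObj.comp_inv, ← Category.assoc, e1, e2] at h3
  rw [CentralNhd.lift_conjMor, ← Category.assoc]
  exact h3

/-- Near every point, the characters occurring at the point cut out the largest central subgroup of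
the torus. -/
theorem exists_nhd [Module.Finite ℤ M] (hconn : ∀ t : T, ConnectedSpace ↥(Limits.pullback X.hom (T.fromSpecResidueField t)))
    (t : T) :
    ∃ (N : AddSubgroup M) (V : T.Opens), t ∈ V ∧
      TrivOn (CentralNhd.commMap (dsHom (T := T) (QuotientAddGroup.mk' N) ≫ v)) (Over.mk V.ι) ∧
      ∀ (Z : Over T) (h : Z ⟶ Red.DS T M), (∀ z : Z.left, Z.hom z ∈ V) →
        (∀ (W : Over T) (w : W ⟶ Z) (g : W ⟶ X), ((w ≫ h) ≫ v) * g = g * ((w ≫ h) ≫ v)) →
        ∃ h' : Z ⟶ Red.DS T (M ⧸ N), h' ≫ dsHom (QuotientAddGroup.mk' N) = h := by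
  classical
  obtain ⟨gens, hsub, hspan⟩ := (Submodule.fg_span_iff_fg_span_finset_subset (R := ℤ) (weights v t)).1
    (IsNoetherian.noetherian _)
  let N : AddSubgroup M := (Submodule.span ℤ (weights v t)).toAddSubgroup
  haveI : AddGroup.FG (M ⧸ N) := AddGroup.fg_of_surjective (f := QuotientAddGroup.mk' N) (QuotientAddGroup.mk'_surjective N)
    (hG := Module.Finite.iff_addGroup_fg.mp inferInstance)
  haveI : IsMonHom (dsHom (T := T) (QuotientAddGroup.mk' N) ≫ v) :=
    Groth.Abvar.isMonHom_comp (isMonHom_dsHom (T := T) (QuotientAddGroup.mk' N)) ‹IsMonHom v›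
  obtain ⟨U, hUiff, hUtriv⟩ := CentralNhd.exists_open_central (dsHom (T := T) (QuotientAddGroup.mk' N) ≫ v)
    (isMultTypeFT_DS (N := M ⧸ N) inferInstance) hconn
  choose a ha hat using fun m : gens => hsub m.2
  let V : T.Opens := U ⊓ Finset.univ.inf fun m : gens =>
    (⟨X.hom.base '' (X.left.basicOpen (a m) : Set X.left),
      X.hom.isOpenMap _ (X.left.basicOpen (a m)).2⟩ : T.Opens)
  have htU : t ∈ U := by
    rw [hUiff]
    have h := central_fieldPoint v _ (T.fromSpecResidueField t) t
      (Scheme.fromSpecResidueField_apply t (IsLocalRing.closedPoint _)) N (fun m hm => by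
      change m ∈ Submodule.span ℤ (weights v t)
      exact Submodule.subset_span hm)
    exact h
  have hV : ∀ z ∈ V, ∀ m : gens, z ∈ X.hom.base '' (X.left.basicOpen (a m) : Set X.left) := fun z hz m =>
    (Finset.inf_le (Finset.mem_univ m) : _ ≤ (⟨_, X.hom.isOpenMap _ (X.left.basicOpen (a m)).2⟩ : T.Opens)) hz.2
  refine ⟨N, V, ⟨htU, ?_⟩, hUtriv.of_hom (Over.homMk (T.homOfLE inf_le_left) (T.homOfLE_ι _)),
    fun Z h hZ hc => ?_⟩
  · suffices ∀ s : Finset gens, t ∈ s.inf fun m : gens =>
        (⟨X.hom.base '' (X.left.basicOpen (a m) : Set X.left),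
          X.hom.isOpenMap _ (X.left.basicOpen (a m)).2⟩ : T.Opens) from this _
    intro s
    induction s using Finset.induction_on with
    | empty => trivial
    | insert m s _ ih => rw [Finset.inf_insert]; exact ⟨hat m, ih⟩
  · let χ : Multiplicative M →* Γ(Z.left, ⊤) := dsValHom h
    let Φ : M →+ Additive Γ(Z.left, ⊤)ˣ := MonoidHom.toAdditiveRight χ.toHomUnits
    have hker : N ≤ Φ.ker := by
      intro m hm
      change m ∈ Submodule.span ℤ (weights v t) at hm
      rw [hspan] at hm
      suffices Submodule.span ℤ (gens : Set M) ≤ Φ.ker.toIntSubmodule from this hm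
      refine Submodule.span_le.2 fun m hm => ?_
      show Φ m = 0
      exact congrArg Additive.ofMul
        (Units.ext (dsVal_eq_one (ha ⟨m, hm⟩) (fun z => hV _ (hZ z) ⟨m, hm⟩) h hc))
    let χ' : Multiplicative (M ⧸ N) →* Γ(Z.left, ⊤) :=
      (Units.coeHom _).comp (AddMonoidHom.toMultiplicativeLeft (QuotientAddGroup.lift N Φ hker))
    refine ⟨dsMk Z χ', dsVal_ext fun m => ?_⟩
    rw [dsVal_dsHom, dsVal_dsMk]
    rfl

end Groth.Reductive.WeightKernel

end
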